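import Cfsg.Statements.S1897
import Cfsg.Agent.Known.G168
import Cfsg.Agent.Class.SmallFields
import Cfsg.Agent.Perm.UnitMat
import Cfsg.Agent.Class.HermSimple

set_option autoImplicit false
open Cfsg

namespace Cfsg.Agent.S1897

open Cfsg.Lib.Known Cfsg.Lib.Known.GTab Cfsg.Lib.Known.G168 Cfsg.Lib.Class Matrix

/-- The entries of 168 unitary matrices over the field with nine elements. -/
def mT : ℕ := 0xa2406a682219216550a280659420101000021162265a00955246410200088002582a8a0609a528981216990845a1409a98122696044a00420004052409598225460a89296011944a524a240a911669088a990129845a28a140596051a44622a41a850621666048a6602194852291195a01a4154a062a860586115460549266012684a219129aa052451805621966084a60a2a48621191165a0518a1805651452805909aa146422000040806051548612a490586252406a641200020001254158a0906a518682129660845518095682216219aa066021684509aa28942605258891a240959411a890589269022644a065a14981528a28059a14a280a6004010400200008040095a18982200010002095a24682154258a0690525489212699084a129126aa01589054919602268856052a849221999048596022944525890a8911a490a462008010800a18a24056010004800a2452405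696011688aa2809a68101020000102000440090a2a886115860a86299021984a126216aa09052a4491226116a50a14065642004100080a145140590040208002a81a4a06a1806a9821a860a4612a460a491116119a50a285280a609551894109a51468106551494210002000251409a9420202000022a4254a09116960445229226a5090a15449210000404006a52498260a2544612266908852262295a052806598100810004010000808025815450925490546121612655066012948a1a815850669022988a22996088a2586054622542a45065185240a9514a140a60082000801541a45099051a846160a15849160a1a889211969044a6901198851a42a8509010008400a24a180a91581a8a091a82a4a096901164451a46058911292195501199608852a825850915490a86190515886206aa1864106552864202010000190a258462158254506065a28681a1809564152809a642119229a502a890a49299012648522969044590a1a489199021648a1266604855285140a651806a94151406568106aa2494112612955012999048a008020400a185180a9100010001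

/-- An entry of the table. -/
def ent (i r c : ℕ) : GF9 :=
  ⟨(Nat.land (Nat.shiftRight mT (Nat.mul 4 (Nat.add (Nat.mul 9 i) (Nat.add (Nat.mul 3 r) c)))) 3 : ℕ),
    (Nat.land (Nat.shiftRight mT
      (Nat.add 2 (Nat.mul 4 (Nat.add (Nat.mul 9 i) (Nat.add (Nat.mul 3 r) c))))) 3 : ℕ)⟩

/-- The matrix attached to an element of the table group. -/
def mat (a : tab.El) : Matrix (Fin 3) (Fin 3) GF9 := Matrix.of fun r c => ent a.1 r c

theorem mat_gen : ∀ a : tab.El, ∀ r c : Fin 3,
    (ent (a * tab.el 2).1 r c = ent a.1 r 0 * ent 2 0 c + ent a.1 r 1 * ent 2 1 c +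
      ent a.1 r 2 * ent 2 2 c) ∧
    (ent (a * tab.el 4).1 r c = ent a.1 r 0 * ent 4 0 c + ent a.1 r 1 * ent 4 1 c +
      ent a.1 r 2 * ent 4 2 c) := by
  decide +kernel

theorem closure_gens : Subgroup.closure {tab.el 2, tab.el 4} = ⊤ := by
  refine eq_top_iff.2 fun a _ => ?_
  have h := clos_sound (Subgroup.closure {tab.el 2, tab.el 4}) [2, 4] (by
    intro g hg
    simp only [List.mem_cons, List.not_mem_nil, or_false] at hg
    rcases hg with rfl | rfl
    · exact ⟨by decide, Subgroup.subset_closure (by simp)⟩
    · exact ⟨by decide, Subgroup.subset_closure (by simp)⟩)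
  have h2 : ∀ a : tab.El, bit (tab.clos [2, 4]) a.1 = true := by decide +kernel
  exact h a (h2 a)

theorem mat_one : mat 1 = 1 := by decide +kernel

theorem mat_mul (a b : tab.El) : mat (a * b) = mat a * mat b := by
  have hb : b ∈ Submonoid.closure ({tab.el 2, tab.el 4} : Set tab.El) := by
    rw [← Subgroup.closure_toSubmonoid_of_finite, closure_gens]; trivial
  induction hb using Submonoid.closure_induction generalizing a with
  | mem x hx =>
    ext1 r c
    rcases hx with rfl | rfl
    · rw [Matrix.mul_apply, Fin.sum_univ_three]; exact (mat_gen a r c).1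
    · rw [Matrix.mul_apply, Fin.sum_univ_three]; exact (mat_gen a r c).2
  | one => rw [mul_one, mat_one, mul_one]
  | mul x y _ _ hx hy => rw [← mul_assoc, hy, hx, hy, mul_assoc]

theorem det_mat (a : tab.El) : (mat a).det = 1 := by
  rw [det_fin_three]; revert a; decide +kernel

/-- The representation of degree three. -/
def rho : tab.El →* SpecialLinearGroup (Fin 3) GF9 where
  toFun a := ⟨mat a, det_mat a⟩
  map_one' := Subtype.ext mat_one
  map_mul' a b := Subtype.ext (mat_mul a b)

theorem rho_mem (a : tab.El) : rho a ∈ SU 3 GF9 3 := by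
  have hs : ∀ x : GF9, starRingEnd GF9 x = x ^ 3 := by decide +kernel
  have : Subgroup.closure {tab.el 2, tab.el 4} ≤ (SU 3 GF9 3).comap rho := by
    rw [Subgroup.closure_le]
    rintro x (rfl | rfl)
    · exact (Cfsg.Lib.Perm.mem_SU_iff_mul _ hs _).2 (by decide +kernel)
    · exact (Cfsg.Lib.Perm.mem_SU_iff_mul _ hs _).2 (by decide +kernel)
  exact this (closure_gens ▸ Subgroup.mem_top a)

/-- The projective special unitary group PSU₃(3) (realised over the field with 9 elements) has a subgroup isomorphic to PSL₂(7). -/
theorem result {F : Type*} [Field F] [Fintype F] (hF : Fintype.card F = 9)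
    {K : Type*} [Field K] [Fintype K] (hK : Fintype.card K = 7) :
    ∃ H : Subgroup (Cfsg.PSU 3 F 3), Nonempty (H ≃* Matrix.ProjectiveSpecialLinearGroup (Fin 2) K) := by
  obtain ⟨e1⟩ := nonempty_ringEquiv_GF9 hF
  obtain ⟨e2⟩ := nonempty_ringEquiv_zmod (p := 7) (by norm_num) hK
  obtain ⟨e3⟩ := nonempty_equiv_psl
  have hc : Subgroup.center (SU 3 GF9 3) = ⊥ := by
    rw [← Subgroup.card_eq_one, Form.card_center_SU (q := 3) card_GF9 3 (by norm_num)]
    norm_num
  let φ : tab.El →* PSU 3 F 3 := (psuEquiv 3 3 e1).symm.toMonoidHom.comp
    ((quotCenterEquivOfEqBot hc).symm.toMonoidHom.comp (rho.codRestrict _ rho_mem))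
  have hφ : Function.Injective φ := by
    refine (psuEquiv 3 3 e1).symm.injective.comp ((quotCenterEquivOfEqBot hc).symm.injective.comp
      ((injective_iff_map_eq_one (rho.codRestrict _ rho_mem)).2 fun a ha => ?_))
    have h1 : mat a = 1 := congrArg (fun x => x.1.1) ha
    have h2 : ∀ a : tab.El, mat a = 1 → a = 1 := by decide +kernel
    exact h2 a h1
  exact ⟨φ.range, ⟨(MonoidHom.ofInjective hφ).symm.trans (e3.trans (pslEquiv _ e2).symm)⟩⟩

end Cfsg.Agent.S1897
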