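import Cfsg.Statements.S0307


set_option autoImplicit false
open Cfsg

namespace Cfsg.Agent.S0307

/-- PSL_n(q) is normal in PGL_n(q) with cyclic quotient of order gcd(n, q-1): the image of the natural map PSL_n → PGL_n is the kernel of a surjective homomorphism onto the cyclic group of that order. -/
theorem result {F : Type*} [Field F] [Fintype F] {q : ℕ} (hF : Fintype.card F = q) (n : ℕ) (hn : 1 ≤ n) : ∃ g : Matrix.ProjGenLinGroup (Fin n) F →* Multiplicative (ZMod (Nat.gcd n (q - 1))), Function.Surjective g ∧ g.ker = (Matrix.ProjectiveSpecialLinearGroup.toPGL : Matrix.ProjectiveSpecialLinearGroup (Fin n) F →* Matrix.ProjGenLinGroup (Fin n) F).range := by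
  have hc : Nat.card (Fˣ ⧸ (powMonoidHom n : Fˣ →* Fˣ).range) =
      Nat.card (Multiplicative (ZMod (Nat.gcd n (q - 1)))) := by
    rw [← Subgroup.index_eq_card, IsCyclic.index_powMonoidHom_range, Nat.card_units,
      Nat.card_eq_fintype_card, hF, Nat.gcd_comm]
    exact (Nat.card_zmod _).symm
  have := isCyclic_of_surjective _
    (QuotientGroup.mk'_surjective (powMonoidHom n : Fˣ →* Fˣ).range)
  have : Nonempty (Fin n) := ⟨⟨0, hn⟩⟩
  let e := mulEquivOfCyclicCardEq hc
  refine ⟨Matrix.ProjGenLinGroup.lift (e.toMonoidHom.comp ((QuotientGroup.mk' _).comp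
    Matrix.GeneralLinearGroup.det)) (MonoidHom.ext fun u => ?_), fun x => ?_,
    Subgroup.ext fun x => ?_⟩
  · change e (QuotientGroup.mk (Matrix.GeneralLinearGroup.det _)) = 1
    rw [Matrix.GeneralLinearGroup.det_scalar, map_eq_one_iff e e.injective,
      QuotientGroup.eq_one_iff]
    exact ⟨u, by simp⟩
  · obtain ⟨y, rfl⟩ := e.surjective x
    obtain ⟨u, rfl⟩ := QuotientGroup.mk_surjective y
    obtain ⟨A, rfl⟩ := Matrix.GeneralLinearGroup.det_surjective (n := Fin n) u
    exact ⟨.mk A, rfl⟩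
  · induction x using Matrix.ProjGenLinGroup.induction_on with | mk g =>
    simp only [MonoidHom.mem_ker, Matrix.ProjGenLinGroup.lift_mk, MonoidHom.comp_apply,
      MulEquiv.coe_toMonoidHom, map_eq_one_iff e e.injective, QuotientGroup.mk'_apply,
      QuotientGroup.eq_one_iff, MonoidHom.mem_range, powMonoidHom_apply]
    constructor
    · rintro ⟨r, hr⟩
      have h1 : ((r⁻¹ : Fˣ) : F) ^ Fintype.card (Fin n) * g.1.det = 1 := by
        rw [← Matrix.GeneralLinearGroup.val_det_apply, ← hr]; simp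
      rw [← Matrix.det_smul] at h1
      refine ⟨QuotientGroup.mk ⟨_, h1⟩, Matrix.ProjGenLinGroup.mk_eq_mk_iff.2 ⟨r, Units.ext ?_⟩⟩
      change (((r⁻¹ : Fˣ) : F) • g.1) * Matrix.scalar (Fin n) (r : F) = g.1
      simp [← Matrix.mul_smul, ← Matrix.diagonal_smul, Pi.smul_def, smul_eq_mul]
    · rintro ⟨X, hX⟩
      induction X using QuotientGroup.induction_on with | H X =>
      obtain ⟨u, hu⟩ : ∃ u, Matrix.SpecialLinearGroup.toGL X *
          (Matrix.GeneralLinearGroup.scalar (Fin n)) u = g := by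
        simpa [Matrix.ProjGenLinGroup.mk_eq_mk_iff] using hX
      exact ⟨u, by simpa using congr(Matrix.GeneralLinearGroup.det $hu)⟩

end Cfsg.Agent.S0307
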