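import Cfsg.Statements.S3058
import Cfsg.Agent.Solv.SylowChain
import Cfsg.Agent.Solv.PConstrained

set_option autoImplicit false
open Cfsg Cfsg.Lib.Solv Cfsg.Lib.Local

namespace Cfsg.Agent.S3058

/-- Let p be a prime and G a finite group whose Sylow p-subgroups are not chain-connected through nontrivial intersections (so G has a strongly p-embedded subgroup). If N and M are normal subgroups of G whose orders are both divisible by p, then the order of N ∩ M is divisible by p. Consequently, among the normal subgroups of G whose order is divisible by p there is a smallest one (the intersection of all of them). -/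
theorem result {G : Type*} [Group G] [Finite G]
    (p : ℕ) [Fact p.Prime] (hG : ¬ Cfsg.IsSylowChainConnected p G)
    (N M : Subgroup G) [N.Normal] [M.Normal] (hN : p ∣ Nat.card N) (hM : p ∣ Nat.card M) :
    p ∣ Nat.card ↥(N ⊓ M) := by
  obtain ⟨H, hH⟩ := not_isSylowChainConnected_iff_se.1 hG
  by_contra hK
  obtain ⟨P, hP⟩ := hH.exists_sylow_le
  have hex : ∀ (L : Subgroup G) [L.Normal], p ∣ Nat.card L →
      ∃ x ∈ (P : Subgroup G) ⊓ L, orderOf x = p := by
    intro L _ hL
    rw [← dvd_card_iff_exists_orderOf]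
    have h1 := not_dvd_relIndex_sylow_of_normal P L
    have h2 := Subgroup.relIndex_mul_relIndex ⊥ ((P : Subgroup G) ⊓ L) L bot_le inf_le_right
    rw [Subgroup.relIndex_bot_left, Subgroup.relIndex_bot_left, Subgroup.inf_relIndex_right,
      mul_comm] at h2
    rw [← h2] at hL
    exact ((Nat.Prime.dvd_mul Fact.out).1 hL).resolve_left h1
  obtain ⟨x, hx', hx⟩ := hex N hN
  obtain ⟨y, hy', hy⟩ := hex M hM
  obtain ⟨hxP, hxN⟩ := Subgroup.mem_inf.1 hx'
  obtain ⟨hyP, hyM⟩ := Subgroup.mem_inf.1 hy'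
  have hbot : (P : Subgroup G) ⊓ (N ⊓ M) = ⊥ := by
    by_contra h0
    exact hK ((dvd_card_of_isPGroup_ne_bot P.isPGroup'.to_inf_left h0).trans
      (Subgroup.card_dvd_of_le inf_le_right))
  have hcomm : ∀ a ∈ N, ∀ b ∈ M, a * b * a⁻¹ * b⁻¹ ∈ N ⊓ M := by
    intro a ha b hb
    refine Subgroup.mem_inf.2 ⟨?_, ?_⟩
    · have := mul_mem ha (‹N.Normal›.conj_mem _ (inv_mem ha) b)
      simpa [mul_assoc] using this
    · exact mul_mem (‹M.Normal›.conj_mem _ hb a) (inv_mem hb)
  have hxy : x * y = y * x := by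
    have h1 : x * y * x⁻¹ * y⁻¹ ∈ (P : Subgroup G) ⊓ (N ⊓ M) :=
      Subgroup.mem_inf.2
        ⟨mul_mem (mul_mem (mul_mem hxP hyP) (inv_mem hxP)) (inv_mem hyP), hcomm x hxN y hyM⟩
    rw [hbot, Subgroup.mem_bot] at h1
    calc x * y = (x * y * x⁻¹ * y⁻¹) * (y * x) := by group
      _ = y * x := by rw [h1, one_mul]
  have hA := isMulCommutative_zpowers_sup hxy
  have hAP : Subgroup.zpowers x ⊔ Subgroup.zpowers y ≤ (P : Subgroup G) :=
    sup_le (Subgroup.zpowers_le.2 hxP) (Subgroup.zpowers_le.2 hyP)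
  have hnc : ¬ IsCyclic (Subgroup.zpowers x ⊔ Subgroup.zpowers y : Subgroup G) := by
    intro hc
    have h1 : Subgroup.zpowers x = Subgroup.zpowers y :=
      PG.eq_of_card_eq_of_isCyclic (A := Subgroup.zpowers x ⊔ Subgroup.zpowers y)
        le_sup_left le_sup_right (by rw [Nat.card_zpowers, Nat.card_zpowers, hx, hy])
    have h2 : x ∈ M := Subgroup.zpowers_le.2 hyM (h1 ▸ Subgroup.mem_zpowers x)
    exact hK ((dvd_card_iff_exists_orderOf _).2 ⟨x, ⟨hxN, h2⟩, hx⟩)
  have hKH : N ⊓ M ≤ H := se_le_of_noncyclic hH hnc (P.isPGroup'.to_le hAP) (hAP.trans hP)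
    Subgroup.le_normalizer_of_normal hK
  have hMH : M ≤ H := by
    intro m hm
    refine hH.mem_of_conj x (hP hxP) hx m ?_
    have h1 := mul_mem (inv_mem (hKH (hcomm x hxN m hm))) (hP hxP)
    simpa [mul_assoc] using h1
  exact hH.ne_top (by rw [← se_sup_eq_top hH hM, sup_eq_left.2 hMH])

end Cfsg.Agent.S3058
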