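import Cfsg.Statements.S0819
import Cfsg.Agent.Class.SmallFields

set_option autoImplicit false
open Cfsg

namespace Cfsg.Agent.S0819

open Cfsg.Lib.Class Matrix

/-- One step of the recursion for powers of a matrix modulo its characteristic polynomial. -/
def step {R : Type*} [CommRing R] (t s : R) (x : R × R × R) : R × R × R :=
  (t * x.1 + x.2.1, x.2.2 - s * x.1, x.1)

theorem cayley {R : Type*} [CommRing R] (g : Matrix (Fin 3) (Fin 3) R) (hg : g.det = 1) :
    ∃ t s : R, g * (g * g) = t • (g * g) - s • g + 1 := by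
  refine ⟨g 0 0 + g 1 1 + g 2 2, g 0 0 * g 1 1 - g 0 1 * g 1 0 + g 0 0 * g 2 2 - g 0 2 * g 2 0 +
    g 1 1 * g 2 2 - g 1 2 * g 2 1, ?_⟩
  rw [det_fin_three] at hg
  ext i j
  fin_cases i <;> fin_cases j <;> simp [mul_apply, Fin.sum_univ_three] <;>
    first | ring1 | linear_combination hg

theorem pow_eq {R : Type*} [CommRing R] (g : Matrix (Fin 3) (Fin 3) R) (t s : R)
    (h : g * (g * g) = t • (g * g) - s • g + 1) (n : ℕ) :
    g ^ n = ((step t s)^[n] (0, 0, 1)).1 • (g * g) + ((step t s)^[n] (0, 0, 1)).2.1 • g +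
      ((step t s)^[n] (0, 0, 1)).2.2 • 1 := by
  induction n with
  | zero => simp
  | succ n ih =>
    rw [pow_succ', ih, Function.iterate_succ_apply']
    generalize (step t s)^[n] (0, 0, 1) = x
    simp only [step, Matrix.mul_add, Matrix.mul_smul, h, Matrix.mul_one]
    module

theorem check : ∀ t s : GF4, ∃ n ∈ [5, 7, 12], ((step t s)^[n] (0, 0, 1)).1 = 0 ∧
    ((step t s)^[n] (0, 0, 1)).2.1 = 0 := by decide +kernel

theorem exists_pow_eq_one (g : Matrix.ProjectiveSpecialLinearGroup (Fin 3) GF4) :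
    ∃ n ∈ [5, 7, 12], g ^ n = 1 := by
  obtain ⟨g, rfl⟩ := QuotientGroup.mk_surjective g
  obtain ⟨t, s, h⟩ := cayley g.1 g.2
  obtain ⟨n, hn, h1, h2⟩ := check t s
  refine ⟨n, hn, ?_⟩
  rw [← QuotientGroup.mk_pow, QuotientGroup.eq_one_iff, Subgroup.mem_center_iff]
  intro k
  have := pow_eq (g : Matrix (Fin 3) (Fin 3) GF4) t s h n
  rw [h1, h2, zero_smul, zero_smul, zero_add, zero_add] at this
  apply Subtype.ext
  change k.1 * g.1 ^ n = g.1 ^ n * k.1
  rw [this, Matrix.mul_smul, Matrix.smul_mul, Matrix.mul_one, Matrix.one_mul]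


/-- No element of PSL_3(4) has order 15. -/
theorem result {F : Type*} [Field F] [Fintype F] (hF : Fintype.card F = 4) (g : Matrix.ProjectiveSpecialLinearGroup (Fin 3) F) : orderOf g ≠ 15 := by
  obtain ⟨e⟩ := nonempty_ringEquiv_GF4 hF
  intro h
  obtain ⟨n, hn, h1⟩ := exists_pow_eq_one (pslEquiv (Fin 3) e g)
  rw [← map_pow, map_eq_one_iff _ (pslEquiv (Fin 3) e).injective, ← orderOf_dvd_iff_pow_eq_one,
    h] at h1
  simp only [List.mem_cons, List.not_mem_nil, or_false] at hn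
  rcases hn with rfl | rfl | rfl <;> omega

end Cfsg.Agent.S0819
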