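import Cfsg.Statements.S0434
import Cfsg.Agent.Spor.O7920D
import Cfsg.Agent.Spor.M11Classes
import Cfsg.Agent.Solv.SylowNumber

set_option autoImplicit false
open Cfsg

namespace Cfsg.Agent.S0434

open Subgroup Cfsg.Lib.Spor Cfsg.Lib.Spor.O7920 Cfsg.Lib.Known Cfsg.Lib.Block

theorem facts (x : Spor.M11) : orderOf x ≠ 9 ∧ (orderOf x = 3 →
    Nat.card (centralizer ({x} : Set Spor.M11)) = 18 ∧ ∀ y : Spor.M11, orderOf y = 3 → IsConj x y) := by
  have h := MP.isClassList_M11
  refine ⟨fun e => ?_, fun e => ?_⟩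
  · obtain ⟨r, hr, -⟩ := h.exists_of_order x.2 (k := 9) (by rwa [orderOf_coe])
    simp [MP.reps11] at hr
  · obtain ⟨r, hr, g, hg, e1⟩ := h.exists_of_order x.2 (k := 3) (by rwa [orderOf_coe])
    have hr' : r = (984534996141977609297800625156032544, 3, 18) := by simpa [MP.reps11] using hr
    refine ⟨by rw [card_centralizer_subtype, h.card_cent_conj (List.mem_of_mem_filter hr) hg e1, hr'],
      fun y hy => ?_⟩
    obtain ⟨s, hs, g', hg', e2⟩ := h.exists_of_order y.2 (k := 3) (by rwa [orderOf_coe])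
    have hs' : s = (984534996141977609297800625156032544, 3, 18) := by simpa [MP.reps11] using hs
    refine isConj_iff.2 ⟨⟨g' * g⁻¹, mul_mem hg' (inv_mem hg)⟩, Subtype.ext ?_⟩
    simp only [coe_mul, coe_inv]
    rw [← e1, ← e2, hr', hs']
    group

theorem card_sylow : Nat.card (Sylow 3 Spor.M11) = 55 := by
  have hc : ∀ P : Sylow 3 Spor.M11, Nat.card P = 3 ^ 2 := fun P =>
    SC.sylow_card_eq_pow P (m := 880) (by rw [MP.card_M11]; norm_num) (by norm_num)
  have ho : ∀ P : Sylow 3 Spor.M11, ∀ g ∈ (P : Subgroup Spor.M11), g ≠ 1 → orderOf g = 3 := by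
    intro P g hg h1
    obtain ⟨k, hk, e⟩ := (Nat.dvd_prime_pow Nat.prime_three).1 (hc P ▸ orderOf_dvd_natCard _ hg)
    have h2 := (facts g).1
    have h3 : orderOf g ≠ 1 := fun e => h1 (orderOf_eq_one_iff.1 e)
    interval_cases k <;> omega
  have hle : ∀ P : Sylow 3 Spor.M11, ∀ g ∈ (P : Subgroup Spor.M11),
      (P : Subgroup Spor.M11) ≤ centralizer {g} := by
    intro P g hg x hx
    have := IsPGroup.isMulCommutative_of_card_eq_prime_sq (hc P)
    exact mem_centralizer_singleton_iff.2 (congrArg Subtype.val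
      (mul_comm' (⟨x, hx⟩ : (P : Subgroup Spor.M11)) ⟨g, hg⟩))
  have h1 := SC.card_biUnion_of_ti (fun P : Sylow 3 Spor.M11 => (P : Subgroup Spor.M11)) _ hc
    fun P Q hPQ => by
      rw [eq_bot_iff]
      intro g hg
      by_contra h1
      have h2 := ((facts g).2 (ho P g hg.1 h1)).1
      have h3 := SC.card_sylow_dvd (G := centralizer ({g} : Set Spor.M11)) (p := 3) (k := 2) (m := 2)
        (by rw [h2]; norm_num) (by norm_num)
      have h4 := card_sylow_modEq_one 3 (centralizer ({g} : Set Spor.M11))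
      have h5 : Nat.card (Sylow 3 (centralizer ({g} : Set Spor.M11))) = 1 := by
        rcases (Nat.dvd_prime Nat.prime_two).1 h3 with h | h
        · exact h
        · rw [h] at h4; exact absurd h4 (by decide)
      have := (Nat.card_eq_one_iff_unique.1 h5).1
      exact hPQ (Sylow.subtype_injective
        (Subsingleton.elim (P.subtype (hle P g hg.1)) (Q.subtype (hle Q g hg.2))))
  obtain ⟨x, hx⟩ := exists_prime_orderOf_dvd_card' (G := Spor.M11) 3
    (by rw [MP.card_M11]; norm_num)
  have h2 := SC.card_isConj_mul_card_centralizer x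
  rw [((facts x).2 hx).1, MP.card_M11, Nat.card_congr (Equiv.subtypeEquivRight
    (q := fun g => g ≠ 1 ∧ ∃ P : Sylow 3 Spor.M11, g ∈ (P : Subgroup Spor.M11)) fun g => ?_), h1] at h2
  · omega
  · refine ⟨fun h => ?_, fun ⟨h3, P, h⟩ => ((facts x).2 hx).2 g (ho P g h h3)⟩
    have h3 := (orderOf_of_isConj h).trans hx
    exact ⟨fun e => by simp [e] at h3, SC.exists_sylow_mem_of_orderOf (k := 1) h3⟩

/-- Sylow 3-normalisers in a simple group of order 7920 have order 144 (so there are 55 Sylow 3-subgroups). -/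
theorem result {G : Type*} [Group G] [Finite G] (hG : Cfsg.IsM11 G) (P : Sylow 3 G) : Nat.card (Subgroup.normalizer ((P : Subgroup G) : Set G)) = 144 := by
  have := hG.1
  obtain ⟨e⟩ := isoM11 hG.2
  have h1 := SC.card_normalizer_mul_card_sylow P
  rw [Cfsg.Lib.Solv.card_sylow_congr e, card_sylow, hG.2] at h1
  omega

end Cfsg.Agent.S0434
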