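import Cfsg.Statements.S3920
import Cfsg.Agent.Solv.PGroupNormal
import Cfsg.Agent.Solv.CyclicP

set_option autoImplicit false
open Cfsg

namespace Cfsg.Agent.S3920

open Subgroup Cfsg.Lib.Solv.PG DihedralGroup

theorem r_mem_zpowers {n : ℕ} [NeZero n] (k : ZMod n) :
    (r k : DihedralGroup n) ∈ zpowers (r 1) :=
  ⟨k.val, by simp [r_one_pow]⟩

theorem key {n : ℕ} [NeZero n] (h : Odd n ∨ ∃ k : ℕ, n = 2 ^ k) {j k : ZMod n} (hj : j ≠ 0)
    (hk : k + k = 0) : (r k : DihedralGroup n) ∈ zpowers (r j) := by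
  have hk2 : (r k : DihedralGroup n) ^ 2 = 1 := by rw [sq, r_mul_r, hk, one_def]
  rcases h with ⟨m, hm⟩ | ⟨m, hm⟩
  · have : k = 0 := by
      have h1 : ((2 * m + 1 : ℕ) : ZMod n) = 0 := by rw [← hm, ZMod.natCast_self]
      push_cast at h1
      linear_combination k * h1 - m * hk
    rw [this, ← one_def]; exact one_mem _
  · have hP : IsPGroup 2 (zpowers (r 1 : DihedralGroup n)) :=
      IsPGroup.of_card (n := m) (by rw [Nat.card_zpowers, orderOf_r_one, hm])
    rcases le_total_of_isCyclic hP (zpowers_le.mpr (r_mem_zpowers k))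
      (zpowers_le.mpr (r_mem_zpowers j)) with h | h
    · exact h (mem_zpowers _)
    · obtain ⟨i, hi⟩ := exists_pow_eq_of_mem_zpowers (h (mem_zpowers _))
      rw [← Nat.div_add_mod i 2, pow_add, pow_mul, hk2, one_pow, one_mul] at hi
      rcases Nat.mod_two_eq_zero_or_one i with h0 | h0 <;> rw [h0] at hi
      · exact absurd (r.inj hi) hj
      · rw [hi, pow_one]; exact mem_zpowers _

/-- Say that a group has self-centralizing non-cyclic subgroups when every non-cyclic subgroup H satisfies C_G(H) ≤ H. For n ≥ 3, the dihedral group of order 2n has self-centralizing non-cyclic subgroups if and only if n is odd or a power of 2. -/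
theorem result (n : ℕ) (hn : 3 ≤ n) : (∀ H : Subgroup (DihedralGroup n), ¬ IsCyclic ↥H → Subgroup.centralizer (H : Set (DihedralGroup n)) ≤ H) ↔ (Odd n ∨ ∃ k : ℕ, n = 2 ^ k) := by
  have : NeZero n := ⟨by omega⟩
  refine ⟨fun hX => ?_, fun h H hH x hx => ?_⟩
  · by_contra hc
    push Not at hc
    obtain ⟨a, m, hm, hnm⟩ := Nat.exists_eq_two_pow_mul_odd (NeZero.ne n)
    obtain ⟨a, rfl⟩ : ∃ b, a = b + 1 := by
      refine Nat.exists_eq_succ_of_ne_zero ?_
      rintro rfl
      exact hc.1 (by simpa [hnm] using hm)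
    have hm1 : m ≠ 1 := by rintro rfl; exact hc.2 _ (by simpa using hnm)
    obtain ⟨l, hl⟩ := hm
    let H : Subgroup (DihedralGroup n) :=
      { carrier := {x | ∃ k : ZMod n, (m : ZMod n) * k = 0 ∧ (x = r k ∨ x = sr k)}
        one_mem' := ⟨0, by simp, Or.inl rfl⟩
        mul_mem' := by
          rintro _ _ ⟨i, hi, rfl | rfl⟩ ⟨j, hj, rfl | rfl⟩
          · exact ⟨i + j, by linear_combination hi + hj, Or.inl rfl⟩
          · exact ⟨j - i, by linear_combination hj - hi, Or.inr rfl⟩
          · exact ⟨i + j, by linear_combination hi + hj, Or.inr rfl⟩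
          · exact ⟨j - i, by linear_combination hj - hi, Or.inl rfl⟩
        inv_mem' := by
          rintro _ ⟨i, hi, rfl | rfl⟩
          · exact ⟨-i, by linear_combination -hi, Or.inl rfl⟩
          · exact ⟨i, hi, Or.inr rfl⟩ }
    have h0 : ((2 ^ (a + 1) * m : ℕ) : ZMod n) = 0 := by rw [← hnm, ZMod.natCast_self]
    have hne : ∀ c : ℕ, 0 < c → c < n → (c : ZMod n) ≠ 0 := fun c h1 h2 h3 =>
      absurd (Nat.le_of_dvd h1 ((ZMod.natCast_eq_zero_iff c n).mp h3)) (by omega)
    have hpos : 0 < 2 ^ a := by positivity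
    push_cast at h0
    have hnc : ¬ IsCyclic H := fun hcy => by
      have := hcy.isMulCommutative
      have h1 : (r (2 ^ (a + 1)) : DihedralGroup n) * sr 0 = sr 0 * r (2 ^ (a + 1)) :=
        mul_comm_of_mem (A := H) ⟨2 ^ (a + 1), by linear_combination h0, Or.inl rfl⟩
          ⟨0, by simp, Or.inr rfl⟩
      rw [r_mul_sr, sr_mul_r] at h1
      refine hne (2 ^ (a + 1) * 2) (by positivity) ?_ ?_
      · rw [hnm]; exact Nat.mul_lt_mul_of_pos_left (by omega) (by positivity)
      · push_cast; linear_combination -(sr.inj h1)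
    have h1 : (r (2 ^ a * m) : DihedralGroup n) ∈ centralizer (H : Set (DihedralGroup n)) := by
      rintro (i | i) -
      · rw [r_mul_r, r_mul_r, add_comm]
      · rw [r_mul_sr, sr_mul_r]; congr 1; linear_combination h0
    obtain ⟨k, hk, h2 | h2⟩ := hX H hnc h1
    · rw [← r.inj h2] at hk
      refine hne (2 ^ a * m) (by rw [hl]; positivity) (by rw [hnm, pow_succ]; nlinarith) ?_
      have h3 : (m : ZMod n) = 2 * l + 1 := by rw [hl]; push_cast; rfl
      push_cast
      linear_combination hk - l * h0 - 2 ^ a * m * h3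
    · cases h2
  · obtain ⟨i, hi⟩ : ∃ i, sr i ∈ H := by
      by_contra hc
      push Not at hc
      refine hH (isCyclic_of_le (H' := zpowers (r 1)) ?_)
      rintro (k | k) hk
      exacts [r_mem_zpowers k, absurd hk (hc k)]
    obtain ⟨j, hj0, hj⟩ : ∃ j, j ≠ 0 ∧ r j ∈ H := by
      by_contra hc
      push Not at hc
      refine hH (isCyclic_of_le (H' := zpowers (sr i)) ?_)
      rintro (k | k) hk
      · rw [not_imp_not.mp (hc k) hk, ← one_def]; exact one_mem _
      · have := not_imp_not.mp (hc (k - i)) (by simpa using H.mul_mem hi hk)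
        rw [sub_eq_zero.mp this]; exact mem_zpowers _
    have h1 := hx _ hi
    rcases x with k | k
    · rw [r_mul_sr, sr_mul_r] at h1
      exact zpowers_le.mpr hj (key h hj0 (by linear_combination sr.inj h1))
    · rw [sr_mul_sr, sr_mul_sr] at h1
      have := H.mul_mem hi (zpowers_le.mpr hj (key h hj0 (k := k - i)
        (by linear_combination r.inj h1)))
      simpa using this

end Cfsg.Agent.S3920
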