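import Cfsg.Statements.S3116
import Cfsg.Agent.Trans.OddAutCyclic
import Cfsg.Agent.S3920

set_option autoImplicit false
open Cfsg

namespace Cfsg.Agent.S3116

open Subgroup

/-- The automorphism group of a dihedral 2-group of order at least 8, or of a quasi-dihedral (semidihedral) 2-group of order at least 16, is a 2-group. -/
theorem result {X : Type*} [Group X] [Finite X] (h2 : IsPGroup 2 X)
    (h : (∃ n : ℕ, 4 ≤ n ∧ Nonempty (X ≃* DihedralGroup n)) ∨ Cfsg.IsQuasiDihedral X) : IsPGroup 2 (MulAut X) := by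
  rcases h with ⟨n, hn, ⟨e⟩⟩ | ⟨n, hn, hc, x, y, hx, -, -⟩
  · by_contra hA
    have : NeZero n := ⟨by omega⟩
    have h1 : (zpowers (e.symm (DihedralGroup.r 1))).index = 2 := by
      have h3 := (zpowers (e.symm (DihedralGroup.r 1))).index_mul_card
      rw [Nat.card_zpowers, MulEquiv.orderOf_eq, DihedralGroup.orderOf_r_one, Nat.card_congr e.toEquiv,
        DihedralGroup.nat_card] at h3
      exact Nat.eq_of_mul_eq_mul_right (by omega) h3
    obtain ⟨-, b, hb, hb2, -⟩ := Cfsg.Lib.Trans.generators_of_odd_aut_of_index_two h2 hA h1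
    have h4 : (e b) ^ 2 = DihedralGroup.r 1 ^ 2 := by
      rw [← map_pow, hb2, map_pow, MulEquiv.apply_symm_apply]
    cases hb' : e b with
    | r k =>
      obtain ⟨m, hm⟩ := Cfsg.Agent.S3920.r_mem_zpowers k
      exact hb ⟨m, by rw [← e.symm_apply_apply b, hb', ← hm]; exact (map_zpow _ _ _).symm⟩
    | sr k =>
      rw [hb', sq, DihedralGroup.sr_mul_self] at h4
      have := orderOf_dvd_of_pow_eq_one h4.symm
      rw [DihedralGroup.orderOf_r_one] at this
      have := Nat.le_of_dvd two_pos this
      omega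
  · refine Cfsg.Lib.Trans.isPGroup_mulAut_of_index_two h2 (a := x) ?_ fun h4 => ?_
    · have h3 := (zpowers x).index_mul_card
      rw [Nat.card_zpowers, hx, hc, pow_succ'] at h3
      exact Nat.eq_of_mul_eq_mul_right (by positivity) h3
    · have := orderOf_dvd_of_pow_eq_one h4
      rw [hx] at this
      have := (Nat.pow_dvd_pow_iff_le_right one_lt_two (l := 2)).mp this
      omega

end Cfsg.Agent.S3116
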