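import Cfsg.Statements.S0107
import Cfsg.Agent.Block.DihMk
import Cfsg.Agent.Trans.TransferTools

set_option autoImplicit false
open Cfsg

open Cfsg.Lib.Block.Dih Cfsg.Lib.Trans Subgroup
open scoped commutatorElement

namespace Cfsg.Agent.S0107

/-- A finite group with no nontrivial 2-group quotient and dihedral Sylow 2-subgroups of order at least 8 has a single class of involutions. -/
theorem result {G : Type*} [Group G] [Finite G] (T : Sylow 2 G) (n : ℕ) (hn : 2 ≤ n) (hT : Nonempty ((T : Subgroup G) ≃* DihedralGroup (2 ^ n))) (hO : Cfsg.pResidual 2 G = ⊤) (x y : G) (hx : orderOf x = 2) (hy : orderOf y = 2) : ∃ g : G, g * x * g⁻¹ = y := by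
  obtain ⟨m, rfl⟩ : ∃ m, n = m + 2 := ⟨n - 2, by omega⟩
  obtain ⟨e⟩ := hT
  let Fr : Frame T m := (IdxTwo.dihedral _).ofMulEquiv e.symm
  have hX : ∀ i, X Fr i ∈ (Fr.rSub ⊤).map (T : Subgroup G).subtype := fun i =>
    ⟨Fr.r i, Fr.r_mem_rSub.2 trivial, rfl⟩
  have key : ∀ z : G, orderOf z = 2 → IsConj z (J Fr) := fun z hz => by
    obtain ⟨a, -, ⟨s, ⟨i, -, rfl⟩, hs⟩, -⟩ := thompson_transfer_involution (H := (T : Subgroup G))
      (T := (Fr.rSub ⊤).map (T : Subgroup G).subtype) T.not_dvd_index (fun x hx y hy => by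
        have : ⁅(⟨x, hx⟩ : (T : Subgroup G)), ⟨y, hy⟩⁆ ∈ commutator (T : Subgroup G) :=
          commutator_mem_commutator (mem_top _) (mem_top _)
        rw [Fr.commutator_eq] at this
        obtain ⟨u, -, hu⟩ := this
        exact ⟨_, ⟨u, trivial, hu⟩, rfl⟩)
      (fun x hx => by
        obtain ⟨k, hk⟩ := T.isPGroup' ⟨x, hx⟩
        exact ⟨k, (show x ^ 2 ^ k = 1 from congrArg Subtype.val hk) ▸ one_mem _⟩) z hz
      (fun u hu v hv _ _ hu' hv' => by
        obtain ⟨i, rfl⟩ := (cases Fr hu).resolve_left fun ⟨i, h⟩ => hu' (h ▸ hX i)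
        obtain ⟨j, rfl⟩ := (cases Fr hv).resolve_left fun ⟨i, h⟩ => hv' (h ▸ hX i)
        exact ⟨Fr.s i * Fr.s j, ⟨_, trivial, Fr.s_mul_s i j⟩, rfl⟩)
      (by rw [hO, sup_top_eq]; trivial) ⊥ IsPGroup.of_bot (by simp)
    have h1 : X Fr i = a⁻¹ * z * a⁻¹⁻¹ := by rw [inv_inv]; exact hs
    have h2 : orderOf (X Fr i) = 2 := by
      rw [h1, ← hz]
      exact (MulAut.conj a⁻¹).orderOf_eq z
    rw [J, ← (orderOf_X_eq_two Fr).1 h2]
    exact isConj_iff.2 ⟨_, h1.symm⟩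
  exact isConj_iff.1 ((key x hx).trans (key y hy).symm)

end Cfsg.Agent.S0107
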