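import Cfsg.Statements.S0848
import Cfsg.Agent.Char.DihEight

set_option autoImplicit false
open Cfsg

namespace Cfsg.Agent.S0848

open scoped Pointwise commutatorElement

/-- If a finite group equals its own commutator subgroup and contains an involution whose centralizer is isomorphic to the dihedral group of order 8, then the group has order 168 or 360. -/
theorem result {G : Type*} [Group G] [Finite G] (hperf : commutator G = ⊤) (t : G) (ht : orderOf t = 2) (e : Subgroup.centralizer ({t} : Set G) ≃* DihedralGroup 4) : Nat.card G = 168 ∨ Nat.card G = 360 := by
  obtain ⟨σ, -, h⟩ := Cfsg.Lib.Char.exists_d8c_of_dihedral ht e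
  exact h.card_eq fun x hx hx' => h.isConj_of (by rw [hperf, top_sup_eq])
    (orderOf_eq_prime (by rw [sq, h.inv x hx hx']) fun e => hx' (e ▸ one_mem _))

end Cfsg.Agent.S0848
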