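import Cfsg.Statements.S0048
import Mathlib.GroupTheory.Sylow
import Mathlib.GroupTheory.GroupAction.ConjAct

set_option autoImplicit false
open Cfsg

namespace Cfsg.Agent.S0048

/-- A nontrivial finite solvable group has a nontrivial normal subgroup of prime-power order. -/
theorem exists_normal_pgroup (Q : Type*) [Group Q] [Finite Q] [Group.IsSolvable Q] [Nontrivial Q] :
    ∃ p : ℕ, p.Prime ∧ ∃ N : Subgroup Q, N.Normal ∧ N ≠ ⊥ ∧ IsPGroup p N := by
  obtain ⟨N, ⟨hNn, hNb⟩, hmin⟩ := WellFounded.has_min (wellFounded_lt (α := Subgroup Q))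
    {N : Subgroup Q | N.Normal ∧ N ≠ ⊥} ⟨⊤, inferInstance, top_ne_bot⟩
  have hcomm : ⁅N, N⁆ = ⊥ := by
    by_contra h
    exact hmin ⁅N, N⁆ ⟨inferInstance, h⟩ (Group.IsSolvable.commutator_lt_of_ne_bot hNb)
  have hNc : IsMulCommutative N := by
    rw [Subgroup.commutator_eq_bot_iff_le_centralizer] at hcomm
    exact ⟨⟨fun a b => Subtype.ext (by
      have := hcomm a.2 b b.2
      simpa using this.symm)⟩⟩
  have hcard : Nat.card N ≠ 1 := by rwa [Ne, Subgroup.card_eq_one]
  obtain ⟨p, hp, hdvd⟩ := Nat.exists_prime_and_dvd hcard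
  have : Fact p.Prime := ⟨hp⟩
  obtain ⟨P⟩ : Nonempty (Sylow p N) := inferInstance
  have hPn : (P : Subgroup N).Normal := Subgroup.normal_of_isMulCommutative _
  have hPc : (P : Subgroup N).Characteristic := P.characteristic_of_normal hPn
  refine ⟨p, hp, (P : Subgroup N).map N.subtype, inferInstance, ?_, P.isPGroup'.map _⟩
  rw [Ne, Subgroup.map_eq_bot_iff_of_injective _ N.subtype_injective]
  exact P.ne_bot_of_dvd_card hdvd

/-- In a finite solvable group every maximal subgroup has index a prime power. -/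
theorem result {G : Type*} [Group G] [Finite G] [Group.IsSolvable G]
    (M : Subgroup G) (hM : IsCoatom M) : IsPrimePow M.index := by
  set C := M.normalCore with hC
  have hCM : C ≤ M := M.normalCore_le
  have hCtop : C ≠ ⊤ := fun h => hM.1 (top_le_iff.1 (h ▸ hCM))
  have : Nontrivial (G ⧸ C) := QuotientGroup.nontrivial_iff.2 hCtop
  obtain ⟨p, hp, N, hNn, hNb, hNp⟩ := exists_normal_pgroup (G ⧸ C)
  have : Fact p.Prime := ⟨hp⟩
  set K := N.comap (QuotientGroup.mk' C) with hK
  have hsurj := QuotientGroup.mk'_surjective C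
  have hKM : ¬ K ≤ M := by
    intro h
    have h1 : K ≤ C := Subgroup.normal_le_normalCore.2 h
    apply hNb
    rw [← Subgroup.map_comap_eq_self_of_surjective hsurj N, Subgroup.map_eq_bot_iff,
      QuotientGroup.ker_mk']
    exact h1
  have hsup : M ⊔ K = ⊤ := hM.2 _ (left_lt_sup.2 hKM)
  -- index of `M` equals its relative index in `K`
  have hidx : M.index = M.relIndex K := by
    have h1 := Subgroup.relIndex_mul_index (H := M ⊓ K) (K := M) inf_le_left
    have h2 := Subgroup.relIndex_mul_index (H := M ⊓ K) (K := K) inf_le_right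
    rw [Subgroup.inf_relIndex_left] at h1
    rw [Subgroup.inf_relIndex_right] at h2
    have h3 : K.relIndex M = K.index := by
      rw [← Subgroup.relIndex_sup_right, hsup, Subgroup.relIndex_top_right]
    rw [h3] at h1
    have hK0 : K.index ≠ 0 := Subgroup.index_ne_zero_of_finite
    apply Nat.eq_of_mul_eq_mul_left (Nat.pos_of_ne_zero hK0)
    rw [h1, ← h2, mul_comm]
  have hdvd : M.relIndex K ∣ C.relIndex K := Subgroup.relIndex_dvd_of_le_left K hCM
  have hCK : C.relIndex K = Nat.card N := by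
    conv_lhs => rw [← QuotientGroup.ker_mk' C]
    rw [Subgroup.relIndex_ker, hK, Subgroup.map_comap_eq_self_of_surjective hsurj]
  obtain ⟨n, hn⟩ := IsPGroup.iff_card.1 hNp
  rw [hCK, hn, ← hidx] at hdvd
  obtain ⟨k, -, hk⟩ := (Nat.dvd_prime_pow hp).1 hdvd
  have hk0 : k ≠ 0 := by
    rintro rfl
    exact hM.1 (Subgroup.index_eq_one.1 (by simpa using hk))
  rw [hk]
  exact (hp.isPrimePow).pow hk0

end Cfsg.Agent.S0048
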