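import Cfsg.Statements.S4468
import Cfsg.Agent.Char.LinSolv
import Cfsg.Agent.Char.DegBasic

set_option autoImplicit false
open Cfsg

namespace Cfsg.Agent.S4468

open Cfsg.Lib.Char

/-- Let the finite p-solvable group G have a faithful character χ of degree n ≤ p − 1 and suppose that a Sylow p-subgroup of G is not normal. Then n = p − 1, n is a power of 2, and χ is irreducible. -/
theorem result {G : Type*} [Group G] [Finite G] (χ : G → ℂ) (hχ : Cfsg.IsCharacter G χ) (hfaith : ∀ g : G, χ g = χ 1 → g = 1) (n : ℕ) (hn : Cfsg.charDegree χ = n) (p : ℕ) (hp : p.Prime) (hsolv : Cfsg.IsPSolvable p G) (hnp : n + 1 ≤ p) (P : Sylow p G) (hP : ¬ (P : Subgroup G).Normal) : n + 1 = p ∧ (∃ k : ℕ, n = 2 ^ k) ∧ Cfsg.IsIrrCharacter G χ := by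
  have := Fact.mk hp
  rw [← pCl_iff_normal] at hP
  have hf : charKer χ = ⊥ := eq_bot_iff.2 fun g hg => hfaith g (apply_of_mem_charKer hg)
  have h1 : χ 1 = n := hn ▸ Deg.apply_one_eq hχ
  have h2 : n + 1 = p := hnp.eq_or_lt.resolve_right fun h => hP (pCl_of_degree_lt hsolv hχ hf h1 h)
  refine ⟨h2, ?_, irr_of_not_pCl hsolv hχ hf h1 hnp hP⟩
  obtain ⟨H, h3, h4⟩ := exists_solvable_not_pCl hsolv hP
  have h5 : (charKer fun x : H => χ x) = ⊥ := by rw [hχ.charKer_res, hf, Subgroup.bot_subgroupOf]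
  obtain ⟨q, ⟨r, k, hr, hk, rfl⟩, h6, h7⟩ : GoodDeg p n := by
    by_contra h
    exact h4 (goodDeg_or_pCl _ H rfl h3 _
      (irr_of_not_pCl (hsolv.subgroup H) (hχ.res H) h5 h1 hnp h4) h5 n h1 h)
  rw [← Nat.prime_iff] at hr
  have h8 := Nat.one_lt_pow hk.ne' hr.one_lt
  have h9 := Nat.le_of_dvd (by have := hp.two_le; omega) h6
  have h10 : n = r ^ k := by
    generalize r ^ k = q at *
    rcases h7 with h | h | h <;> have := Int.le_of_dvd (by omega) h.symm.dvd <;> omega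
  rcases hp.eq_two_or_odd' with rfl | h
  · omega
  · refine ⟨k, h10.trans ?_⟩
    rw [← h2, h10, Nat.odd_add_one, Nat.not_odd_iff_even, Nat.even_pow] at h
    rw [hr.even_iff.1 h.1]

end Cfsg.Agent.S4468
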