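import Cfsg.Statements.S4540
import Cfsg.Agent.Block.Major

set_option autoImplicit false
open Cfsg

namespace Cfsg.Agent.S4540

open Cfsg.Lib.Char Cfsg.Lib.Block

/-- Let B be a 2-block of the finite group G (relative to a maximal ideal M of the algebraic integers containing 2) of defect d with defect group D. Let z be an element of D commuting with every element of D, and let b be a block of the centralizer C of z with defect group D that induces B (a major subsection (z, b)). If b has 2-regular rank at most three, then 3·k(B) ≤ 3·k₀(B) + 2·Σ 2 ^ h(χ), where k(B) is the number of members of B, k₀(B) the number of members of height zero, and the sum runs over the members χ of B of positive height h(χ); this bound is at most 3·2 ^ d, so in particular B contains at most 2 ^ d irreducible characters. -/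
theorem result {G : Type*} [Group G] [Finite G] (M : Ideal Cfsg.AlgInt) (hM : Cfsg.IsPModular 2 M) (B : Set (Cfsg.IrrCharacter G)) (hB : Cfsg.IsPBlock M B) (D : Subgroup G) (hD : Cfsg.IsDefectGroup 2 M B D) (z : G) (hzD : z ∈ D) (hzc : ∀ d ∈ D, d * z = z * d) (b : Set (Cfsg.IrrCharacter ↥(Subgroup.centralizer ({z} : Set G)))) (hb : Cfsg.IsInducedBlock M (Subgroup.centralizer ({z} : Set G)) b B) (hbD : Cfsg.IsDefectGroup 2 M b (D.subgroupOf (Subgroup.centralizer ({z} : Set G)))) (hl : Cfsg.blockRank 2 b ≤ 3) : 3 * Nat.card B ≤ 3 * Nat.card {χ : Cfsg.IrrCharacter G // χ ∈ B ∧ Cfsg.blockHeight 2 B (χ : G → ℂ) = 0} + 2 * (∑ᶠ χ ∈ {χ : Cfsg.IrrCharacter G | χ ∈ B ∧ 1 ≤ Cfsg.blockHeight 2 B (χ : G → ℂ)}, 2 ^ Cfsg.blockHeight 2 B (χ : G → ℂ)) ∧ 3 * Nat.card {χ : Cfsg.IrrCharacter G // χ ∈ B ∧ Cfsg.blockHeight 2 B (χ : G → ℂ) = 0} + 2 * (∑ᶠ χ ∈ {χ : Cfsg.IrrCharacter G | χ ∈ B ∧ 1 ≤ Cfsg.blockHeight 2 B (χ : G → ℂ)}, 2 ^ Cfsg.blockHeight 2 B (χ : G → ℂ)) ≤ 3 * 2 ^ Cfsg.blockDefect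 2 B := by
  classical
  have := Fintype.ofFinite G
  have := Fintype.ofFinite (Subgroup.centralizer ({z} : Set G))
  have h := weighted_le_of_major_rank_le_three hM rfl (pElt_of_mem (defect_isPGroup hD) hzD) hb
    (blockDefect_eq_of_subgroupOf hM hB hD
      (fun d hd => Subgroup.mem_centralizer_singleton_iff.2 (hzc d hd)) hb.1 hbD) hl
  have h1 : irrFin {χ : IrrCharacter G | χ ∈ B ∧ 1 ≤ blockHeight 2 B (χ : G → ℂ)} =
      (irrFin B).filter fun χ : IrrCharacter G => ¬ blockHeight 2 B (χ : G → ℂ) = 0 := by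
    ext χ
    simp [Nat.one_le_iff_ne_zero]
  rw [card_subtype_mem_and, finsum_mem_irr, h1, ← card_irrFin]
  rw [Finset.sum_ite, Finset.sum_const, ← Finset.mul_sum, nsmul_eq_mul, mul_comm] at h
  refine ⟨?_, by exact_mod_cast h⟩
  rw [← Finset.card_filter_add_card_filter_not (s := irrFin B)
    (fun χ : IrrCharacter G => blockHeight 2 B (χ : G → ℂ) = 0), mul_add, add_le_add_iff_left, Finset.mul_sum,
    mul_comm, ← smul_eq_mul, ← Finset.sum_const]
  refine Finset.sum_le_sum fun χ hχ => ?_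
  have h2 : 2 ^ 1 ≤ 2 ^ blockHeight 2 B (χ : G → ℂ) :=
    Nat.pow_le_pow_right (by norm_num) (Nat.one_le_iff_ne_zero.2 (Finset.mem_filter.1 hχ).2)
  omega

end Cfsg.Agent.S4540
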