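import Cfsg.Statements.S2391

set_option autoImplicit false
open Cfsg

namespace Cfsg.Agent.S2391

open Matrix Module

variable {F : Type*} [Field F] {n : ℕ}

/-- One step of the ascending fixed-point flag. -/
def step (U : Subgroup (Matrix.SpecialLinearGroup (Fin n) F)) (W : Submodule F (Fin n → F)) :
    Submodule F (Fin n → F) where
  carrier := {v | ∀ u ∈ U, (u : Matrix (Fin n) (Fin n) F) *ᵥ v - v ∈ W}
  add_mem' := fun {a b} ha hb u hu => by
    have := W.add_mem (ha u hu) (hb u hu)
    rwa [mulVec_add, add_sub_add_comm]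
  zero_mem' := fun u _ => by simp
  smul_mem' := fun c a ha u hu => by
    have := W.smul_mem c (ha u hu)
    rwa [mulVec_smul, ← smul_sub]

/-- Invariance under the normaliser. -/
def Inv (U : Subgroup (Matrix.SpecialLinearGroup (Fin n) F)) (W : Submodule F (Fin n → F)) :
    Prop :=
  ∀ g ∈ Subgroup.normalizer (U : Set (Matrix.SpecialLinearGroup (Fin n) F)), ∀ v ∈ W,
    (g : Matrix (Fin n) (Fin n) F) *ᵥ v ∈ W

variable {U : Subgroup (Matrix.SpecialLinearGroup (Fin n) F)} {W : Submodule F (Fin n → F)}

theorem Inv.step (h : Inv U W) : Inv U (step U W) := fun g hg v hv u hu => by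
  have h1 : g⁻¹ * u * g ∈ U := by
    have := (Subgroup.mem_normalizer_iff''.1 hg u).1 hu
    exact this
  have h2 := h g hg _ (hv _ h1)
  rwa [mulVec_sub, mulVec_mulVec, ← Matrix.SpecialLinearGroup.coe_mul, ← mul_assoc, ← mul_assoc,
    mul_inv_cancel, one_mul, Matrix.SpecialLinearGroup.coe_mul, ← mulVec_mulVec] at h2

theorem Inv.lt [Fintype F] (p : ℕ) [Fact p.Prime] [CharP F p] (hU : IsPGroup p U) (h : Inv U W)
    (hW : W ≠ ⊤) : W < S2391.step U W := by
  have hle : W ≤ S2391.step U W := fun v hv u hu =>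
    W.sub_mem (h u (Subgroup.le_normalizer hu) v hv) hv
  let ρ : U →* Module.End F ((Fin n → F) ⧸ W) :=
    { toFun := fun u => W.mapQ W (mulVecLin (u : Matrix.SpecialLinearGroup (Fin n) F))
        (fun v hv => h u (Subgroup.le_normalizer u.2) v hv)
      map_one' := by
        refine Submodule.linearMap_qext _ (LinearMap.ext fun v => ?_)
        simp
      map_mul' := fun a b => by
        refine Submodule.linearMap_qext _ (LinearMap.ext fun v => ?_)
        exact congrArg Submodule.Quotient.mk (mulVec_mulVec v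
          ((a : Matrix.SpecialLinearGroup (Fin n) F) : Matrix (Fin n) (Fin n) F)
          ((b : Matrix.SpecialLinearGroup (Fin n) F) : Matrix (Fin n) (Fin n) F)).symm }
  let _ : MulAction U ((Fin n → F) ⧸ W) := MulAction.compHom _ ρ
  have hs : ∀ (u : U) v, u • (Submodule.Quotient.mk v : (Fin n → F) ⧸ W) = Submodule.Quotient.mk
      (((u : Matrix.SpecialLinearGroup (Fin n) F) : Matrix (Fin n) (Fin n) F) *ᵥ v) :=
    fun _ _ => rfl
  have : Finite ((Fin n → F) ⧸ W) := Module.finite_of_finite F
  have hnt : Nontrivial ((Fin n → F) ⧸ W) := Submodule.Quotient.nontrivial_iff.2 hW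
  have hdvd : p ∣ Nat.card ((Fin n → F) ⧸ W) := by
    rw [Module.natCard_eq_pow_finrank (K := F)]
    refine Dvd.dvd.pow ?_ Module.finrank_pos.ne'
    obtain ⟨m, -, hm⟩ := FiniteField.card F p
    rw [Nat.card_eq_fintype_card, hm]
    exact dvd_pow_self _ m.ne_zero
  obtain ⟨b, hb, hne⟩ := hU.exists_fixed_point_of_prime_dvd_card_of_fixed_point
    ((Fin n → F) ⧸ W) hdvd (a := 0) (fun u => by
      change ρ u 0 = 0
      exact map_zero _)
  obtain ⟨v, rfl⟩ := Submodule.Quotient.mk_surjective W b
  refine lt_of_le_of_ne hle fun e => hne ?_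
  have hv : v ∈ S2391.step U W := fun u hu => by
    have := hb ⟨u, hu⟩
    rw [hs] at this
    exact (Submodule.Quotient.eq W).1 this
  rw [← e] at hv
  exact ((Submodule.Quotient.mk_eq_zero W).2 hv).symm

/-- The Borel–Tits property of `SL_n(q)` in flag form: for a field `F` of characteristic `p` with finitely many elements and a non-trivial `p`-subgroup `U` of `SL_n(F)`, there is a flag `0 = V₀ < V₁ < ⋯ < V_{k+1} = F^n` with at least one proper non-zero member such that every element of the normaliser of `U` maps each `V_i` onto itself and every element of `U` acts trivially on each quotient `V_{i+1}/V_i` (so the normaliser lies in the parabolic subgroup of the flag and `U` in its unipotent radical). -/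
theorem result {F : Type*} [Field F] [Fintype F] (p : ℕ) [Fact p.Prime] [CharP F p] (n : ℕ)
    (U : Subgroup (Matrix.SpecialLinearGroup (Fin n) F)) (hU : IsPGroup p ↥U) (hne : U ≠ ⊥) :
    ∃ (k : ℕ) (V : Fin (k + 2) → Submodule F (Fin n → F)), 1 ≤ k ∧ StrictMono V ∧ V 0 = ⊥ ∧ V (Fin.last (k + 1)) = ⊤ ∧
      (∀ g ∈ Subgroup.normalizer (U : Set (Matrix.SpecialLinearGroup (Fin n) F)), ∀ i, (V i).map (Matrix.mulVecLin (g : Matrix (Fin n) (Fin n) F)) = V i) ∧
      (∀ u ∈ U, ∀ i : Fin (k + 1), ∀ v ∈ V i.succ, (u : Matrix (Fin n) (Fin n) F).mulVec v - v ∈ V (Fin.castSucc i)) := by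
  classical
  let T : ℕ → Submodule F (Fin n → F) := fun i => (step U)^[i] ⊥
  have hT : ∀ i, T (i + 1) = step U (T i) := fun i => Function.iterate_succ_apply' _ _ _
  have hinv : ∀ i, Inv U (T i) := fun i => by
    induction i with
    | zero =>
      intro g _ v hv
      obtain rfl : v = 0 := hv
      simp
    | succ i ih => rw [hT]; exact ih.step
  have hex : ∃ i, T i = ⊤ := by
    by_contra h
    push Not at h
    have : ∀ i, i ≤ finrank F (T i) := fun i => by
      induction i with
      | zero => exact Nat.zero_le _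
      | succ i ih =>
        have := Submodule.finrank_lt_finrank_of_lt ((hinv i).lt p hU (h i))
        rw [← hT] at this
        omega
    have h1 := this (n + 1)
    have h2 := Submodule.finrank_le (T (n + 1))
    rw [Module.finrank_fin_fun] at h2
    omega
  have h1 : T 1 ≠ ⊤ := fun e => hne (by
    rw [eq_bot_iff]
    intro u hu
    refine Subtype.ext (Matrix.ext_iff_mulVec.2 fun v => ?_)
    have hv : v ∈ step U ⊥ := by
      change v ∈ T 1
      rw [e]; trivial
    have := hv u hu
    rw [Submodule.mem_bot, sub_eq_zero] at this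
    simpa using this)
  have h0 : T 0 ≠ ⊤ := fun e => h1 (by
    have : (⊥ : Submodule F (Fin n → F)) = ⊤ := e
    exact top_unique (this ▸ bot_le))
  have hf := Nat.find_spec hex
  obtain ⟨k, hk⟩ : ∃ k, Nat.find hex = k + 2 := by
    refine ⟨Nat.find hex - 2, ?_⟩
    have a0 : Nat.find hex ≠ 0 := fun e => h0 (e ▸ hf)
    have a1 : Nat.find hex ≠ 1 := fun e => h1 (e ▸ hf)
    omega
  refine ⟨k + 1, fun i => T i, by omega, ?_, rfl, ?_, fun g hg i => ?_, fun u hu i v hv => ?_⟩
  · refine Fin.strictMono_iff_lt_succ.2 fun i => ?_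
    simp only [Fin.val_castSucc, Fin.val_succ]
    rw [hT]
    exact (hinv i).lt p hU (Nat.find_min hex (by have := i.2; omega))
  · rw [hk] at hf
    exact hf
  · refine le_antisymm (Submodule.map_le_iff_le_comap.2 fun v hv => hinv i g hg v hv)
      fun v hv => ⟨_, hinv i g⁻¹ (inv_mem hg) v hv, ?_⟩
    rw [mulVecLin_apply, mulVec_mulVec, ← Matrix.SpecialLinearGroup.coe_mul, mul_inv_cancel]
    simp
  · simp only [Fin.val_castSucc, Fin.val_succ] at hv ⊢
    rw [hT] at hv
    exact hv u hu

end Cfsg.Agent.S2391
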