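import Cfsg.Statements.S4485
import Cfsg.Agent.Char.BrauerLeonard

set_option autoImplicit false
open Cfsg

namespace Cfsg.Agent.S4485

open Cfsg.Lib.Char

/-- Let G be a finite group and p a prime dividing its order such that every non-identity element of a Sylow p-subgroup P has the same centralizer as P itself (so P is abelian); let p^n be the order of P. If G has a faithful character of degree x with x² < p^n − 1, then P is normal in G. -/
theorem result {G : Type*} [Group G] [Finite G] (p : ℕ) (hp : p.Prime) (hpG : p ∣ Nat.card G) (P : Sylow p G) (hstar : ∀ x ∈ (P : Subgroup G), x ≠ 1 → Subgroup.centralizer ({x} : Set G) = Subgroup.centralizer ((P : Subgroup G) : Set G)) (n : ℕ) (hn : Nat.card P = p ^ n) (χ : G → ℂ) (hχ : Cfsg.IsCharacter G χ) (hfaith : ∀ g : G, χ g = χ 1 → g = 1) (hdeg : Cfsg.charDegree χ ^ 2 + 1 < p ^ n) : (P : Subgroup G).Normal := by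
  have : Fact p.Prime := ⟨hp⟩
  let L := Subgroup.normalClosure ((P : Subgroup G) : Set G)
  have hPL : (P : Subgroup G) ≤ L := Subgroup.le_normalClosure
  have := Fintype.ofFinite L
  have hstar' : ∀ x ∈ ((P.subtype hPL : Sylow p L) : Subgroup L), x ≠ 1 →
      Subgroup.centralizer ({x} : Set L) =
        Subgroup.centralizer (((P.subtype hPL : Sylow p L) : Subgroup L) : Set L) := by
    intro x hx hx1
    refine le_antisymm (fun y hy z hz => Subtype.ext ?_)
      (Subgroup.centralizer_le (Set.singleton_subset_iff.2 hx))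
    have h1 : (y : G) ∈ Subgroup.centralizer ({(x : G)} : Set G) :=
      Subgroup.mem_centralizer_singleton_iff.2
        (congrArg Subtype.val (Subgroup.mem_centralizer_singleton_iff.1 hy))
    rw [hstar x hx fun h => hx1 (Subtype.ext h)] at h1
    exact h1 z hz
  have hG : ∀ η, IsIrrCharacter L η → ((P.subtype hPL : Sylow p L) : Subgroup L) ≤ charKer η →
      η = fun _ => 1 := by
    intro η hη hk
    have hK := hη.charKer_normal
    refine hη.charKer_eq_top_iff.1 (top_le_iff.1 fun x _ => ?_)
    have h1 : L ≤ (charKer η).map L.subtype := by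
      refine (Subgroup.closure_le _).2 fun y hy => ?_
      obtain ⟨z, hz, hc⟩ := Group.mem_conjugatesOfSet_iff.1 hy
      obtain ⟨g, rfl⟩ := isConj_iff.1 hc
      have hQ : ((g • P : Sylow p G) : Subgroup G) ≤ L := by
        rintro _ ⟨w, hw, rfl⟩
        exact Subgroup.normalClosure_normal.conj_mem w (hPL hw) g
      obtain ⟨l, hl⟩ := MulAction.exists_smul_eq L (P.subtype hPL) ((g • P).subtype hQ)
      have h2 : (⟨g * z * g⁻¹, hQ ⟨z, hz, rfl⟩⟩ : L) ∈
          (((g • P).subtype hQ : Sylow p L) : Subgroup L) := ⟨z, hz, rfl⟩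
      rw [← hl] at h2
      obtain ⟨w, hw, e⟩ := h2
      exact ⟨_, hK.conj_mem w (hk hw) l, congrArg Subtype.val e⟩
    obtain ⟨y, hy, e⟩ := h1 x.2
    exact (Subtype.ext e : y = x) ▸ hy
  have hcomm : commutator L ≤ charKer fun x : L => χ x := by
    intro x hx
    refine (IsCharacter.mem_charKer_iff_forall (hχ.res L)).2 fun ζ hζ h => ?_
    refine (Deg.commutator_le_charKer_iff hζ).2 ?_ hx
    by_cases h1 : ζ = fun _ => 1
    · rw [h1, Deg.deg_const_one]
    refine (brauer_leonard (P.subtype hPL) hstar' hζ h1 ?_ hG).1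
    rw [Sylow.coe_subtype, Nat.card_congr (Subgroup.subgroupOfEquivOfLe hPL).toEquiv, hn]
    have := Nat.pow_le_pow_left (Deg.deg_le_of_classInner_ne_zero (hχ.res L) hζ h) 2
    rw [Deg.deg_res] at this
    omega
  have h5 : ((P.subtype hPL : Sylow p L) : Subgroup L).Normal := ⟨fun x hx g => by
    have h1 := hfaith _ (apply_of_mem_charKer (χ := fun x : L => χ x)
      (hcomm (Subgroup.commutator_mem_commutator (Subgroup.mem_top g) (Subgroup.mem_top x))))
    have h2 : g * x * g⁻¹ = x := Subtype.ext (mul_inv_eq_one.1 h1)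
    rwa [h2]⟩
  have h6 := Sylow.characteristic_of_normal (P.subtype hPL) h5
  have h7 : (((P.subtype hPL : Sylow p L) : Subgroup L).map L.subtype).Normal := inferInstance
  rwa [Sylow.coe_subtype, Subgroup.subgroupOf_map_subtype, inf_eq_left.2 hPL] at h7

end Cfsg.Agent.S4485
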