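import Cfsg.Statements.S0560
import Cfsg.Agent.Solv.Factor

set_option autoImplicit false
open Pointwise
open Cfsg

namespace Cfsg.Agent.S0560

open Cfsg.Lib.Solv

/-- Let the finite group G be the product HK of two subgroups and p a prime. Then there are Sylow p-subgroups P of H and Q of K and a Sylow p-subgroup R of G whose underlying set is the product set of P and Q. -/
theorem result {G : Type*} [Group G] [Finite G] (H K : Subgroup G) (hHK : ∀ g : G, ∃ h ∈ H, ∃ k ∈ K, g = h * k) (p : ℕ) [Fact p.Prime] : ∃ (P : Sylow p H) (Q : Sylow p K) (R : Sylow p G), ((R : Subgroup G) : Set G) = (((P : Subgroup H).map H.subtype : Subgroup G) : Set G) * (((Q : Subgroup K).map K.subtype : Subgroup G) : Set G) := by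
  obtain ⟨P⟩ : Nonempty (Sylow p H) := inferInstance
  obtain ⟨Q⟩ : Nonempty (Sylow p K) := inferInstance
  obtain ⟨R1, hR1⟩ := (P.isPGroup'.map H.subtype).exists_le_sylow
  obtain ⟨R2, hR2⟩ := (Q.isPGroup'.map K.subtype).exists_le_sylow
  obtain ⟨g, hg⟩ := MulAction.exists_smul_eq G R1 R2
  obtain ⟨k, hk, h, hh, rfl⟩ := forall_mul_symm hHK g
  refine ⟨(⟨h, hh⟩ : H) • P, (⟨k⁻¹, K.inv_mem hk⟩ : K) • Q, h • R1, ?_⟩
  have e : h • R1 = k⁻¹ • R2 := by rw [← hg, mul_smul, inv_smul_smul]
  have hle1 : (((⟨h, hh⟩ : H) • P : Sylow p H) : Subgroup H).map H.subtype ≤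
      ((h • R1 : Sylow p G) : Subgroup G) := by
    rw [coe_sylow_smul, coe_sylow_smul, map_subtype_conj_smul]
    exact conj_smul_mono _ hR1
  have hle2 : (((⟨k⁻¹, K.inv_mem hk⟩ : K) • Q : Sylow p K) : Subgroup K).map K.subtype ≤
      ((h • R1 : Sylow p G) : Subgroup G) := by
    rw [e, coe_sylow_smul, coe_sylow_smul, map_subtype_conj_smul]
    exact conj_smul_mono _ hR2
  refine coe_eq_mul_of_card_le hle1 hle2 ?_
  generalize (⟨h, hh⟩ : H) • P = P' at *
  generalize (⟨k⁻¹, K.inv_mem hk⟩ : K) • Q = Q' at *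
  generalize h • R1 = R at *
  rw [card_map_subtype, card_map_subtype, P'.card_eq_multiplicity, Q'.card_eq_multiplicity,
    R.card_eq_multiplicity]
  have hI : IsPGroup p ((P' : Subgroup H).map H.subtype ⊓ (Q' : Subgroup K).map K.subtype :
      Subgroup G) := (P'.isPGroup'.map H.subtype).to_inf_left
  obtain ⟨n, hn⟩ := IsPGroup.iff_card.mp hI
  have hdvd : p ^ n ∣ Nat.card (H ⊓ K : Subgroup G) := by
    rw [← hn]
    exact Subgroup.card_dvd_of_le
      (inf_le_inf (Subgroup.map_subtype_le _) (Subgroup.map_subtype_le _))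
  have hp : p.Prime := Fact.out
  have hle : n ≤ (Nat.card (H ⊓ K : Subgroup G)).factorization p :=
    (hp.pow_dvd_iff_le_factorization Nat.card_pos.ne').mp hdvd
  have hf := congrArg (fun m => m.factorization p) (card_mul_card_inf_of_forall_mul hHK)
  simp only [Nat.factorization_mul Nat.card_pos.ne' Nat.card_pos.ne', Finsupp.add_apply] at hf
  rw [hn, ← pow_add, ← pow_add]
  exact Nat.pow_le_pow_right hp.pos (by omega)

end Cfsg.Agent.S0560
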