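import Cfsg.Statements.S4134
import Cfsg.Agent.Solv.TwoClassSizes

set_option autoImplicit false
open Cfsg

namespace Cfsg.Agent.S4134

open Cfsg.Lib.Solv Cfsg.Lib.Solv.ClassSize Subgroup

/-- Let G be a finite group whose conjugacy classes have exactly two sizes, 1 and n > 1. Then n is a power of a prime p and G is the direct product of a p-group and an abelian group of order prime to p: its Sylow p-subgroup P is normal with an abelian normal complement centralizing it; moreover P has an abelian normal subgroup A with P/A of exponent dividing p. -/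
theorem result {G : Type*} [Group G] [Finite G] (n : ℕ) (hn : 1 < n)
    (h : ∀ x : G, (Subgroup.centralizer ({x} : Set G)).index = 1 ∨ (Subgroup.centralizer ({x} : Set G)).index = n) (hex : ∃ x : G, (Subgroup.centralizer ({x} : Set G)).index = n) :
    ∃ (p : ℕ) (_ : Fact p.Prime) (a : ℕ), n = p ^ a ∧ ∀ P : Sylow p G, (P : Subgroup G).Normal ∧
      (∃ N : Subgroup G, N.Normal ∧ N.IsComplement' (P : Subgroup G) ∧ IsMulCommutative N ∧
        ∀ x ∈ N, ∀ y ∈ (P : Subgroup G), x * y = y * x) ∧
      ∃ A : Subgroup (P : Subgroup G), A.Normal ∧ IsMulCommutative A ∧ ∀ y : (P : Subgroup G), y ^ p ∈ A := by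
  obtain ⟨x, hx⟩ := hex
  obtain ⟨p, hp, hpn⟩ := Nat.exists_prime_and_dvd hn.ne'
  have := Fact.mk hp
  obtain ⟨R⟩ : Nonempty (Sylow p G) := inferInstance
  have hR : ¬ (R : Subgroup G) ≤ center G := fun hle =>
    not_dvd_index_of_sylow_le R (hle.trans (center_le_cent x)) (hx ▸ hpn)
  have hnil : Group.IsNilpotent G := by
    have := isNilpotent_of_two_sizes (N := ⊤) (fun y _ => h y) R hR le_top
    exact Group.nilpotent_of_mulEquiv topEquiv
  have hcen : ∀ q : ℕ, q.Prime → q ≠ p → ∀ (y : G) (k : ℕ), orderOf y = q ^ k → y ∈ center G := by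
    intro q hq hqp y k hk
    rcases h y with h1 | h1
    · exact index_cent_eq_one_iff.1 h1
    · refine absurd (h1 ▸ hpn) (not_dvd_index_of_sylow_le R fun u hu => ?_)
      obtain ⟨j, hj⟩ := exists_orderOf_eq_pow_of_mem R.isPGroup' hu
      refine mem_cent_iff_commute.2 (commute_of_coprime_orderOf_of_isNilpotent G u y ?_)
      rw [hj, hk]
      exact Nat.Coprime.pow _ _ ((Nat.coprime_primes hp hq).2 hqp.symm)
  obtain ⟨a, ha⟩ := exists_index_eq_pow_of_forall_mem (p := p) (K := centralizer ({x} : Set G))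
    fun q hq hqp y k hk => center_le_cent x (hcen q hq hqp y k hk)
  refine ⟨p, this, a, hx ▸ ha, fun P => ?_⟩
  obtain ⟨hP, K, hK, hc, hKC⟩ := sylow_direct_of_forall_mem P fun q hq hqp y k hk =>
    center_le_centralizer _ (hcen q hq hqp y k hk)
  have hKZ : K ≤ center G := by
    refine le_of_forall_prime_pow_mem fun q hq k y hy hk => ?_
    by_cases hqp : q = p
    · subst hqp
      have h1 : y ∈ K ⊓ (P : Subgroup G) := ⟨hy, mem_sylow_of_normal P hk⟩
      rw [hc.disjoint.eq_bot, mem_bot] at h1
      rw [h1]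
      exact one_mem _
    · exact hcen q hq hqp y k hk
  refine ⟨hP, ⟨K, hK, hc, PG.isMulCommutative_of_forall fun a _ b hb =>
    mem_center_iff.1 (hKZ hb) a, fun a ha b _ => (mem_center_iff.1 (hKZ ha) b).symm⟩,
    center P, inferInstance, inferInstance, pow_mem_center_of_two_sizes P.isPGroup' (m := n) ?_⟩
  intro y
  rw [index_cent_subtype, relIndex_eq_of_forall_mul (B := ⊤) le_top, relIndex_top_right]
  · exact h y
  · intro b _
    obtain ⟨⟨k, u⟩, rfl⟩ := hc.2 b
    exact ⟨u, u.2, k, center_le_cent _ (hKZ k.2), (mem_center_iff.1 (hKZ k.2) u).symm⟩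

end Cfsg.Agent.S4134
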