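import Cfsg.Statements.S3968
import Cfsg.Agent.Char.Burnside
import Cfsg.Agent.Char.CharCenter
import Cfsg.Agent.Solv.ClassSize

set_option autoImplicit false
open Cfsg Cfsg.Lib.Solv Cfsg.Lib.Char

namespace Cfsg.Agent.S3968

/-- Let `p` be a prime and `G` a finite group with a faithful irreducible complex character of degree `p` (so `G` is an irreducible linear group in `p` variables). If `p ^ 2` divides the order of `G`, then the centre of `G` is nontrivial. -/
theorem result {G : Type*} [Group G] [Finite G] (p : ℕ) (hp : p.Prime) (χ : Cfsg.IrrCharacter G) (hdeg : χ.1 1 = p) (hfaith : ∀ g : G, χ.1 g = χ.1 1 → g = 1) (hdiv : p ^ 2 ∣ Nat.card G) : Subgroup.center G ≠ ⊥ := by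
  classical
  intro hZ
  have := Fact.mk hp
  obtain ⟨χ, hχ⟩ := χ
  simp only at hdeg hfaith
  obtain ⟨P⟩ : Nonempty (Sylow p G) := inferInstance
  have := Fintype.ofFinite (P : Subgroup G)
  have hker : charKer χ = ⊥ := by
    rw [eq_bot_iff]
    intro g hg
    exact hfaith g (hχ.mem_charKer_iff.1 hg)
  have hcen : ∀ g : G, ‖χ g‖ = ‖χ 1‖ → g = 1 := by
    intro g hg
    have := hχ.mem_charCenter_iff.2 hg
    rwa [hχ.charCenter_eq_center_of_faithful hker, hZ, Subgroup.mem_bot] at this
  have hP2 : p ^ 2 ∣ Nat.card P := by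
    rw [P.card_eq_multiplicity]
    exact pow_dvd_pow p ((hp.pow_dvd_iff_le_factorization Nat.card_pos.ne').1 hdiv)
  have hres : IsCharacter P (fun h : (P : Subgroup G) => χ h) := hχ.isCharacter.res P
  by_cases h : ∀ ψ, IsIrrCharacter P ψ → classInner (fun h : (P : Subgroup G) => χ h) ψ ≠ 0 → ψ 1 = 1
  · have hcomm : commutator P = ⊥ := by
      rw [eq_bot_iff]
      intro c hc
      have := hres.mem_charKer_iff_forall.2 fun ψ h1 h2 =>
        h1.commutator_le_charKer_iff.2 (h ψ h1 h2) hc
      rw [hχ.isCharacter.charKer_res, hker] at this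
      exact Subtype.ext (Subgroup.mem_bot.1 this)
    rw [commutator_def, Subgroup.commutator_eq_bot_iff_le_centralizer] at hcomm
    have hvan : ∀ z : (P : Subgroup G), z ≠ 1 → χ z = 0 := by
      intro z hz
      refine (irr_eq_zero_or_norm_eq_of_coprime hχ hdeg z ?_).resolve_right fun h1 => ?_
      · refine hp.coprime_iff_not_dvd.2 (ClassSize.not_dvd_index_of_sylow_le P fun y hy => ?_)
        rw [ClassSize.mem_cent]
        exact congrArg Subtype.val (hcomm (Subgroup.mem_top z) ⟨y, hy⟩ (Subgroup.mem_top _))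
      · exact hz (Subtype.ext (hcen z (by rw [h1, hdeg, Complex.norm_natCast])))
    obtain ⟨n, hn⟩ := hres.exists_nat_classInner isCharacter_one
    rw [classInner_one_right, Finset.sum_eq_single (1 : (P : Subgroup G)) (fun z _ hz => hvan z hz) (by simp),
      inv_mul_eq_iff_eq_mul₀ (card_ne_zero P)] at hn
    have h1 : (p : ℂ) = Nat.card P * n := by rw [← hdeg]; exact hn
    have h2 : p = Nat.card P * n := by exact_mod_cast h1
    have h3 := Nat.le_of_dvd hp.pos (hP2.trans (Dvd.intro n h2.symm))
    have := hp.two_le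
    nlinarith
  · push Not at h
    obtain ⟨ψ, h1, h2, h3⟩ := h
    obtain ⟨d, -, hd⟩ := h1.exists_nat_degree_pos
    have h4 := irr_degree_dvd_card h1 hd
    obtain ⟨k, hk⟩ := P.isPGroup'.exists_card_eq
    rw [hk] at h4
    obtain ⟨j, -, hj⟩ := (Nat.dvd_prime_pow hp).1 h4
    have h5 := hres.degree_le_of_classInner_ne_zero h1 h2
    simp only [OneMemClass.coe_one, hd, hdeg, Complex.natCast_re, Nat.cast_le] at h5
    have hj0 : j ≠ 0 := by
      rintro rfl
      apply h3
      rw [hd, hj]
      simp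
    have h6 : d = p := le_antisymm h5 (hj ▸ Nat.le_self_pow hj0 p)
    have h7 := hres.eq_of_classInner_ne_zero_of_degree h1 h2 (by
      rw [hd, h6]; exact hdeg)
    have : Nontrivial P := by
      rw [← Finite.one_lt_card_iff_nontrivial]
      exact lt_of_lt_of_le (Nat.one_lt_pow two_ne_zero hp.one_lt) (Nat.le_of_dvd Nat.card_pos hP2)
    have := P.isPGroup'.center_nontrivial
    obtain ⟨⟨z, hz⟩, hz1⟩ := exists_ne (1 : Subgroup.center P)
    have h8 := h1.mem_charCenter_iff.1 (h1.center_le_charCenter hz)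
    rw [← h7] at h8
    exact hz1 (Subtype.ext (Subtype.ext (hcen z h8)))

end Cfsg.Agent.S3968
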