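import Cfsg.Statements.S2179
import Cfsg.Agent.Chev.RootCent
import Cfsg.Agent.Chev.CoreCertF4
import Cfsg.Agent.Chev.RootCertSmall

set_option autoImplicit false
open Cfsg Cfsg.Lie Cfsg.Lib.Chev Cfsg.Lib.Chev.Core

namespace Cfsg.Agent.S2179

/-- Centralizers of the two remaining classes of involutions in the Chevalley group G of type F₄ over a finite field F of characteristic two (this problem's root numbering for type F₄, from the Chevalley data module: p₁, p₂ short, p₃, p₄ long with indices 33, 27, 25, 24 and negatives 14, 20, 22, 23; U generated by the positive root subgroups). For an element of G with matrix x_47(1)x_44(1) (highest root times highest short root): its centralizer in G is generated by U, X_{−p₂} and X_{−p₃}. For an element of G with matrix x_39(1)x_45(1) (roots (1,2,2,1) and (2,4,2,1), an orthogonal short/long pair): its centralizer in G is generated by X_{p₁}, X_{−p₁}, X_{p₄}, X_{−p₄} and the root subgroups of all positive roots other than p₂ (27), p₃ (25), p₁ + p₂ (34) and p₃ +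 p₄ (26). -/
theorem result {F : Type*} [Field F] [Fintype F] [CharP F 2] (w v : GL Cfsg.Lie.chevF4.Idx F) (hw : (w : Matrix Cfsg.Lie.chevF4.Idx Cfsg.Lie.chevF4.Idx F) = Cfsg.Lie.chevF4.x F 47 1 * Cfsg.Lie.chevF4.x F 44 1) (hv : (v : Matrix Cfsg.Lie.chevF4.Idx Cfsg.Lie.chevF4.Idx F) = Cfsg.Lie.chevF4.x F 39 1 * Cfsg.Lie.chevF4.x F 45 1) :
    Cfsg.Lie.chevF4.group F ⊓ Subgroup.centralizer {w} = Cfsg.Lie.chevF4.posUnipotent F ⊔ Cfsg.Lie.chevF4.rootSubgroup F 20 ⊔ Cfsg.Lie.chevF4.rootSubgroup F 22 ∧
    Cfsg.Lie.chevF4.group F ⊓ Subgroup.centralizer {v} = Cfsg.Lie.chevF4.rootSubgroup F 33 ⊔ Cfsg.Lie.chevF4.rootSubgroup F 14 ⊔ Cfsg.Lie.chevF4.rootSubgroup F 24 ⊔ Cfsg.Lie.chevF4.rootSubgroup F 23 ⊔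
      Subgroup.closure {g : GL Cfsg.Lie.chevF4.Idx F | ∃ (r : ℕ) (c : F), Cfsg.Lie.chevF4.IsPosRoot r ∧ r ∉ [27, 25, 34, 26] ∧ (g : Matrix Cfsg.Lie.chevF4.Idx Cfsg.Lie.chevF4.Idx F) = Cfsg.Lie.chevF4.x F r c} := by
  have h1 := Core.certF4.centralizer_two (F := F) rootF4 (T := [47, 44]) (S := []) (K := [])
    (J := [1, 2]) id (fun _ => 1)
    (fun i r => if r = 47 then (if i = 3 then 1 else 0) else if i = 0 then 1 else 0)
      (by decide +kernel) (by decide +kernel) (by decide +kernel) (by decide +kernel) 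
      (by decide +kernel) (by decide +kernel) (by decide +kernel) (t := w) (by simpa using hw)
  have h2 := Core.certF4.centralizer_two (F := F) rootF4 (T := [39, 45]) (S := [40, 44, 46, 47])
    (K := [40, 44, 46, 47]) (J := [0, 3])
    (fun k => if k = 40 then 27 else if k = 44 then 34 else k - 21) (fun r => if r = 39 then 3 else 2)
    (fun i r => if r = 39 then i else 1)
      (by decide +kernel) (by decide +kernel) (by decide +kernel) (by decide +kernel) 
      (by decide +kernel) (by decide +kernel) (by decide +kernel) (t := v) (by simpa using hv)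
  simp only [h1, h2, Core.certF4.posUnipotent_eq_posL rootF4, Core.certF4.rootSubgroup_eq_Y rootF4,
    Core.certF4.closure_x_eq₂ rootF4]
  refine ⟨spanX_append _ _ _, ?_⟩
  rw [show ∀ K, _ ⊔ _ ⊔ _ ⊔ _ ⊔ K = spanX (xSub (xGL chevF4 F)) {r | r ∈ [] ++ [33, 14, 24, 23]} ⊔ K from
    fun K => by rw [spanX_append]; simp, ← spanX_union]
  congr 1
  ext r
  by_cases hr : r < 48
  · revert r
    decide +kernel
  · simp only [Set.mem_union, Set.mem_ofPred_eq]
    refine iff_of_false (fun h => hr ?_) fun h => hr (h.elim (fun h' => ?_) fun h => h.1.1)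
    · clear hr
      revert r
      decide +kernel
    · clear hr h
      revert r
      decide +kernel

end Cfsg.Agent.S2179
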