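import Cfsg.Statements.S0208
import Mathlib.Tactic.Group

set_option autoImplicit false
open Cfsg

namespace Cfsg.Agent.S0208

/-- For `x` with `x * x = 1` and `y` with `y * y = 1`, `x` inverts every power of `x * y`. -/
theorem mul_pow_inv {G : Type*} [Group G] (x y : G) (hx : x * x = 1) (hy : y * y = 1) (m : ℕ) :
    x * ((x * y) ^ m)⁻¹ = (x * y) ^ m * x := by
  have hxi : x⁻¹ = x := inv_eq_of_mul_eq_one_right hx
  have hyi : y⁻¹ = y := inv_eq_of_mul_eq_one_right hy
  have h1 : x * (x * y)⁻¹ * x⁻¹ = x * y := by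
    rw [mul_inv_rev, hyi, hxi, mul_assoc, mul_assoc, hx, mul_one]
  have h2 : x * ((x * y)⁻¹) ^ m * x⁻¹ = (x * y) ^ m := by
    rw [← conj_pow, h1]
  have h3 : x * ((x * y)⁻¹) ^ m = (x * y) ^ m * x := by
    rw [← h2]; group
  rw [← inv_pow, h3]

/-- Conjugating `x` by `(x * y) ^ m` gives `(x * y) ^ (2 * m) * x`. -/
theorem conj_pow_eq {G : Type*} [Group G] (x y : G) (hx : x * x = 1) (hy : y * y = 1) (m : ℕ) :
    (x * y) ^ m * x * ((x * y) ^ m)⁻¹ = (x * y) ^ (2 * m) * x := by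
  rw [mul_assoc, mul_pow_inv x y hx hy, ← mul_assoc, ← pow_add, two_mul]

/-- If x, y are involutions and xy has odd order, then some element of the subgroup generated by x and y conjugates x to y. -/
theorem result {G : Type*} [Group G] [Finite G] (x y : G) (hx : orderOf x = 2) (hy : orderOf y = 2) (hodd : Odd (orderOf (x * y))) : ∃ d ∈ Subgroup.closure ({x, y} : Set G), d * x * d⁻¹ = y := by
  have hx2 : x * x = 1 := by rw [← pow_two, ← hx, pow_orderOf_eq_one]
  have hy2 : y * y = 1 := by rw [← pow_two, ← hy, pow_orderOf_eq_one]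
  obtain ⟨k, hk⟩ := hodd
  refine ⟨(x * y) ^ k, Subgroup.pow_mem _ (Subgroup.mul_mem _
    (Subgroup.subset_closure (by simp)) (Subgroup.subset_closure (by simp))) _, ?_⟩
  rw [conj_pow_eq x y hx2 hy2]
  have h1 : (x * y) ^ (2 * k) * (x * y) = 1 := by
    rw [← pow_succ, ← hk, pow_orderOf_eq_one]
  have h2 : (x * y) ^ (2 * k) * x * y = 1 := by rw [mul_assoc, h1]
  have hyi : y⁻¹ = y := inv_eq_of_mul_eq_one_right hy2
  exact (eq_inv_of_mul_eq_one_left h2).trans hyi

end Cfsg.Agent.S0208
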