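import Cfsg.Statements.S0209
import Mathlib.Tactic.Group

set_option autoImplicit false
open Cfsg

namespace Cfsg.Agent.S0209

theorem conj_pow_inv {G : Type*} [Group G] (x y : G) (hx : x * x = 1) (hy : y * y = 1) (k : ℕ) :
    x * (x * y) ^ k * x⁻¹ = ((x * y) ^ k)⁻¹ := by
  have hx' : x⁻¹ = x := inv_eq_of_mul_eq_one_right hx
  have hy' : y⁻¹ = y := inv_eq_of_mul_eq_one_right hy
  have h1 : x * (x * y) * x⁻¹ = (x * y)⁻¹ := by
    rw [← mul_assoc, hx, one_mul, mul_inv_rev, hy']
  rw [← conj_pow, h1, inv_pow]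

/-- If x, y are involutions whose product has even order n, the element (xy)^(n/2) is an involution that commutes with x and with y. -/
theorem result {G : Type*} [Group G] [Finite G] (x y : G) (hx : orderOf x = 2) (hy : orderOf y = 2) (heven : Even (orderOf (x * y))) : orderOf ((x * y) ^ (orderOf (x * y) / 2)) = 2 ∧ Commute ((x * y) ^ (orderOf (x * y) / 2)) x ∧ Commute ((x * y) ^ (orderOf (x * y) / 2)) y := by
  have hx2 : x * x = 1 := by rw [← pow_two, ← hx, pow_orderOf_eq_one]
  have hy2 : y * y = 1 := by rw [← pow_two, ← hy, pow_orderOf_eq_one]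
  obtain ⟨m, hm⟩ := heven
  have hpos : 0 < orderOf (x * y) := orderOf_pos _
  have hdiv : orderOf (x * y) / 2 = m := by omega
  have hmpos : 0 < m := by omega
  rw [hdiv]
  have hz2 : (x * y) ^ m * (x * y) ^ m = 1 := by
    rw [← pow_add, ← hm, pow_orderOf_eq_one]
  have hzinv : ((x * y) ^ m)⁻¹ = (x * y) ^ m := inv_eq_of_mul_eq_one_right hz2
  have hcx : Commute ((x * y) ^ m) x := by
    have := conj_pow_inv x y hx2 hy2 m
    rw [hzinv] at this
    have h2 : x * (x * y) ^ m = (x * y) ^ m * x := by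
      calc x * (x * y) ^ m = (x * (x * y) ^ m * x⁻¹) * x := by group
        _ = _ := by rw [this]
    exact h2.symm
  refine ⟨?_, hcx, ?_⟩
  · haveI : Fact (Nat.Prime 2) := ⟨Nat.prime_two⟩
    apply orderOf_eq_prime
    · rw [pow_two, hz2]
    · intro h
      have := Nat.le_of_dvd hmpos (orderOf_dvd_of_pow_eq_one h)
      omega
  · have h1 : Commute ((x * y) ^ m) (x * y) := Commute.pow_left (Commute.refl _) m
    have h2 : y = x⁻¹ * (x * y) := by group
    have h3 : Commute ((x * y) ^ m) (x⁻¹ * (x * y)) := Commute.mul_right hcx.inv_right h1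
    rwa [← h2] at h3

end Cfsg.Agent.S0209
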