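import Cfsg.Statements.S1158
import Cfsg.Agent.Known.ReeInst
import Cfsg.Agent.Known.ReeLocal

set_option autoImplicit false
open Cfsg

namespace Cfsg.Agent.S1158

open Cfsg.Lib.Known.Ree

/-- In the small Ree group ²G₂(q), q = 3^(2m+1) with m ≥ 1, realised as G¹ inside the Chevalley group G₂ over the field with q elements (θ the 3^m-th power map), with `r = 3^(m+1)` (so `r² = 3q`): for each `k ∈ {(q-1)/2, (q+1)/4, q - r + 1, q + r + 1}` there is a cyclic subgroup `A` of order `k` whose normaliser has order `2(q-1)`, `6(q+1)`, `6(q-r+1)`, `6(q+r+1)` respectively, and `N(A₀) = N(A)` for every non-trivial `A₀ ≤ A`. -/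
theorem result {K : Type*} [Field K] [Fintype K] {m : ℕ} (hm : 1 ≤ m) (hK : Fintype.card K = 3 ^ (2 * m + 1)) :
    ∀ kn ∈ ({((3 ^ (2 * m + 1) - 1) / 2, 2 * (3 ^ (2 * m + 1) - 1)), ((3 ^ (2 * m + 1) + 1) / 4, 6 * (3 ^ (2 * m + 1) + 1)),
        (3 ^ (2 * m + 1) - 3 ^ (m + 1) + 1, 6 * (3 ^ (2 * m + 1) - 3 ^ (m + 1) + 1)),
        (3 ^ (2 * m + 1) + 3 ^ (m + 1) + 1, 6 * (3 ^ (2 * m + 1) + 3 ^ (m + 1) + 1))} : Set (ℕ × ℕ)),
      ∃ A : Subgroup ↥(Cfsg.Lie.twistedG2 K (3 ^ m)), IsCyclic A ∧ Nat.card A = kn.1 ∧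
        Nat.card (Subgroup.normalizer (A : Set ↥(Cfsg.Lie.twistedG2 K (3 ^ m)))) = kn.2 ∧
        ∀ A₀ : Subgroup ↥(Cfsg.Lie.twistedG2 K (3 ^ m)), A₀ ≤ A → A₀ ≠ ⊥ →
          Subgroup.normalizer (A₀ : Set ↥(Cfsg.Lie.twistedG2 K (3 ^ m))) = Subgroup.normalizer (A : Set ↥(Cfsg.Lie.twistedG2 K (3 ^ m))) := by
  obtain ⟨τ, M, -⟩ := exists_model hK
  have := M.finite
  have hq := M.fin.le_card hm
  have hr := M.fin.r_le
  obtain ⟨T, T', h, h', e, e', f, f'⟩ := M.exists_pi_tori hm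
  have key : ∀ {T A : Subgroup ↥(Cfsg.Lie.twistedG2 K (3 ^ m))} {k n : ℕ}, IsTor T A → Nat.card A = k → k ≠ 1 →
      Nat.card (Subgroup.normalizer (T : Set ↥(Cfsg.Lie.twistedG2 K (3 ^ m)))) = n →
      ∃ A : Subgroup ↥(Cfsg.Lie.twistedG2 K (3 ^ m)), IsCyclic A ∧ Nat.card A = k ∧
        Nat.card (Subgroup.normalizer (A : Set ↥(Cfsg.Lie.twistedG2 K (3 ^ m)))) = n ∧
        ∀ A₀ : Subgroup ↥(Cfsg.Lie.twistedG2 K (3 ^ m)), A₀ ≤ A → A₀ ≠ ⊥ →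
          Subgroup.normalizer (A₀ : Set ↥(Cfsg.Lie.twistedG2 K (3 ^ m))) =
            Subgroup.normalizer (A : Set ↥(Cfsg.Lie.twistedG2 K (3 ^ m))) := fun {T A k n} hT h1 h2 h3 => by
    have h4 := hT.normalizer_eq le_rfl fun e => h2 (by rw [← h1, e, Subgroup.card_bot])
    exact ⟨A, hT.cyc, h1, h4 ▸ h3, fun B h5 h6 => h4 ▸ hT.normalizer_eq h5 h6⟩
  rw [← hK]
  rintro _ (rfl | rfl | rfl | rfl)
  · exact key M.isTor_H M.card_A₀ (by omega) (M.card_normalizer_H hm)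
  · exact key M.isTor_T₁ M.card_A₁ (by omega) (M.card_normalizer_T₁ hm)
  · exact key h e (by have := M.fin.three_mul_r_le hm; omega) (e ▸ f)
  · exact key h' e' (by have := Nat.zero_le (3 ^ (m + 1)); omega) (e' ▸ f')

end Cfsg.Agent.S1158
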