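import Cfsg.Statements.S0898
import Cfsg.Agent.Ngrp.SpecCls

set_option autoImplicit false
open Cfsg

namespace Cfsg.Agent.S0898

open Cfsg.Lib.Char Cfsg.Lib.Ngrp Subgroup
open scoped ComplexConjugate

theorem one_le_classInner {G : Type*} [Group G] [Fintype G] {β : G → ℂ} (hβ : IsCharacter G β)
    (h0 : β ≠ 0) : 1 ≤ (classInner β β).re := by
  obtain ⟨n, hn⟩ := hβ.exists_nat_classInner hβ
  have : n ≠ 0 := by
    rintro rfl
    exact h0 (classInner_self_eq_zero.1 (by simpa using hn))
  rw [hn, Complex.natCast_re]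
  exact_mod_cast Nat.one_le_iff_ne_zero.2 this

theorem partA {G : Type*} [Group G] [Fintype G] (H : Subgroup G) [Fintype H]
    (hab : ∀ a ∈ H, ∀ b ∈ H, a * b = b * a) (hZ : H ⊓ center G = ⊥)
    (hone : ∀ g : G, g ∉ center G → ∀ a b : G,
      centralizer ({g} : Set G) ⊓ H.map (MulAut.conj a).toMonoidHom ≠ ⊥ →
      centralizer ({g} : Set G) ⊓ H.map (MulAut.conj b).toMonoidHom ≠ ⊥ →
      H.map (MulAut.conj a).toMonoidHom = H.map (MulAut.conj b).toMonoidHom)
    {χ : G → ℂ} (hχ : IsIrrCharacter G χ) (hker : ∃ h ∈ H, χ h ≠ χ 1) :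
    (χ 1).re ^ 2 > (Nat.card H : ℝ) * (classInner (fun h : H => χ h) (fun _ => 1)).re ^ 2 := by
  classical
  let T : G → Prop := fun x => ∃ h ∈ H, h ≠ 1 ∧ h * x = x * h
  let N := normalizer (H : Set G)
  have key : ∀ x, x ∉ center G → ∀ g, T x → T (g * x * g⁻¹) → g ∈ N := by
    rintro x hx g ⟨h, hh, h1, h2⟩ ⟨k, hk, k1, k2⟩
    have h3 := hone x hx 1 g⁻¹ (fun h0 => h1 (mem_bot.1 (h0 ▸ mem_inf.2
      ⟨mem_centralizer_singleton_iff.2 h2, ⟨h, hh, by simp⟩⟩))) (fun h0 => k1 (by
        have h4 : g⁻¹ * k * g ∈ centralizer ({x} : Set G) ⊓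
            H.map (MulAut.conj g⁻¹).toMonoidHom := mem_inf.2 ⟨mem_centralizer_singleton_iff.2 (by
          calc _ = g⁻¹ * (k * (g * x * g⁻¹)) * g := by group
            _ = _ := by rw [k2]; group), ⟨k, hk, by simp⟩⟩
        rw [h0, mem_bot] at h4
        calc k = g * (g⁻¹ * k * g) * g⁻¹ := by group
          _ = 1 := by rw [h4]; group))
    refine mem_normalizer_fintype fun n hn => ?_
    obtain ⟨m, hm, h4⟩ := h3.le ⟨n, hn, rfl⟩
    have h5 : g⁻¹ * m * g = n := by simpa using h4
    rw [← h5]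
    simpa [mul_assoc] using hm
  have hTN : ∀ x, T x → x ∈ N := by
    rintro x ⟨h, hh, h1, h2⟩
    refine key h (fun hc => h1 (mem_bot.1 (hZ ▸ mem_inf.2 ⟨hh, hc⟩))) x ⟨h, hh, h1, rfl⟩ ?_
    rw [← h2, mul_inv_cancel_right]
    exact ⟨h, hh, h1, rfl⟩
  have hTc : ∀ g ∈ N, ∀ x, T x → T (g * x * g⁻¹) := by
    rintro g hg x ⟨h, hh, h1, h2⟩
    refine ⟨g * h * g⁻¹, (hg h).1 hh, by simpa using h1, ?_⟩
    calc _ = g * (h * x) * g⁻¹ := by group
      _ = _ := by rw [h2]; group
  have hTc' : ∀ g ∈ N, ∀ x, T (g * x * g⁻¹) ↔ T x := fun g hg x =>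
    ⟨fun h => by simpa [mul_assoc] using hTc _ (inv_mem hg) _ h, hTc g hg x⟩
  obtain ⟨h0, hh0, hχ0⟩ := hker
  have hTH : ∀ h ∈ H, ∀ z ∈ center G, T (h * z) := fun h hh z hz =>
    ⟨h0, hh0, fun h1 => hχ0 (by rw [h1]), by
      rw [← mul_assoc, hab _ hh0 _ hh, mul_assoc, mul_assoc, mem_center_iff.1 hz]⟩
  have := Fintype.ofFinite N
  have hNpos : (0 : ℝ) < Nat.card N := by exact_mod_cast Nat.card_pos
  -- the trivial intersection set
  let θ : N → ℂ := fun x => if T x ∧ (x : G) ∉ center G then χ x else 0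
  have hθ : IsClassFunction N θ := fun x g => by
    have h1 : (g : G) * x * (g : G)⁻¹ ∈ center G ↔ (x : G) ∈ center G :=
      ⟨fun h => by simpa [mul_assoc] using Normal.conj_mem inferInstance _ h (g : G)⁻¹,
        fun h => Normal.conj_mem inferInstance _ h _⟩
    simp only [θ, coe_mul, coe_inv, hTc' _ g.2, h1, hχ.isClassFunction.apply_conj]
  have h1 : ∑ x, ‖θ x‖ ^ 2 < Nat.card N := by
    have e1 := classInner_indFun_indFun_of_TI' N {x | T x ∧ x ∉ center G}
      (fun g hg s hs h => hg (key s hs.2 g hs.1 h.1)) (ψ := θ) hθ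
      (fun x hx => if_neg hx) (fun x hx => if_neg hx)
    have e2 : classInner (indFun N θ) χ = classInner θ θ := by
      rw [classInner_indFun_left N θ hχ.isClassFunction, classInner, classInner]
      refine congrArg _ (Finset.sum_congr rfl fun x _ => ?_)
      simp only [θ]
      split_ifs <;> simp
    have e3 : classInner (χ - indFun N θ) (χ - indFun N θ) = 1 - classInner θ θ := by
      rw [classInner_sub_left, classInner_sub_right, classInner_sub_right, e1, e2,
        ← conj_classInner (indFun N θ) χ, e2, conj_classInner, hχ.classInner_self]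
      ring
    have e4 := classInner_self_re_nonneg (χ - indFun N θ)
    have e5 : (classInner (χ - indFun N θ) (χ - indFun N θ)).re ≠ 0 := fun h => by
      have h2 := congrFun (classInner_self_eq_zero.1 (Complex.ext h (classInner_self_im _))) 1
      rw [Pi.sub_apply, indFun_one, show θ 1 = 0 from if_neg fun h => h.2 (one_mem _), mul_zero,
        sub_zero] at h2
      exact hχ.apply_one_ne_zero h2
    rw [e3, classInner_self_eq, Complex.sub_re, Complex.one_re, Complex.ofReal_re] at e4 e5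
    have e6 : (Nat.card N : ℝ)⁻¹ * ∑ x, ‖θ x‖ ^ 2 < 1 :=
      sub_pos.1 (lt_of_le_of_ne e4 e5.symm)
    rwa [inv_mul_lt_iff₀ hNpos, mul_one] at e6
  -- the decomposition of the restriction
  let π := QuotientGroup.mk' (H.subgroupOf N)
  have hπ : Function.Surjective π := QuotientGroup.mk'_surjective _
  have hk : π.ker = H.subgroupOf N := QuotientGroup.ker_mk' _
  have := Fintype.ofFinite (N ⧸ H.subgroupOf N)
  have := Fintype.ofFinite π.ker
  let α : N → ℂ := fun x => fibAvg π (fun c => χ c) (π x)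
  have hβ : IsCharacter N ((fun c : N => χ c) - α) :=
    isCharacter_sub_fibAvg hπ (hχ.isCharacter.res N)
  let e : π.ker ≃ H := ((MulEquiv.subgroupCongr hk).trans
    (subgroupOfEquivOfLe le_normalizer)).toEquiv
  have hα : ∀ x : N, α x = (Nat.card H : ℂ)⁻¹ * ∑ h : H, χ (x * h) := fun x => by
    simp only [α]
    rw [fibAvg_apply, Nat.card_congr e]
    exact congrArg _ (Fintype.sum_equiv e _ _ fun _ => rfl)
  have hα1 : α 1 = classInner (fun h : H => χ h) (fun _ => 1) := by
    rw [hα, classInner_one_right]; simp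
  have hα2 : ∀ x : N, ¬ T x → α x = χ x := fun x hx => by
    refine fibAvg_of_const π _ x fun k hk' => ?_
    have h2 : Function.Injective fun h : H => (⟨(x : G)⁻¹ * h * x * (h : G)⁻¹,
        mul_mem (by simpa using ((inv_mem x.2) (h : G)).1 h.2) (inv_mem h.2)⟩ : H) := by
      intro a b hab'
      have h3 : (x : G)⁻¹ * a * x * (a : G)⁻¹ = (x : G)⁻¹ * b * x * (b : G)⁻¹ :=
        congrArg Subtype.val hab'
      by_contra hne
      refine hx ⟨(b : G)⁻¹ * a, mul_mem (inv_mem b.2) a.2,
        fun h => hne (Subtype.ext (inv_mul_eq_one.1 h).symm), ?_⟩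
      calc _ = (b : G)⁻¹ * x * ((x : G)⁻¹ * a * x * (a : G)⁻¹) * a := by group
        _ = _ := by rw [h3]; group
    obtain ⟨h, h3⟩ := Finite.surjective_of_injective h2 ⟨k, (hk ▸ hk' : k ∈ H.subgroupOf N)⟩
    have h4 : (x : G)⁻¹ * h * x * (h : G)⁻¹ = k := congrArg Subtype.val h3
    rw [coe_mul, ← h4, show (x : G) * ((x : G)⁻¹ * h * x * (h : G)⁻¹) = h * x * (h : G)⁻¹ by group]
    exact hχ.isClassFunction _ _
  have hβ0 : (fun c : N => χ c) - α ≠ 0 := fun h => by
    have h2 := congrFun h ⟨h0, le_normalizer hh0⟩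
    have h3 := congrFun h 1
    have h4 : π ⟨h0, le_normalizer hh0⟩ = π 1 := by
      rw [map_one]; exact (QuotientGroup.eq_one_iff _).2 hh0
    simp only [Pi.sub_apply, Pi.zero_apply, sub_eq_zero, α, h4, coe_one] at h2 h3
    exact hχ0 (h2.trans h3.symm)
  have hαβ : classInner α ((fun c : N => χ c) - α) = 0 := by
    rw [classInner_comp_left hπ, show fibAvg π ((fun c : N => χ c) - α) = 0 from ?_,
      classInner_zero_right]
    funext y
    obtain ⟨c, rfl⟩ := hπ y
    have h2 : ∀ k : π.ker, α (c * k) = α c := fun k => by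
      simp only [α, map_mul, (MonoidHom.mem_ker).1 k.2, mul_one]
    rw [fibAvg_apply, Pi.zero_apply]
    simp only [Pi.sub_apply, h2, Finset.sum_sub_distrib, mul_sub]
    rw [← fibAvg_apply π (fun c : N => χ c), Finset.sum_const, Finset.card_univ,
      ← Nat.card_eq_fintype_card, nsmul_eq_mul, inv_mul_cancel_left₀ (card_ne_zero _), sub_self]
  let α' : N → ℂ := fun x => if T x then α x else 0
  let τ : N → ℂ := fun x => if T x then χ x else 0
  have h2 : ∑ x, ‖α' x‖ ^ 2 + Nat.card N ≤ ∑ x, ‖τ x‖ ^ 2 := by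
    have e1 : τ = α' + ((fun c : N => χ c) - α) := funext fun x => by
      simp only [τ, α', Pi.add_apply, Pi.sub_apply]
      split_ifs with h
      · ring
      · rw [hα2 x h]; ring
    have e2 : classInner α' ((fun c : N => χ c) - α) = 0 := by
      rw [← hαβ, classInner, classInner]
      refine congrArg _ (Finset.sum_congr rfl fun x _ => ?_)
      simp only [α', Pi.sub_apply]
      split_ifs with h
      · rfl
      · rw [hα2 x h]; simp
    have e3 : classInner τ τ = classInner α' α' +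
        classInner ((fun c : N => χ c) - α) ((fun c : N => χ c) - α) := by
      rw [e1, classInner_add_left, classInner_add_right, classInner_add_right, e2,
        classInner_eq_zero_comm.1 e2]
      ring
    have e4 := congrArg Complex.re e3
    have e5 := one_le_classInner hβ hβ0
    rw [Complex.add_re, classInner_self_eq τ, classInner_self_eq α', Complex.ofReal_re,
      Complex.ofReal_re] at e4
    have e6 : (Nat.card N : ℝ)⁻¹ * ∑ x, ‖α' x‖ ^ 2 + 1 ≤ (Nat.card N : ℝ)⁻¹ * ∑ x, ‖τ x‖ ^ 2 := by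
      linarith
    have e7 := mul_le_mul_of_nonneg_left e6 hNpos.le
    rwa [mul_add, mul_inv_cancel_left₀ hNpos.ne', mul_inv_cancel_left₀ hNpos.ne', mul_one] at e7
  have := Fintype.ofFinite (center G)
  have hZN : center G ≤ N := center_le_normalizer _
  obtain ⟨d, -, hd⟩ := hχ.exists_nat_degree_pos
  have h3 : ∑ x, ‖τ x‖ ^ 2 = ∑ x, ‖θ x‖ ^ 2 + Nat.card (center G) * (χ 1).re ^ 2 := by
    have e1 : ∀ x : N, ‖τ x‖ ^ 2 = ‖θ x‖ ^ 2 +
        if (x : G) ∈ center G then (χ 1).re ^ 2 else 0 := fun x => by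
      simp only [τ, θ]
      by_cases hx : (x : G) ∈ center G
      · rw [if_pos (by simpa using hTH 1 (one_mem _) x hx), if_neg fun h => h.2 hx, if_pos hx,
          hχ.mem_charCenter_iff.1 (hχ.center_le_charCenter hx), hd]
        simp
      · simp [hx]
    rw [Finset.sum_congr rfl fun x _ => e1 x, Finset.sum_add_distrib, ← Finset.sum_filter,
      Finset.sum_const, nsmul_eq_mul, ← Nat.card_congr (subgroupOfEquivOfLe hZN).toEquiv,
      Nat.card_eq_fintype_card, Fintype.card_subtype]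
    simp only [mem_subgroupOf]
  have h4 : Nat.card H * Nat.card (center G) * ‖α 1‖ ^ 2 ≤ ∑ x, ‖α' x‖ ^ 2 := by
    let f : H × center G → N := fun p => ⟨p.1 * p.2, mul_mem (le_normalizer p.1.2) (hZN p.2.2)⟩
    have hf : Function.Injective f := by
      rintro ⟨a, z⟩ ⟨b, w⟩ h
      have h5 : (a : G) * z = b * w := congrArg Subtype.val h
      have h6 : (b : G)⁻¹ * a = w * (z : G)⁻¹ := by
        rw [inv_mul_eq_iff_eq_mul, ← mul_assoc, ← h5, mul_inv_cancel_right]
      have h7 : (b : G)⁻¹ * a = 1 := mem_bot.1 (hZ ▸ mem_inf.2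
        ⟨mul_mem (inv_mem b.2) a.2, h6 ▸ mul_mem w.2 (inv_mem z.2)⟩)
      rw [h7] at h6
      exact Prod.ext (Subtype.ext (inv_mul_eq_one.1 h7).symm)
        (Subtype.ext (mul_inv_eq_one.1 h6.symm).symm)
    have e1 : ∀ p, ‖α' (f p)‖ ^ 2 = ‖α 1‖ ^ 2 := fun ⟨a, z⟩ => by
      obtain ⟨ω, hω⟩ := hχ.center_le_charCenter z.2
      have e2 : ‖(ω : ℂ)‖ = 1 := by
        have e3 := hχ.mem_charCenter_iff.1 (hχ.center_le_charCenter z.2)
        rw [← mul_one (z : G), hω, norm_mul] at e3
        exact mul_right_cancel₀ (norm_ne_zero_iff.2 hχ.apply_one_ne_zero) (by rw [e3, one_mul])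
      have e3 : α (f (a, z)) = ω * α 1 := by
        rw [hα, hα, mul_left_comm, Finset.mul_sum _ _ (ω : ℂ)]
        refine congrArg _ (Fintype.sum_equiv (Equiv.mulLeft a) _ _ fun h => ?_)
        rw [← hω]
        congr 1
        simp [f, mem_center_iff.1 z.2 a, mul_assoc]
      simp only [α']
      rw [if_pos (hTH _ a.2 _ z.2), e3, norm_mul, e2, one_mul]
    calc _ = ∑ p, ‖α' (f p)‖ ^ 2 := by
          simp only [e1, Finset.sum_const, Finset.card_univ, Fintype.card_prod, nsmul_eq_mul,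
            Nat.card_eq_fintype_card, Nat.cast_mul]
      _ = ∑ x ∈ Finset.univ.image f, ‖α' x‖ ^ 2 := 
          (Finset.sum_image (f := fun x => ‖α' x‖ ^ 2) fun _ _ _ _ h => hf h).symm
      _ ≤ _ := Finset.sum_le_sum_of_subset_of_nonneg (Finset.subset_univ _) fun _ _ _ => by
          positivity
  have hZpos : (0 : ℝ) < Nat.card (center G) := by exact_mod_cast Nat.card_pos
  have h5 : (α 1).re ^ 2 ≤ ‖α 1‖ ^ 2 := by
    rw [← sq_abs]
    exact pow_le_pow_left₀ (abs_nonneg _) (Complex.abs_re_le_norm _) 2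
  rw [← hα1]
  have h6 : (0 : ℝ) ≤ Nat.card H := by positivity
  refine lt_of_mul_lt_mul_left (a := (Nat.card (center G) : ℝ)) ?_ hZpos.le
  nlinarith [mul_le_mul_of_nonneg_left h5 (mul_nonneg h6 hZpos.le)]


/-- Let H be an abelian subgroup of the finite group G meeting the centre of G trivially, such that for every non-central g the centralizer of g has nontrivial intersection with at most one conjugate of H. Let χ be an irreducible character of G with χ h ≠ χ 1 for some h in H, and let c be the inner product of the restriction of χ to H with the principal character. Then χ(1)² > (order of H)·c²; and if in addition χ 1 ≠ 1 and no proper normal subgroup of G contains H, then (1 + χ 1)² > order of H (both sides read as real numbers). -/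
theorem result {G : Type*} [Group G] [Fintype G] (H : Subgroup G) [Fintype H] (hab : ∀ a ∈ H, ∀ b ∈ H, a * b = b * a) (hZ : H ⊓ Subgroup.center G = ⊥) (hone : ∀ g : G, g ∉ Subgroup.center G → ∀ a b : G, Subgroup.centralizer ({g} : Set G) ⊓ H.map (MulAut.conj a).toMonoidHom ≠ ⊥ → Subgroup.centralizer ({g} : Set G) ⊓ H.map (MulAut.conj b).toMonoidHom ≠ ⊥ → H.map (MulAut.conj a).toMonoidHom = H.map (MulAut.conj b).toMonoidHom) (χ : G → ℂ) (hχ : Cfsg.IsIrrCharacter G χ) (hker : ∃ h ∈ H, χ h ≠ χ 1) : (χ 1).re ^ 2 > (Nat.card H : ℝ) * (Cfsg.classInner (fun h : H => χ h) (fun _ => 1)).re ^ 2 ∧ (χ 1 ≠ 1 → (∀ M : Subgroup G, M.Normal → H ≤ M → M = ⊤) → (1 + (χ 1).re) ^ 2 > (Nat.card H : ℝ)) := by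
  classical
  refine ⟨partA H hab hZ hone hχ hker, fun h1 hM => ?_⟩
  obtain ⟨d, hd0, hd⟩ := hχ.exists_nat_degree_pos
  have hd1 : (1 : ℝ) < d := by
    have : d ≠ 1 := by rintro rfl; exact h1 (by simpa using hd)
    exact_mod_cast (by omega : 1 < d)
  have e1 : classInner (χ * fun g => conj (χ g)) (fun _ => 1) = 1 := by
    refine Eq.trans ?_ hχ.classInner_self
    simp [classInner]
  have hφ := (hχ.isCharacter.mul hχ.isCharacter.conj).sub_of_classInner_ne_zero isIrrCharacter_one
    (by rw [e1]; exact one_ne_zero)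
  obtain ⟨c, hc⟩ := hφ.exists_nat_coeff
  choose m hm using fun ψ : IrrCharacter G =>
    (ψ.2.isCharacter.res H).exists_nat_classInner isCharacter_one
  choose n hn0 hn using fun ψ : IrrCharacter G => ψ.2.exists_nat_degree_pos
  have key : ∀ ψ, c ψ ≠ 0 → √(Nat.card H) * m ψ < n ψ := fun ψ h => by
    have h2 := partA H hab hZ hone ψ.2 (by
      by_contra h2
      push Not at h2
      have h3 := ψ.2.charKer_eq_top_iff.1 (hM _ ψ.2.charKer_normal
        fun x hx => ψ.2.mem_charKer_iff.2 (h2 x hx))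
      have h4 := classInner_sum_smul_irr (fun ψ => (c ψ : ℂ)) ψ
      rw [← hc, h3, classInner_sub_left, e1, classInner_one_one, sub_self] at h4
      exact h (by exact_mod_cast h4.symm))
    rw [hm, hn, Complex.natCast_re, Complex.natCast_re] at h2
    refine lt_of_pow_lt_pow_left₀ 2 (by positivity) ?_
    rwa [mul_pow, Real.sq_sqrt (by positivity)]
  have e2 : (d : ℝ) ^ 2 - 1 = ∑ ψ, (c ψ : ℝ) * n ψ := by
    have h2 := congrFun hc 1
    simp only [Pi.sub_apply, Pi.mul_apply, hd, map_natCast, Finset.sum_apply, Pi.smul_apply, hn,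
      smul_eq_mul] at h2
    rw [sq]
    exact_mod_cast h2
  obtain ⟨a, ha⟩ := (hχ.isCharacter.res H).exists_nat_coeff
  have e3 : (d : ℝ) = ∑ l, (a l : ℝ) := by
    have h2 := congrFun ha 1
    simp only [coe_one, hd, Finset.sum_apply, Pi.smul_apply, smul_eq_mul,
      fun l : IrrCharacter H => l.2.apply_one_of_comm fun x y => Subtype.ext (hab _ x.2 _ y.2),
      mul_one] at h2
    exact_mod_cast h2
  have e4 : ∑ l, (a l : ℝ) * a l - 1 = ∑ ψ, (c ψ : ℝ) * m ψ := by
    have h2 := classInner_sum_int_coeff (fun l => (a l : ℤ)) (fun l => (a l : ℤ))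
    simp only [Int.cast_natCast, ← ha] at h2
    have h3 : classInner (fun h : H => ((χ * fun g => conj (χ g)) - fun _ => 1 : G → ℂ) h)
        (fun _ => 1) =
        classInner (fun h : H => χ h) (fun h : H => χ h) - 1 := by
      have h4 := card_ne_zero H
      simp only [classInner, Pi.sub_apply, Pi.mul_apply, map_one, mul_one, Finset.sum_sub_distrib,
        Finset.sum_const, Finset.card_univ, nsmul_eq_mul, mul_sub, ← Nat.card_eq_fintype_card,
        inv_mul_cancel₀ h4]
    rw [hc, h2] at h3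
    have h4 : (fun h : H => (∑ ψ : IrrCharacter G, (c ψ : ℂ) • (ψ : G → ℂ)) h) =
        ∑ ψ : IrrCharacter G, (c ψ : ℂ) • fun h : H => (ψ : G → ℂ) h := by
      funext h; simp
    rw [h4, classInner_sum_left] at h3
    simp only [classInner_smul_left, hm] at h3
    exact_mod_cast h3.symm
  have e5 : ∑ l, (a l : ℝ) ≤ ∑ l, (a l : ℝ) * a l := Finset.sum_le_sum fun l _ => by
    exact_mod_cast Nat.le_mul_self _
  have e6 : √(Nat.card H) * ∑ ψ, (c ψ : ℝ) * m ψ < ∑ ψ, (c ψ : ℝ) * n ψ := by
    rw [Finset.mul_sum]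
    have h2 : ∀ ψ, c ψ ≠ 0 → √(Nat.card H) * ((c ψ : ℝ) * m ψ) < c ψ * n ψ := fun ψ h => by
      rw [mul_left_comm]
      exact mul_lt_mul_of_pos_left (key ψ h) (by positivity)
    refine Finset.sum_lt_sum (fun ψ _ => ?_) ?_
    · by_cases h : c ψ = 0
      · simp [h]
      · exact (h2 ψ h).le
    · by_contra h
      push Not at h
      have h3 : ∀ ψ, c ψ = 0 := fun ψ => by_contra fun h4 =>
        absurd (h2 ψ h4) (not_lt.2 (h ψ (Finset.mem_univ _)))
      simp only [h3, Nat.cast_zero, zero_mul, Finset.sum_const_zero] at e2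
      nlinarith
  have e7 : √(Nat.card H) < 1 + d := by
    refine lt_of_mul_lt_mul_right (a := (d : ℝ) - 1) ?_ (by linarith)
    have := mul_le_mul_of_nonneg_left e5 (Real.sqrt_nonneg (Nat.card H))
    nlinarith
  rw [hd, Complex.natCast_re, gt_iff_lt, ← Real.sq_sqrt (Nat.cast_nonneg (Nat.card H))]
  exact pow_lt_pow_left₀ e7 (Real.sqrt_nonneg _) two_ne_zero

end Cfsg.Agent.S0898
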