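import Cfsg.Statements.S0899
import Cfsg.Agent.Char.LinSylow
import Cfsg.Agent.Char.ClassMult
import Cfsg.Agent.S0088
import Cfsg.Agent.S0898

set_option autoImplicit false
open Cfsg

namespace Cfsg.Agent.S0899

open Cfsg.Lib.Char Cfsg.Lib.Solv Subgroup

universe u

theorem of_injective {G H : Type*} [Group G] [Group H] [Finite G] {p : ℕ} (h : PCl p G)
    (f : H →* G) (hf : Function.Injective f) : PCl p H := fun x hx =>
  le_pCore (N := (pCore p G).comap f) inferInstance ((pCore_isPGroup p G).comap_of_injective f hf)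
    (h _ (hx.imp fun k hk => by rw [← map_pow, hk, map_one]))

theorem minimal {G : Type*} [Group G] [Finite G] {p : ℕ} [hp : Fact p.Prime] {χ : G → ℂ}
    (hχ : IsCharacter G χ) (hf : charKer χ = ⊥) {n : ℕ} (hn : χ 1 = n) (h : n + 1 < p)
    (hs : ∀ H : Subgroup G, H ≠ ⊤ → PCl p H) (P : Sylow p G)
    (hP : (n + 1) ^ 2 ≤ Nat.card (P : Subgroup G)) : PCl p G := by
  have := Fintype.ofFinite G
  have := Fintype.ofFinite (P : Subgroup G)
  by_contra hG
  have hab : ∀ a ∈ (P : Subgroup G), ∀ b ∈ (P : Subgroup G), a * b = b * a := fun a ha b hb => by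
    have h1 := char_commutator_eq_of_degree_lt (hχ.res P) (fun q hq h1 => by
      obtain ⟨k, hk⟩ := P.isPGroup'.exists_card_eq
      rw [(Nat.prime_dvd_prime_iff_eq hq hp.out).1 (hq.dvd_of_dvd_pow (hk ▸ h1)), coe_one, hn,
        Complex.natCast_re, Nat.cast_lt]
      omega) ⟨a, ha⟩ ⟨b, hb⟩
    exact commutatorElement_eq_one_iff_mul_comm.1 (hf.le (hχ.mem_charKer_iff.2 h1))
  have h1 : commutator G = ⊤ := by
    by_contra h1
    refine hG (pCl_of_degree_lt (IsPSolvable.extension (commutator G) (IsPSolvable.extension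
      (pCore p _) (IsPSolvable.of_isPGroup (pCore_isPGroup p _)) (IsPSolvable.of_coprime
        (hp.out.coprime_iff_not_dvd.2 (pCl_iff_not_dvd.1 (hs _ h1))).symm)) ?_) hχ hf hn h)
    let _ := Abelianization.commGroup (G := G)
    exact IsPSolvable.of_isSolvable p (Abelianization G)
  have hZ : (P : Subgroup G) ⊓ center G = ⊥ := by
    have h2 := S0088.result (P : Subgroup G) ⟨⟨fun a b => Subtype.ext (hab a a.2 b b.2)⟩⟩
      P.card_coprime_index
    rwa [h1, inf_top_eq] at h2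
  have h2 : ∀ (Q : Sylow p G) (x : G), x ∉ center G → (Q : Subgroup G) ≤ centralizer {x} →
      (Q : Subgroup G) = (pCore p (centralizer {x})).map (centralizer {x}).subtype :=
    fun Q x hx hQ => (Q.is_maximal' (isPGroup_map_pCore p _) fun y hy => ⟨⟨y, hQ hy⟩,
      (hs _ (mt centralizer_eq_top_iff_subset.1 (by simpa using hx))).le
        Q.isPGroup'.comap_subtype hy, rfl⟩).symm
  have h3 : ∀ (a : G) (x : G), x ∈ ((a • P : Sylow p G) : Subgroup G) → x ≠ 1 → x ∉ center G ∧
      ((a • P : Sylow p G) : Subgroup G) ≤ centralizer {x} := by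
    rintro a _ ⟨x, hx, rfl⟩ hx1
    refine ⟨fun hc => hx1 ?_, ?_⟩
    · have h3 : x ∈ center G := by
        simpa [mul_assoc] using Normal.conj_mem inferInstance _ hc a⁻¹
      obtain rfl : x = 1 := hZ.le ⟨hx, h3⟩
      exact map_one (MulAut.conj a)
    · rintro _ ⟨y, hy, rfl⟩
      exact mem_centralizer_singleton_iff.2 ((map_mul (MulAut.conj a) y x).symm.trans
        ((congrArg _ (hab y hy x hx)).trans (map_mul (MulAut.conj a) x y)))
  obtain ⟨x, hx, hx1⟩ := (bot_or_exists_ne_one (P : Subgroup G)).resolve_left fun h =>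
    hG ((pCl_iff_normal P).2 (h ▸ inferInstance))
  obtain ⟨ψ, hψ, h4, h5⟩ : ∃ ψ, IsIrrCharacter G ψ ∧ classInner χ ψ ≠ 0 ∧ x ∉ charKer ψ := by
    by_contra! h4
    exact hx1 (hf.le (hχ.mem_charKer_iff_forall.2 h4))
  have h6 := (S0898.result (P : Subgroup G) hab hZ (fun g hg a b ha hb => by
    obtain ⟨⟨x, hx, hxa⟩, hx1⟩ := ne_bot_iff_exists_ne_one.1 ha
    obtain ⟨⟨y, hy, hyb⟩, hy1⟩ := ne_bot_iff_exists_ne_one.1 hb
    obtain ⟨e1, e2⟩ := h3 a x hxa fun h => hx1 (Subtype.ext h)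
    obtain ⟨e3, e4⟩ := h3 b y hyb fun h => hy1 (Subtype.ext h)
    have e5 := hs (centralizer {g}) (mt centralizer_eq_top_iff_subset.1 (by simpa using hg))
    obtain ⟨Q, hQ⟩ := (isPGroup_map_pCore p (centralizer {g})).exists_le_sylow
    obtain ⟨c, rfl⟩ := MulAction.exists_smul_eq G P Q
    have e6 := (h3 c x (hQ ⟨⟨x, hx⟩, e5.le (a • P).isPGroup'.comap_subtype hxa, rfl⟩)
      fun h => hx1 (Subtype.ext h)).2
    have e7 := (h3 c y (hQ ⟨⟨y, hy⟩, e5.le (b • P).isPGroup'.comap_subtype hyb, rfl⟩)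
      fun h => hy1 (Subtype.ext h)).2
    exact ((h2 _ x e1 e2).trans (h2 _ x e1 e6).symm).trans
      ((h2 _ y e3 e7).trans (h2 _ y e3 e4).symm)) ψ hψ
    ⟨x, hx, mt hψ.mem_charKer_iff.2 h5⟩).2
    (fun h => h5 (hψ.commutator_le_charKer_iff.2 h (h1.ge (mem_top x)))) fun M hM hPM => by
      by_contra h6
      refine hG (pCl_iff_not_dvd.2 fun h7 => P.not_dvd_index (h7.trans (index_dvd_of_le fun x hx =>
        map_pCore_le_of_normal M ⟨_, (hs M h6).le P.isPGroup'.comap_subtype (x := ⟨x, hPM hx⟩) hx,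
          rfl⟩)))
  have h7 := hχ.degree_le_of_classInner_ne_zero hψ h4
  obtain ⟨d, hd⟩ := hψ.isCharacter.exists_nat_degree
  rw [hd, hn, Complex.natCast_re, Complex.natCast_re, Nat.cast_le] at h7
  rw [hd, Complex.natCast_re] at h6
  have h8 : Nat.card (P : Subgroup G) < (1 + d) ^ 2 := by exact_mod_cast h6
  exact absurd (hP.trans_lt h8) (not_lt.2 (Nat.pow_le_pow_left (by omega) 2))

theorem aux {p : ℕ} [hp : Fact p.Prime] {n : ℕ} (m : ℕ) : ∀ (G : Type u) [Group G] [Finite G],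
    Nat.card G = m → ∀ χ : G → ℂ, IsCharacter G χ → charKer χ = ⊥ → χ 1 = n →
    ((n + 1) ^ 2 ≤ p ∨ (n + 1 < p ∧ ∀ K : Subgroup G, ¬ p ^ 2 ∣ Nat.card K → PCl p K)) →
    PCl p G := by
  induction m using Nat.strong_induction_on with | _ m ih => ?_
  intro G _ _ hm χ hχ hf hn h
  have hp1 := hp.out.one_lt
  obtain ⟨P⟩ : Nonempty (Sylow p G) := inferInstance
  by_cases hP : (n + 1) ^ 2 ≤ Nat.card (P : Subgroup G)
  · refine minimal hχ hf hn (h.elim (fun h => by nlinarith) And.left) (fun H hH => ih _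
      (hm ▸ card_lt_of_ne_top hH) H rfl _ (hχ.res H)
      (by rw [hχ.charKer_res, hf, bot_subgroupOf]) hn (h.imp_right (And.imp_right fun h K hK => ?_)))
      P hP
    exact of_injective (h (K.map H.subtype) (by rwa [card_map_of_injective H.subtype_injective]))
      (K.equivMapOfInjective _ H.subtype_injective).toMonoidHom (MulEquiv.injective _)
  rw [P.card_eq_multiplicity] at hP
  rcases h with h | ⟨h, h1⟩
  · refine pCl_iff_not_dvd.2 fun h2 => hP (h.trans (Nat.le_self_pow ?_ p))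
    exact (hp.out.factorization_pos_of_dvd Nat.card_pos.ne' (h2.trans (index_dvd_card _))).ne'
  · refine of_injective (h1 ⊤ fun h2 => hP ?_) topEquiv.symm.toMonoidHom (MulEquiv.injective _)
    rw [card_top, hp.out.pow_dvd_iff_le_factorization Nat.card_pos.ne'] at h2
    exact (Nat.pow_le_pow_left h.le 2).trans (Nat.pow_le_pow_right hp.out.pos h2)

/-- Let G be a finite group with a faithful complex representation of degree n (on Fin n → ℂ) and p a prime. Suppose either that (n + 1) ^ 2 ≤ p, or that n + 1 < p and every subgroup of G whose order is not divisible by p ^ 2 has a normal Sylow p-subgroup. Then every Sylow p-subgroup of G is normal. -/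
theorem result {G : Type*} [Group G] [Finite G] (n : ℕ) (ρ : Representation ℂ G (Fin n → ℂ)) (hρ : Function.Injective ρ) (p : ℕ) [Fact p.Prime] (h : (n + 1) ^ 2 ≤ p ∨ (n + 1 < p ∧ ∀ K : Subgroup G, ¬ p ^ 2 ∣ Nat.card K → ∀ Q : Sylow p K, (Q : Subgroup K).Normal)) (P : Sylow p G) : (P : Subgroup G).Normal := by
  refine (pCl_iff_normal P).1 (aux (n := n) _ G rfl ρ.character ⟨n, ρ, rfl⟩
    ((charKer_rep_eq_bot_iff ρ).2 hρ) (by rw [ρ.char_one, Module.finrank_fin_fun])
    (h.imp_right (And.imp_right fun h K hK => ?_)))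
  obtain ⟨Q⟩ : Nonempty (Sylow p K) := inferInstance
  exact (pCl_iff_normal Q).2 (h K hK Q)

end Cfsg.Agent.S0899
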