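import Cfsg.Statements.S4200
import Cfsg.Agent.Solv.ClassNumber

set_option autoImplicit false
open Cfsg

namespace Cfsg.Agent.S4200

open Cfsg.Lib.Solv Cfsg.Lib.Solv.ClassNum Cfsg.Lib.Solv.ClassSize Subgroup

theorem card_le_aux {X : Type*} [Group X] [Finite X] (Y C : Subgroup X) :
    Nat.card C ≤ Y.index * Nat.card (C ⊓ Y : Subgroup X) := by
  rw [← relIndex_mul_card_inf Y C, inf_comm]
  refine Nat.mul_le_mul_right _ ?_
  rw [← relIndex_top_right]
  exact relIndex_le_of_le_right le_top (by simpa using index_ne_zero_of_finite)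

theorem forall_mul_aux {X : Type*} [Group X] [Finite X] (Y C : Subgroup X)
    (h : Nat.card C = Y.index * Nat.card (C ⊓ Y : Subgroup X)) (g : X) :
    ∃ c ∈ C, c⁻¹ * g ∈ Y := by
  rw [← relIndex_mul_card_inf Y C, inf_comm] at h
  have h1 : Y.relIndex C = Y.index := Nat.eq_of_mul_eq_mul_right Nat.card_pos h
  let f : C ⧸ Y.subgroupOf C → X ⧸ Y :=
    Quotient.map' (fun c => (c : X)) fun a b hab => by
      rw [QuotientGroup.leftRel_apply] at hab ⊢
      exact hab
  have hinj : Function.Injective f := by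
    intro a b
    obtain ⟨a, rfl⟩ := QuotientGroup.mk_surjective a
    obtain ⟨b, rfl⟩ := QuotientGroup.mk_surjective b
    intro hab
    have hab' : ((a : X) : X ⧸ Y) = (b : X) := hab
    exact QuotientGroup.eq.2 (QuotientGroup.eq.1 hab' : (a : X)⁻¹ * b ∈ Y)
  have hbij := hinj.bijective_of_nat_card_le h1.ge
  obtain ⟨q, hq⟩ := hbij.2 (QuotientGroup.mk g)
  induction q using QuotientGroup.induction_on with
  | H c => exact ⟨c, c.2, QuotientGroup.eq.1 hq⟩

/-- Let Y be a subgroup of the finite group X, of index m. Then the numbers of conjugacy classes satisfy k(Y) ≤ m·k(X) and k(X) ≤ m·k(Y), and the second inequality is strict unless Y is normal in X. -/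
theorem result {X : Type*} [Group X] [Finite X] (Y : Subgroup X) : Nat.card (ConjClasses Y) ≤ Y.index * Nat.card (ConjClasses X) ∧ Nat.card (ConjClasses X) ≤ Y.index * Nat.card (ConjClasses Y) ∧ (¬ Y.Normal → Nat.card (ConjClasses X) < Y.index * Nat.card (ConjClasses Y)) := by
  classical
  have := Fintype.ofFinite X
  have hX := sum_card_cent_univ X
  have hY := sum_card_cent_univ Y
  have hc : Nat.card X = Y.index * Nat.card Y := (Y.index_mul_card).symm
  have hposX : 0 < Nat.card X := Nat.card_pos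
  have hposY : 0 < Nat.card Y := Nat.card_pos
  have hm : 0 < Y.index := Nat.pos_of_ne_zero index_ne_zero_of_finite
  have hswap : ∑ x : X, Nat.card (centralizer ({x} : Set X) ⊓ Y : Subgroup X) =
      ∑ y : Y, Nat.card (centralizer ({(y : X)} : Set X)) := by
    have h1 := card_pairs_eq_sum (fun (x : X) (y : X) => y ∈ centralizer ({x} : Set X) ⊓ Y)
    have h2 := card_pairs_eq_sum (fun (y : Y) (x : X) => x ∈ centralizer ({(y : X)} : Set X))
    refine h1.symm.trans (Eq.trans ?_ h2)
    exact Nat.card_congr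
      { toFun := fun p => ⟨(⟨p.1.2, p.2.2⟩, p.1.1), mem_cent_comm.1 p.2.1⟩
        invFun := fun p => ⟨(p.1.2, p.1.1), mem_cent_comm.1 p.2, p.1.1.2⟩
        left_inv := fun _ => rfl
        right_inv := fun _ => rfl }
  have hA : Nat.card (ConjClasses X) * Nat.card X ≤
      Y.index * ∑ y : Y, Nat.card (centralizer ({(y : X)} : Set X)) := by
    rw [← hX, ← hswap, Finset.mul_sum]
    exact Finset.sum_le_sum fun x _ => card_le_aux Y _
  have hB : ∀ y : Y, Nat.card (centralizer ({(y : X)} : Set X)) ≤
      Y.index * Nat.card (centralizer ({y} : Set Y)) := fun y => by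
    rw [card_cent_subtype]; exact card_le_aux Y _
  refine ⟨?_, ?_, fun hn => ?_⟩
  · refine Nat.le_of_mul_le_mul_right ?_ hposY
    calc _ = _ := hY.symm
      _ ≤ ∑ y : Y, Nat.card (centralizer ({(y : X)} : Set X)) :=
        Finset.sum_le_sum fun y _ => by rw [card_cent_subtype]; exact card_le_of_le inf_le_left
      _ ≤ ∑ x : X, Nat.card (centralizer ({x} : Set X)) := by
        rw [← Finset.sum_subtype (Finset.univ.filter (· ∈ Y)) (by simp)
          (fun x : X => Nat.card (centralizer ({x} : Set X)))]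
        exact Finset.sum_le_sum_of_subset (Finset.filter_subset _ _)
      _ = _ := by rw [hX, hc]; ring
  · refine Nat.le_of_mul_le_mul_right (hA.trans ?_) hposX
    calc _ ≤ Y.index * ∑ y : Y, Y.index * Nat.card (centralizer ({y} : Set Y)) :=
          Nat.mul_le_mul_left _ (Finset.sum_le_sum fun y _ => hB y)
      _ = _ := by rw [← Finset.mul_sum, hY, hc]; ring
  · refine Nat.lt_of_mul_lt_mul_right (a := Nat.card X) (hA.trans_lt ?_)
    have hex : ∃ y : Y, Nat.card (centralizer ({(y : X)} : Set X)) <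
        Y.index * Nat.card (centralizer ({y} : Set Y)) := by
      by_contra hcon
      push Not at hcon
      refine hn ⟨fun y hy g => ?_⟩
      have h1 := le_antisymm (hB ⟨y, hy⟩) (hcon ⟨y, hy⟩)
      rw [card_cent_subtype] at h1
      obtain ⟨c, hcC, hcg⟩ := forall_mul_aux Y _ h1 g⁻¹
      have h2 : c⁻¹ * y * c = y := by
        have := mem_cent.1 hcC
        simp only at this
        rw [mul_assoc, ← this, inv_mul_cancel_left]
      have h3 : g * y * g⁻¹ = (c⁻¹ * g⁻¹)⁻¹ * y * (c⁻¹ * g⁻¹) := by
        calc g * y * g⁻¹ = g * (c * (c⁻¹ * y * c) * c⁻¹) * g⁻¹ := by group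
          _ = _ := by rw [h2]; group
      rw [h3]
      exact Y.mul_mem (Y.mul_mem (Y.inv_mem hcg) hy) hcg
    obtain ⟨y, hy⟩ := hex
    calc _ < Y.index * ∑ y : Y, Y.index * Nat.card (centralizer ({y} : Set Y)) :=
          Nat.mul_lt_mul_of_pos_left
            (Finset.sum_lt_sum (fun y _ => hB y) ⟨y, Finset.mem_univ _, hy⟩) hm
      _ = _ := by rw [← Finset.mul_sum, hY, hc]; ring

end Cfsg.Agent.S4200
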