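import Cfsg.Statements.S3430
import Cfsg.Agent.Class.Zsigmondy

set_option autoImplicit false
open Cfsg

namespace Cfsg.Agent.S3430

open Cfsg.Lib.Class Finset

theorem le_totient_sq (n : ℕ) : (Odd n → n ≤ n.totient ^ 2) ∧ n ≤ 2 * n.totient ^ 2 := by
  induction n using Nat.recOnPosPrimePosCoprime with
  | prime_pow p k hp hk =>
    obtain ⟨k, rfl⟩ := Nat.exists_eq_succ_of_ne_zero hk.ne'
    rw [Nat.totient_prime_pow_succ hp, mul_pow, Nat.succ_eq_add_one, pow_succ]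
    have h1 : p ^ k ≤ (p ^ k) ^ 2 := Nat.le_self_pow two_ne_zero _
    obtain ⟨s, rfl⟩ : ∃ s, p = s + 2 := ⟨p - 2, by have := hp.two_le; omega⟩
    have e : s + 2 - 1 = s + 1 := by omega
    rw [e]
    constructor
    · intro h
      have : s ≠ 0 := by
        rintro rfl
        exact absurd (Nat.Odd.of_mul_right h) (by decide)
      exact Nat.mul_le_mul h1 (by nlinarith [Nat.pos_of_ne_zero this])
    · rw [← mul_assoc, mul_comm 2, mul_assoc]
      exact Nat.mul_le_mul h1 (by nlinarith)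
  | zero => simp
  | one => simp
  | coprime a b ha hb hab iha ihb =>
    rw [Nat.totient_mul hab, mul_pow]
    constructor
    · intro h
      exact Nat.mul_le_mul (iha.1 (Nat.Odd.of_mul_left h)) (ihb.1 (Nat.Odd.of_mul_right h))
    · rcases Nat.even_or_odd a with h | h
      · have : Odd b := by
          rw [← Nat.not_even_iff_odd]
          intro h'
          have := Nat.dvd_gcd h.two_dvd h'.two_dvd
          rw [hab] at this
          omega
        rw [← mul_assoc]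
        exact Nat.mul_le_mul iha.2 (ihb.1 this)
      · rw [mul_left_comm]
        exact Nat.mul_le_mul (iha.1 h) ihb.2

theorem nine_mul_le {r : ℕ} (h : 3 ≤ r) : 9 * 2 ^ (r - 1) ≤ (2 ^ r - 1) ^ 2 := by
  obtain ⟨s, rfl⟩ : ∃ s, r = s + 3 := ⟨r - 3, by omega⟩
  have e : s + 3 - 1 = s + 2 := by omega
  have h1 : 1 ≤ 2 ^ s := Nat.one_le_two_pow
  rw [e, pow_add, pow_add]
  obtain ⟨t, ht⟩ : ∃ t, 2 ^ s = t + 1 := ⟨2 ^ s - 1, by omega⟩
  rw [ht]
  have : (t + 1) * 2 ^ 3 - 1 = 8 * t + 7 := by omega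
  rw [this]
  nlinarith

theorem two_pow_le_of_sq_dvd {r m : ℕ} (hr : r.Prime) (hm : 0 < m) (h : r ∣ m) :
    2 ^ (m * r).totient ≤ cyc (m * r) 2 ^ 2 := by
  rw [cyc_mul_prime_of_dvd hr h, mul_comm m r, Nat.totient_mul_of_prime_of_dvd hr h, pow_mul]
  have h2 : 2 ^ 2 ≤ 2 ^ r := Nat.pow_le_pow_right (by omega) hr.two_le
  have h1 := sub_one_pow_totient_le_cyc (a := 2 ^ r) hm (by omega)
  refine le_trans ?_ (Nat.pow_le_pow_left h1 2)
  rw [← pow_mul (2 ^ r - 1), mul_comm m.totient, pow_mul]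
  refine Nat.pow_le_pow_left ?_ _
  obtain ⟨t, ht⟩ : ∃ t, 2 ^ r = t + 4 := ⟨2 ^ r - 4, by omega⟩
  rw [ht]
  have : t + 4 - 1 = t + 3 := by omega
  rw [this]
  nlinarith

theorem two_pow_le_cyc_sq {n q : ℕ} (hn : 2 < n) (he : Even n) (hq : 2 ≤ q) :
    2 ^ n.totient ≤ cyc n q ^ 2 := by
  rcases eq_or_lt_of_le hq with rfl | hq3
  swap
  · have h1 := sub_one_pow_totient_lt_cyc (n := n) (a := q) (by omega) (by omega)
    have h2 : 2 ^ n.totient ≤ (q - 1) ^ n.totient := Nat.pow_le_pow_left (by omega) _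
    exact (h2.trans h1.le).trans (Nat.le_self_pow two_ne_zero _)
  obtain ⟨m, hm⟩ := he
  rcases Nat.even_or_odd m with h | h
  · rw [hm, ← mul_two]
    exact two_pow_le_of_sq_dvd Nat.prime_two (by omega) h.two_dvd
  obtain ⟨r, hr, hrm⟩ := Nat.exists_prime_and_dvd (n := m) (by omega)
  have hr3 : 3 ≤ r := by
    have := hr.two_le
    have : r ≠ 2 := by
      rintro rfl
      exact absurd (even_iff_two_dvd.2 hrm) (Nat.not_even_iff_odd.2 h)
    omega
  obtain ⟨k, hk⟩ : r ∣ n := by rw [hm]; exact Nat.dvd_add hrm hrm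
  rw [mul_comm] at hk
  have hk0 : 0 < k := Nat.pos_of_mul_pos_right (by rw [← hk]; omega)
  rw [hk]
  by_cases hrk : r ∣ k
  · exact two_pow_le_of_sq_dvd hr hk0 hrk
  have h3 := cyc_mul_prime_of_not_dvd hr hrk 2
  have h2 : 2 ^ 2 ≤ 2 ^ r := Nat.pow_le_pow_right (by omega) hr.two_le
  have h4 := sub_one_pow_totient_le_cyc (a := 2 ^ r) hk0 (by omega)
  have h5 := cyc_le_add_one_pow_totient k (a := 2) (by omega)
  rw [mul_comm k r, Nat.totient_mul_of_prime_of_not_dvd hr hrk, pow_mul, mul_comm r k]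
  have h6 : (9 * 2 ^ (r - 1)) ^ k.totient ≤ ((2 ^ r - 1) ^ k.totient) ^ 2 := by
    rw [← pow_mul, mul_comm k.totient, pow_mul]
    exact Nat.pow_le_pow_left (nine_mul_le hr3) _
  have h7 : ((2 ^ r - 1) ^ k.totient) ^ 2 ≤ (cyc (k * r) 2 * 3 ^ k.totient) ^ 2 :=
    Nat.pow_le_pow_left (h4.trans (h3 ▸ Nat.mul_le_mul_left _ h5)) 2
  have h8 : (3 ^ k.totient) ^ 2 = 9 ^ k.totient := by
    rw [← pow_mul, mul_comm, pow_mul]
    rfl
  have h9 := h6.trans h7
  rw [mul_pow, mul_pow, h8, mul_comm] at h9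
  exact Nat.le_of_mul_le_mul_right h9 (by positivity)

theorem poly_lt_two_pow {t : ℕ} (h : 34 ≤ t) : ((t + 1) * (2 * t ^ 2 + 1)) ^ 2 < 2 ^ t := by
  induction t, h using Nat.le_induction with
  | base => decide
  | succ n hn ih =>
    have h1 : 10 * ((n + 1 + 1) * (2 * (n + 1) ^ 2 + 1)) ≤ 14 * ((n + 1) * (2 * n ^ 2 + 1)) := by
      obtain ⟨s, rfl⟩ : ∃ s, n = s + 34 := ⟨n - 34, by omega⟩
      nlinarith [Nat.zero_le (s ^ 3), Nat.zero_le (s ^ 2)]
    have h2 := Nat.pow_le_pow_left h1 2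
    rw [mul_pow 10, mul_pow 14] at h2
    rw [pow_succ 2 n]
    omega

/-- The number of `k < m` with `2 k + 1` coprime to `n`. -/
def cnt (n m : ℕ) : ℕ :=
  Nat.rec 0 (fun k c => Bool.rec c (Nat.succ c) (Nat.beq (Nat.gcd n (2 * k + 1)) 1)) m

theorem cnt_eq (n m : ℕ) : cnt n m = ((range m).filter fun k => n.Coprime (2 * k + 1)).card := by
  induction m with
  | zero => rfl
  | succ m ih =>
    change (Bool.rec (cnt n m) (Nat.succ (cnt n m)) (Nat.beq (Nat.gcd n (2 * m + 1)) 1) : ℕ) = _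
    rw [range_add_one, filter_insert, ih]
    by_cases h : n.Coprime (2 * m + 1)
    · rw [if_pos h, card_insert_of_notMem (by simp),
        show Nat.beq (Nat.gcd n (2 * m + 1)) 1 = true from Nat.beq_eq.symm ▸ h]
    · rw [if_neg h]
      have : Nat.beq (Nat.gcd n (2 * m + 1)) 1 = false := by
        rw [← Bool.not_eq_true, Nat.beq_eq]; exact h
      rw [this]

theorem cnt_le_totient {n m : ℕ} (h : 2 * m ≤ n) : cnt n m ≤ n.totient := by
  rw [cnt_eq, Nat.totient]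
  refine card_le_card_of_injOn (fun k => 2 * k + 1) (fun k hk => ?_) fun a _ b _ e => by
    dsimp only at e; omega
  simp only [coe_filter, mem_range, Set.mem_ofPred_eq] at hk ⊢
  exact ⟨by omega, hk.2⟩

theorem cnt_big : ∀ j < 1000, Nat.ble 34 (cnt (2 * j + 200) 100) = true := by
  decide +kernel

theorem totient_four (n : ℕ) (h : 6 < n) : 4 ≤ n.totient := by
  by_contra h1
  have h2 := (le_totient_sq n).2
  have h3 : n < 19 := by nlinarith
  have : ∀ n < 19, 6 < n → 4 ≤ n.totient := by decide +kernel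
  exact h1 (this n h3 h)

/-- A computable version of `cyc`. -/
def cycF (q : ℕ) (k : ℕ) : ℕ → ℕ :=
  Nat.rec (fun _ => 1) (fun _ f n => (q ^ n - 1) / ∏ d ∈ n.properDivisors, f d) k

theorem cycF_eq {q : ℕ} (hq : 1 < q) (k : ℕ) : ∀ n, 0 < n → n < 2 ^ k → cycF q k n = cyc n q := by
  induction k with
  | zero => intro n h1 h2; omega
  | succ k ih =>
    intro n h1 h2
    change (q ^ n - 1) / ∏ d ∈ n.properDivisors, cycF q k d = _
    rw [Finset.prod_congr rfl fun d hd => ih d (Nat.pos_of_mem_properDivisors hd) (by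
      obtain ⟨⟨c, rfl⟩, h4⟩ := Nat.mem_properDivisors.1 hd
      have : 2 ≤ c := by
        by_contra hc
        have : c = 0 ∨ c = 1 := by omega
        rcases this with rfl | rfl <;> omega
      rw [pow_succ] at h2
      nlinarith)]
    rw [← prod_cyc h1 hq.le, ← Nat.cons_self_properDivisors h1.ne', Finset.prod_cons,
      Nat.mul_div_cancel]
    exact Finset.prod_pos fun d _ => cyc_pos d hq

/-- The finite check. -/
def P (n q : ℕ) : Prop := 2 < n → (n + 1).Prime → 2 ≤ q → cycF q 8 n ∣ n * (n + 1) →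
    (q = 2 ∧ (n = 4 ∨ n = 6 ∨ n = 10 ∨ n = 12 ∨ n = 18)) ∨ (q = 3 ∧ (n = 4 ∨ n = 6)) ∨
      (q = 5 ∧ n = 6)

instance decP (n q : ℕ) : Decidable (P n q) := by unfold P; infer_instance

theorem check : ∀ n < 200, ∀ q < 16, P n q := by
  decide +kernel

/-- Let q, n ≥ 2 be integers. Unless (n = 2 and q + 1 = 2^s·3^t for some s ≥ 0 and t ≤ 1), or (q = 2 and n ∈ {4, 6, 10, 12, 18}), or (q = 3 and n ∈ {4, 6}), or (q, n) = (5, 6), there is a prime p dividing q^n − 1 but no q^i − 1 with 1 ≤ i < n (a primitive prime divisor), such that p > n + 1 or p² divides q^n − 1. -/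
theorem result (q n : ℕ) (hq : 2 ≤ q) (hn : 2 ≤ n)
    (h1 : ¬ (n = 2 ∧ ∃ s t : ℕ, t ≤ 1 ∧ q + 1 = 2 ^ s * 3 ^ t))
    (h2 : ¬ (q = 2 ∧ (n = 4 ∨ n = 6 ∨ n = 10 ∨ n = 12 ∨ n = 18)))
    (h3 : ¬ (q = 3 ∧ (n = 4 ∨ n = 6))) (h4 : ¬ (q = 5 ∧ n = 6)) :
    ∃ p : ℕ, p.Prime ∧ p ∣ q ^ n - 1 ∧ (∀ i : ℕ, 1 ≤ i → i < n → ¬ p ∣ q ^ i - 1) ∧ (n + 1 < p ∨ p ^ 2 ∣ q ^ n - 1) := by
  by_contra hc0
  have hc : ∀ p : ℕ, p.Prime → p ∣ q ^ n - 1 → (∀ i : ℕ, 1 ≤ i → i < n → ¬ p ∣ q ^ i - 1) →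
      p ≤ n + 1 ∧ ¬ p ^ 2 ∣ q ^ n - 1 := fun p a b c =>
    ⟨not_lt.1 fun d => hc0 ⟨p, a, b, c, Or.inl d⟩, fun d => hc0 ⟨p, a, b, c, Or.inr d⟩⟩
  clear hc0
  have hc' : ∀ p : ℕ, p.Prime → orderOf (q : ZMod p) = n → p = n + 1 ∧ ¬ p ^ 2 ∣ q ^ n - 1 := by
    intro p hp h
    obtain ⟨h5, h6⟩ := (orderOf_eq_iff_primitive (by omega) (by omega)).1 h
    obtain ⟨h7, h8⟩ := hc p hp h5 h6
    have h9 := orderOf_dvd_prime_sub_one hp (a := q) (by omega)
    rw [h] at h9
    have := Nat.le_of_dvd (by have := hp.two_le; omega) h9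
    have := hp.two_le
    exact ⟨by omega, h8⟩
  have key : ∀ r : ℕ, r.Prime → r ∣ cyc n q → (r = n + 1 ∧ ¬ r ^ 2 ∣ q ^ n - 1) ∨ (r ∣ n ∧
      ∃ k m, n = r ^ k * m ∧ m ∣ r - 1) := fun r hr h => by
    rcases prime_dvd_cyc hr (by omega) (by omega) h with e | ⟨k, m, hk, e, -, hm⟩
    · exact Or.inl (hc' r hr e)
    · exact Or.inr ⟨by rw [e]; exact (dvd_pow_self r hk.ne').mul_right _, k, m, e, hm⟩
  have hdvd := cyc_dvd_pow_sub_one n (a := q) (by omega)
  rcases eq_or_lt_of_le hn with rfl | hn2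
  · rw [cyc_two] at key hdvd
    obtain ⟨s, m, hm, e⟩ := Nat.exists_eq_pow_mul_and_not_dvd (n := q + 1) (by omega) 2 (by omega)
    have hm' : m ∣ q + 1 := by rw [e]; exact Dvd.intro_left _ rfl
    have h5 : ∀ r : ℕ, r.Prime → r ∣ m → r = 3 ∧ ¬ r ^ 2 ∣ q ^ 2 - 1 := fun r hr h => by
      rcases key r hr (h.trans hm') with h6 | ⟨h6, -⟩
      · exact h6
      · rw [(Nat.prime_dvd_prime_iff_eq hr Nat.prime_two).1 h6] at h
        exact absurd h hm
    have h6 : m ∣ 3 := dvd_of_forall_prime_of_not_sq_dvd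
      (fun r hr h => (h5 r hr ((dvd_pow_self r two_ne_zero).trans h)).2 ((h.trans hm').trans hdvd))
      fun r hr h => by rw [(h5 r hr h).1]
    rcases (Nat.dvd_prime Nat.prime_three).1 h6 with rfl | rfl
    · exact h1 ⟨rfl, s, 0, by omega, by simpa using e⟩
    · exact h1 ⟨rfl, s, 1, by omega, by simpa using e⟩
  obtain ⟨p, hp, hpo⟩ := zsigmondy (a := q) (n := n) (by omega) (by omega)
    (fun h => h2 ⟨h.1, by omega⟩) (by omega)
  obtain ⟨rfl, -⟩ := hc' p hp hpo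
  have he : Even n := by
    rcases hp.eq_two_or_odd' with h | h
    · omega
    · exact Nat.not_odd_iff_even.1 (Nat.odd_add_one.1 h)
  obtain ⟨r, hr, hrn, hrmax⟩ : ∃ r : ℕ, r.Prime ∧ r ∣ n ∧ ∀ s : ℕ, s.Prime → s ∣ n → s ≤ r := by
    obtain ⟨r, hr, h⟩ := n.primeFactors.exists_max_image id
      (Nat.nonempty_primeFactors.2 (by omega))
    exact ⟨r, Nat.prime_of_mem_primeFactors hr, Nat.dvd_of_mem_primeFactors hr,
      fun s hs hs' => h s (Nat.mem_primeFactors.2 ⟨hs, hs', by omega⟩)⟩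
  have hle : cyc n q ∣ r * (n + 1) := by
    refine dvd_of_forall_prime_of_not_sq_dvd (fun s hs h => ?_) fun s hs h => ?_
    · rcases key s hs ((dvd_pow_self s two_ne_zero).trans h) with ⟨-, h5⟩ | ⟨h5, -⟩
      · exact h5 (h.trans hdvd)
      · exact not_sq_dvd_cyc hs hn2 h5 (by omega) h
    · rcases key s hs h with ⟨h5, -⟩ | ⟨h5, k, m, e, hm⟩
      · rw [h5]; exact Dvd.intro_left _ rfl
      · rw [le_antisymm (hrmax s hs h5) (prime_le_of_dvd_pow_mul hs hr hm (e ▸ hrn))]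
        exact Dvd.intro _ rfl
  have hle' : cyc n q ≤ r * (n + 1) := Nat.le_of_dvd (Nat.mul_pos hr.pos (by omega)) hle
  have h5 := two_pow_le_cyc_sq hn2 he hq
  have h6 := sub_one_le_totient_of_prime_dvd hr (by omega) hrn
  have h7 := (le_totient_sq n).2
  have h8 : n.totient < 34 := by
    by_contra h
    have h9 := poly_lt_two_pow (not_lt.1 h)
    have h10 : r * (n + 1) ≤ (n.totient + 1) * (2 * n.totient ^ 2 + 1) :=
      Nat.mul_le_mul (by omega) (by omega)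
    have := Nat.pow_le_pow_left (hle'.trans h10) 2
    omega
  have h9 : n < 200 := by
    by_contra h
    have h12 : n.totient ^ 2 ≤ 33 ^ 2 := Nat.pow_le_pow_left (by omega) 2
    obtain ⟨j, hj⟩ := he
    have h10 := Nat.le_of_ble_eq_true (cnt_big (j - 100) (by omega))
    have h11 := cnt_le_totient (n := n) (m := 100) (by omega)
    rw [show 2 * (j - 100) + 200 = n by omega] at h10
    omega
  have hrle : r ≤ n := Nat.le_of_dvd (by omega) hrn
  have h10 : q < 16 := by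
    by_contra h
    have h11 := sub_one_pow_totient_lt_cyc (n := n) (a := q) (by omega) (by omega)
    have h12 : 15 ^ n.totient ≤ (q - 1) ^ n.totient := Nat.pow_le_pow_left (by omega) _
    have h13 : r * (n + 1) ≤ n * (n + 1) := Nat.mul_le_mul_right _ hrle
    by_cases h14 : 6 < n
    · have h15 : 15 ^ 4 ≤ 15 ^ n.totient := Nat.pow_le_pow_right (by omega) (totient_four n h14)
      have h16 : n * (n + 1) ≤ 200 * 200 := Nat.mul_le_mul (by omega) (by omega)
      omega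
    · have h15 : 2 ≤ n.totient := by
        have : n = 3 ∨ n = 4 ∨ n = 5 ∨ n = 6 := by omega
        rcases this with rfl | rfl | rfl | rfl <;> decide
      have h16 : 15 ^ 2 ≤ 15 ^ n.totient := Nat.pow_le_pow_right (by omega) h15
      have h17 : n * (n + 1) ≤ 6 * 7 := Nat.mul_le_mul (by omega) (by omega)
      omega
  have h11 := check n h9 q h10 hn2 hp hq (by
    rw [cycF_eq (by omega) 8 n (by omega) (by omega)]
    exact hle.trans (Nat.mul_dvd_mul_right hrn _))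
  rcases h11 with h | h | h
  exacts [h2 h, h3 h, h4 h]

end Cfsg.Agent.S3430
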