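import Cfsg.Statements.S0810
import Cfsg.Agent.Class.PSL2MaxList

set_option autoImplicit false
open Cfsg

namespace Cfsg.Agent.S0810

open Cfsg.Lib.Class

theorem not_five_dvd_of_two_pow {r : ℕ} (hr : Odd r) :
    ¬ 5 ∣ 2 ^ r * (2 ^ r - 1) * (2 ^ r + 1) := by
  obtain ⟨k, rfl⟩ := hr
  have h : 2 ^ (2 * k + 1) % 5 = 2 ∨ 2 ^ (2 * k + 1) % 5 = 3 := by
    induction k with
    | zero => simp
    | succ k ih =>
      rw [show 2 * (k + 1) + 1 = 2 * k + 1 + 2 by ring, pow_add]
      omega
  generalize 2 ^ (2 * k + 1) = q at *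
  rw [Nat.prime_five.dvd_mul, Nat.prime_five.dvd_mul]
  omega

theorem isSolvable_pgl_three {K : Type*} [Field K] [Finite K] (h : Nat.card K = 3) :
    Group.IsSolvable (Matrix.ProjGenLinGroup (Fin 2) K) := by
  obtain ⟨S, e⟩ := exists_S4 (F := K) (two_ne_zero_iff_odd.2 (by rw [h]; decide))
  have h1 : S = ⊤ := S.eq_top_of_card_eq (by rw [card_of_equiv_S4 e, card_PGL2, h])
  subst h1
  exact isSolvable_of_equiv (e.map fun e => Subgroup.topEquiv.symm.trans e) isSolvable_S4

/-- PSL_2(q) is minimal simple iff q is 2^r (r prime), 3^r (r an odd prime), a prime greater than 5 congruent to 2 or 3 mod 5, or 5. -/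
theorem result {F : Type*} [Field F] [Fintype F] {q : ℕ} (hF : Fintype.card F = q) : Cfsg.IsMinimalSimple (Matrix.ProjectiveSpecialLinearGroup (Fin 2) F) ↔ ((∃ r : ℕ, r.Prime ∧ q = 2 ^ r) ∨ (∃ r : ℕ, r.Prime ∧ r ≠ 2 ∧ q = 3 ^ r) ∨ (q.Prime ∧ 5 < q ∧ (q % 5 = 2 ∨ q % 5 = 3)) ∨ q = 5) := by
  have hq : Nat.card F = q := by rw [Nat.card_eq_fintype_card, hF]
  rw [← hq]
  obtain ⟨p, hp, _⟩ := exists_char F
  obtain ⟨n, hn, hqn⟩ := card_eq_char_pow (F := F) p
  have hb : Nat.card (⊥ : Subfield F) = p := Subfield.card_bot F p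
  constructor
  · rintro ⟨hs, hna, hsol⟩
    have hsol' : ∀ M ≤ psl2 F, ¬ psl2 F ≤ M → Group.IsSolvable M := by
      intro M h1 h2
      obtain ⟨H, rfl⟩ := exists_subgroup_psl_of_le h1
      exact isSolvable_of_equiv ⟨(mapPslιEquiv H).symm⟩
        (hsol H fun h => h2 (map_pslι_eq_iff.2 h).ge)
    have hns : ¬ Group.IsSolvable (Matrix.ProjectiveSpecialLinearGroup (Fin 2) F) := by
      rw [← IsSimpleGroup.comm_iff_isSolvable]; exact not_isMulCommutative_psl2
    have h2 : Nat.card F ≠ 2 := by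
      intro h
      obtain ⟨x, y, hT, _, hc⟩ := exists_torusPair_nonsplit (F := F)
      have h1 : stabPair x y = ⊤ :=
        Subgroup.eq_top_of_card_eq _ (by rw [hT.card_stabPair, hc, card_PGL2, h])
      exact hns (isSolvable_of_equiv ⟨pslEquivPsl2 F⟩
        (isSolvable_of_le (h1 ▸ le_top) (isSolvable_stabPair hT.ne)))
    have h3 : Nat.card F ≠ 3 := by
      intro h
      have := isSolvable_pgl_three h
      exact hns (Group.isSolvable_of_isSolvable_injective pslι_injective)
    have hsub : ∀ F₀ : Subfield F, F₀ ≠ ⊤ → Nat.card F₀ < 4 := by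
      intro F₀ h0
      by_contra h4
      exact not_isSolvable_psl2 (F := F₀) (by omega) (isSolvable_of_equiv ⟨pslSubEquiv F₀⟩
        (hsol' _ (pslSub_le_psl2 F₀) (map_conj_one (pslSub F₀) ▸
          IsSubfieldType.not_psl2_le (Or.inr rfl) h0)))
    have h5 : 7 ≤ Nat.card F → ¬ 5 ∣ Nat.card F * (Nat.card F - 1) * (Nat.card F + 1) := by
      intro h7 h
      obtain ⟨S, e⟩ := exists_A5 h
      exact not_isSolvable_A5 (isSolvable_of_equiv (e.map fun e => e.symm)
        (hsol' S (le_psl2_of_A5 e) (not_psl2_le_of_seven_le h7 (Or.inr (Or.inr e)))))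
    by_cases hn1 : n = 1
    · subst hn1
      rw [pow_one] at hqn
      rw [hqn] at h2 h3 h5 ⊢
      by_cases hp5 : p = 5
      · exact Or.inr (Or.inr (Or.inr hp5))
      have hodd := hp.out.eq_two_or_odd.resolve_left h2
      have h6 : 7 ≤ p := by have := hp.out.two_le; omega
      have h7 := h5 h6
      have h8 : ¬ 5 ∣ p := fun h => hp5 ((Nat.prime_dvd_prime_iff_eq Nat.prime_five hp.out).1 h).symm
      rw [Nat.prime_five.dvd_mul, Nat.prime_five.dvd_mul] at h7
      exact Or.inr (Or.inr (Or.inl ⟨hp.out, by omega, by omega⟩))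
    · have h0 : (⊥ : Subfield F) ≠ ⊤ := ne_top_of_card_eq_pow hn1 (by rw [hb, hqn])
      obtain ⟨r, hr, hqr⟩ := exists_prime_of_forall_eq h0 fun F₁ _ h6 h7 => by
        have := hsub F₁ h6
        have := hp.out.two_le
        rw [hb] at h7
        nlinarith
      have h6 := hsub ⊥ h0
      rw [hb] at h6 hqr
      have h7 := hp.out.two_le
      rcases (show p = 2 ∨ p = 3 by omega) with rfl | rfl
      · exact Or.inl ⟨r, hr, hqr⟩
      · refine Or.inr (Or.inl ⟨r, hr, ?_, hqr⟩)
        rintro rfl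
        exact h5 (by rw [hqr]; norm_num) (by rw [hqr]; norm_num)
  · intro h
    have h4 : 4 ≤ Nat.card F := by
      rcases h with ⟨r, hr, h⟩ | ⟨r, hr, _, h⟩ | h | h
      · rw [h]; exact Nat.pow_le_pow_right (n := 2) (i := 2) (by norm_num) hr.two_le
      · rw [h]
        exact le_trans (by norm_num) (Nat.pow_le_pow_right (n := 3) (i := 2) (by norm_num) hr.two_le)
      · omega
      · omega
    refine ⟨Matrix.ProjectiveSpecialLinearGroup.rank_two_simple h4,
      fun h => not_isMulCommutative_psl2 h.is_comm.comm, fun H hH => ?_⟩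
    refine isSolvable_of_equiv ⟨mapPslιEquiv H⟩ ?_
    have hM : ¬ psl2 F ≤ H.map pslι := fun h => hH (map_pslι_eq_iff.1 (le_antisymm (map_pslι_le H) h))
    have hA5 : ¬ Nonempty (H.map pslι ≃* alternatingGroup (Fin 5)) := by
      intro e
      have h5 := five_dvd_of_A5 e
      have h6 : Nat.card F ≠ 4 ∧ Nat.card F ≠ 5 := by
        have h7 := gcd_mul_card_psl2 (F := F)
        have h8 : Nat.card (psl2 F) ≠ 60 := fun h8 =>
          hM (Subgroup.eq_of_le_of_card_ge (map_pslι_le H) (by rw [card_of_equiv_A5 e, h8])).ge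
        generalize Nat.card (psl2 F) = N at h7 h8
        constructor <;> intro h9 <;> rw [h9] at h7 <;> norm_num at h7 <;> omega
      rcases h with ⟨r, hr, h⟩ | ⟨r, hr, hr2, h⟩ | h | h
      · rw [h] at h5 h6
        refine not_five_dvd_of_two_pow (hr.odd_of_ne_two ?_) h5
        rintro rfl
        exact h6.1 rfl
      · rw [h] at h5
        exact not_five_dvd_of_three_pow (hr.odd_of_ne_two hr2) h5
      · rw [Nat.prime_five.dvd_mul, Nat.prime_five.dvd_mul] at h5
        omega
      · exact h6.2 h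
    rcases dickson_of_not_le p hM with ⟨x, hx⟩ | ⟨x, y, hT, _, hxy⟩ | ⟨_, e | e | e⟩ | ⟨_, e⟩ |
      ⟨F₀, c, hF₀, h3, h'⟩
    · exact isSolvable_of_le hx (isSolvable_stabilizer p x)
    · exact isSolvable_of_le hxy (isSolvable_stabPair hT.ne)
    · exact isSolvable_of_equiv e isSolvable_A4
    · exact isSolvable_of_equiv e isSolvable_S4
    · exact absurd e hA5
    · exact absurd e hA5
    · have key : ∀ r : ℕ, r.Prime → ∀ a : ℕ, a.Prime → Nat.card F = a ^ r → Nat.card F₀ = a := by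
        intro r hr a ha h
        have h1 : p = a := (Nat.prime_dvd_prime_iff_eq hp.out ha).1
          (hp.out.dvd_of_dvd_pow (h ▸ hqn ▸ dvd_pow_self p hn.ne'))
        rw [subfield_eq_of_prime (F₀ := ⊥) hr (by rw [hb, h, h1]) bot_le hF₀, hb, h1]
      rcases h with ⟨r, hr, h⟩ | ⟨r, hr, hr2, h⟩ | h | h
      · have := key r hr 2 Nat.prime_two h
        omega
      · exact isSolvable_of_le h'.le (isSolvable_of_equiv
          ⟨(conjEquiv _ c).symm.trans (pglSubEquiv F₀).symm⟩
          (isSolvable_pgl_three (key r hr 3 Nat.prime_three h)))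
      · exact absurd (subfield_eq_top_of_prime h.1 F₀) hF₀
      · exact absurd (subfield_eq_top_of_prime (h ▸ Nat.prime_five) F₀) hF₀

end Cfsg.Agent.S0810
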