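import Cfsg.Statements.S3017
import Cfsg.Agent.Block.ZStar
import Cfsg.Agent.Trans.LocalTools
import Cfsg.Agent.Trans.AutomizerOrder
import Cfsg.Agent.Solv.Conj

set_option autoImplicit false
open Cfsg

namespace Cfsg.Agent.S3017

open Cfsg.Lib Cfsg.Lib.Trans Subgroup

universe u

section
variable {G : Type u} [Group G]

/-- `K` is the set of the elements of odd order of `X`. -/
structure Cmp (X K : Subgroup G) : Prop where
  le : K ≤ X
  odd : ∀ k ∈ K, Odd (orderOf k)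
  mem : ∀ x ∈ X, Odd (orderOf x) → x ∈ K

theorem Cmp.conj {X K : Subgroup G} (h : Cmp X K) {x k : G} (hx : x ∈ X) (hk : k ∈ K) :
    x * k * x⁻¹ ∈ K :=
  h.mem _ (mul_mem (mul_mem hx (h.le hk)) (inv_mem hx)) (by
    rw [orderOf_conj_eq]; exact h.odd k hk)

theorem inv_eq_of_sq {a : G} (ha : a * a = 1) : a⁻¹ = a := inv_eq_of_mul_eq_one_right ha

/-- The factorisation of a group of odd order under a four-group. -/
theorem Cmp.fact {X K : Subgroup G} (h : Cmp X K) {a b t : G} (haX : a ∈ X) (hbX : b ∈ X)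
    (ha : a * a = 1) (hb : b * b = 1) (hab : a * b = b * a) (ht : t * t = 1) (hat : a * t ∈ K) :
    ∃ x ∈ K, ∃ y ∈ K, x * b = b * x ∧ y * (a * b) = a * b * y ∧
      t = x * y * a * (x * y)⁻¹ := by
  have hc : a * b * (a * b) = 1 := by
    rw [mul_assoc, ← mul_assoc b, ← hab, mul_assoc, hb, mul_one, ha]
  have hcX := mul_mem haX hbX
  have hk : t * a ∈ K := by
    have := inv_mem hat
    rwa [mul_inv_rev, inv_eq_of_sq ha, inv_eq_of_sq ht] at this
  have hd : t * b = t * a * (a * b) := by rw [mul_assoc, ← mul_assoc a, ha, one_mul]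
  have hd2 : (t * b) ^ 2 ∈ K := by
    have := mul_mem hk (h.conj hcX hk)
    rwa [inv_eq_of_sq hc, show t * a * (a * b * (t * a) * (a * b)) =
      t * a * (a * b) * (t * a * (a * b)) by simp only [mul_assoc], ← hd, ← pow_two] at this
  obtain ⟨j, hj⟩ := h.odd _ hd2
  set z := (t * b) ^ (2 * j + 1) with hz
  have hz2 : z * z = 1 := by
    rw [hz, ← pow_two, ← pow_mul, mul_comm, pow_mul, ← hj, pow_orderOf_eq_one]
  have hcz : a * b * z ∈ K := by
    have := h.conj hcX (mul_mem (pow_mem hd2 j) hk)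
    rwa [inv_eq_of_sq hc, mul_assoc, mul_assoc _ (t * a), ← hd, ← pow_mul, ← pow_succ] at this
  have htz : t * z = z * t := by
    have : t * z * t⁻¹ = z := by
      rw [hz, ← conj_pow, show t * (t * b) * t⁻¹ = (t * b)⁻¹ by
        rw [← mul_assoc, ht, one_mul, mul_inv_rev, inv_eq_of_sq hb], inv_pow, ← hz,
        inv_eq_of_sq hz2]
    rwa [mul_inv_eq_iff_eq_mul] at this
  have hbz : b * z = z * b := by
    have : b * z * b⁻¹ = z := by
      rw [hz, ← conj_pow, show b * (t * b) * b⁻¹ = (t * b)⁻¹ by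
        rw [mul_inv_rev, inv_eq_of_sq ht, mul_assoc, mul_assoc, mul_inv_cancel, mul_one,
          inv_eq_of_sq hb], inv_pow, ← hz, inv_eq_of_sq hz2]
    rwa [mul_inv_eq_iff_eq_mul] at this
  obtain ⟨k, hk1⟩ := exists_zpow_conj_of_odd_mul hc hz2 (h.odd _ hcz)
  set x := (a * b * z) ^ k with hx
  have hxK : x ∈ K := zpow_mem hcz k
  have hxb : Commute x b :=
    (((show Commute a b from hab).mul_left (Commute.refl b)).mul_left
      (show Commute z b from hbz.symm)).zpow_left k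
  have ht' : x⁻¹ * t * x * (x⁻¹ * t * x) = 1 := by
    rw [show x⁻¹ * t * x * (x⁻¹ * t * x) = x⁻¹ * (t * t) * x by group, ht]; group
  have hat' : a * (x⁻¹ * t * x) ∈ K := by
    have := mul_mem (mul_mem (h.conj haX (inv_mem hxK)) hat) hxK
    rwa [show a * x⁻¹ * a⁻¹ * (a * t) * x = a * (x⁻¹ * t * x) by group] at this
  have htc : Commute (x⁻¹ * t * x) (a * b) := by
    change x⁻¹ * t * x * (a * b) = a * b * (x⁻¹ * t * x)
    calc x⁻¹ * t * x * (a * b) = x⁻¹ * (t * (x * (a * b) * x⁻¹)) * x := by group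
      _ = x⁻¹ * (x * (a * b) * x⁻¹ * t) * x := by rw [hk1, htz]
      _ = _ := by group
  obtain ⟨l, hl⟩ := exists_zpow_conj_of_odd_mul ha ht' (h.odd _ hat')
  refine ⟨x, hxK, _, zpow_mem hat' l, hxb.eq,
    ((((Commute.refl a).mul_right (show Commute a b from hab)).mul_left htc).zpow_left l).eq, ?_⟩
  rw [mul_inv_rev, ← mul_assoc, mul_assoc x, mul_assoc x, hl]
  group

variable [Finite G] {H : Subgroup G}

theorem sylow_of_ec {p : ℕ} [Fact p.Prime] (h2 : IsPGroup p H) (hcl : IsExtremelyClosed H)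
    (g : G) : IsSylowIn p H (H ⊔ cj g H) := by
  refine isSylowIn_of_maximal le_sup_left h2 fun Q hQ h1 h3 => ?_
  by_contra hn
  have := lt_inf_normalizer hQ (lt_of_le_not_ge h1 hn)
  exact this.not_ge ((inf_le_inf_right _ h3).trans (hcl g).le)

theorem exists_cmp (h2 : IsPGroup 2 H) (hab : ∀ a ∈ H, ∀ b ∈ H, a * b = b * a)
    (hcl : IsExtremelyClosed H) (g : G) :
    ∃ K, Cmp (H ⊔ cj g H) K ∧ H ⊔ cj g H ≤ K ⊔ H := by
  have hS := sylow_of_ec h2 hcl g
  have hc : HasNormalPComplement 2 ↥(H ⊔ cj g H) := by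
    refine hasNormalPComplement_of_normalizer_le_centralizer hS.toSylow fun n hn y hy => ?_
    have h1 : (n : G) ∈ normalizer (H : Set G) := by
      refine mem_normalizer_of_cj_le (cj_le_iff.2 fun s hs => ?_)
      exact (mem_normalizer_conj (T := H.subgroupOf (H ⊔ cj g H)) (x := ⟨s, hS.le hs⟩) hn hs :)
    exact Subtype.ext (hab _ hy _ ((hcl g).le ⟨n.2, h1⟩))
  refine ⟨(pResidual 2 ↥(H ⊔ cj g H)).map (H ⊔ cj g H).subtype, ⟨map_subtype_le _, ?_, ?_⟩, ?_⟩
  · rintro _ ⟨k, hk, rfl⟩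
    have := hasNormalPComplement_iff_forall_mem.1 hc k hk
    rw [coe_subtype, Subgroup.orderOf_coe]
    exact Nat.coprime_two_right.1 this
  · exact fun x hx ho => ⟨⟨x, hx⟩, mem_pResidual_of_coprime (by
      rw [← Subgroup.orderOf_coe]; exact Nat.coprime_two_right.2 ho), rfl⟩
  · have h1 := congrArg (map (H ⊔ cj g H).subtype) (pResidual_sup_sylow hS.toSylow)
    rw [Subgroup.map_sup, hS.map_toSylow, ← MonoidHom.range_eq_map, range_subtype] at h1
    exact h1.ge

/-- The Frattini argument inside `⟨H, H ^ g⟩`. -/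
theorem mem_of_normalizer {p : ℕ} [Fact p.Prime] (h2 : IsPGroup p H) (hcl : IsExtremelyClosed H)
    {g x : G} {Y : Subgroup G} (hY : H ≤ Y) (hx : x ∈ H ⊔ cj g H)
    (hn : x ∈ normalizer (Y : Set G)) : x ∈ Y := by
  obtain ⟨k, hk, n, hn', e⟩ := ((sylow_of_ec h2 hcl g).mono (K := Y ⊓ (H ⊔ cj g H))
    (le_inf hY le_sup_left) inf_le_right).frattini (g := x) (by
      rw [← cj_eq_self_iff, cj_inf, cj_eq_of_mem_normalizer hn, cj_eq_of_mem hx])
  have hk2 : k ∈ H ⊔ cj g H := hk.2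
  rw [e, mul_mem_cancel_left hk2] at hx
  have : n ∈ H := (hcl g).le ⟨hx, hn'⟩
  rw [e]
  exact mul_mem hk.1 (hY this)

theorem ec_map {p : ℕ} [Fact p.Prime] (h2 : IsPGroup p H) (hcl : IsExtremelyClosed H)
    {G' : Type*} [Group G'] (f : G →* G') (hf : Function.Surjective f) :
    IsExtremelyClosed (H.map f) := by
  intro g'
  obtain ⟨g, rfl⟩ := hf g'
  refine le_antisymm ?_ (le_inf le_sup_left le_normalizer)
  rw [cj_def, ← map_cj, ← Subgroup.map_sup]
  rintro _ ⟨⟨x, hx, rfl⟩, hn⟩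
  exact mem_of_normalizer h2 hcl (Y := (H.map f).comap f) (le_comap_map f H) hx (by
    rw [← cj_eq_self_iff, ← comap_cj, cj_eq_of_mem_normalizer hn])

omit [Finite G] in
theorem ec_subgroupOf (hcl : IsExtremelyClosed H) {K : Subgroup G} (hK : H ≤ K) :
    IsExtremelyClosed (H.subgroupOf K) := by
  intro g
  refine le_antisymm ?_ (le_inf le_sup_left le_normalizer)
  rintro x ⟨hx, hn⟩
  refine (hcl g).le ⟨?_, ?_⟩
  · have : H.subgroupOf K ⊔ (H.subgroupOf K).map (MulAut.conj g).toMonoidHom ≤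
        (H ⊔ cj (g : G) H).subgroupOf K := by
      rw [cj_def, ← subgroupOf_cj]
      exact sup_le (subgroupOf_mono _ le_sup_left) (subgroupOf_mono _ le_sup_right)
    exact this hx
  · rw [← subgroupOf_normalizer_eq hK] at hn
    exact hn

theorem mem_of_mem_sup {Q S : Subgroup G} (h : S ≤ normalizer (Q : Set G)) (hS : IsPGroup 2 S)
    {x : G} (hx : x ∈ S ⊔ Q) (ho : Odd (orderOf x)) : x ∈ Q := by
  have : (Q.subgroupOf (S ⊔ Q)).Normal :=
    (normal_subgroupOf_iff_le_normalizer le_sup_right).2 (sup_le h le_normalizer)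
  exact mem_of_coprime_of_sup_eq_top (N := Q.subgroupOf (S ⊔ Q)) (g := ⟨x, hx⟩)
    (isPGroup_subgroupOf hS _) (by
      rw [← subgroupOf_sup le_sup_left le_sup_right, subgroupOf_self])
    (by rw [← Subgroup.orderOf_coe]; exact Nat.coprime_two_right.2 ho)

/-- The odd core of a subgroup. -/
abbrev Oc (C : Subgroup G) : Subgroup G := (oddCore C).map C.subtype

theorem mem_Oc (h2 : IsPGroup 2 H) (hcl : IsExtremelyClosed H) {C : Subgroup G} (hC : H ≤ C)
    (ih : normalizer (H.subgroupOf C : Set C) ⊔ oddCore C = ⊤) {g y : G} (hy : y ∈ H ⊔ cj g H)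
    (hyC : y ∈ C) (ho : Odd (orderOf y)) : y ∈ Oc C := by
  have hn : C ≤ normalizer (Oc C : Set G) := Solv.le_normalizer_map_subtype _
  refine mem_of_mem_sup (hC.trans hn) h2 (mem_of_normalizer h2 hcl le_sup_left hy ?_) ho
  obtain ⟨n, hn', o, ho', e⟩ := mem_sup_of_normal_right.1 (ih.ge (mem_top (⟨y, hyC⟩ : C)))
  rw [← subgroupOf_normalizer_eq hC] at hn'
  rw [show y = n * o from (congrArg Subtype.val e).symm]
  refine mul_mem ?_ (le_normalizer (mem_sup_right ⟨o, ho', rfl⟩))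
  rw [← cj_eq_self_iff, cj_sup, cj_eq_of_mem_normalizer (mem_subgroupOf.1 hn'),
    cj_eq_of_mem_normalizer (hn n.2)]

omit [Finite G] in
theorem odd_of_comm_left {a g u : G} (hu : u * a = a * u) (h : Odd (orderOf (a * (g * a * g⁻¹)))) :
    Odd (orderOf (a * (u * g * a * (u * g)⁻¹))) := by
  rw [show a * (u * g * a * (u * g)⁻¹) = u * (a * (g * a * g⁻¹)) * u⁻¹ by
    rw [← mul_assoc u, hu]; group, orderOf_conj_eq]
  exact h

omit [Finite G] in
theorem odd_of_comm_right {a g u : G} (hu : u * a = a * u)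
    (h : Odd (orderOf (a * (g * a * g⁻¹)))) : Odd (orderOf (a * (g * u * a * (g * u)⁻¹))) := by
  rwa [show g * u * a * (g * u)⁻¹ = g * a * g⁻¹ by rw [mul_assoc g, hu]; group]

theorem odd_of_mem_Oc {C : Subgroup G} {a x : G} (ha : a ∈ C) (ha2 : a * a = 1) (hx : x ∈ Oc C) :
    Odd (orderOf (a * (x * a * x⁻¹))) := by
  have h1 : a * (x * a * x⁻¹) ∈ Oc C := by
    have := mul_mem (mem_normalizer_conj (Solv.le_normalizer_map_subtype _ ha) hx) (inv_mem hx)
    rwa [inv_eq_of_sq ha2, mul_assoc, mul_assoc, ← mul_assoc x] at this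
  exact (Nat.coprime_two_right.1 (Solv.coprime_card_map_pPrimeCore 2 C)).of_dvd_nat
    (Subgroup.orderOf_dvd_natCard _ h1)

theorem odd_mul (h2 : IsPGroup 2 H) (hab : ∀ a ∈ H, ∀ b ∈ H, a * b = b * a)
    (hcl : IsExtremelyClosed H) {b c g : G} (hb : b ∈ H) (hc : c ∈ H)
    (h1 : Odd (orderOf (b * (g * b * g⁻¹)))) (h3 : Odd (orderOf (c * (g * c * g⁻¹)))) :
    Odd (orderOf (b * c * (g * (b * c) * g⁻¹))) := by
  obtain ⟨K, hK, -⟩ := exists_cmp h2 hab hcl g
  have m : ∀ x ∈ H, x * (g * x * g⁻¹) ∈ H ⊔ cj g H := fun x hx =>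
    mul_mem (mem_sup_left hx) (mem_sup_right (conj_mem_cj.2 hx))
  refine hK.odd _ ?_
  have := mul_mem (hK.conj (mem_sup_left hb) (hK.mem _ (m c hc) h3)) (hK.mem _ (m b hb) h1)
  rwa [show b * (c * (g * c * g⁻¹)) * b⁻¹ * (b * (g * b * g⁻¹)) = b * c * (g * (c * b) * g⁻¹) by
    group, hab c hc b hb] at this

/-- The main step: products of conjugates of an involution of `H` have odd order. -/
theorem odd_all (h2 : IsPGroup 2 H) (hab : ∀ a ∈ H, ∀ b ∈ H, a * b = b * a)
    (hcl : IsExtremelyClosed H) (hgen : normalClosure (H : Set G) = ⊤)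
    (ih : ∀ b ∈ H, b ≠ 1 → normalizer (H.subgroupOf (centralizer {b}) : Set (centralizer {b})) ⊔
      oddCore (centralizer {b}) = ⊤)
    {a : G} (ha : a ∈ H) (ha2 : a * a = 1) (g : G) : Odd (orderOf (a * (g * a * g⁻¹))) := by
  have hHC : ∀ b ∈ H, H ≤ centralizer {b} := fun b hb x hx =>
    mem_centralizer_singleton_iff.2 (hab x hx b hb)
  have hsq : ∀ g : G, g * a * g⁻¹ * (g * a * g⁻¹) = 1 := fun g => by
    rw [show g * a * g⁻¹ * (g * a * g⁻¹) = g * (a * a) * g⁻¹ by group, ha2]; group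
  by_cases ha1 : a = 1
  · simp [ha1]
  by_cases hb : ∃ b ∈ H, b * b = 1 ∧ b ≠ 1 ∧ b ≠ a
  swap
  · push_neg at hb
    obtain ⟨x, hx, hle⟩ := (sylow_of_ec h2 hcl g).exists_cj_le (isPGroup_cj h2 g) le_sup_right
    obtain ⟨K, hK, hle'⟩ := exists_cmp h2 hab hcl g
    have h1 : x * g * a * (x * g)⁻¹ = a := by
      refine hb _ ?_ (hsq _) (by rwa [Ne, mul_inv_eq_one, mul_eq_left])
      have := cj_le_iff.1 hle _ (conj_mem_cj.2 ha)
      rwa [show x * (g * a * g⁻¹) * x⁻¹ = x * g * a * (x * g)⁻¹ by group] at this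
    obtain ⟨k, hk, y, hy, e⟩ := (Solv.mem_sup_of_le_normalizer (H := H) (N := K)
      fun s hs => mem_normalizer_of_cj_le (cj_le_iff.2 fun k hk =>
        hK.conj (mem_sup_left hs) hk)).1 (hle' (inv_mem hx))
    refine hK.odd _ ?_
    have h3 : g * a * g⁻¹ = k * a * k⁻¹ := by
      calc g * a * g⁻¹ = x⁻¹ * (x * g * a * (x * g)⁻¹) * x⁻¹⁻¹ := by group
        _ = k * (y * a) * y⁻¹ * k⁻¹ := by rw [h1, ← e]; group
        _ = _ := by rw [hab y hy a ha]; group
    have := mul_mem (hK.conj (mem_sup_left ha) hk) (inv_mem hk)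
    rwa [inv_eq_of_sq ha2, mul_assoc, mul_assoc, ← mul_assoc k, ← h3] at this
  obtain ⟨b, hb, hb2, hb1, hba⟩ := hb
  -- the two directions of the factorisation
  have F : ∀ b ∈ H, b * b = 1 → b ≠ 1 → a * b ≠ 1 → ∀ g : G, Odd (orderOf (a * (g * a * g⁻¹))) →
      ∃ x ∈ Oc (centralizer {b}), ∃ y ∈ Oc (centralizer {a * b}), ∃ u, u * a = a * u ∧
        g = x * y * u := by
    intro b hb hb2 hb1 hab1 g hg
    obtain ⟨K, hK, -⟩ := exists_cmp h2 hab hcl g
    obtain ⟨x, hx, y, hy, e1, e2, e3⟩ := hK.fact (mem_sup_left ha) (mem_sup_left hb) ha2 hb2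
      (hab a ha b hb) (hsq g)
      (hK.mem _ (mul_mem (mem_sup_left ha) (mem_sup_right (conj_mem_cj.2 ha))) hg)
    refine ⟨x, mem_Oc h2 hcl (hHC b hb) (ih b hb hb1) (hK.le hx)
      (mem_centralizer_singleton_iff.2 e1) (hK.odd x hx), y,
      mem_Oc h2 hcl (hHC _ (mul_mem ha hb)) (ih _ (mul_mem ha hb) hab1) (hK.le hy)
      (mem_centralizer_singleton_iff.2 e2) (hK.odd y hy), (x * y)⁻¹ * g, ?_, by group⟩
    calc (x * y)⁻¹ * g * a = (x * y)⁻¹ * (g * a * g⁻¹) * g := by group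
      _ = _ := by rw [e3]; group
  have B : ∀ b ∈ H, b * b = 1 → ∀ x ∈ Oc (centralizer {b}), ∀ y ∈ Oc (centralizer {a * b}),
      ∀ u, u * a = a * u → Odd (orderOf (a * (x * y * u * a * (x * y * u)⁻¹))) := by
    intro b hb hb2 x hx y hy u hu
    have hc := mul_mem ha hb
    have hc2 : a * b * (a * b) = 1 := by
      rw [mul_assoc, ← mul_assoc b, ← hab a ha b hb, mul_assoc, hb2, mul_one, ha2]
    have := odd_mul h2 hab hcl hc hb (g := x * y)
      (odd_of_comm_right (mem_centralizer_singleton_iff.1 (map_subtype_le _ hy))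
        (odd_of_mem_Oc (hHC b hb hc) hc2 hx))
      (odd_of_comm_left (mem_centralizer_singleton_iff.1 (map_subtype_le _ hx))
        (odd_of_mem_Oc (hHC _ hc hb) hb2 hy))
    rw [mul_assoc a b b, hb2, mul_one] at this
    exact odd_of_comm_right hu this
  have L : ∀ b ∈ H, b * b = 1 → b ≠ 1 → a * b ≠ 1 → ∀ v ∈ Oc (centralizer {b}), ∀ g : G,
      Odd (orderOf (a * (g * a * g⁻¹))) → Odd (orderOf (a * (v * g * a * (v * g)⁻¹))) := by
    intro b hb hb2 hb1 hab1 v hv g hg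
    obtain ⟨x, hx, y, hy, u, hu, rfl⟩ := F b hb hb2 hb1 hab1 g hg
    rw [← mul_assoc v, ← mul_assoc v]
    exact B b hb hb2 _ (mul_mem hv hx) y hy u hu
  have hab1 : a * b ≠ 1 := fun e => hba (by rw [← inv_eq_of_sq ha2]; exact eq_inv_of_mul_eq_one_right e)
  have hc2 : a * b * (a * b) = 1 := by
    rw [mul_assoc, ← mul_assoc b, ← hab a ha b hb, mul_assoc, hb2, mul_one, ha2]
  have hac : a * (a * b) ≠ 1 := by rwa [← mul_assoc, ha2, one_mul]
  let Λ : Subgroup G :=
    { carrier := {g | Odd (orderOf (a * (g * a * g⁻¹)))}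
      one_mem' := by simp [ha2]
      mul_mem' := fun {g k} hg hk => by
        obtain ⟨x, hx, y, hy, u, hu, rfl⟩ := F b hb hb2 hb1 hab1 g hg
        rw [Set.mem_setOf_eq, mul_assoc x, mul_assoc x, mul_assoc y]
        exact L b hb hb2 hb1 hab1 x hx _ (L _ (mul_mem ha hb) hc2 hab1 hac y hy _
          (odd_of_comm_left hu hk))
      inv_mem' := fun {g} hg => by
        rw [Set.mem_setOf_eq, show a * (g⁻¹ * a * g⁻¹⁻¹) =
          g⁻¹ * a * (a * (g * a * g⁻¹)) * (g⁻¹ * a)⁻¹ by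
            rw [← mul_assoc (g⁻¹ * a), mul_assoc g⁻¹ a a, ha2, mul_inv_rev, inv_eq_of_sq ha2]
            group, orderOf_conj_eq]
        exact hg }
  have hΛ : normalClosure (H : Set G) ≤ Λ := by
    refine (closure_le _).2 fun x hx => ?_
    obtain ⟨y, hy, hc⟩ := Group.mem_conjugatesOfSet_iff.1 hx
    obtain ⟨g, rfl⟩ := isConj_iff.1 hc
    obtain ⟨K, hK, hle⟩ := exists_cmp h2 hab hcl g
    refine (sup_le (fun k hk => ?_) fun s hs => ?_ : K ⊔ H ≤ Λ)
      (hle (mem_sup_right (conj_mem_cj.2 hy)))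
    · refine hK.odd _ ?_
      have := mul_mem (hK.conj (mem_sup_left ha) hk) (inv_mem hk)
      rwa [inv_eq_of_sq ha2, mul_assoc, mul_assoc, ← mul_assoc k] at this
    · change Odd (orderOf (a * (s * a * s⁻¹)))
      rw [hab s hs a ha, mul_assoc, mul_inv_cancel, mul_one, ha2]
      simp
  exact hΛ (hgen.ge (mem_top g))

end

theorem main (G : Type u) [Group G] [Finite G] : ∀ H : Subgroup G, IsPGroup 2 H →
    (∀ a ∈ H, ∀ b ∈ H, a * b = b * a) → IsExtremelyClosed H →
      normalizer (H : Set G) ⊔ oddCore G = ⊤ := by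
  refine Solv.card_induction (P := fun G _ _ => ∀ H : Subgroup G, IsPGroup 2 H →
    (∀ a ∈ H, ∀ b ∈ H, a * b = b * a) → IsExtremelyClosed H →
      normalizer (H : Set G) ⊔ oddCore G = ⊤) ?_ G
  intro G _ _ ih H h2 hab hcl
  have quot : ∀ (N : Subgroup G) [N.Normal], N ≠ ⊥ → oddCore (G ⧸ N) = ⊥ → (H ⊔ N).Normal := by
    intro N _ hN hO
    have := ih (G ⧸ N) (Solv.card_quotient_lt hN) (H.map (QuotientGroup.mk' N)) (h2.map _)
      (by
        rintro _ ⟨a, ha, rfl⟩ _ ⟨b, hb, rfl⟩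
        rw [← map_mul, ← map_mul, hab a ha b hb])
      (ec_map h2 hcl _ (QuotientGroup.mk'_surjective N))
    rw [hO, sup_bot_eq, normalizer_eq_top_iff] at this
    have h1 := this.comap (QuotientGroup.mk' N)
    rwa [comap_map_eq, QuotientGroup.ker_mk'] at h1
  have sub : ∀ K : Subgroup G, H ≤ K → K ≠ ⊤ →
      normalizer (H.subgroupOf K : Set K) ⊔ oddCore K = ⊤ := fun K hK hK1 =>
    ih K (Solv.card_lt_of_ne_top hK1) _ (isPGroup_subgroupOf h2 K)
      (fun a ha b hb => Subtype.ext (hab _ ha _ hb)) (ec_subgroupOf hcl hK)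
  by_cases hO : oddCore G = ⊥
  swap
  · have hn := quot _ hO (Solv.pPrimeCore_quotient_pPrimeCore 2 G)
    have hS : IsSylowIn 2 H (H ⊔ oddCore G) := by
      refine isSylowIn_of_maximal le_sup_left h2 fun Q hQ h1 h3 x hx => ?_
      obtain ⟨s, hs, k, hk, rfl⟩ := mem_sup_of_normal_right.1 (h3 hx)
      have : k ∈ oddCore G ⊓ Q := ⟨hk, (mul_mem_cancel_left (h1 hs)).1 hx⟩
      rw [inf_eq_bot_of_coprime_of_isPGroup (Solv.coprime_card_pPrimeCore 2 G) hQ, mem_bot] at this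
      rwa [this, mul_one]
    rw [eq_top_iff]
    intro g _
    obtain ⟨n, hn', k, hk, rfl⟩ := hS.frattini' (g := g) (by rw [normalizer_eq_top]; trivial)
    exact mul_mem (mem_sup_left hn') (sup_le_sup_right le_normalizer _ hk)
  rw [hO, sup_bot_eq]
  by_cases hgen : normalClosure (H : Set G) = ⊤
  swap
  · have h1 := sub _ le_normalClosure hgen
    have h3 : oddCore (normalClosure (H : Set G)) = ⊥ := by
      rw [← map_eq_bot_iff_of_injective _ (subtype_injective _), eq_bot_iff, ← hO]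
      exact Solv.map_pPrimeCore_le_of_normal _
    rw [h3, sup_bot_eq, ← subgroupOf_normalizer_eq le_normalClosure, subgroupOf_eq_top] at h1
    refine eq_top_iff.2 fun g _ => mem_normalizer_of_cj_le fun x hx => (hcl g).le
      ⟨mem_sup_right hx, h1 ?_⟩
    rw [← cj_eq_of_normal g (normalClosure (H : Set G))]
    exact cj_mono g le_normalClosure hx
  by_cases hz : ∃ b ∈ H, b ≠ 1 ∧ b ∈ center G
  · obtain ⟨b, hb, hb1, hbz⟩ := hz
    have hle : zpowers b ≤ center G := zpowers_le.2 hbz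
    have : (zpowers b).Normal := ⟨fun x hx g => by
      rwa [mem_center_iff.1 (hle hx) g, mul_inv_cancel_right]⟩
    have h1 := quot (zpowers b) (by simpa using hb1)
      (Block.Princ.pPrimeCore_quotient_central _ (h2.to_le (zpowers_le.2 hb)) hle hO)
    rwa [sup_of_le_left (zpowers_le.2 hb), ← normalizer_eq_top_iff] at h1
  by_cases hH : H = ⊥
  · rw [hH]; exact normalizer_eq_top _
  exfalso
  have : Nontrivial H := (nontrivial_iff_ne_bot H).2 hH
  obtain ⟨n, hn0, hn⟩ := h2.nontrivial_iff_card.1 this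
  obtain ⟨a, ha⟩ := exists_prime_orderOf_dvd_card' (G := H) 2 (hn ▸ dvd_pow_self 2 hn0.ne')
  rw [← Subgroup.orderOf_coe] at ha
  have ha2 : (a : G) * a = 1 := by rw [← pow_two, ← ha, pow_orderOf_eq_one]
  have ha1 : (a : G) ≠ 1 := fun e => by simp [e] at ha
  refine hz ⟨a, a.2, ha1, Block.Princ.zstar_center ⟨ha, fun g hg => ?_⟩ hO⟩
  have hodd := odd_all h2 hab hcl hgen (fun b hb hb1 => sub _
    (fun x hx => mem_centralizer_singleton_iff.2 (hab x hx b hb)) fun e => hz ⟨b, hb, hb1,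
      mem_center_iff.2 fun y => mem_centralizer_singleton_iff.1 (e ▸ mem_top y)⟩) a.2 ha2 g
  have h3 : g * a * g⁻¹ * (g * a * g⁻¹) = 1 := by
    rw [show g * a * g⁻¹ * (g * a * g⁻¹) = g * (a * a) * g⁻¹ by group, ha2]; group
  have h4 := eq_one_of_odd_of_eq_inv hodd (by
    rw [mul_inv_rev, inv_eq_of_sq h3, inv_eq_of_sq ha2]; exact hg.eq)
  exact (eq_inv_of_mul_eq_one_right h4).trans (inv_eq_of_sq ha2)

/-- Let G be a finite group and H an abelian 2-subgroup of G that is extremely closed (for every g, the subgroup generated by H and g H g⁻¹ meets N_G(H) exactly in H). Then G = N_G(H) O(G), where O(G) is the largest normal subgroup of odd order. For H of order 2 this is Glauberman's Z*-statement. -/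
theorem result {G : Type*} [Group G] [Finite G] (H : Subgroup G) (hH2 : IsPGroup 2 H) (hHab : IsMulCommutative H) (hcl : Cfsg.IsExtremelyClosed H) : Subgroup.normalizer (H : Set G) ⊔ Cfsg.oddCore G = ⊤ := by
  exact main G H hH2 (fun a ha b hb => congrArg Subtype.val (hHab.is_comm.comm ⟨a, ha⟩ ⟨b, hb⟩)) hcl

end Cfsg.Agent.S3017
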