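import Cfsg.Statements.S3016
import Cfsg.Agent.S3017
import Cfsg.Agent.Block.PPart

set_option autoImplicit false
open Cfsg

namespace Cfsg.Agent.S3016

open Cfsg.Lib Cfsg.Lib.Trans Subgroup

universe u

section
variable {G : Type u} [Group G] {p : ℕ}

/-- The hypotheses on `H`. -/
structure EC (p : ℕ) (H : Subgroup G) : Prop where
  pg : IsPGroup p H
  ab : ∀ a ∈ H, ∀ b ∈ H, a * b = b * a
  cl : IsExtremelyClosed H

/-- `H` is self-normalizing in `M`. -/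
structure Good (H M : Subgroup G) : Prop where
  le : H ≤ M
  nm : ∀ x ∈ M, x ∈ normalizer (H : Set G) → x ∈ H

/-- The union of the subgroups in which `H` is self-normalizing. -/
def Ys (H : Subgroup G) : Set G := {y | ∃ M, Good H M ∧ y ∈ M}

/-- The `p'`-elements of `Ys H`. -/
def Fs (p : ℕ) (H : Subgroup G) : Set G := {y | y ∈ Ys H ∧ ¬ p ∣ orderOf y}

/-- The `p`-singular elements of `Ys H`. -/
def Ws (p : ℕ) (H : Subgroup G) : Set G := {y | y ∈ Ys H ∧ p ∣ orderOf y}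

/-- The subgroup generated by the conjugates of `H` that contain `a`. -/
def Kk (H : Subgroup G) (a : G) : Subgroup G := ⨆ g : {g : G // a ∈ cj g H}, cj g.1 H

variable {H M : Subgroup G}

theorem Good.cj (h : Good H M) (g : G) : Good (cj g H) (cj g M) := by
  refine ⟨cj_mono g h.le, fun x hx hn => ?_⟩
  rw [← cj_normalizer, mem_cj] at hn
  rw [mem_cj] at hx ⊢
  exact h.nm _ hx hn

theorem Good.mono {L : Subgroup G} (h : Good H M) (h1 : H ≤ L) (h2 : L ≤ M) : Good H L :=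
  ⟨h1, fun x hx hn => h.nm x (h2 hx) hn⟩

theorem EC.good_sup (h : EC p H) (g : G) : Good H (H ⊔ cj g H) :=
  ⟨le_sup_left, fun _ hx hn => (h.cl g).le ⟨hx, hn⟩⟩

theorem cj_eq_cj_iff {a b : G} : cj a H = cj b H ↔ a⁻¹ * b ∈ normalizer (H : Set G) := by
  rw [← cj_eq_self_iff, cj_mul, cj_eq_iff_eq_cj_inv (g := a⁻¹), inv_inv, eq_comm]

theorem mem_Ys_cj {g y : G} (hy : y ∈ Ys H) : g * y * g⁻¹ ∈ Ys (cj g H) := by
  obtain ⟨M, hM, hy⟩ := hy
  exact ⟨_, hM.cj g, conj_mem_cj.2 hy⟩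

theorem mem_Ws_cj {g y : G} (hy : y ∈ Ws p H) : g * y * g⁻¹ ∈ Ws p (cj g H) :=
  ⟨mem_Ys_cj hy.1, by rw [orderOf_conj_eq]; exact hy.2⟩

theorem mul_mem_Ys {y x : G} (hy : y ∈ Ys H) (hx : x ∈ H) : y * x ∈ Ys H := by
  obtain ⟨M, hM, hy⟩ := hy
  exact ⟨M, hM, mul_mem hy (hM.le hx)⟩

theorem le_Kk {a g : G} (h : a ∈ cj g H) : cj g H ≤ Kk H a :=
  le_iSup (fun g : {g : G // a ∈ cj g H} => cj g.1 H) ⟨g, h⟩

variable [Finite G] [hp : Fact p.Prime]

theorem EC.cj (h : EC p H) (g : G) : EC p (cj g H) := by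
  refine ⟨isPGroup_cj h.pg g, fun a ha b hb => ?_,
    S3017.ec_map h.pg h.cl _ (MulAut.conj g).surjective⟩
  have := h.ab _ (mem_cj.1 ha) _ (mem_cj.1 hb)
  calc a * b = g * (g⁻¹ * a * g * (g⁻¹ * b * g)) * g⁻¹ := by group
    _ = _ := by rw [this]; group

omit [Finite G] in
theorem eq_one_of_mem (h : IsPGroup p H) {x : G} (hx : x ∈ H) (ho : ¬ p ∣ orderOf x) : x = 1 := by
  obtain ⟨k, hk⟩ := (IsPGroup.iff_orderOf.1 h) ⟨x, hx⟩
  rw [← Subgroup.orderOf_coe] at hk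
  rcases k with _ | k
  · exact orderOf_eq_one_iff.1 (by simpa using hk)
  · exact absurd (hk ▸ dvd_pow_self p k.succ_ne_zero) ho

theorem Good.sylow (h : Good H M) (h2 : IsPGroup p H) : IsSylowIn p H M := by
  refine isSylowIn_of_maximal h.le h2 fun Q hQ h1 h3 => ?_
  by_contra hn
  have := lt_inf_normalizer hQ (lt_of_le_not_ge h1 hn)
  exact this.not_ge fun x hx => h.nm x (h3 hx.1) hx.2

theorem Good.cmp (h : Good H M) (e : EC p H) :
    ∃ Q : Subgroup G, (∀ x, x ∈ Q ↔ x ∈ M ∧ ¬ p ∣ orderOf x) ∧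
      ∀ x ∈ M, ∃ q ∈ Q, ∃ y ∈ H, x = q * y := by
  have hS := h.sylow e.pg
  have hc : HasNormalPComplement p M := by
    refine hasNormalPComplement_of_normalizer_le_centralizer hS.toSylow fun n hn y hy => ?_
    have h1 : (n : G) ∈ normalizer (H : Set G) := by
      refine mem_normalizer_of_cj_le (cj_le_iff.2 fun s hs => ?_)
      exact (mem_normalizer_conj (T := H.subgroupOf M) (x := ⟨s, hS.le hs⟩) hn hs :)
    exact Subtype.ext (e.ab _ hy _ (h.nm _ n.2 h1))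
  refine ⟨(pResidual p M).map M.subtype, fun x => ⟨?_, ?_⟩, fun x hx => ?_⟩
  · rintro ⟨k, hk, rfl⟩
    have := hasNormalPComplement_iff_forall_mem.1 hc k hk
    refine ⟨k.2, ?_⟩
    rw [coe_subtype, Subgroup.orderOf_coe]
    exact (Nat.Prime.coprime_iff_not_dvd hp.out).1 this.symm
  · exact fun hx => ⟨⟨x, hx.1⟩, mem_pResidual_of_coprime (by
      rw [← Subgroup.orderOf_coe]
      exact ((Nat.Prime.coprime_iff_not_dvd hp.out).2 hx.2).symm), rfl⟩
  · have : (pResidual p M).Normal := inferInstance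
    obtain ⟨q, hq, y, hy, e⟩ := mem_sup_of_normal_left.1
      ((pResidual_sup_sylow hS.toSylow).ge (mem_top (⟨x, hx⟩ : M)))
    exact ⟨q, ⟨q, hq, rfl⟩, y, hy, (congrArg Subtype.val e).symm⟩

theorem Good.uniq (h : Good H M) (e : EC p H) {a b : G} (ha : a ∈ M) (hb : b ∈ M)
    (ha' : ¬ p ∣ orderOf a) (hb' : ¬ p ∣ orderOf b) (hab : Trans.cj a H = Trans.cj b H) : a = b := by
  obtain ⟨Q, hQ, -⟩ := h.cmp e
  have h1 := mul_mem (inv_mem ((hQ a).2 ⟨ha, ha'⟩)) ((hQ b).2 ⟨hb, hb'⟩)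
  exact inv_mul_eq_one.1
    (eq_one_of_mem e.pg (h.nm _ ((hQ _).1 h1).1 (cj_eq_cj_iff.1 hab)) ((hQ _).1 h1).2)

theorem EC.exists_F' (e : EC p H) (g : G) :
    ∃ q ∈ H ⊔ Trans.cj g H, ¬ p ∣ orderOf q ∧ Trans.cj q H = Trans.cj g H := by
  have hM := e.good_sup g
  have hS := hM.sylow e.pg
  obtain ⟨x, hx, hxe⟩ := (hS.of_card_ge (isPGroup_cj e.pg g) le_sup_right
    (card_cj g H).ge).exists_cj_eq hS
  obtain ⟨Q, hQ, hf⟩ := hM.cmp e
  obtain ⟨q, hq, y, hy, rfl⟩ := hf x hx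
  exact ⟨q, ((hQ q).1 hq).1, ((hQ q).1 hq).2, by rw [← hxe, cj_mul, cj_eq_of_mem hy]⟩

theorem EC.exists_F (e : EC p H) (g : G) : ∃ q ∈ Fs p H, Trans.cj q H = Trans.cj g H := by
  obtain ⟨q, h1, h2, h3⟩ := e.exists_F' g
  exact ⟨q, ⟨⟨_, e.good_sup g, h1⟩, h2⟩, h3⟩

theorem EC.uniq (e : EC p H) {a b : G} (ha : a ∈ Fs p H) (hb : b ∈ Fs p H)
    (hab : Trans.cj a H = Trans.cj b H) : a = b := by
  obtain ⟨⟨M, hM, haM⟩, ha⟩ := ha
  obtain ⟨⟨L, hL, hbL⟩, hb⟩ := hb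
  obtain ⟨q, h1, h2, h3⟩ := e.exists_F' a
  have e1 : q = a := hM.uniq e ((sup_le hM.le (cj_le_of_mem_of_le haM hM.le)) h1) haM h2 ha h3
  rw [hab] at h1 h3
  rw [← e1]
  exact hL.uniq e ((sup_le hL.le (cj_le_of_mem_of_le hbL hL.le)) h1) hbL h2 hb h3

theorem EC.mul_mem_Ws (e : EC p H) {q y : G} (hq : q ∈ Fs p H) (hy : y ∈ H) (h1 : y ≠ 1) :
    q * y ∈ Ws p H := by
  refine ⟨mul_mem_Ys hq.1 hy, ?_⟩
  obtain ⟨⟨M, hM, hqM⟩, hq⟩ := hq
  obtain ⟨Q, hQ, -⟩ := hM.cmp e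
  by_contra hn
  have h2 := mul_mem (inv_mem ((hQ q).2 ⟨hqM, hq⟩)) ((hQ _).2 ⟨mul_mem hqM (hM.le hy), hn⟩)
  rw [inv_mul_cancel_left] at h2
  exact h1 (eq_one_of_mem e.pg hy ((hQ _).1 h2).2)

theorem EC.exists_of_mem_Ws (e : EC p H) {w : G} (hw : w ∈ Ws p H) :
    ∃ q ∈ Fs p H, ∃ y ∈ H, y ≠ 1 ∧ w = q * y := by
  obtain ⟨⟨M, hM, hwM⟩, hw⟩ := hw
  obtain ⟨Q, hQ, hf⟩ := hM.cmp e
  obtain ⟨q, hq, y, hy, rfl⟩ := hf w hwM
  refine ⟨q, ⟨⟨M, hM, ((hQ q).1 hq).1⟩, ((hQ q).1 hq).2⟩, y, hy, ?_, rfl⟩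
  rintro rfl
  exact ((hQ q).1 hq).2 (by simpa using hw)

omit [Finite G] hp in
theorem conj_mem_Fs {q y : G} (hq : q ∈ Fs p H) (hy : y ∈ H) : y * q * y⁻¹ ∈ Fs p H := by
  obtain ⟨⟨M, hM, hqM⟩, hq⟩ := hq
  exact ⟨⟨M, hM, mul_mem (mul_mem (hM.le hy) hqM) (inv_mem (hM.le hy))⟩, by
    rwa [orderOf_conj_eq]⟩

theorem EC.mul_mem_Ws' (e : EC p H) {q y : G} (hq : q ∈ Fs p H) (hy : y ∈ H) (h1 : y ≠ 1) :
    y * q ∈ Ws p H := by
  have := e.mul_mem_Ws (conj_mem_Fs hq hy) hy h1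
  rwa [inv_mul_cancel_right] at this

theorem EC.exists_of_mem_Ws' (e : EC p H) {w : G} (hw : w ∈ Ws p H) :
    ∃ y ∈ H, y ≠ 1 ∧ ∃ q ∈ Fs p H, w = y * q := by
  obtain ⟨q, hq, y, hy, h1, rfl⟩ := e.exists_of_mem_Ws hw
  exact ⟨y, hy, h1, _, conj_mem_Fs hq (inv_mem hy), by group⟩

theorem EC.left_uniq (e : EC p H) {y y' q q' : G} (hy : y ∈ H) (hy' : y' ∈ H) (hq : q ∈ Fs p H)
    (hq' : q' ∈ Fs p H) (h : y * q = y' * q') : y = y' := by
  have h1 : y * q * y⁻¹ = y' * q' * y'⁻¹ := by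
    refine e.uniq (conj_mem_Fs hq hy) (conj_mem_Fs hq' hy') ?_
    rw [cj_mul _ y⁻¹, cj_mul _ y'⁻¹, cj_eq_of_mem (inv_mem hy), cj_eq_of_mem (inv_mem hy'), h]
  rw [h] at h1
  exact inv_injective (mul_left_cancel h1)

theorem EC.mem_Kk (e : EC p H) {x y a : G} (hy : y ∈ Ys (Trans.cj x H)) (ha : IsPPart p y a) :
    (∃ g, a ∈ Trans.cj g H) ∧ y ∈ Kk H a := by
  obtain ⟨M, hM, hyM⟩ := hy
  have haM : a ∈ M := Block.IsPPart_mem hp.out ha hyM
  have hS := hM.sylow (e.cj x).pg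
  have hpa : IsPGroup p (zpowers a) := by
    obtain ⟨k, hk⟩ := Block.IsPPart_orderOf ha
    exact IsPGroup.of_card (by rw [Nat.card_zpowers, hk])
  obtain ⟨m, hm, hle⟩ := hS.exists_cj_le hpa (zpowers_le.2 haM)
  have h1 : a ∈ Trans.cj (m⁻¹ * x) H := by
    rw [cj_mul, mem_cj_inv]
    exact cj_le_iff.1 hle a (mem_zpowers a)
  have hM1 : Good (Trans.cj (m⁻¹ * x) H) M := by
    have := hM.cj m⁻¹
    rwa [cj_eq_of_mem (inv_mem hm), cj_cj] at this
  refine ⟨⟨_, h1⟩, ?_⟩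
  have hc : y * a * y⁻¹ = a := by rw [← (Block.IsPPart_commute ha).eq, mul_inv_cancel_right]
  have hn : y ∈ normalizer ((Kk H a ⊓ M : Subgroup G) : Set G) := by
    rw [← cj_eq_self_iff, cj_inf, cj_eq_of_mem hyM]
    congr 1
    refine cj_eq_of_mem_normalizer (mem_normalizer_of_cj_le ?_)
    rw [Kk, cj_iSup]
    refine iSup_le fun g => ?_
    rw [cj_cj]
    refine le_Kk ?_
    have := (conj_mem_cj (g := y)).2 g.2
    rwa [hc, cj_cj] at this
  obtain ⟨k, hk, n, hn', rfl⟩ := ((hM1.sylow (e.cj _).pg).mono (K := Kk H a ⊓ M)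
    (le_inf (le_Kk h1) hM1.le) inf_le_right).frattini hn
  exact mul_mem hk.1 (le_Kk h1 (hM1.nm n ((M.mul_mem_cancel_left hk.2).1 hyM) hn'))

/-- The set of the `p`-singular elements does not depend on the conjugate of `H`. -/
theorem EC.Ws_cj (e : EC p H)
    (hK : ∀ g a, a ∈ Trans.cj g H → a ≠ 1 → Good (Trans.cj g H) (Kk H a)) (x : G) :
    Ws p (Trans.cj x H) = Ws p H := by
  suffices key : ∀ x, Ws p (Trans.cj x H) ⊆ Ws p H by
    refine (key x).antisymm fun y hy => ?_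
    have h1 := key x⁻¹ (mem_Ws_cj (g := x⁻¹) hy)
    have h2 := mem_Ws_cj (g := x) h1
    rwa [show x * (x⁻¹ * y * x⁻¹⁻¹) * x⁻¹ = y by group] at h2
  choose pp hpp using Block.exists_isPPart (G := G) hp.out
  have hb : ∀ a : G, (∃ g, a ∈ Trans.cj g H) → ∃ g, a ∈ Trans.cj g H := fun _ h => h
  choose! bs hbs using hb
  choose fq hfq hfq' using e.exists_F
  let S : Set G := {y | ∃ x, y ∈ Ws p (Trans.cj x H)}
  let φ : G → G := fun y => pp y * fq ((pp y)⁻¹ * y * bs (pp y))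
  have h1 : ∀ y ∈ S, pp y ≠ 1 ∧ (pp y)⁻¹ * y ∈ Fs p (Trans.cj (bs (pp y)) H) ∧
      pp y ∈ Trans.cj (fq ((pp y)⁻¹ * y * bs (pp y))) H := by
    rintro y ⟨x, hy⟩
    obtain ⟨h2, h3⟩ := e.mem_Kk hy.1 (hpp y)
    have h4 : pp y ≠ 1 := fun h => Block.isPPart_one_iff.1 (h ▸ hpp y) hy.2
    refine ⟨h4, ⟨⟨_, hK _ _ (hbs _ h2) h4, mul_mem (inv_mem (le_Kk (hbs _ h2) (hbs _ h2))) h3⟩,
      Block.IsPPart_not_dvd (hpp y)⟩, ?_⟩
    rw [hfq', cj_mul, mem_cj]
    have := (Block.IsPPart_commute (hpp y)).eq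
    rw [show ((pp y)⁻¹ * y)⁻¹ * pp y * ((pp y)⁻¹ * y) = y⁻¹ * (pp y * y) by group, this,
      inv_mul_cancel_left]
    exact hbs _ h2
  have h2 : ∀ y ∈ S, φ y ∈ Ws p H := fun y hy => by
    obtain ⟨h3, -, h4⟩ := h1 y hy
    have := e.mul_mem_Ws (hfq ((pp y)⁻¹ * y * bs (pp y))) (mem_cj.1 h4) (by
      intro h
      rw [mul_assoc, inv_mul_eq_one, eq_comm, mul_eq_right] at h
      exact h3 h)
    rwa [← mul_assoc, ← mul_assoc, mul_inv_cancel, one_mul] at this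
  have h3 : Set.InjOn φ S := by
    intro y hy y' hy' h
    obtain ⟨-, a2, a3⟩ := h1 y hy
    obtain ⟨-, b2, b3⟩ := h1 y' hy'
    have e1 : fq ((pp y)⁻¹ * y * bs (pp y)) = fq ((pp y')⁻¹ * y' * bs (pp y')) := by
      refine e.uniq (hfq _) (hfq _) ?_
      rw [← cj_eq_of_mem a3, ← cj_eq_of_mem b3, cj_cj, cj_cj]
      exact congrArg (fun t => Trans.cj t H) h
    have e2 : pp y = pp y' := by
      have h' : pp y * fq ((pp y)⁻¹ * y * bs (pp y)) =
        pp y' * fq ((pp y')⁻¹ * y' * bs (pp y')) := h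
      rw [e1] at h'
      exact mul_right_cancel h'
    have e3 := congrArg (fun t => Trans.cj t H) e1
    simp only [hfq'] at e3
    rw [← e2] at e3 b2
    rw [cj_mul _ (bs _), cj_mul _ (bs _)] at e3
    exact mul_left_cancel ((e.cj _).uniq a2 b2 e3)
  have h4 := (Set.Finite.injOn_iff_bijOn_of_mapsTo (Set.toFinite S)
    (fun y hy => ⟨1, by rw [cj_one]; exact h2 y hy⟩)).1 h3
  intro x y hy
  obtain ⟨y', hy', rfl⟩ := h4.surjOn ⟨x, hy⟩
  exact h2 y' hy'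

/-- `Fs p H` is a transversal of the normalizer of every conjugate of `H`. -/
theorem EC.sharp (e : EC p H) (hH : H ≠ ⊥) {z : G} (hW : Ws p (Trans.cj z H) = Ws p H)
    {a b : G} (ha : a ∈ Fs p H) (hb : b ∈ Fs p H)
    (hab : a⁻¹ * b ∈ normalizer (Trans.cj z H : Set G)) : a = b := by
  classical
  have := Fintype.ofFinite G
  set N := normalizer (Trans.cj z H : Set G) with hN
  let Hs : Finset G := Finset.univ.filter (· ∈ H)
  let β : G → ℕ := fun g => (Finset.univ.filter fun f => f ∈ Fs p H ∧ g⁻¹ * f ∈ N).card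
  have hsum : ∀ g, ∑ y ∈ Hs.erase 1, β (y⁻¹ * g) = (Hs.erase 1).card := by
    intro g
    have e1 : ∑ y ∈ Hs.erase 1, β (y⁻¹ * g) =
        (Finset.univ.filter fun w => w ∈ Ws p H ∧ g⁻¹ * w ∈ N).card := by
      simp only [β]
      rw [← Finset.card_sigma]
      refine Finset.card_bij (fun t _ => t.1 * t.2) ?_ ?_ ?_
      · rintro ⟨y, f⟩ ht
        simp only [Finset.mem_sigma, Finset.mem_erase, Finset.mem_filter, Finset.mem_univ,
          true_and, Hs] at ht ⊢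
        refine ⟨e.mul_mem_Ws' ht.2.1 ht.1.2 ht.1.1, ?_⟩
        have := ht.2.2
        rwa [mul_inv_rev, inv_inv, mul_assoc] at this
      · rintro ⟨y, f⟩ ht ⟨y', f'⟩ ht' h
        simp only [Finset.mem_sigma, Finset.mem_erase, Finset.mem_filter, Finset.mem_univ,
          true_and, Hs] at ht ht' h
        obtain rfl := e.left_uniq ht.1.2 ht'.1.2 ht.2.1 ht'.2.1 h
        obtain rfl := mul_left_cancel h
        rfl
      · intro w hw
        simp only [Finset.mem_filter, Finset.mem_univ, true_and] at hw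
        obtain ⟨y, hy, h1, q, hq, rfl⟩ := e.exists_of_mem_Ws' hw.1
        refine ⟨⟨y, q⟩, ?_, rfl⟩
        simp only [Finset.mem_sigma, Finset.mem_erase, Finset.mem_filter, Finset.mem_univ,
          true_and, Hs]
        exact ⟨⟨h1, hy⟩, hq, by rw [mul_inv_rev, inv_inv, mul_assoc]; exact hw.2⟩
    rw [e1, eq_comm]
    obtain ⟨q, hq, hqe⟩ := (e.cj z).exists_F g
    refine Finset.card_bij (fun y _ => q * (z * y * z⁻¹)) ?_ ?_ ?_
    · intro y hy
      simp only [Finset.mem_erase, Finset.mem_filter, Finset.mem_univ, true_and, Hs] at hy ⊢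
      refine ⟨hW ▸ (e.cj z).mul_mem_Ws hq (conj_mem_cj.2 hy.2) (by
        rw [Ne, mul_inv_eq_one, mul_eq_left]; exact hy.1), ?_⟩
      rw [← mul_assoc]
      exact mul_mem (cj_eq_cj_iff.1 hqe.symm) (le_normalizer (conj_mem_cj.2 hy.2))
    · intro y _ y' _ h
      exact mul_left_cancel (mul_right_cancel (mul_left_cancel h))
    · intro w hw
      simp only [Finset.mem_filter, Finset.mem_univ, true_and] at hw
      obtain ⟨q', hq', y, hy, h1, rfl⟩ := (e.cj z).exists_of_mem_Ws (hW ▸ hw.1)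
      have h2 := hw.2
      rw [← mul_assoc, mul_mem_cancel_right (le_normalizer hy)] at h2
      obtain rfl : q = q' := (e.cj z).uniq hq hq' (hqe.trans (cj_eq_cj_iff.2 h2))
      refine ⟨z⁻¹ * y * z, ?_, by group⟩
      simp only [Finset.mem_erase, Finset.mem_filter, Finset.mem_univ, true_and, Hs]
      refine ⟨fun h => h1 ?_, mem_cj.1 hy⟩
      rw [show y = z * (z⁻¹ * y * z) * z⁻¹ by group, h]; group
  have h1H : (1 : G) ∈ Hs := by simp [Hs]
  have hfull : ∀ g, ∑ y ∈ Hs, β (y⁻¹ * g) = β g + (Hs.erase 1).card := fun g => by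
    rw [← Finset.add_sum_erase _ _ h1H, hsum, inv_one, one_mul]
  have hinv : ∀ g, ∀ y ∈ H, β (y⁻¹ * g) = β g := fun g y hy => by
    have h1 := hfull (y⁻¹ * g)
    have h2 : ∑ x ∈ Hs, β (x⁻¹ * (y⁻¹ * g)) = ∑ x ∈ Hs, β (x⁻¹ * g) := by
      refine Finset.sum_bij (fun x _ => y * x) ?_ ?_ ?_ ?_
      · intro x hx
        simp only [Finset.mem_filter, Finset.mem_univ, true_and, Hs] at hx ⊢
        exact mul_mem hy hx
      · intro x _ x' _ h
        exact mul_left_cancel h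
      · intro x hx
        simp only [Finset.mem_filter, Finset.mem_univ, true_and, Hs] at hx ⊢
        exact ⟨y⁻¹ * x, mul_mem (inv_mem hy) hx, by group⟩
      · intro x _
        rw [mul_inv_rev, mul_assoc]
    rw [h2, hfull] at h1
    omega
  have hpos : 0 < (Hs.erase 1).card := by
    obtain ⟨⟨y, hy⟩, h1⟩ := (ne_bot_iff_exists_ne_one).1 hH
    refine Finset.card_pos.2 ⟨y, ?_⟩
    simp only [Finset.mem_erase, Finset.mem_filter, Finset.mem_univ, true_and, Hs]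
    exact ⟨fun h => h1 (Subtype.ext h), hy⟩
  have hone : β a = 1 := by
    have h1 := hsum a
    rw [Finset.sum_congr rfl (g := fun _ => β a) (fun y hy => hinv a y (by
      simp only [Finset.mem_erase, Finset.mem_filter, Finset.mem_univ, true_and, Hs] at hy
      exact hy.2)), Finset.sum_const, smul_eq_mul] at h1
    exact Nat.eq_of_mul_eq_mul_left hpos (by rw [h1, mul_one])
  refine Finset.card_le_one.1 hone.le a ?_ b ?_
  · simp only [Finset.mem_filter, Finset.mem_univ, true_and]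
    exact ⟨ha, by rw [inv_mul_cancel]; exact one_mem _⟩
  · simp only [Finset.mem_filter, Finset.mem_univ, true_and]
    exact ⟨hb, hab⟩

theorem EC.exists_two (e : EC p H) (h2 : p ≠ 2) (hH : H ≠ ⊥) :
    ∃ y ∈ H, y ≠ 1 ∧ y⁻¹ ≠ y := by
  obtain ⟨⟨y, hy⟩, h1⟩ := (ne_bot_iff_exists_ne_one).1 hH
  have h3 : y ≠ 1 := fun h => h1 (Subtype.ext h)
  refine ⟨y, hy, h3, fun h => h3 (eq_one_of_mem e.pg hy fun hd => h2 ?_)⟩
  have h4 : y ^ 2 = 1 := by
    rw [pow_two]; nth_rw 1 [← h]; exact inv_mul_cancel y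
  exact (Nat.prime_dvd_prime_iff_eq hp.out Nat.prime_two).1
    (hd.trans (orderOf_dvd_of_pow_eq_one h4))

theorem EC.left_mul (e : EC p H) (h2 : p ≠ 2) (hH : H ≠ ⊥) {z : G}
    (hW : Ws p (Trans.cj z H) = Ws p H) {g x : G} (hg : g ∈ Ys (Trans.cj z H)) (hx : x ∈ H) :
    x * g ∈ Ys (Trans.cj z H) := by
  by_contra hn
  have e' := e.cj z
  obtain ⟨y, hy, h1, h3⟩ := e'.exists_two h2 (by rwa [Ne, cj_eq_bot])
  obtain ⟨M, hM, hgM⟩ := hg
  obtain ⟨Q, hQ, hf⟩ := hM.cmp e'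
  obtain ⟨q, hq, t, ht, rfl⟩ := hf g hgM
  have hq' : q ∈ Fs p (Trans.cj z H) := ⟨⟨M, hM, ((hQ q).1 hq).1⟩, ((hQ q).1 hq).2⟩
  have key : ∀ y ∈ Trans.cj z H, y ≠ 1 → x * (q * y) ∈ Fs p H := by
    intro y hy h1
    obtain ⟨s, hs, -, f, hf, he⟩ := e.exists_of_mem_Ws' (hW ▸ e'.mul_mem_Ws hq' hy h1)
    by_cases h4 : x * s = 1
    · rwa [he, ← mul_assoc, h4, one_mul]
    · exfalso
      have h5 := e.mul_mem_Ws' hf (mul_mem hx hs) h4
      rw [← hW, mul_assoc, ← he] at h5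
      have := mul_mem_Ys h5.1 (mul_mem (inv_mem hy) ht)
      exact hn (by rwa [show x * (q * y) * (y⁻¹ * t) = x * (q * t) by group] at this)
  have := e.sharp hH hW (key _ (inv_mem hy) (inv_ne_one.2 h1)) (key y hy h1) (by
    rw [show (x * (q * y⁻¹))⁻¹ * (x * (q * y)) = y * y by group]
    exact le_normalizer (mul_mem hy hy))
  exact h3 (mul_left_cancel (mul_left_cancel this))

theorem EC.step (e : EC p H) (h2 : p ≠ 2)
    (hK : ∀ g a, a ∈ Trans.cj g H → a ≠ 1 → Good (Trans.cj g H) (Kk H a)) :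
    Good H (normalClosure (H : Set G)) := by
  by_cases hH : H = ⊥
  · subst hH
    refine ⟨le_normalClosure, fun x hx _ => ?_⟩
    exact (normalClosure_le_normal (N := ⊥) (le_refl _)) hx
  let Λ : Subgroup G :=
    { carrier := {x | ∀ g, g ∈ Ys H ↔ x * g ∈ Ys H}
      one_mem' := fun g => by rw [one_mul]
      mul_mem' := fun {a b} ha hb g => by rw [hb g, ha, mul_assoc]
      inv_mem' := fun {a} ha g => by rw [ha (a⁻¹ * g), mul_inv_cancel_left] }
  have h1 : ∀ z : G, ∀ x ∈ H, ∀ g ∈ Ys H, z * x * z⁻¹ * g ∈ Ys H := by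
    intro z x hx g hg
    have h3 := mem_Ys_cj (g := z) (e.left_mul h2 hH (e.Ws_cj hK z⁻¹) (mem_Ys_cj (g := z⁻¹) hg) hx)
    rwa [cj_cj_inv, show z * (x * (z⁻¹ * g * z⁻¹⁻¹)) * z⁻¹ = z * x * z⁻¹ * g by group] at h3
  have hΛ : normalClosure (H : Set G) ≤ Λ := by
    refine (closure_le _).2 fun x hx => ?_
    obtain ⟨y, hy, hc⟩ := Group.mem_conjugatesOfSet_iff.1 hx
    obtain ⟨z, rfl⟩ := isConj_iff.1 hc
    refine fun g => ⟨h1 z y hy g, fun hg => ?_⟩
    have := h1 z y⁻¹ (inv_mem hy) _ hg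
    rwa [show z * y⁻¹ * z⁻¹ * (z * y * z⁻¹ * g) = g by group] at this
  refine ⟨le_normalClosure, fun x hx hn => ?_⟩
  obtain ⟨M, hM, hxM⟩ := (hΛ hx 1).1 ⟨H, ⟨le_rfl, fun _ h _ => h⟩, one_mem _⟩
  rw [mul_one] at hxM
  exact hM.nm x hxM hn

end

theorem main {p : ℕ} [Fact p.Prime] (h2 : p ≠ 2) (G : Type u) [Group G] [Finite G] :
    ∀ H : Subgroup G, EC p H → Good H (normalClosure (H : Set G)) := by
  refine Solv.card_induction (P := fun G _ _ => ∀ H : Subgroup G, EC p H →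
    Good H (normalClosure (H : Set G))) ?_ G
  intro G _ _ ih H e
  by_cases hz : ∃ b ∈ H, b ≠ 1 ∧ b ∈ center G
  · obtain ⟨b, hb, hb1, hbz⟩ := hz
    have hle : zpowers b ≤ center G := zpowers_le.2 hbz
    have : (zpowers b).Normal := ⟨fun x hx g => by
      rwa [mem_center_iff.1 (hle hx) g, mul_inv_cancel_right]⟩
    have h1 := ih (G ⧸ zpowers b) (Solv.card_quotient_lt (by simpa using hb1))
      (H.map (QuotientGroup.mk' (zpowers b))) ⟨e.pg.map _, by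
        rintro _ ⟨a, ha, rfl⟩ _ ⟨b, hb, rfl⟩
        rw [← map_mul, ← map_mul, e.ab a ha b hb],
      S3017.ec_map e.pg e.cl _ (QuotientGroup.mk'_surjective _)⟩
    refine ⟨le_normalClosure, fun x hx hn => ?_⟩
    have h3 := h1.nm (QuotientGroup.mk' (zpowers b) x) (by
      have : normalClosure (H : Set G) ≤ (normalClosure
          ((H.map (QuotientGroup.mk' (zpowers b)) : Subgroup _) : Set (G ⧸ zpowers b))).comap
          (QuotientGroup.mk' (zpowers b)) :=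
        normalClosure_le_normal fun y hy => subset_normalClosure ⟨y, hy, rfl⟩
      exact this hx) (by rw [← cj_eq_self_iff, ← map_cj, cj_eq_of_mem_normalizer hn])
    have h4 : x ∈ (H.map (QuotientGroup.mk' (zpowers b))).comap (QuotientGroup.mk' (zpowers b)) :=
      h3
    rwa [comap_map_eq, QuotientGroup.ker_mk', sup_of_le_left (zpowers_le.2 hb)] at h4
  refine e.step h2 fun g a ha ha1 => ?_
  have e' := e.cj g
  have hC : ∀ g, a ∈ cj g H → cj g H ≤ centralizer {a} := fun g ha x hx =>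
    mem_centralizer_singleton_iff.2 ((e.cj g).ab x hx a ha)
  have hne : centralizer ({a} : Set G) ≠ ⊤ := fun h => hz ⟨g⁻¹ * a * g, mem_cj.1 ha, fun h1 => ha1 (by
    rw [show a = g * (g⁻¹ * a * g) * g⁻¹ by group, h1]; group), mem_center_iff.2 fun y => by
      have h3 : ∀ y : G, y * a = a * y := fun y => mem_centralizer_singleton_iff.1 (h ▸ mem_top y)
      rw [h3, inv_mul_cancel_right, h3]⟩
  have h1 := ih _ (Solv.card_lt_of_ne_top hne) ((cj g H).subgroupOf (centralizer {a}))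
    ⟨isPGroup_subgroupOf e'.pg _, fun a ha b hb => Subtype.ext (e'.ab _ ha _ hb),
      S3017.ec_subgroupOf e'.cl (hC g ha)⟩
  have h3 : Kk H a ≤ (normalClosure (((cj g H).subgroupOf (centralizer {a}) : Subgroup _) :
      Set (centralizer ({a} : Set G)))).map (centralizer {a}).subtype := by
    refine iSup_le fun k x hx => ?_
    obtain ⟨q, hq, -, hqe⟩ := e'.exists_F' (k.1 * g⁻¹)
    rw [cj_mul, cj_inv_cj] at hq hqe
    have hq' : q ∈ centralizer ({a} : Set G) := sup_le (hC g ha) (hC k.1 k.2) hq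
    rw [← hqe, mem_cj] at hx
    refine ⟨⟨q, hq'⟩ * ⟨_, hC g ha hx⟩ * ⟨q, hq'⟩⁻¹,
      normalClosure_normal.conj_mem (⟨_, hC g ha hx⟩ : centralizer ({a} : Set G))
        (subset_normalClosure hx) _, ?_⟩
    simp [mul_assoc]
  refine ⟨le_Kk ha, fun x hx hn => ?_⟩
  obtain ⟨x, hx', rfl⟩ := h3 hx
  exact h1.nm x hx' (by rw [← subgroupOf_normalizer_eq (hC g ha)]; exact hn)

/-- Let G be a finite group, p an odd prime, and H an abelian p-subgroup of G that is extremely closed (for every g, the subgroup generated by H and g H g⁻¹ meets N_G(H) exactly in H). Then the normal closure of H meets N_G(H) exactly in H, and G = N_G(H) O_{p'}(G). -/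
theorem result {G : Type*} [Group G] [Finite G] {p : ℕ} [Fact p.Prime] (hp : p ≠ 2) (H : Subgroup G) (hHp : IsPGroup p H) (hHab : IsMulCommutative H) (hcl : Cfsg.IsExtremelyClosed H) : Subgroup.normalClosure (H : Set G) ⊓ Subgroup.normalizer (H : Set G) = H ∧ Subgroup.normalizer (H : Set G) ⊔ Cfsg.pPrimeCore p G = ⊤ := by
  have e : EC p H :=
    ⟨hHp, fun a ha b hb => congrArg Subtype.val (hHab.is_comm.comm ⟨a, ha⟩ ⟨b, hb⟩), hcl⟩
  have h := main hp G H e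
  refine ⟨le_antisymm (fun x hx => h.nm x hx.1 hx.2) (le_inf h.le le_normalizer), ?_⟩
  obtain ⟨Q, hQ, hf⟩ := h.cmp e
  have hn : Q.Normal := ⟨fun x hx g => (hQ _).2
    ⟨normalClosure_normal.conj_mem _ ((hQ x).1 hx).1 g, by
      rw [orderOf_conj_eq]; exact ((hQ x).1 hx).2⟩⟩
  have hle : Q ≤ pPrimeCore p G := by
    refine Solv.le_pPrimeCore hn ((Nat.Prime.coprime_iff_not_dvd Fact.out).2 fun hd => ?_).symm
    obtain ⟨x, hx⟩ := exists_prime_orderOf_dvd_card' (G := Q) p hd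
    exact ((hQ x).1 x.2).2 (by rw [Subgroup.orderOf_coe, hx])
  refine eq_top_iff.2 fun g _ => ?_
  obtain ⟨k, hk, n, hn', rfl⟩ := (h.sylow hHp).frattini (g := g) (by
    rw [normalizer_eq_top]; trivial)
  obtain ⟨q, hq, y, hy, rfl⟩ := hf k hk
  exact mul_mem (mul_mem (mem_sup_right (hle hq)) (mem_sup_left (le_normalizer hy)))
    (mem_sup_left hn')

end Cfsg.Agent.S3016
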