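import Cfsg.Statements.S3103
import Cfsg.Agent.S0256
import Cfsg.Agent.Solv.FrattiniRep
import Cfsg.Agent.Solv.PConstrained
import Cfsg.Agent.Solv.MetacyclicTwo

set_option autoImplicit false
open Cfsg

namespace Cfsg.Agent.S3103

open Subgroup Cfsg.Lib.Solv Cfsg.Lib.Solv.PG Module

theorem unit_two : ∀ x : ZMod 2, IsUnit x → x = 1 := by decide

/-- A faithful representation of degree at most four over `F₂` embeds a group in `A₈`. -/
theorem exists_injective_A8 {Q V : Type*} [Group Q] [AddCommGroup V] [Module (ZMod 2) V] [Finite V]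
    (ρ : Q →* End (ZMod 2) V) (hρ : Function.Injective ρ) (hV : Nat.card V ≤ 2 ^ 4) :
    ∃ f : Q →* alternatingGroup (Fin 8), Function.Injective f := by
  have : Fact (Nat.Prime 2) := ⟨Nat.prime_two⟩
  rw [Module.natCard_eq_pow_finrank (K := ZMod 2), Nat.card_zmod,
    Nat.pow_le_pow_iff_right one_lt_two] at hV
  let b := Module.finBasisOfFinrankEq (ZMod 2) (V × (Fin (4 - finrank (ZMod 2) V) → ZMod 2))
    (n := 4) (by simp; omega)
  let σ : Q →* End (ZMod 2) (V × (Fin (4 - finrank (ZMod 2) V) → ZMod 2)) :=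
    { toFun := fun q => (ρ q).prodMap 1
      map_one' := by rw [map_one]; rfl
      map_mul' := fun a b => by rw [map_mul]; rfl }
  let τ := ((LinearMap.toMatrixAlgEquiv b).toMonoidHom).comp σ
  let f : Q →* Matrix.SpecialLinearGroup (Fin 4) (ZMod 2) :=
    { toFun := fun q => ⟨τ q, by
        have : IsUnit (τ q).det := ((Group.isUnit q).map τ).map Matrix.detMonoidHom
        exact unit_two _ this⟩
      map_one' := Subtype.ext τ.map_one
      map_mul' := fun a b => Subtype.ext (τ.map_mul a b) }
  obtain ⟨e⟩ := S0256.result (ZMod.card 2)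
  refine ⟨e.toMonoidHom.comp ((QuotientGroup.mk' _).comp f), e.injective.comp
    ((injective_iff_map_eq_one _).mpr fun q hq => hρ ?_)⟩
  obtain ⟨r, h1, h2⟩ := Matrix.SpecialLinearGroup.mem_center_iff.mp
    ((QuotientGroup.eq_one_iff _).mp hq)
  obtain rfl : r = 1 := unit_two _ (IsUnit.of_pow_eq_one h1 (by simp))
  have h3 : σ q = 1 := (LinearMap.toMatrixAlgEquiv b).injective
    (h2.symm.trans ((map_one _).trans (map_one _).symm))
  rw [map_one]
  exact LinearMap.ext fun v => congrArg Prod.fst (LinearMap.congr_fun h3 (v, 0))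

/-- Let X be a finite 2-constrained group with no nontrivial normal subgroup of odd order such that O₂(X) has sectional 2-rank at most 4. Then X/O₂(X) is isomorphic to a subgroup of the alternating group of degree 8. -/
theorem result {X : Type*} [Group X] [Finite X] (hc : Cfsg.IsPConstrained 2 X) (hO : Cfsg.oddCore X = ⊥)
    (h4 : Cfsg.SectionalPRankLE 2 4 ↥(Cfsg.pCore 2 X)) :
    ∃ f : X ⧸ Cfsg.pCore 2 X →* ↥(alternatingGroup (Fin 8)), Function.Injective f := by
  have : Fact (Nat.Prime 2) := ⟨Nat.prime_two⟩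
  have hp := pCore_isPGroup 2 X
  obtain ⟨S⟩ := nonempty_secRep_frattini 2 (pCore 2 X) hp
  refine exists_injective_A8 _ (S.lift_injective _
    (S.ker_eq_pCore ((isPConstrained_iff_of_pPrimeCore_eq_bot hO).mp hc)))
    (le_trans (le_of_eq ?_) (index_frattini_le_of_secRank hp h4))
  have h1 : S.hom.ker = frattini (pCore 2 X) := Subgroup.ext fun a =>
    (S.π_eq_zero a.2).trans (mem_map_iff_mem (subtype_injective _))
  refine Eq.trans ?_ (congrArg index h1)
  rw [index_ker, MonoidHom.range_eq_top.mpr fun w => by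
    obtain ⟨a, ha, h2⟩ := S.π_surj w.toAdd
    exact ⟨⟨a, ha⟩, h2⟩, card_top]
  rfl

end Cfsg.Agent.S3103
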