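import Cfsg.Statements.S3212
import Cfsg.Agent.FWR.Final
import Cfsg.Agent.FWR.G2Asm
import Cfsg.Agent.FWR.P5
import Cfsg.Agent.FWR.SpShort

set_option autoImplicit false
open Cfsg

namespace Cfsg.Agent.S3212

/-- Let G be a finite group with an involution j such that C_G(j) has no nontrivial normal subgroup of odd order, and let L₁ ≅ SL₂(q₁), L₂ ≅ SL₂(q₂) (over finite fields) be elementwise-commuting subgroups with L₁ ∩ L₂ = ⟨j⟩; put Y = L₁L₂. Suppose that for some odd δ either Y is normal of index 2δ in C_G(j), or C_G(j) has a normal subgroup H of index δ containing Y with index 2. Then j is central in some Sylow 2-subgroup of G, q₁ and q₂ are odd, and one of the following holds: G = C_G(j)O(G); or q₁ = q₂, neither Lᵢ is normal in C_G(j), and G has a normal subgroup of index δ isomorphic to PSp₄(q₁); or q₁ = q₂, both Lᵢ are normal in C_G(j), and G has a normal subgroup of index δ isomorphic to G₂(q₁); or one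 of q₁, q₂ is the cube of the other, both Lᵢ are normal in C_G(j), and G has a normal subgroup of index δ isomorphic to ³D₄(q) for q = min(q₁, q₂). -/
theorem result {G : Type*} [Group G] [Finite G]
    {F₁ : Type*} [Field F₁] [Fintype F₁] {F₂ : Type*} [Field F₂] [Fintype F₂] (L₁ L₂ : Subgroup G)
    (e₁ : ↥L₁ ≃* Matrix.SpecialLinearGroup (Fin 2) F₁) (e₂ : ↥L₂ ≃* Matrix.SpecialLinearGroup (Fin 2) F₂)
    (hc : ∀ x ∈ L₁, ∀ y ∈ L₂, x * y = y * x) (j : G) (hj : orderOf j = 2) (hm : L₁ ⊓ L₂ = Subgroup.zpowers j)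
    (hle : L₁ ⊔ L₂ ≤ Subgroup.centralizer ({j} : Set G)) (hO : Cfsg.oddCore ↥(Subgroup.centralizer ({j} : Set G)) = ⊥) (δ : ℕ) (hδ : Odd δ)
    (hY : (((L₁ ⊔ L₂).subgroupOf (Subgroup.centralizer ({j} : Set G))).Normal ∧ (L₁ ⊔ L₂).relIndex (Subgroup.centralizer ({j} : Set G)) = 2 * δ) ∨
      (∃ H : Subgroup G, H ≤ Subgroup.centralizer ({j} : Set G) ∧ (H.subgroupOf (Subgroup.centralizer ({j} : Set G))).Normal ∧ H.relIndex (Subgroup.centralizer ({j} : Set G)) = δ ∧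
        L₁ ⊔ L₂ ≤ H ∧ (L₁ ⊔ L₂).relIndex H = 2)) :
    (∃ S : Sylow 2 G, j ∈ (S : Subgroup G) ∧ ∀ s ∈ (S : Subgroup G), s * j = j * s) ∧
      Odd (Fintype.card F₁) ∧ Odd (Fintype.card F₂) ∧
      (Subgroup.centralizer ({j} : Set G) ⊔ Cfsg.oddCore G = ⊤ ∨
        (Fintype.card F₁ = Fintype.card F₂ ∧ ¬ (L₁.subgroupOf (Subgroup.centralizer ({j} : Set G))).Normal ∧ ¬ (L₂.subgroupOf (Subgroup.centralizer ({j} : Set G))).Normal ∧
          ∃ N : Subgroup G, N.Normal ∧ N.index = δ ∧ Nonempty (↥N ≃* Cfsg.PSp 2 F₁)) ∨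
        (Fintype.card F₁ = Fintype.card F₂ ∧ (L₁.subgroupOf (Subgroup.centralizer ({j} : Set G))).Normal ∧ (L₂.subgroupOf (Subgroup.centralizer ({j} : Set G))).Normal ∧
          ∃ N : Subgroup G, N.Normal ∧ N.index = δ ∧ Nonempty (↥N ≃* ↥(Cfsg.Lie.chevG2.group F₁))) ∨
        ((L₁.subgroupOf (Subgroup.centralizer ({j} : Set G))).Normal ∧ (L₂.subgroupOf (Subgroup.centralizer ({j} : Set G))).Normal ∧
          ∃ N : Subgroup G, N.Normal ∧ N.index = δ ∧
            ((Fintype.card F₂ = Fintype.card F₁ ^ 3 ∧ Nonempty (↥N ≃* ↥(Cfsg.Lie.twistedD4 F₂ (Fintype.card F₁)))) ∨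
              (Fintype.card F₁ = Fintype.card F₂ ^ 3 ∧ Nonempty (↥N ≃* ↥(Cfsg.Lie.twistedD4 F₁ (Fintype.card F₂))))))) := by
  exact Lib.FWR.s3212_of (Lib.FWR.wg2_of_wp5 Lib.FWR.wp5) Lib.FWR.wSp L₁ L₂ e₁ e₂ hc j hj hm hle hO δ hδ hY

end Cfsg.Agent.S3212
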