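import Cfsg.Statements.S3105
import Cfsg.Agent.GHB.L3e
-- import your own Cfsg.Agent.* helpers here

set_option autoImplicit false
open Cfsg

namespace Cfsg.Agent.S3105

/-- Let X be a finite nonsolvable 2-constrained group with no nontrivial normal subgroup of odd order and of sectional 2-rank at most 4, and suppose X/O₂(X) is isomorphic to the projective special linear group of dimension 3 over the field with 2 elements. Then O₂(X) is elementary abelian of order 8 or 16, or is isomorphic to the direct product of a cyclic group of order 4 and an elementary abelian group of order 8. -/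
theorem result {X : Type*} [Group X] [Finite X] (hns : ¬ Group.IsSolvable X) (hc : Cfsg.IsPConstrained 2 X) (hO : Cfsg.oddCore X = ⊥)
    (h4 : Cfsg.SectionalPRankLE 2 4 X) {F : Type*} [Field F] [Fintype F] (hF : Fintype.card F = 2)
    (hQ : Nonempty (X ⧸ Cfsg.pCore 2 X ≃* Matrix.ProjectiveSpecialLinearGroup (Fin 3) F)) :
    (Cfsg.IsElementaryAbelian 2 (Cfsg.pCore 2 X) ∧ (Nat.card ↥(Cfsg.pCore 2 X) = 8 ∨ Nat.card ↥(Cfsg.pCore 2 X) = 16)) ∨
      Nonempty (↥(Cfsg.pCore 2 X) ≃* Multiplicative (ZMod 4) × (Fin 3 → Multiplicative (ZMod 2))) := by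
  have : Fact (Nat.Prime 2) := ⟨Nat.prime_two⟩
  obtain ⟨e1⟩ := hQ
  obtain ⟨e2⟩ := S2553.nonempty_psl_equiv 2
  let e := e1.trans
    ((Lib.Class.pslEquiv (Fin 3) (ZMod.ringEquivOfPrime F Nat.prime_two hF).symm).trans e2)
  have hR : Lib.GHB.Rep (pCore 2 X)
      ((Units.coeHom _).comp (e.toMonoidHom.comp (QuotientGroup.mk' _))) :=
    ⟨fun g => Units.val_eq_one.trans (e.map_eq_one_iff.trans (QuotientGroup.eq_one_iff g)),
      fun M N h => (e.surjective.comp (QuotientGroup.mk'_surjective _)
        ⟨M, N, h, mul_eq_one_comm.1 h⟩).imp fun _ k => congrArg Units.val k⟩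
  have hP := Lib.Solv.pCore_isPGroup 2 X
  exact hR.struct hP h4 fun g hg => by
    rw [Lib.Solv.mem_pCore_iff_commutator_mem_frattini
      ((Lib.Solv.isPConstrained_iff_of_pPrimeCore_eq_bot hO).1 hc)] at hg
    obtain ⟨q, hq⟩ := not_forall.1 hg
    obtain ⟨hq, n⟩ := Classical.not_imp.1 hq
    exact ⟨q, hq, fun k => n (Lib.GHB.Phi_le_frattini hP k)⟩

end Cfsg.Agent.S3105
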