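import Cfsg.Statements.S3104
import Cfsg.Agent.S3103
import Cfsg.Agent.GHB.A8
import Cfsg.Agent.GHB.S6
-- import your own Cfsg.Agent.* helpers here

set_option autoImplicit false
open Cfsg

namespace Cfsg.Agent.S3104

/-- Let X be a finite nonsolvable 2-constrained group with no nontrivial normal subgroup of odd order such that O₂(X) has sectional 2-rank at most 4, and write Q for X/O₂(X). Then Q is isomorphic to the projective special linear group of dimension 3 over the field with 2 elements, to an alternating group of degree n with 5 ≤ n ≤ 8, to a symmetric group of degree n with 5 ≤ n ≤ 7, or else O₃(Q) has order 3 and Q/O₃(Q) is isomorphic to the alternating or the symmetric group of degree 5 (so Q is the direct product of a group of order 3 with the alternating group of degree 5, or an extension of that direct product by a group of order 2). If moreover X itself has sectional 2-rank at most 4, then Q is not isomorphic to the symmetric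 group of degree 6 or 7 nor to the alternating group of degree 8. -/
theorem result {X : Type*} [Group X] [Finite X] (hns : ¬ Group.IsSolvable X) (hc : Cfsg.IsPConstrained 2 X) (hO : Cfsg.oddCore X = ⊥)
    (h4 : Cfsg.SectionalPRankLE 2 4 ↥(Cfsg.pCore 2 X)) :
    ((∃ (F : Type) (_ : Field F) (_ : Fintype F), Fintype.card F = 2 ∧
          Nonempty (X ⧸ Cfsg.pCore 2 X ≃* Matrix.ProjectiveSpecialLinearGroup (Fin 3) F)) ∨
        (∃ n : ℕ, 5 ≤ n ∧ n ≤ 8 ∧ Nonempty (X ⧸ Cfsg.pCore 2 X ≃* ↥(alternatingGroup (Fin n)))) ∨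
        (∃ n : ℕ, 5 ≤ n ∧ n ≤ 7 ∧ Nonempty (X ⧸ Cfsg.pCore 2 X ≃* Equiv.Perm (Fin n))) ∨
        (Nat.card ↥(Cfsg.pCore 3 (X ⧸ Cfsg.pCore 2 X)) = 3 ∧
          (Nonempty ((X ⧸ Cfsg.pCore 2 X) ⧸ Cfsg.pCore 3 (X ⧸ Cfsg.pCore 2 X) ≃* ↥(alternatingGroup (Fin 5))) ∨
            Nonempty ((X ⧸ Cfsg.pCore 2 X) ⧸ Cfsg.pCore 3 (X ⧸ Cfsg.pCore 2 X) ≃* Equiv.Perm (Fin 5))))) ∧
      (Cfsg.SectionalPRankLE 2 4 X →
        ¬ (Nonempty (X ⧸ Cfsg.pCore 2 X ≃* Equiv.Perm (Fin 6)) ∨ Nonempty (X ⧸ Cfsg.pCore 2 X ≃* Equiv.Perm (Fin 7)) ∨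
            Nonempty (X ⧸ Cfsg.pCore 2 X ≃* ↥(alternatingGroup (Fin 8))))) := by
  have : Fact (Nat.Prime 2) := ⟨Nat.prime_two⟩
  obtain ⟨φ, hφ⟩ := S3103.result hc hO h4
  have hP := Lib.Solv.pCore_isPGroup 2 X
  have := Lib.Solv.Coprime.isSolvable_of_isPGroup hP
  refine ⟨?_, fun h => ?_⟩
  · rcases Lib.GHB.classify φ hφ (fun _ => hns (Group.isSolvable_of_ker_le_range
      (pCore 2 X).subtype (QuotientGroup.mk' (pCore 2 X)) (by simp))) (Lib.Solv.pCore_quotient_pCore 2 X) with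
      e | e | (e | e) | e
    exacts [Or.inl ⟨ZMod 2, inferInstance, inferInstance, ZMod.card 2, e⟩, Or.inr (Or.inl e),
      Or.inr (Or.inr (Or.inl ⟨5, le_rfl, by norm_num, e⟩)),
      Or.inr (Or.inr (Or.inl ⟨6, by norm_num, by norm_num, e⟩)), Or.inr (Or.inr (Or.inr e))]
  have key : ∀ {L : Type} [Group L], (X ⧸ pCore 2 X ≃* L) → ¬ Lib.GHB.D6 L := fun e =>
    Lib.GHB.not_D6 (e.toMonoidHom.comp (QuotientGroup.mk' _))
      (e.surjective.comp (QuotientGroup.mk'_surjective _))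
      (Subgroup.ext fun x => e.map_eq_one_iff.trans (QuotientGroup.eq_one_iff x)) h Lib.GHB.EA.phi
      fun g hg => by
        rw [Lib.Solv.mem_pCore_iff_commutator_mem_frattini
          ((Lib.Solv.isPConstrained_iff_of_pPrimeCore_eq_bot hO).1 hc)] at hg
        obtain ⟨q, hq⟩ := not_forall.1 hg
        obtain ⟨hq, n⟩ := Classical.not_imp.1 hq
        exact ⟨q, hq, fun k => n (Lib.GHB.Phi_le_frattini hP k)⟩
  rintro (⟨⟨e⟩⟩ | ⟨⟨e⟩⟩ | ⟨⟨e⟩⟩)
  · exact key e Lib.GHB.D6_S6
  · have e1 := Nat.card_congr e.toEquiv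
    rw [Nat.card_perm, Nat.card_eq_fintype_card (α := Fin 7), Fintype.card_fin] at e1
    rcases S2553.card_le φ hφ with e2 | e2
    · rw [Nat.card_congr (Equiv.ofBijective φ ⟨hφ, e2⟩), S2553.card_A8] at e1
      exact absurd e1 (by decide)
    · exact absurd (e1 ▸ e2) (by decide)
  · exact key e Lib.GHB.D6_A8

end Cfsg.Agent.S3104
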