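import Cfsg.Statements.S3190
import Cfsg.Agent.Solv.PGroupBasic
import Cfsg.Agent.Solv.CoprimeAbelian
import Cfsg.Agent.Solv.FittingOf
import Cfsg.Agent.Trans.Offender

set_option autoImplicit false
open Cfsg

namespace Cfsg.Agent.S3190

open Subgroup Cfsg.Lib.Solv Cfsg.Lib.Solv.PG Cfsg.Lib.Solv.Coprime

theorem map_center_eq {X : Type*} [Group X] (R : Subgroup X) :
    (center R).map R.subtype = R ⊓ centralizer (R : Set X) := by
  ext x
  constructor
  · rintro ⟨y, hy, rfl⟩
    refine ⟨y.2, fun r hr => ?_⟩
    exact congrArg Subtype.val ((mem_center_iff.1 hy) ⟨r, hr⟩)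
  · rintro ⟨h1, h2⟩
    exact ⟨⟨x, h1⟩, mem_center_iff.2 fun r => Subtype.ext (h2 r r.2), rfl⟩


/-- Let p be an odd prime and, inside a finite group, let P be a p-subgroup normalized by a Klein four-group T. Let R be a subgroup of P, normal in P and normalized by T, such that P is the product of R with the centralizer of T in P. If T centralizes the centre of P, then T centralizes the centre of R. -/
theorem result {X : Type*} [Group X] [Finite X]
    {p : ℕ} (hp : p.Prime) (hodd : Odd p) (P T R : Subgroup X) (hP : IsPGroup p ↥P) (hT : IsKleinFour ↥T)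
    (hTP : T ≤ Subgroup.normalizer (P : Set X)) (hRP : R ≤ P) (hRn : (R.subgroupOf P).Normal)
    (hTR : T ≤ Subgroup.normalizer (R : Set X)) (hfac : R ⊔ (P ⊓ Subgroup.centralizer (T : Set X)) = P)
    (hZ : T ≤ Subgroup.centralizer (((Subgroup.center ↥P).map P.subtype : Subgroup X) : Set X)) :
    T ≤ Subgroup.centralizer (((Subgroup.center ↥R).map R.subtype : Subgroup X) : Set X) := by
  have := Fact.mk hp
  rw [map_center_eq] at hZ ⊢
  set Z := R ⊓ centralizer (R : Set X) with hZdef
  have hPR : P ≤ normalizer (R : Set X) := (normal_subgroupOf_iff_le_normalizer hRP).1 hRn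
  have hZc : IsMulCommutative Z := isMulCommutative_of_forall fun x hx y hy => hy.2 x hx.1
  have hTZ : T ≤ normalizer (Z : Set X) := PG.le_normalizer_inf hTR (PG.le_normalizer_centralizer hTR)
  have hPZ : P ≤ normalizer (Z : Set X) := PG.le_normalizer_inf hPR (PG.le_normalizer_centralizer hPR)
  have hZP : Z ≤ P := inf_le_left.trans hRP
  have hcop : (Nat.card T).Coprime (Nat.card Z) := by
    obtain ⟨k, hk⟩ := (hP.to_le hZP).exists_card_eq
    rw [hk, hT.card_four]
    exact (Nat.Coprime.pow 2 k (Nat.coprime_two_left.2 hodd) :)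
  set W := ⁅Z, T⁆ with hW
  have hWZ : W ≤ Z := commutator_le_left_of_le_normalizer hTZ
  have hPW : P ≤ normalizer (W : Set X) := by
    rw [← hfac]
    refine sup_le ?_ (PG.le_normalizer_commutator (inf_le_left.trans hPZ)
      (inf_le_right.trans (centralizer_le_normalizer _)))
    exact (le_centralizer_iff.1 (hWZ.trans inf_le_right)).trans (centralizer_le_normalizer _)
  have hW0 : W = ⊥ := by
    by_contra hne
    apply inf_centralizer_ne_bot_of_isNilpotent hP.isNilpotent (hWZ.trans hZP) hPW hne
    rw [eq_bot_iff, ← centralizer_inf_commutator_eq_bot hTZ hcop]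
    refine le_inf (le_inf (inf_le_left.trans hWZ) ?_) inf_le_left
    exact (inf_le_inf_right _ (hWZ.trans hZP)).trans (le_centralizer_iff.1 hZ)
  exact le_centralizer_iff.1 (commutator_eq_bot_iff_le_centralizer.1 hW0)

end Cfsg.Agent.S3190
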