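import Cfsg.Statements.S3183
import Cfsg.Agent.Trans.SylowIn
import Cfsg.Agent.S3190

set_option autoImplicit false
open Cfsg

namespace Cfsg.Agent.S3183

open Subgroup Cfsg.Lib.Trans

/-- Let G be a finite group in which the intersection of any two distinct Sylow 2-subgroups is contained in the centre of some Sylow 2-subgroup, and let S be a Sylow 2-subgroup. Then for every x in S the centralizer of x in S is a Sylow 2-subgroup of the centralizer of x in G (no 2-subgroup centralizing x is larger), and for every other Sylow 2-subgroup T the intersection S ∩ T lies in both the centre of S and the centre of T. -/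
theorem result {G : Type*} [Group G] [Finite G]
    (hCI : ∀ S T : Sylow 2 G, S ≠ T → ∃ U : Sylow 2 G,
      (S : Subgroup G) ⊓ (T : Subgroup G) ≤ (Subgroup.center ↥(U : Subgroup G)).map (U : Subgroup G).subtype)
    (S : Sylow 2 G) :
    (∀ x ∈ (S : Subgroup G), ∀ P : Subgroup G, IsPGroup 2 ↥P → P ≤ Subgroup.centralizer ({x} : Set G) →
        Nat.card ↥P ≤ Nat.card ↥((S : Subgroup G) ⊓ Subgroup.centralizer ({x} : Set G))) ∧
    (∀ T : Sylow 2 G, T ≠ S →
        (S : Subgroup G) ⊓ (T : Subgroup G) ≤
          (Subgroup.center ↥(S : Subgroup G)).map (S : Subgroup G).subtype ⊓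
            (Subgroup.center ↥(T : Subgroup G)).map (T : Subgroup G).subtype) := by
  simp only [Cfsg.Agent.S3190.map_center_eq] at hCI ⊢
  have key : ∀ (S U : Sylow 2 G) (x : G), x ∈ (S : Subgroup G) →
      x ∈ centralizer ((U : Subgroup G) : Set G) → x ∈ centralizer ((S : Subgroup G) : Set G) := by
    intro S U x hxS hxU
    by_contra hx
    have hUx : (U : Subgroup G) ≤ centralizer ({x} : Set G) := fun u hu =>
      mem_centralizer_singleton_iff.2 (hxU u hu)
    set R := (S : Subgroup G) ⊓ centralizer ({x} : Set G) with hR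
    have hRS : R < S := lt_of_le_of_ne inf_le_left fun h => hx fun s hs => by
      have : s ∈ R := h ▸ hs
      exact mem_centralizer_singleton_iff.1 this.2
    obtain ⟨V, hV, hRV⟩ := exists_isSylowIn_ge (p := 2) (Q := R) S.isPGroup'.to_inf_left inf_le_right
    have hV' : IsSylowIn 2 V ⊤ := (isSylowIn_top U).of_card_ge hV.isPGroup le_top
      ((isSylowIn_of_le U hUx).card_eq_card hV).le
    obtain ⟨V', rfl⟩ := hV'.exists_sylow_eq
    have hne : S ≠ V' := fun h => hRS.not_ge (le_inf le_rfl (h ▸ hV.le))
    obtain ⟨W, hW⟩ := hCI S V' hne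
    have hRW : R ≤ centralizer ((W : Subgroup G) : Set G) :=
      ((le_inf inf_le_left hRV).trans hW).trans inf_le_right
    have hWR : (W : Subgroup G) ≤ centralizer (R : Set G) := le_centralizer_iff.1 hRW
    have hlt := lt_inf_normalizer S.isPGroup' hRS
    obtain ⟨n, hn, hcj⟩ := (isSylowIn_of_le W (hWR.trans (centralizer_le_normalizer _))).exists_cj_le
      (Q := (S : Subgroup G) ⊓ normalizer (R : Set G)) S.isPGroup'.to_inf_left inf_le_right
    apply hlt.not_ge
    refine le_inf inf_le_left ?_
    have h1 : (S : Subgroup G) ⊓ normalizer (R : Set G) ≤ centralizer (R : Set G) := by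
      have := hcj.trans hWR
      rwa [← cj_eq_of_mem_normalizer hn, ← cj_centralizer, cj_eq_of_mem_normalizer hn, cj_le_cj] at this
    intro y hy
    exact mem_centralizer_singleton_iff.2
      (h1 hy x ⟨hxS, mem_centralizer_singleton_iff.2 rfl⟩).symm
  have key2 : ∀ S T : Sylow 2 G, S ≠ T → (S : Subgroup G) ⊓ (T : Subgroup G) ≤
      centralizer ((S : Subgroup G) : Set G) := fun S T h x hx => by
    obtain ⟨U, hU⟩ := hCI S T h
    exact key S U x hx.1 (hU hx).2
  refine ⟨fun x hx P hP hPx => ?_, fun T hT => ?_⟩
  · have hxP : zpowers x ≤ normalizer (P : Set G) := by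
      refine zpowers_le.2 (centralizer_le_normalizer _ fun y hy => ?_)
      exact mem_centralizer_singleton_iff.1 (hPx hy)
    have h2 : IsPGroup 2 (zpowers x ⊔ P : Subgroup G) :=
      IsPGroup.to_sup_of_normal_right' (S.isPGroup'.to_le (zpowers_le.2 hx)) hP hxP
    obtain ⟨V, hV⟩ := h2.exists_le_sylow
    by_cases h : S = V
    · exact Subgroup.card_le_of_le (le_inf (h ▸ le_sup_right.trans hV) hPx)
    · have h3 := key2 S V h ⟨hx, hV (mem_sup_left (mem_zpowers x))⟩
      have h4 : (S : Subgroup G) ≤ centralizer ({x} : Set G) := fun s hs =>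
        mem_centralizer_singleton_iff.2 (h3 s hs)
      rw [inf_of_le_left h4]
      exact (isSylowIn_top S).card_le hP le_top
  · refine le_inf (le_inf inf_le_left (key2 S T hT.symm)) (le_inf inf_le_right ?_)
    rw [inf_comm]
    exact key2 T S hT

end Cfsg.Agent.S3183
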