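import Cfsg.Statements.S3643
import Cfsg.Agent.Perm.DegSec2
import Cfsg.Agent.Perm.Kill2
import Cfsg.Agent.Perm.M12Deg
import Cfsg.Agent.PrimeOne.Elim
import Cfsg.Agent.S0228
import Cfsg.Agent.S2034
import Cfsg.Agent.S2060
import Cfsg.Agent.S4429

set_option autoImplicit false
open Cfsg

namespace Cfsg.Agent.S3643

open Subgroup Cfsg.Lib Cfsg.Lib.Perm Cfsg.Lib.Perm.DegSec Cfsg.Lib.Spor
open Cfsg.Lib.Spor.O7920 (instFact11)

theorem dec : ∀ m ∈ Nat.divisors 8640, 11 * m ∈ [660, 7920, 95040, 15840, 23760, 31680, 47520] ∨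
    PrimeOne.kill 310 (11 * m) = true := by
  decide +kernel

theorem card_mem {S : Type*} [Group S] [Finite S] [IsSimpleGroup S] (hS : ¬ IsMulCommutative S)
    (h1 : Nat.card S ∣ 95040) (h2 : 11 ∣ Nat.card S) :
    Nat.card S = 660 ∨ Nat.card S = 7920 ∨ Nat.card S = 95040 := by
  obtain ⟨m, hm⟩ := h2
  have h := (dec m (Nat.mem_divisors.2 ⟨Nat.dvd_of_mul_dvd_mul_left (by norm_num) (hm ▸ h1 :
    11 * m ∣ 11 * 8640), by norm_num⟩)).resolve_right (hm ▸ PrimeOne.not_kill hS _)
  rw [← hm] at h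
  have k1 := Kill2.card_ne hS (R := [(2, 5), (3, 2), (5, 1), (11, 1)]) (p := 11) (a := 5)
    (by decide +kernel)
  have k2 := Kill2.card_ne hS (R := [(2, 4), (3, 3), (5, 1), (11, 1)]) (p := 11) (a := 4)
    (by decide +kernel)
  have k3 := Kill2.card_ne hS (R := [(2, 6), (3, 2), (5, 1), (11, 1)]) (p := 11) (a := 6)
    (by decide +kernel)
  have k4 := Kill2.card_ne hS (R := [(2, 5), (3, 3), (5, 1), (11, 1)]) (p := 11) (a := 5)
    (by decide +kernel)
  simp only [List.mem_cons, List.not_mem_nil, or_false] at h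
  rcases h with h | h | h | h | h | h | h
  exacts [Or.inl h, Or.inr (Or.inl h), Or.inr (Or.inr h), absurd h k1, absurd h k2, absurd h k3,
    absurd h k4]

theorem not_dvd_M11 {b : ℕ} (hb : b ∈ charDegrees Spor.M11) (h : 11 ∣ b) : ¬ 3 ∣ b := by
  have := MP.isSimpleGroup_M11
  obtain ⟨χ, hχ⟩ := hb
  have h1 := (S4429.result MP.card_M11).2 b
  have : Nonempty {χ : IrrCharacter Spor.M11 // charDegree (χ : Spor.M11 → ℂ) = b} := ⟨⟨χ, hχ⟩⟩
  have h2 := Nat.card_pos (α := {χ : IrrCharacter Spor.M11 // charDegree (χ : Spor.M11 → ℂ) = b})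
  split_ifs at h1 <;> omega


/-- Let G be a finite group of the same order as the Mathieu group M₁₂ whose character degree graph equals that of M₁₂ (same primes dividing some irreducible complex character degree, same pairs of distinct primes whose product divides some degree). Then G is isomorphic to M₁₂ or to the direct product of the alternating group of degree 4 with M₁₁. -/
theorem result {G : Type*} [Group G] [Finite G] (hcard : Nat.card G = Nat.card ↥Cfsg.Spor.M12) (hΔ : Cfsg.degreePrimes G = Cfsg.degreePrimes ↥Cfsg.Spor.M12 ∧ Cfsg.degreeGraph G = Cfsg.degreeGraph ↥Cfsg.Spor.M12) :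
    Nonempty (G ≃* ↥Cfsg.Spor.M12) ∨ Nonempty (G ≃* alternatingGroup (Fin 4) × ↥Cfsg.Spor.M11) := by
  have := MP.isSimpleGroup_M11
  have := MP.isSimpleGroup_M12
  have h55 := M12Deg.mem55 MP.card_M12
  have h66 := M12Deg.mem66 MP.card_M12
  rw [MP.card_M12] at hcard
  obtain ⟨-, -, -, d, hd, hd'⟩ : (degreeGraph G).Adj 5 11 :=
    hΔ.2 ▸ ⟨by norm_num, by norm_num, by norm_num, 55, h55, by norm_num⟩
  obtain ⟨-, -, -, f, hf, hf'⟩ : (degreeGraph G).Adj 3 11 :=
    hΔ.2 ▸ ⟨by norm_num, by norm_num, by norm_num, 66, h66, by norm_num⟩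
  obtain ⟨K, hK, N, hN, h1, h2, h3, h4⟩ := exists_section (G := G) (p := 11) (r := 2)
    (by norm_num) (by rw [hcard]; norm_num) (hΔ.1 ▸ ⟨by norm_num, 66, h66, by norm_num⟩)
    (hΔ.1 ▸ ⟨by norm_num, 66, h66, by norm_num⟩) fun c h1 h2 h3 => absurd h3
      (forall_primePow (n := 95040) [2, 3, 5, 11] (P := (· % 11 ≠ 1)) (by decide +kernel) c h1
        (hcard ▸ h2))
  have h5 := card_sec K N
  rw [hcard] at h5
  rcases card_mem h2 (Dvd.intro _ h5) h3 with h | h | h <;> rw [h] at h5
  · have h6 : Nat.card N * K.index = 144 := by omega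
    obtain ⟨e, he, k, rfl, hk⟩ := exists_under K hd
    have h7 := sq_le_index (le_center N h4 (Dvd.intro _ h6) (by decide +kernel)) he
    have h8 := Nat.le_of_dvd (pos_of_mem he) ((Nat.Coprime.coprime_dvd_right
      (hk.trans (Dvd.intro_left _ h6)) (by norm_num)).dvd_of_dvd_mul_left hd')
    have h9 : N.index = 660 := h
    nlinarith
  · have h6 : Nat.card N * K.index = 12 := by omega
    obtain ⟨e⟩ := equiv_of_multiplier (le_center N h4 (Dvd.intro _ h6) (by decide +kernel))
      (commutator_eq_top N h2 h4 fun e => absurd (e.trans (Dvd.intro _ h6)) (by norm_num))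
      S2034.result (O7920.isoM11 h).some
    obtain ⟨C, h7, ⟨g⟩⟩ := exists_prod K
      (PrimeOne.not_comm_of_not_prime (by rw [MP.card_M11]; norm_num)) S2060.result e
    have h8 := card_mul_index K
    rw [Nat.card_congr e.toEquiv, MP.card_M11, hcard, ← h7] at h8
    replace h8 : Nat.card C = 12 := by omega
    obtain ⟨a, ha, b, hb, rfl⟩ := exists_mul g hf
    have h9 := sq_le_index le_rfl ha
    have h10 := Nat.le_of_dvd Nat.card_pos (index_dvd_card (center C))
    have h11 := pos_of_mem ha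
    have h12 : a < 4 := by nlinarith
    have h13 : 11 ∣ b := ((by norm_num : Nat.Prime 11).dvd_mul.1
      ((Dvd.intro_left _ rfl).trans hf')).resolve_left (by omega)
    have h14 : 3 ∣ a := (Nat.prime_three.dvd_mul.1
      ((Dvd.intro _ rfl).trans hf')).resolve_right (not_dvd_M11 hb h13)
    obtain rfl : a = 3 := by omega
    refine Or.inr ⟨g.trans (MulEquiv.prodCongr (S0228.result h8 fun z h15 h16 => ?_).some
      (MulEquiv.refl _))⟩
    have h17 := Nat.le_of_dvd Nat.card_pos (h15 ▸ orderOf_dvd_natCard _ h16)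
    have h18 := card_mul_index (center C)
    nlinarith
  · have := simple_of_sec K N (h.trans hcard.symm)
    have := Fintype.ofFinite G
    exact Or.inl (O95040.isoM12 hcard)


end Cfsg.Agent.S3643
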