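import Cfsg.Statements.S2475
import Cfsg.Agent.Known.PSL2Basic

set_option autoImplicit false
open Cfsg

namespace Cfsg.Agent.S2475

open Cfsg.Lib.Known Cfsg.Lib.Known.GL2 Matrix

/-- The set of element orders of PSL(2,q): let F be a finite field of characteristic p with q ≥ 4 elements and d = gcd(2, q − 1). The orders of elements of PSL(2,F) are exactly the divisors of p, of (q − 1)/d and of (q + 1)/d. -/
theorem result {F : Type*} [Field F] [Fintype F] (p : ℕ) [Fact p.Prime] [CharP F p] (h4 : 4 ≤ Fintype.card F) :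
    Set.range (orderOf : Matrix.ProjectiveSpecialLinearGroup (Fin 2) F → ℕ) =
      {m : ℕ | m ∣ p ∨ m ∣ (Fintype.card F - 1) / Nat.gcd 2 (Fintype.card F - 1) ∨ m ∣ (Fintype.card F + 1) / Nat.gcd 2 (Fintype.card F - 1)} := by
  ext m
  constructor
  · rintro ⟨x, rfl⟩
    exact (orderOf_PSL2_cases p x).imp_left dvd_of_eq
  · rintro (h | h | h)
    · rcases (Nat.dvd_prime Fact.out).1 h with rfl | rfl
      · exact ⟨1, orderOf_one⟩
      · exact ⟨_, orderOf_piSL_Z_mul_u m (slLin F).Z.one_mem one_ne_zero⟩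
    · have := isCyclic_T_SL (F := F)
      obtain ⟨g, -, hg⟩ := exists_orderOf_piSL_of_dvd (slLin F).Z_le_T (m := m)
        (by rwa [card_T_SL])
      exact ⟨_, hg⟩
    · obtain ⟨s, hs, -⟩ := (slLin F).exists_isEll
      have := (slLin F).isCyclic_centralizer_ell hs
      obtain ⟨g, -, hg⟩ := exists_orderOf_piSL_of_dvd
        ((slLin F).isTorus_centralizer hs.disc_ne_zero).Z_le (m := m)
        (by rwa [card_centralizer_ell_SL hs])
      exact ⟨_, hg⟩

end Cfsg.Agent.S2475
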