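import Cfsg.Statements.S5604
import Cfsg.Agent.Spor.M24Tools

set_option autoImplicit false
open scoped Pointwise
open Cfsg

namespace Cfsg.Agent.S5604

open Cfsg.Lib.Spor Cfsg.Lib.Spor.MP Cfsg.Lib.Spor.Orb

/-- The normaliser of the standard subgroup of order seven. -/
def N0 : Subgroup (Equiv.Perm GolayPt) :=
  M24 ⊓ Subgroup.normalizer (Subgroup.zpowers (toPerm r7A) : Set (Equiv.Perm GolayPt))

/-- Generators of the normaliser. -/
def gN : List ℕ := [27608759475335274811329693448966881, 7127413031287655251574420550169655]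

/-- Certificate. -/
def cN : List Cfsg.Lib.Spor.PK.Cert :=
  [⟨0, [1472, 64], [[0, 1], [0, 0, 1, 0]]⟩,
   ⟨1, [1472], [[0, 1], [0, 0]]⟩,
   ⟨2, [576, 1409, 321, 832, 897, 1280], [[0, 0, 1, 0]]⟩,
   ⟨3, [640, 256], []⟩]

theorem conj_aux {t e : ℕ} (h : (isM24 t && peq (pconj t (ppow r7A e)) r7B) = true) :
    toPerm t * toPerm r7A ^ e * (toPerm t)⁻¹ = toPerm r7B :=
  ((rep_of_isM24 (Bool.and_eq_true_iff.1 h).1).conj (inSub_r7A.rep.pow e)).eq_of_peq inSub_r7B.rep
    (Bool.and_eq_true_iff.1 h).2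

theorem conj6 : toPerm 57337685057609203595047870555228896 * toPerm r7A ^ 6 *
    (toPerm 57337685057609203595047870555228896)⁻¹ = toPerm r7B := conj_aux (by decide +kernel)

theorem card_N0_le : Nat.card N0 ≤ 126 := by
  refine (card_normalizer_le M24 (toPerm r7A) {toPerm r7A, toPerm r7A ^ 2, toPerm r7A ^ 4}
    fun g hg h => ?_).trans ?_
  · obtain ⟨e, he, h⟩ := exists_pow_of_mem_zpowers orderOf_r7A (by norm_num) h
    have no : ∀ t, (isM24 t && peq (pconj t (ppow r7A e)) r7B) = true → False := fun t ht =>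
      isClassList_M24.not_conj (i := 11) (j := 12) (by norm_num) (by decide)
        ⟨toPerm t * g, M24.mul_mem (toPerm_mem_M24 (Bool.and_eq_true_iff.1 ht).1) hg, by
          change _ * toPerm r7A * _ = toPerm r7B
          rw [← conj_aux ht, h]; group⟩
    rw [← h]
    interval_cases e
    · have := orderOf_r7A
      rw [show toPerm r7A = 1 by simpa using h.symm] at this
      simp at this
    · simp
    · simp
    · exact (no 70686859431822942665288349385001696 (by decide +kernel)).elim
    · simp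
    · exact (no 67638240134111407311512791145614048 (by decide +kernel)).elim
    · exact (no 57337685057609203595047870555228896 (by decide +kernel)).elim
  · rw [card_cent_r7A]
    exact Nat.mul_le_mul_right 42 Finset.card_le_three

theorem N0_spec : Nat.card N0 = 126 ∧ pclosure gN = N0 := by
  have h : ∀ t ∈ gN, InSub N0 t := by
    have : ∀ t ∈ gN, isM24 t = true ∧ ∃ e < 7, peq (pconj t r7A) (ppow r7A e) = true := by
      decide +kernel
    intro t ht
    obtain ⟨h1, e, -, h2⟩ := this t ht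
    exact inSub_normalizer inSub_r7A.1 (inSub_M24 h1) h2
  have hc : PK.chkLowF 9 24 cN (gN.map toPK) = true := by decide +kernel
  exact ⟨le_antisymm card_N0_le (pk_le_card h hc), (pk_chain_low h hc card_N0_le).1⟩

/-- For a subgroup S of order 7 of the group of the length-24 code (a Sylow 7-subgroup): the normaliser of S has order 126, the centraliser of S has order 42 and is non-abelian, and the whole normaliser leaves some trio invariant. (These are the orders of a Frobenius group of order 21 times a symmetric group of degree 3; the isomorphism type itself is not asserted here.) -/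
theorem result (S : Subgroup ↥Cfsg.M24) (hS : Nat.card S = 7) : Nat.card ↥(Subgroup.normalizer (S : Set ↥Cfsg.M24)) = 126 ∧ Nat.card ↥(Subgroup.centralizer (S : Set ↥Cfsg.M24)) = 42 ∧ (∃ x ∈ Subgroup.centralizer (S : Set ↥Cfsg.M24), ∃ y ∈ Subgroup.centralizer (S : Set ↥Cfsg.M24), x * y ≠ y * x) ∧ ∃ T ∈ Cfsg.trios, ∀ n ∈ Subgroup.normalizer (S : Set ↥Cfsg.M24), ((n : ↥Cfsg.M24) : Equiv.Perm Cfsg.GolayPt) • T = T := by
  obtain ⟨y, k, hk, rfl, e⟩ : ∃ y : M24, ∃ k ∈ M24, Subgroup.zpowers y = S ∧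
      k * toPerm r7A * k⁻¹ = y := by
    obtain ⟨x, hx, rfl⟩ := exists_zpowers_of_prime_card (by norm_num) hS
    obtain ⟨k, hk, e | e⟩ := M24_order_seven x.2 (by rw [Subgroup.orderOf_coe, hx])
    · exact ⟨x, k, hk, rfl, e⟩
    · have x7 : x ^ 7 = 1 := hx ▸ pow_orderOf_eq_one x
      have r7 : toPerm r7A ^ 7 = 1 := orderOf_r7A ▸ pow_orderOf_eq_one _
      refine ⟨x ^ 6, k * toPerm 57337685057609203595047870555228896,
        M24.mul_mem hk (toPerm_mem_M24 (by decide +kernel)), le_antisymm
          (Subgroup.zpowers_le.2 (Subgroup.npow_mem_zpowers x 6)) (Subgroup.zpowers_le.2 ?_), ?_⟩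
      · have : (x ^ 6) ^ 6 = x := by
          rw [← pow_mul, show 6 * 6 = 7 * 5 + 1 from rfl, pow_succ, pow_mul, x7]; simp
        have h6 := Subgroup.npow_mem_zpowers (x ^ 6) 6
        rwa [this] at h6
      · rw [Subgroup.coe_pow, ← e, ← conj6, conj_pow, conj_pow, ← pow_mul,
          show 6 * 6 = 7 * 5 + 1 from rfl, pow_succ, pow_mul, r7]
        group
  have hN : ∀ n : M24, n ∈ Subgroup.normalizer (Subgroup.zpowers y : Set M24) ↔
      k⁻¹ * n * k⁻¹⁻¹ ∈ N0 := fun n => by
    rw [N0, Subgroup.mem_inf, and_iff_right (conj_mem_M24 (M24.inv_mem hk) n),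
      mem_normalizer_zpowers_iff, mem_normalizer_zpowers_iff, mem_zpowers_coe_iff,
      ← conj_mem_zpowers_conj_iff (k := k) (x := toPerm r7A), e, Subgroup.coe_mul,
      Subgroup.coe_mul, Subgroup.coe_inv, ← e]
    simp [mul_assoc]
  have hC : ∀ n : M24, n ∈ Subgroup.centralizer (Subgroup.zpowers y : Set M24) ↔
      k⁻¹ * n * k⁻¹⁻¹ ∈ M24 ⊓ Subgroup.centralizer {toPerm r7A} := fun n => by
    rw [Subgroup.mem_inf, and_iff_right (conj_mem_M24 (M24.inv_mem hk) n),
      mem_centralizer_zpowers_iff, Subgroup.mem_centralizer_singleton_iff, ← Subtype.coe_inj,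
      Subgroup.coe_mul, Subgroup.coe_mul, ← e]
    constructor
    · intro h
      calc k⁻¹ * n * k⁻¹⁻¹ * toPerm r7A = k⁻¹ * (n * (k * toPerm r7A * k⁻¹)) * k := by group
        _ = _ := by rw [h]; group
    · intro h
      calc n * (k * toPerm r7A * k⁻¹) = k * (k⁻¹ * n * k⁻¹⁻¹ * toPerm r7A) * k⁻¹ := by group
        _ = _ := by rw [h]; group
  let eC := equivOfConj _ _ inf_le_left (M24.inv_mem hk) hC
  refine ⟨(Nat.card_congr (equivOfConj _ _ inf_le_left (M24.inv_mem hk) hN).toEquiv).trans N0_spec.1,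
    (Nat.card_congr eC.toEquiv).trans card_cent_r7A, ?_,
    k • fam 3 3100519014444388813185, smul_mem_trios hk (mem_trios_of (by decide +kernel)),
    fun n hn => ?_⟩
  · have a : ∀ t ∈ cg7A, InSub (M24 ⊓ Subgroup.centralizer {toPerm r7A}) t :=
      cent7A.1 ▸ inSub_pclosure (by decide +kernel)
    have a1 := a 17623527737917500349162246863561783 (by decide +kernel)
    have a2 := a 975720310903642165457008918268058625 (by decide +kernel)
    refine ⟨_, (eC.symm ⟨_, a1.2⟩).2, _, (eC.symm ⟨_, a2.2⟩).2, fun h => ?_⟩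
    have h1 : eC.symm ⟨_, a1.2⟩ * eC.symm ⟨_, a2.2⟩ = eC.symm ⟨_, a2.2⟩ * eC.symm ⟨_, a1.2⟩ :=
      Subtype.ext h
    rw [← map_mul, ← map_mul, eC.symm.injective.eq_iff] at h1
    exact absurd ((a1.rep.comm_iff a2.rep).2 (congrArg Subtype.val h1)) (by decide +kernel)
  · have h2 := pclosure_le_stabilizer_fam (gens := gN) (k := 3) (s := 3100519014444388813185)
      (by decide +kernel) (N0_spec.2 ▸ (hN n).1 hn)
    rwa [MulAction.mem_stabilizer_iff, mul_smul, mul_smul, inv_smul_eq_iff, inv_inv] at h2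

end Cfsg.Agent.S5604
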