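import Cfsg.Statements.S3559
import Cfsg.Agent.Perm.SchurRing

set_option autoImplicit false
open Cfsg

namespace Cfsg.Agent.S3559

open Cfsg.Lib.Perm.Schur in

/-- Let G act faithfully and transitively on a finite set whose number of points n ≥ 2 is not a prime power, and suppose G has a cyclic subgroup acting regularly (transitively with trivial point stabilizers). Then G is imprimitive or doubly transitive. -/
theorem result {G Ω : Type*} [Group G] [Finite G] [MulAction G Ω] [FaithfulSMul G Ω] [Finite Ω]
    (htrans : MulAction.IsPretransitive G Ω) (hn : 2 ≤ Nat.card Ω) (hnp : ¬ IsPrimePow (Nat.card Ω))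
    (C : Subgroup G) (hcyc : IsCyclic ↥C) (hC : MulAction.IsPretransitive ↥C Ω ∧ ∀ a : Ω, MulAction.stabilizer ↥C a = ⊥) :
    ¬ MulAction.IsPreprimitive G Ω ∨ MulAction.IsMultiplyPretransitive G Ω 2 := by
  rw [or_iff_not_imp_left, not_not]
  intro hprim
  have : Nonempty Ω := by
    have : 0 < Nat.card Ω := by omega
    exact (Nat.card_pos_iff.mp this).1
  obtain ⟨a⟩ := this
  obtain ⟨χ, -, hχ⟩ := exists_equiv_of_regular C hC.1 a (hC.2 a)
  have hcard : Nat.card C = Nat.card Ω := Nat.card_congr χ
  have : Finite C := Finite.of_equiv _ χ.symm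
  letI : CommGroup C := IsCyclic.commGroup
  have hp : (Nat.card Ω).minFac.Prime := Nat.minFac_prime (by omega)
  obtain ⟨e, he, hE⟩ := exists_unique_order_prime (A := C) hcyc hp
    (by rw [hcard]; exact Nat.minFac_dvd _)
  apply two_pretransitive_of_orb χ hχ
  intro s t hs ht
  refine mem_orb_of_primitive (A := C) hχ hp he hE ?_ (invSub_trivial_of_primitive χ) hs ht
  intro h
  apply hnp
  have := Nat.card_zpowers e
  rw [h, Subgroup.card_top, he, hcard] at this
  rw [this]
  exact hp.isPrimePow

end Cfsg.Agent.S3559
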