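import Cfsg.Statements.S1233
import Cfsg.Agent.Solv.HaradaE8c

set_option autoImplicit false
open Cfsg

namespace Cfsg.Agent.S1233

open scoped commutatorElement
open Subgroup Cfsg.Lib.Solv Cfsg.Lib.Solv.PG

/-- Elements centralising `Z`, and `B` modulo `Z`. -/
def cmodC {G : Type*} [Group G] (Z : Subgroup G) (B : Set G) : Subgroup G where
  carrier := {x | x ∈ centralizer (Z : Set G) ∧ ∀ b ∈ B, ⁅x, b⁆ ∈ Z}
  one_mem' := ⟨one_mem _, by simp⟩
  mul_mem' := fun {x y} hx hy => ⟨mul_mem hx.1 hy.1, fun b hb => by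
    rw [commutatorElement_mul_left_eq_conj_mul, ← hx.1 _ (hy.2 b hb), mul_inv_cancel_right]
    exact mul_mem (hy.2 b hb) (hx.2 b hb)⟩
  inv_mem' := fun {x} hx => ⟨inv_mem hx.1, fun b hb => by
    rw [show ⁅x⁻¹, b⁆ = x⁻¹ * (⁅x, b⁆⁻¹ * x) by simp only [commutatorElement_def]; group,
      hx.1 _ (inv_mem (hx.2 b hb)), inv_mul_cancel_left]
    exact inv_mem (hx.2 b hb)⟩

section
variable {G : Type*} [Group G] [Finite G] {Q A B Z : Subgroup G}

theorem mem_of_fixed (hZ : Nat.card Z = 2) (hZA : Z ≤ A) (hZB : Z ≤ B)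
    (hA : ∀ a ∈ A, a ^ 2 = 1) (hB : ∀ b ∈ B, b ^ 2 = 1) (hB8 : Nat.card B = 8)
    (hQ : A ⊔ B = Q) (hQZ : ⁅Q, Q⁆ ≤ Z) (hC : centralizer (Q : Set G) ≤ Z)
    {c v : G} (hc : c ∈ normalizer (Q : Set G)) (hcA : c ∈ centralizer (A : Set G)) (hcQ : c ∉ Q)
    (hZQ : Q ≤ centralizer (Z : Set G)) (hv : v ∈ Q) (hvc : ⁅v, c⁆ ∈ Z) : v ∈ A := by
  have hAQ : A ≤ Q := hQ ▸ le_sup_left
  have hBQ : B ≤ Q := hQ ▸ le_sup_right
  have hmem : ∀ q ∈ Q, ∃ a ∈ A, ∃ b ∈ B, q = a * b := fun q hq =>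
    (mem_sup_iff_of_le_normalizer fun b hb => mem_normalizer_of_commutator_mem hAQ (hBQ hb)
      fun s hs => hZA (hQZ (commutator_mem_commutator (hBQ hb) hs))).mp (hQ ▸ hq)
  have hcen : ∀ w, w ∈ centralizer (A : Set G) → w ∈ centralizer (B : Set G) → w ∈ Z :=
    fun w h1 h2 => hC fun q hq => by
      obtain ⟨a, ha, b, hb, rfl⟩ := hmem q hq
      exact ((show Commute a w from h1 a ha).mul_left (h2 b hb)).eq
  have hcq : ∀ q ∈ Q, ⁅q, c⁆ ∈ Q := fun q hq => by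
    rw [commutatorElement_def, mul_assoc, mul_assoc, ← mul_assoc c]
    exact mul_mem hq ((mem_normalizer_iff.mp hc _).mp (inv_mem hq))
  have hcA' : ∀ q ∈ Q, ⁅q, c⁆ ∈ centralizer (A : Set G) := fun q hq a ha => by
    have h1 := hcA _ (show q⁻¹ * a * q ∈ A by
      rw [show q⁻¹ * a * q = ⁅q⁻¹, a⁆ * a by simp [commutatorElement_def]]
      exact mul_mem (hZA (hQZ (commutator_mem_commutator (inv_mem hq) (hAQ ha)))) ha)
    calc a * ⁅q, c⁆ = q * (q⁻¹ * a * q * c) * q⁻¹ * c⁻¹ := by rw [commutatorElement_def]; group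
      _ = ⁅q, c⁆ * (c * a * c⁻¹) := by rw [h1, commutatorElement_def]; group
      _ = _ := by rw [← hcA a ha, mul_inv_cancel_right]
  have hA' : ∀ q ∈ Q, ⁅q, c⁆ ^ 2 = 1 := fun q hq => by
    obtain ⟨a, ha, b, hb, h1⟩ := hmem _ (hcq q hq)
    have h2 : b ∈ Z := hcen b ((mul_mem_cancel_left (show a ∈ centralizer (A : Set G) from
      fun x hx => mul_comm_of_sq_eq_one hA hx ha)).mp (h1 ▸ hcA' q hq))
      fun x hx => mul_comm_of_sq_eq_one hB hx hb
    exact h1 ▸ hA _ (mul_mem ha (hZA h2))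
  have hB' : ∀ b ∈ B, Commute b ⁅b, c⁆ := fun b hb => by
    have h1 := hA' b (hBQ hb)
    have h2 : (b⁻¹ * ⁅b, c⁆) ^ 2 = 1 := by
      rw [show b⁻¹ * ⁅b, c⁆ = c * b⁻¹ * c⁻¹ by rw [commutatorElement_def]; group, conj_pow,
        hB _ (inv_mem hb), mul_one, mul_inv_cancel]
    rw [inv_eq_self_of_sq (hB b hb)] at h2
    have h3 := inv_eq_self_of_sq h2
    rwa [mul_inv_rev, inv_eq_self_of_sq h1, inv_eq_self_of_sq (hB b hb), eq_comm] at h3
  have hmul : ∀ q ∈ Q, ∀ q' : G, ⁅q', c⁆ ∈ Z → ⁅q * q', c⁆ = ⁅q', c⁆ * ⁅q, c⁆ := fun q hq q' h => by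
    rw [commutatorElement_mul_left_eq_conj_mul, ← hZQ hq _ h, mul_inv_cancel_right]
  obtain ⟨a, ha, b, hb, rfl⟩ := hmem v hv
  refine mul_mem ha (hZA (by_contra fun hbZ => hcQ ?_))
  have ha1 : ∀ a ∈ A, ⁅a, c⁆ = 1 := fun a ha => commutatorElement_eq_one_iff_mul_comm.mpr (hcA a ha)
  have hb1 : ⁅b, c⁆ ∈ Z := by
    rw [commutatorElement_mul_left_eq_conj_mul, ha1 a ha, mul_one] at hvc
    have := hZQ (hAQ ha) _ hvc
    rw [inv_mul_cancel_right, mul_right_inj] at this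
    exact this ▸ hvc
  have hn : ∀ x ∈ Q, ∀ X : Subgroup G, Z ≤ X → X ≤ Q → x ∈ normalizer (X : Set G) :=
    fun x hx X h1 h2 => mem_normalizer_of_commutator_mem h2 hx
      fun s hs => h1 (hQZ (commutator_mem_commutator hx hs))
  have h1 := card_sup_zpowers Nat.prime_two (hn b (hBQ hb) Z le_rfl (hZA.trans hAQ)) hbZ
    (hB b hb ▸ one_mem Z)
  have h2 : Z ⊔ zpowers b ≤ B := sup_le hZB (zpowers_le.mpr hb)
  obtain ⟨b', hb', hb'1⟩ := SetLike.exists_of_lt (lt_of_le_of_ne h2 fun h => by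
    rw [h, hZ, hB8] at h1; omega)
  have h4 := sup_zpowers_eq_of_card_eq_prime_mul Nat.prime_two h2 (by rw [h1, hZ, hB8]) hb' hb'1
  have hb'2 : ⁅b', c⁆ ∈ Z := hcen _ (hcA' b' (hBQ hb')) (by
    rw [← zpowers_le, le_centralizer_iff, ← h4, sup_le_iff, sup_le_iff, zpowers_le, zpowers_le,
      ← le_centralizer_iff, zpowers_le, zpowers_eq_closure, centralizer_closure,
      mem_centralizer_singleton_iff, mem_centralizer_singleton_iff]
    refine ⟨⟨hZQ (hcq _ (hBQ hb')), ?_⟩, hB' b' hb'⟩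
    have h5 := hB' _ (mul_mem hb' hb)
    rw [hmul b' (hBQ hb') b hb1] at h5
    have h6 : Commute (b' * b) ⁅b, c⁆ := (hZQ (hBQ (mul_mem hb' hb)) _ hb1).symm
    have h7 : Commute (b' * b) ⁅b', c⁆ := inv_mul_cancel_left ⁅b, c⁆ ⁅b', c⁆ ▸ h6.inv_right.mul_right h5
    simpa using ((hB' b' hb').inv_left.mul_left h7).eq)
  have hZc : c ∈ centralizer (Z : Set G) := centralizer_le hZA hcA
  have hcn : ∀ q ∈ Q, ⁅q, c⁆ ∈ Z := fun q hq => by
    refine ((show Q ≤ cmodC Z {c} from ?_) hq).2 c rfl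
    rw [← hQ, ← h4, sup_le_iff, sup_le_iff, sup_le_iff, zpowers_le, zpowers_le]
    exact ⟨fun a ha => ⟨hZQ (hAQ ha), by simp [ha1 a ha]⟩, ⟨fun z hz => ⟨hZQ (hAQ (hZA hz)),
      by simp [ha1 z (hZA hz)]⟩, hZQ (hBQ hb), by simpa using hb1⟩, hZQ (hBQ hb'), by simpa using hb'2⟩
  have : IsCyclic Z := isCyclic_of_prime_card (p := 2) hZ
  have h5 := sup_inf_centralizer_eq_of_commutator_le (A := Q ⊔ zpowers c) (B := Q) (Z := Z)
    le_sup_left (commutator_le.mpr fun x hx q hq => ?_) (sup_le hZQ (zpowers_le.mpr hZc))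
    (inf_le_right.trans (hC.trans (le_centralizer_iff.mp (sup_le hZQ (zpowers_le.mpr hZc)))))
  · exact (sup_le le_rfl (inf_le_right.trans (hC.trans (hZA.trans hAQ))))
      (h5.ge (mem_sup_right (mem_zpowers c)))
  · refine ((show Q ⊔ zpowers c ≤ cmodC Z Q from sup_le (fun y hy => ⟨hZQ hy, fun w hw =>
      hQZ (commutator_mem_commutator hy hw)⟩) (zpowers_le.mpr ⟨hZc, fun w hw => ?_⟩)) hx).2 q hq
    rw [← commutatorElement_inv]
    exact inv_mem (hcn w hw)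

theorem exists_of_not_le (hG : IsPGroup 2 G) (hZA : Z ≤ A) (hAQ : A ≤ Q) (hQZ : ⁅Q, Q⁆ ≤ Z)
    (hCA : centralizer (A : Set G) ⊓ Q ≤ A) (h : ¬ centralizer (A : Set G) ≤ A) :
    ∃ c ∈ normalizer (Q : Set G), c ∈ centralizer (A : Set G) ∧ c ∉ Q := by
  have : Fact (Nat.Prime 2) := ⟨Nat.prime_two⟩
  obtain ⟨c, hc, hcQ⟩ := SetLike.not_le_iff_exists.mp (not_inf_normalizer_le (hG.to_subgroup Q)
    (hG.to_subgroup _) (PG.le_normalizer_centralizer fun q hq => mem_normalizer_of_commutator_mem hAQ hq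
      fun s hs => hZA (hQZ (commutator_mem_commutator hq hs))) fun h1 => h fun x hx => hCA ⟨hx, h1 hx⟩)
  exact ⟨c, hc.2, hc.1, hcQ⟩

theorem centralizer_le_or (hG : IsPGroup 2 G) (hZ : Nat.card Z = 2) (hZA : Z ≤ A) (hZB : Z ≤ B)
    (hA : ∀ a ∈ A, a ^ 2 = 1) (hB : ∀ b ∈ B, b ^ 2 = 1) (hA8 : Nat.card A = 8)
    (hB8 : Nat.card B = 8) (hQ : A ⊔ B = Q) (hQZ : ⁅Q, Q⁆ ≤ Z)
    (hC : centralizer (Q : Set G) = Z) (hAB : A ⊓ B ≤ Z) (hCA : centralizer (A : Set G) ⊓ Q ≤ A)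
    (hCB : centralizer (B : Set G) ⊓ Q ≤ B) :
    centralizer (A : Set G) ≤ A ∨ centralizer (B : Set G) ≤ B := by
  have : Fact (Nat.Prime 2) := ⟨Nat.prime_two⟩
  have hAQ : A ≤ Q := hQ ▸ le_sup_left
  have hBQ : B ≤ Q := hQ ▸ le_sup_right
  by_contra! h
  obtain ⟨c, hc1, hc2, hc3⟩ := exists_of_not_le hG hZA hAQ hQZ hCA h.1
  obtain ⟨d, hd1, hd2, hd3⟩ := exists_of_not_le hG hZB hBQ hQZ hCB h.2
  obtain ⟨v, hv, hvZ, -, -, h1⟩ := exists_step_elt (hG.to_subgroup (normalizer (Q : Set G)))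
    (hG.to_subgroup Q) (hC ▸ PG.le_normalizer_centralizer le_rfl) le_rfl
    (lt_of_le_of_ne (hZA.trans hAQ) fun h1 => by
      have := card_le_of_le hAQ
      rw [← h1] at this
      omega)
  have hZQ := le_centralizer_iff.mp hC.ge
  exact hvZ (hAB ⟨mem_of_fixed hZ hZA hZB hA hB hB8 hQ hQZ hC.le hc1 hc2 hc3 hZQ hv
    (h1 c (mem_sup_left hc1)), mem_of_fixed hZ hZB hZA hB hA hA8 (sup_comm B A ▸ hQ) hQZ hC.le hd1
      hd2 hd3 hZQ hv (h1 d (mem_sup_left hd1))⟩)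
end

abbrev Q8 := QuaternionGroup 2

def cen (x : Q8) : Prop := x = 1 ∨ x = .a 2

instance (x : Q8) : Decidable (cen x) := inferInstanceAs (Decidable (_ ∨ _))

def sig : Q8 → Q8
  | .a i => if i.val % 2 = 0 then .a 0 else .xa 0
  | .xa i => if i.val % 2 = 0 then .xa 1 else .a 1

def gr (f : Q8 → Q8) (h1 : cen (f 1)) (h2 : ∀ x y z w, cen (f x * y⁻¹) → cen (f z * w⁻¹) →
    cen (f (x * z) * (y * w)⁻¹)) (h3 : ∀ x y, cen (f x * y⁻¹) → cen (f x⁻¹ * y)) :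
    Subgroup (Q8 × Q8) where
  carrier := {p | cen (f p.1 * p.2⁻¹)}
  one_mem' := by simpa using h1
  mul_mem' := fun {p q} => h2 _ _ _ _
  inv_mem' := fun {p} hp => by simpa using h3 _ _ hp

def A' : Subgroup (Q8 × Q8) := gr id (by decide) (by decide +kernel) (by decide +kernel)
def B' : Subgroup (Q8 × Q8) := gr sig (by decide) (by decide +kernel) (by decide +kernel)
instance : DecidablePred (· ∈ A') := fun p => inferInstanceAs (Decidable (cen (p.1 * p.2⁻¹)))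
instance : DecidablePred (· ∈ B') := fun p => inferInstanceAs (Decidable (cen (sig p.1 * p.2⁻¹)))
instance : DecidablePred (· ∈ A' ⊓ B') := fun p => inferInstanceAs (Decidable (p ∈ A' ∧ p ∈ B'))

def kk : Q8 × Q8 := (.a 2, .a 2)

theorem cardA' : Nat.card A' = 16 := by rw [Nat.card_eq_fintype_card]; decide +kernel
theorem cardB' : Nat.card B' = 16 := by rw [Nat.card_eq_fintype_card]; decide +kernel
theorem cardZ' : Nat.card (A' ⊓ B' : Subgroup _) = 4 := by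
  rw [Nat.card_eq_fintype_card]; decide +kernel
theorem sqA' : ∀ p ∈ A', p ^ 2 = 1 ∨ p ^ 2 = kk := by decide +kernel
theorem sqB' : ∀ p ∈ B', p ^ 2 = 1 ∨ p ^ 2 = kk := by decide +kernel
theorem comm' : ∀ p q : Q8 × Q8, p * q * p⁻¹ * q⁻¹ ∈ A' ⊓ B' := by decide +kernel
theorem gen' : ∀ p : Q8 × Q8, ∃ a ∈ A', a⁻¹ * p ∈ B' := by decide +kernel
theorem cenA' : ∀ p : Q8 × Q8, (∀ a ∈ A', a * p = p * a ∨ a * p = p * a * kk) → p ∈ A' := by
  decide +kernel
theorem cenB' : ∀ p : Q8 × Q8, (∀ a ∈ B', a * p = p * a ∨ a * p = p * a * kk) → p ∈ B' := by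
  decide +kernel
theorem cenZ' : ∀ p ∈ A' ⊓ B', ∀ q, q * p = p * q := by decide +kernel
theorem cen' : ∀ x : Q8, (∀ y, x * y = y * x) → cen x := by decide +kernel


/-- Let S be a finite 2-group and Q a subgroup of order 32 generated by two elementwise-commuting subgroups Q₁, Q₂ each isomorphic to the quaternion group of order 8 (so Q = Q₁ ∗ Q₂). If C_S(Q) ≤ Q, then every section of S has 2-rank at most 4. -/
theorem result {S : Type*} [Group S] [Finite S] (hS : IsPGroup 2 S) (Q Q₁ Q₂ : Subgroup S) (e₁ : Q₁ ≃* QuaternionGroup 2) (e₂ : Q₂ ≃* QuaternionGroup 2) (hcomm : ∀ a ∈ Q₁, ∀ b ∈ Q₂, a * b = b * a) (hQ : Q₁ ⊔ Q₂ = Q) (hQ32 : Nat.card Q = 32) (hC : Subgroup.centralizer (Q : Set S) ≤ Q) : Cfsg.SectionalPRankLE 2 4 S := by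
  let φ : Q8 × Q8 →* S := (Q₁.subtype.comp e₁.symm.toMonoidHom).noncommCoprod
    (Q₂.subtype.comp e₂.symm.toMonoidHom) fun x y => hcomm _ (e₁.symm x).2 _ (e₂.symm y).2
  have hφ : ∀ p, φ p = (e₁.symm p.1 : S) * e₂.symm p.2 := fun p => rfl
  have hr : φ.range = Q := by
    refine (MonoidHom.noncommCoprod_range _ _ _).trans ?_
    rw [← hQ, MonoidHom.range_comp, MonoidHom.range_comp,
      MonoidHom.range_eq_top.mpr e₁.symm.surjective, MonoidHom.range_eq_top.mpr e₂.symm.surjective,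
      ← MonoidHom.range_eq_map, ← MonoidHom.range_eq_map, range_subtype, range_subtype]
  have hk : ∀ p ∈ φ.ker, p = 1 ∨ p = kk := fun p hp => by
    have h1 : (e₁.symm p.1 : S) = (e₂.symm p.2 : S)⁻¹ := eq_inv_of_mul_eq_one_left hp
    have h2 := cen' p.1 fun y => e₁.symm.injective (Subtype.ext (by
      rw [map_mul, map_mul, coe_mul, coe_mul, h1, hcomm _ (e₁.symm y).2 _ (inv_mem (e₂.symm p.2).2)]))
    have h3 := cen' p.2 fun y => e₂.symm.injective (Subtype.ext (by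
      rw [map_mul, map_mul, coe_mul, coe_mul, ← inv_inv (e₂.symm p.2 : S), ← h1,
        hcomm _ (inv_mem (e₁.symm p.1).2) _ (e₂.symm y).2]))
    have h4 : p.1 = 1 ↔ p.2 = 1 := by
      rw [← e₁.symm.map_eq_one_iff, ← e₂.symm.map_eq_one_iff, ← OneMemClass.coe_eq_one,
        ← OneMemClass.coe_eq_one, h1, inv_eq_one]
    rcases h2 with h2 | h2
    · exact Or.inl (Prod.ext h2 (h4.mp h2))
    · exact Or.inr (Prod.ext h2 (h3.resolve_left fun h5 => absurd (h2 ▸ h4.mpr h5) (by decide)))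
  have hk2 : Nat.card φ.ker = 2 := by
    have h1 := φ.ker.index_mul_card
    rw [index_ker, hr, hQ32, Nat.card_eq_fintype_card (α := Q8 × Q8)] at h1
    have : Fintype.card (Q8 × Q8) = 64 := by decide +kernel
    omega
  have hkk : φ kk = 1 := by
    obtain ⟨p, hp, hp1⟩ := φ.ker.bot_or_exists_ne_one.resolve_left (by intro h; simp [h] at hk2)
    exact (hk p hp).resolve_left hp1 ▸ hp
  have hkX : φ.ker ≤ A' ⊓ B' := fun p hp => by rcases hk p hp with rfl | rfl <;> decide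
  have hcard : ∀ X, φ.ker ≤ X → Nat.card (X.map φ) * 2 = Nat.card X := fun X hX => by
    rw [← relIndex_ker, ← relIndex_mul_card hX, hk2]
  have h1 := hcard A' (hkX.trans inf_le_left)
  have h2 := hcard B' (hkX.trans inf_le_right)
  have h3 := hcard _ hkX
  rw [cardA'] at h1
  rw [cardB'] at h2
  rw [cardZ'] at h3
  have hsq : ∀ X : Subgroup (Q8 × Q8), (∀ p ∈ X, p ^ 2 = 1 ∨ p ^ 2 = kk) →
      ∀ a ∈ X.map φ, a ^ 2 = 1 := by
    rintro X hX _ ⟨p, hp, rfl⟩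
    rw [← map_pow]
    rcases hX p hp with h | h <;> simp [h, hkk]
  have hcen : ∀ X : Subgroup (Q8 × Q8),
      (∀ p, (∀ a ∈ X, a * p = p * a ∨ a * p = p * a * kk) → p ∈ X) →
      centralizer (X.map φ : Set S) ⊓ Q ≤ X.map φ := by
    rintro X hX x ⟨hx, hxQ⟩
    obtain ⟨p, rfl⟩ := hr.ge hxQ
    refine mem_map_of_mem φ (hX p fun a ha => ?_)
    have h4 : (p * a)⁻¹ * (a * p) ∈ φ.ker := by
      rw [MonoidHom.mem_ker, map_mul, map_inv, inv_mul_eq_one, map_mul, map_mul]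
      exact (hx _ (mem_map_of_mem φ ha)).symm
    exact (hk _ h4).imp (fun h => (inv_mul_eq_one.mp h).symm) inv_mul_eq_iff_eq_mul.mp
  have hAB : A'.map φ ⊓ B'.map φ = (A' ⊓ B').map φ := by
    apply le_antisymm _ (map_inf_le _ _ _)
    rintro _ ⟨⟨p, hp, rfl⟩, hq⟩
    exact mem_map_of_mem φ ⟨hp, (comap_map_eq_self (hkX.trans inf_le_right)).le hq⟩
  have hA := hcen _ cenA'
  have hB := hcen _ cenB'
  have hle : ∀ X, map φ X ≤ Q := fun X => hr ▸ map_le_range φ X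
  rcases centralizer_le_or (Q := Q) (Z := (A' ⊓ B').map φ) hS (by omega) (map_mono inf_le_left)
    (map_mono inf_le_right) (hsq _ sqA') (hsq _ sqB') (by omega) (by omega)
    (le_antisymm (sup_le (hle _) (hle _)) fun x hx => by
      obtain ⟨p, rfl⟩ := hr.ge hx
      obtain ⟨a, ha, hb⟩ := gen' p
      rw [← mul_inv_cancel_left a p, map_mul]
      exact mul_mem (mem_sup_left (mem_map_of_mem φ ha)) (mem_sup_right (mem_map_of_mem φ hb)))
    (commutator_le.mpr fun x hx y hy => by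
      obtain ⟨p, rfl⟩ := hr.ge hx
      obtain ⟨q, rfl⟩ := hr.ge hy
      exact map_commutatorElement φ p q ▸ mem_map_of_mem φ (comm' p q))
    (le_antisymm (fun x hx => hAB.le ⟨hA ⟨centralizer_le (hle _) hx, hC hx⟩,
      hB ⟨centralizer_le (hle _) hx, hC hx⟩⟩) (by
        rintro _ ⟨p, hp, rfl⟩ y hy
        obtain ⟨q, rfl⟩ := hr.ge hy
        rw [← map_mul, ← map_mul, cenZ' p hp]))
    hAB.le hA hB with h | h
  · exact secRank_four_of_selfCentralizing hS (hsq _ sqA') (by omega) h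
  · exact secRank_four_of_selfCentralizing hS (hsq _ sqB') (by omega) h

end Cfsg.Agent.S1233
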