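import Cfsg.Statements.S3660
import Cfsg.Agent.Perm.SpecMat

set_option autoImplicit false
open Cfsg

namespace Cfsg.Agent.S3660

open Matrix

theorem center_eq_bot {F : Type*} [Field F] [CharP F 2] :
    Subgroup.center (Matrix.SpecialLinearGroup (Fin 2) F) = ⊥ := by
  rw [eq_bot_iff]
  intro A hA
  obtain ⟨r, hr, hA⟩ := Matrix.SpecialLinearGroup.mem_center_iff.1 hA
  have h2 : (2 : F) = 0 := CharTwo.two_eq_zero
  have h1 : (r - 1) ^ 2 = 0 := by
    rw [Fintype.card_fin] at hr
    linear_combination hr + (1 - r) * h2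
  have h3 : r = 1 := sub_eq_zero.1 (pow_eq_zero_iff (two_ne_zero) |>.1 h1)
  rw [Subgroup.mem_bot]
  apply Subtype.ext
  rw [← hA, h3]
  simp

theorem sq_eq_one_of_fixed {F : Type*} [Field F] [CharP F 2]
    (g : Matrix.SpecialLinearGroup (Fin 2) F) {v : Fin 2 → F} (hv : v ≠ 0)
    (hgv : (g : Matrix (Fin 2) (Fin 2) F) *ᵥ v = v) : g ^ 2 = 1 := by
  have h2 : (2 : F) = 0 := CharTwo.two_eq_zero
  have hd := g.det_coe
  rw [Matrix.det_fin_two] at hd
  have e0 := congrFun hgv 0
  have e1 := congrFun hgv 1
  simp only [Matrix.mulVec, dotProduct, Fin.sum_univ_two] at e0 e1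
  have ht : g.1 0 0 + g.1 1 1 = 0 := by
    obtain ⟨i, hi⟩ := Function.ne_iff.1 hv
    apply (mul_eq_zero.1 _).resolve_right hi
    fin_cases i
    · simp only [Fin.zero_eta]
      linear_combination (1 - g.1 1 1) * e0 + g.1 0 1 * e1 + v 0 * hd + v 0 * h2
    · simp only [Fin.mk_one]
      linear_combination (1 - g.1 0 0) * e1 + g.1 1 0 * e0 + v 1 * hd + v 1 * h2
  apply Subtype.ext
  rw [pow_two]
  ext i j
  fin_cases i <;> fin_cases j <;> simp [Matrix.mul_apply, Fin.sum_univ_two]
  · linear_combination g.1 0 0 * ht - hd - h2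
  · linear_combination g.1 0 1 * ht
  · linear_combination g.1 1 0 * ht
  · linear_combination g.1 1 1 * ht - hd - h2

/-- The prime graph of a finite group has the prime divisors of its order as vertices, two distinct primes p, q being joined when the group has an element of order pq; two groups have the same prime graph when they have the same prime divisors and the same joined pairs. Let F be a finite field of characteristic 2 with at least 4 elements. Then there are finite groups of arbitrarily large order with the same prime graph as PSL(2,F); in particular PSL(2,F) is not determined by its prime graph. -/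
theorem result {F : Type*} [Field F] [Fintype F] [CharP F 2] (hF : 4 ≤ Fintype.card F) (N : ℕ) :
    ∃ (H : Type) (_ : Group H) (_ : Finite H), N < Nat.card H ∧
      ((∀ p : ℕ, p.Prime → (p ∣ Nat.card (Matrix.ProjectiveSpecialLinearGroup (Fin 2) F) ↔ p ∣ Nat.card H)) ∧
      (∀ p q : ℕ, p.Prime → q.Prime → p ≠ q → ((∃ g : (Matrix.ProjectiveSpecialLinearGroup (Fin 2) F), orderOf g = p * q) ↔ (∃ g : H, orderOf g = p * q)))) := by
  classical
  let G := Matrix.SpecialLinearGroup (Fin 2) F
  let f : G →* Matrix (Fin 2) (Fin 2) F :=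
    (Units.coeHom (Matrix (Fin 2) (Fin 2) F)).comp Matrix.SpecialLinearGroup.toGL
  have h2 : 2 ∣ Nat.card G := by
    let u : G := ⟨!![1, 1; 0, 1], by simp [Matrix.det_fin_two]⟩
    have ho : orderOf u = 2 := by
      apply orderOf_eq_prime
      · apply sq_eq_one_of_fixed u (v := ![1, 0])
        · simp
        · ext i; fin_cases i <;> simp [u, Matrix.mulVec, dotProduct, Fin.sum_univ_two]
      · intro h
        have := congrFun (congrFun (congrArg Subtype.val h) 0) 1
        simp [u] at this
    exact ho ▸ orderOf_dvd_natCard _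
  obtain ⟨H, _, _, hN, hH⟩ := Cfsg.Lib.Perm.exists_large_samePrimeGraph_of_rep
    (Cfsg.Lib.Perm.matRep f) Nat.prime_two (Cfsg.Lib.Perm.nsmul_fun_eq_zero_of_charP 2) h2
    (fun g v hp hp2 hv hgv => by
      exfalso
      have h6 : orderOf g ∣ 2 := orderOf_dvd_of_pow_eq_one (sq_eq_one_of_fixed g hv hgv)
      exact hp2 ((Nat.prime_dvd_prime_iff_eq hp Nat.prime_two).1 h6)) N
  have e : Matrix.ProjectiveSpecialLinearGroup (Fin 2) F ≃* G :=
    (QuotientGroup.quotientMulEquivOfEq center_eq_bot).trans QuotientGroup.quotientBot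
  have hF' : Finite (Matrix.ProjectiveSpecialLinearGroup (Fin 2) F) := Finite.of_equiv _ e.toEquiv.symm
  exact ⟨H, inferInstance, inferInstance, by rwa [Nat.card_eq_fintype_card],
    (Cfsg.Lib.Perm.samePrimeGraph_of_range_eq (Cfsg.Lib.Perm.range_orderOf_congr e)).trans hH⟩

end Cfsg.Agent.S3660
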