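import Cfsg.Statements.S3154
import Cfsg.Agent.SylT.EmbPsl
import Cfsg.Agent.SylT.Basic
import Cfsg.Agent.S3660

set_option autoImplicit false
open Cfsg Cfsg.Lib Cfsg.Lib.L34 Cfsg.Lib.Trans Cfsg.Lib.Gold Cfsg.Lib.Gomi Subgroup
open scoped commutatorElement

namespace Cfsg.Agent.S3154

section
variable {X Y : Type*} [Group X] [Group Y] [Finite X] [Finite Y] {F : Type*} [Field F] [Fintype F]
  {u : F → F → F → Y} {π : X →* Y}

omit [Finite X] in
theorem sq_comap (hF : Fintype.card F = 4) (hπ : Function.Surjective π) (hk : π.ker ≤ center X)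
    (hk2 : ∀ z ∈ π.ker, z * z = 1) (h : Hs u) (hp : HasPar F h.A h.B) :
    ∀ x ∈ h.A.comap π, x * x = 1 := by
  have := charP_four hF
  obtain ⟨ω, h0, h1, -⟩ := exists_omega hF
  have hz := hs_zz h hp
  have zc : ∀ {z : X}, π z = 1 → ∀ x, x * z = z * x := fun hz x => mem_center_iff.1 (hk hz) x
  have sq : ∀ {x : X}, π x ∈ h.A → π (x * x) = 1 := fun hx => by rw [map_mul, h.ab.sqA _ hx]
  obtain ⟨a, ha⟩ := hπ (u 1 0 0)
  have haA : π a ∈ h.A := ha ▸ h.u_mem_A.2 rfl
  have c1 : ∀ x, π x ∈ h.A → π x ≠ 1 → x * x = a * a := fun x hx hx1 => by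
    obtain ⟨l, -, e⟩ := hp.exists_conj_eq hx (by rwa [hz, mem_bot]) haA (by
      rw [hz, mem_bot, ha, h.eq_one_iff]; simp)
    obtain ⟨l, rfl⟩ := hπ l
    rw [hz, mem_bot, ← map_inv, ← map_inv, ← map_mul, ← map_mul, ← map_mul] at e
    calc x * x = l * (x * x) * l⁻¹ := by rw [zc (sq hx) l]; group
      _ = l * x * l⁻¹ * a⁻¹ * (a * (l * x * l⁻¹ * a⁻¹)) * a := by group
      _ = l * x * l⁻¹ * a⁻¹ * (l * x * l⁻¹ * a⁻¹) * (a * a) := by rw [zc e a]; group
      _ = a * a := by rw [hk2 _ e, one_mul]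
  have c2 : ∀ y t, t ≠ 0 → π y = u 0 0 t → ⁅a⁻¹, y⁆ = (a * a)⁻¹ := fun y t ht e => by
    have hy : π y ∈ h.A := e ▸ h.u_mem_A.2 rfl
    have e1 := c1 y hy (by rw [e]; simp [h.eq_one_iff, ht])
    have e2 := c1 (a * y) (map_mul π a y ▸ mul_mem haA hy) (by
      rw [map_mul, ha, e, h.mul]; simp [h.eq_one_iff])
    rw [show a * y * (a * y) = a * a * (⁅a⁻¹, y⁆ * (y * y)) by
      rw [commutatorElement_def]; group, e1, mul_eq_left] at e2
    exact eq_inv_of_mul_eq_one_left e2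
  obtain ⟨b, hb⟩ := hπ (u 0 0 1)
  obtain ⟨d, hd⟩ := hπ (u 0 0 ω)
  have e := c2 (b * d) (1 + ω) (fun e => h1 (by
    linear_combination e - CharTwo.two_eq_zero (R := F))) (by rw [map_mul, hb, hd, h.mul]; simp)
  rw [comm_mul_right', c2 b 1 one_ne_zero hb, c2 d ω h0 hd, mul_eq_left, conj_eq_one_iff,
    inv_eq_one] at e
  intro x hx
  by_cases hx1 : π x = 1
  · exact hk2 x hx1
  · rw [c1 x hx hx1, e]

theorem exists_compl (hF : Fintype.card F = 4) (hπ : Function.Surjective π)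
    (hk2 : ∀ z ∈ π.ker, z * z = 1) (h : Hs u) (hS : IsSylowIn 2 h.S ⊤) (hp : HasPar F h.A h.B)
    (hC : Cs h.Z ≤ h.S) (h1 : ∀ x ∈ h.A.comap π, x * x = 1) (h2 : ∀ x ∈ h.B.comap π, x * x = 1) :
    ∃ C : Subgroup X, C ≤ Ns (h.A.comap π) ∧ C ⊓ h.A.comap π = ⊥ ∧
      h.A.comap π ⊔ C = Ns (h.A.comap π) ∧
      Nonempty (C ≃* Matrix.ProjectiveSpecialLinearGroup (Fin 2) F) := by
  have := charP_four hF
  have hN : Ns (h.A.comap π) = (Ns h.A).comap π := (comap_normalizer_eq_of_surjective _ hπ).symm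
  have hT : IsSylowIn 2 (h.S.comap π) (Ns (h.A.comap π)) :=
    (hS.comap π (isPGroup_of_sq hk2) (MonoidHom.range_eq_top.2 hπ).ge).mono
      (hN ▸ comap_mono (h.S_le_Ns _ _)) le_top
  have := Tl.elemAb_of_sq h2
  obtain ⟨U, hU, e1, e2⟩ := Solv.ElemAb.exists_complement_of_le 2
    (inf_le_right : h.A.comap π ⊓ h.B.comap π ≤ _)
  have hs : h.A.comap π ⊔ h.B.comap π = h.S.comap π := by rw [comap_sup_eq _ _ _ hπ, h.sup_eq]
  have hUS : U ≤ h.S.comap π := hU.trans (hs ▸ le_sup_right)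
  have := isMulCommutative_of_sq (A := (h.A.comap π).subgroupOf (Ns (h.A.comap π)))
    fun a ha => Subtype.ext (h1 _ ha)
  obtain ⟨C, hK⟩ := Agent.S0051.result ((h.A.comap π).subgroupOf (Ns (h.A.comap π)))
    ((h.S.comap π).subgroupOf _) (comap_mono (hs ▸ le_sup_left))
    (Solv.coprime_card_of_isPGroup (isPGroup_subgroupOf (isPGroup_of_sq h1) _) (odd_iff_coprime.1
      (Nat.not_even_iff_odd.1 fun e => hT.not_dvd e.two_dvd))) (U.subgroupOf _) (comap_mono hUS)
    (eq_bot_iff.2 fun x hx => Subtype.ext (mem_bot.1 (e1.le ⟨⟨hx.2, hU hx.1⟩, hx.1⟩)))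
    (by
      rw [← subgroupOf_sup le_normalizer (hUS.trans hT.le), ← hs]
      conv_rhs => rw [← e2, ← sup_assoc, sup_inf_self])
  obtain ⟨θ, ψ, P⟩ := id hp
  have hL := hs_Ns_le hF h hS hp hC
  let φ : Ns (h.A.comap π) →* Matrix.SpecialLinearGroup (Fin 2) F := P.nat.hom.comp
    ((π.comp (Subgroup.subtype _)).codRestrict _ fun x => hL (hN.le x.2))
  have hφ : Function.Surjective φ := fun T => by
    obtain ⟨l, hl, rfl⟩ := P.nat.onto T
    obtain ⟨l, rfl⟩ := hπ l
    exact ⟨⟨l, hN.ge (LL_le h.ab hl)⟩, rfl⟩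
  have hker : φ.ker = (h.A.comap π).subgroupOf _ := ext fun x =>
    (P.theta_eq_one (hL (hN.le x.2))).trans ⟨fun hx => h.ab.inf_Cs.le ⟨h.sup_eq.ge (hC (Cs_anti
      (h.inf_eq ▸ inf_le_left) hx)), hx⟩, fun hx => h.ab.le_Cs hx⟩
  refine ⟨C.map (Subgroup.subtype _), map_subtype_le _, eq_bot_iff.2 ?_, ?_,
    ⟨(C.equivMapOfInjective _ (subtype_injective _)).symm.trans (hK.symm.QuotientMulEquiv.symm.trans
      ((QuotientGroup.quotientMulEquivOfEq hker.symm).trans
        ((QuotientGroup.quotientKerEquivOfSurjective φ hφ).trans (QuotientGroup.quotientBot.symm.trans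
          (QuotientGroup.quotientMulEquivOfEq S3660.center_eq_bot.symm)))))⟩⟩
  · rintro _ ⟨⟨x, hx, rfl⟩, hx'⟩
    exact congrArg Subtype.val (mem_bot.1 (hK.disjoint.eq_bot.le ⟨hx', hx⟩))
  · refine le_antisymm (sup_le le_normalizer (map_subtype_le _)) fun g hg => ?_
    obtain ⟨⟨a, k⟩, e⟩ := hK.2 ⟨g, hg⟩
    rw [← show (a.1 : X) * k.1 = g from congrArg Subtype.val e]
    exact mul_mem (mem_sup_left a.2) (mem_sup_right ⟨k, k.2, rfl⟩)

end

/-- Let X be a finite quasisimple group whose centre is an elementary abelian 2-group and whose central quotient is isomorphic to the projective special linear group of dimension 3 over the field with 4 elements. Let T be a Sylow 2-subgroup of X and H ≠ K subgroups of T containing the centre Z(X) whose images in X/Z(X) are elementary abelian of order 16 (the two such subgroups of a Sylow 2-subgroup of the quotient). Then H and K are elementary abelian, H ∩ K is the centre of the subgroup they generate,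 and each of N_X(H), N_X(K) is a split extension of H, respectively K, by the projective special linear group of dimension 2 over the field with 4 elements (there is a complement isomorphic to that group). -/
theorem result {X : Type*} [Group X] [Finite X] (hq : Cfsg.IsQuasisimple X) (hZ : Cfsg.IsElementaryAbelian 2 (Subgroup.center X))
    {F : Type*} [Field F] [Fintype F] (hF : Fintype.card F = 4) (hXL : Nonempty ((X ⧸ Subgroup.center X) ≃* Matrix.ProjectiveSpecialLinearGroup (Fin 3) F))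
    (T : Sylow 2 X) (H K : Subgroup X) (hHK : H ≠ K) (hHT : H ≤ T) (hKT : K ≤ T) (hZH : Subgroup.center X ≤ H) (hZK : Subgroup.center X ≤ K)
    (hH : Cfsg.IsElementaryAbelian 2 (H.map (QuotientGroup.mk' (Subgroup.center X))) ∧ Nat.card ↥(H.map (QuotientGroup.mk' (Subgroup.center X))) = 16)
    (hK : Cfsg.IsElementaryAbelian 2 (K.map (QuotientGroup.mk' (Subgroup.center X))) ∧ Nat.card ↥(K.map (QuotientGroup.mk' (Subgroup.center X))) = 16) :
    Cfsg.IsElementaryAbelian 2 H ∧ Cfsg.IsElementaryAbelian 2 K ∧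
      H ⊓ K = (Subgroup.center ↥(H ⊔ K)).map (H ⊔ K).subtype ∧
      (∃ C : Subgroup X, C ≤ Subgroup.normalizer (H : Set X) ∧ C ⊓ H = ⊥ ∧ H ⊔ C = Subgroup.normalizer (H : Set X) ∧
        Nonempty (↥C ≃* Matrix.ProjectiveSpecialLinearGroup (Fin 2) F)) ∧
      (∃ C : Subgroup X, C ≤ Subgroup.normalizer (K : Set X) ∧ C ⊓ K = ⊥ ∧ K ⊔ C = Subgroup.normalizer (K : Set X) ∧
        Nonempty (↥C ≃* Matrix.ProjectiveSpecialLinearGroup (Fin 2) F)) := by
  have := charP_four hF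
  obtain ⟨e⟩ := hXL
  have hπ := QuotientGroup.mk'_surjective (center X)
  have hker := QuotientGroup.ker_mk' (center X)
  generalize QuotientGroup.mk' (center X) = π at *
  have hk2 : ∀ z ∈ π.ker, z * z = 1 := fun z hz => pow_two z ▸ hZ.2 z (hker.le hz)
  have hS := (isSylowIn_top T).map π
  rw [map_top_of_surjective _ hπ] at hS
  have hS' := hS.map e.toMonoidHom
  rw [map_top_of_surjective _ e.surjective] at hS'
  obtain ⟨P, hP⟩ := hS'.exists_sylow_eq
  obtain ⟨u, k, hk⟩ := exists_hs (S := (T : Subgroup X).map π) P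
    ((equivMapOfInjective _ e.toMonoidHom e.injective).trans (MulEquiv.subgroupCongr hP.symm))
  have key : ∀ {H K : Subgroup X}, center X ≤ H → center X ≤ K →
      ∀ {u : F → F → F → X ⧸ center X} (k : Hs u), k.S = (T : Subgroup X).map π →
      k.A = H.map π → k.B = K.map π → IsElementaryAbelian 2 H ∧
      H ⊓ K = (center ↥(H ⊔ K)).map (H ⊔ K).subtype ∧
      ∃ C : Subgroup X, C ≤ Ns H ∧ C ⊓ H = ⊥ ∧ H ⊔ C = Ns H ∧
        Nonempty (C ≃* Matrix.ProjectiveSpecialLinearGroup (Fin 2) F) := fun {H K} hZH hZK _ k hk hA hB => by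
    rw [← hk] at hS
    have hS₀ : IsSylowIn 2 k.symm.S ⊤ := by rw [Hs.S, k.symm_sub]; exact hS
    have hm := hs_mov_of_psl hF e k.symm hS₀
    have hm' := hs_mov_of_psl hF e k hS
    rw [Hs.A, Hs.B, k.symm_sub, k.symm_sub] at hm
    have hp := hs_hasPar hF k hS hm
    have hp' := hs_hasPar hF k.symm hS₀ (by rwa [Hs.A, Hs.B, k.symm_sub, k.symm_sub])
    have h1 := sq_comap hF hπ hker.le hk2 k hp
    have h2 := sq_comap hF hπ hker.le hk2 k.symm hp'
    rw [Hs.A, k.symm_sub] at h2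
    have hC := Cs_le_of_psl hF e hS
    rw [(hs_tt hF k).inf_Cs] at hC
    have h3 := exists_compl hF hπ hk2 k hS hp hC h1 h2
    have eH : k.A.comap π = H := by rw [hA, comap_map_eq_self (hker.le.trans hZH)]
    have eK : k.B.comap π = K := by rw [hB, comap_map_eq_self (hker.le.trans hZK)]
    rw [eH] at h1 h3
    rw [eK] at h2
    refine ⟨⟨isMulCommutative_of_sq h1, fun a ha => (pow_two a).trans (h1 a ha)⟩,
      le_antisymm (fun x hx => ⟨⟨x, mem_sup_left hx.1⟩, mem_center_iff.2 fun y => Subtype.ext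
        ((sup_le (le_Cs_of_sq h1 inf_le_left) (le_Cs_of_sq h2 inf_le_right) y.2 x hx).symm), rfl⟩)
        ?_, h3⟩
    rintro _ ⟨x, hx, rfl⟩
    have h4 : k.A ⊔ k.B = (H ⊔ K).map π := by rw [hA, hB, Subgroup.map_sup]
    have h5 : π x ∈ k.A ⊓ k.B := k.ab.inf_Cs_S.le ⟨h4.ge (mem_map_of_mem _ x.2), by
      rw [h4]
      rintro _ ⟨y, hy, rfl⟩
      rw [← map_mul, ← map_mul]
      exact congrArg (fun z : ↥(H ⊔ K) => π z) (mem_center_iff.1 hx ⟨y, hy⟩)⟩
    exact ⟨eH.le h5.1, eK.le h5.2⟩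
  have t := hs_tt hF k
  have hne : H.map π ≠ K.map π := fun e => hHK (by
    rw [← comap_map_eq_self (hker.le.trans hZH), e, comap_map_eq_self (hker.le.trans hZK)])
  have hk₀ : k.symm.S = (T : Subgroup X).map π := (k.symm_sub _ _).trans hk
  have sA : k.symm.A = k.B := k.symm_sub _ _
  have sB : k.symm.B = k.A := k.symm_sub _ _
  have e1 := t.eq_or (hk ▸ map_mono hHT) (fun a ha => pow_two a ▸ hH.1.2 a ha) hH.2
  have e2 := t.eq_or (hk ▸ map_mono hKT) (fun a ha => pow_two a ▸ hK.1.2 a ha) hK.2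
  rcases e1 with e1 | e1 <;> rcases e2 with e2 | e2
  · exact (hne (e1.trans e2.symm)).elim
  · obtain ⟨h1, h2, h3⟩ := key hZH hZK k hk e1.symm e2.symm
    obtain ⟨h4, -, h5⟩ := key hZK hZH k.symm hk₀ (sA.trans e2.symm) (sB.trans e1.symm)
    exact ⟨h1, h4, h2, h3, h5⟩
  · obtain ⟨h1, h2, h3⟩ := key hZH hZK k.symm hk₀ (sA.trans e1.symm) (sB.trans e2.symm)
    obtain ⟨h4, -, h5⟩ := key hZK hZH k hk e2.symm e1.symm
    exact ⟨h1, h4, h2, h3, h5⟩
  · exact (hne (e1.trans e2.symm)).elim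

end Cfsg.Agent.S3154
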