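import Cfsg.Statements.S4280
import Cfsg.Agent.Chev.SubInv
import Cfsg.Agent.Chev.WeylTypes
import Cfsg.Agent.Chev.CoreAll

set_option autoImplicit false
open Cfsg

namespace Cfsg.Agent.S4280

open Cfsg.Lib Cfsg.Lib.Chev Cfsg.Lib.Chev.Core Cfsg.Lie

set_option maxHeartbeats 400000
set_option maxRecDepth 100000

def th : List (Fin 4) := [3,2,1,2,3,0,1]
def dom : List (List (Fin 4)) := [[0,1,2,3,1,2,1],[0,1,2,3,1,2,0],[3,2,1,2,3,0,1],[3,2,1,2,0,1,2]]
def tab : List ℕ := [1,140781127,9,36,140781129,135,8798821,0,549993,34371,34375,2,8798825,2149,549927]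
def cB0 : List (List ℤ) := [[2,0,0,-1],[0,2,-2,0],[0,-1,2,-1],[-1,0,-1,2]]
def w0 : List (Fin 4) := [3,2,1,2,0,3,2,1,2,0,3,2,1,2,1,0]
def jJ0 : List (Fin 4) := [0,3,1,2]
def pP0 : List (List ℕ) := [[1,1,1,1,1,1,1,1],[1,1,1,1,1,1],[1,1,1,1],[1,1]]
def cB1 : List (List ℤ) := [[2,-1,0,0],[-1,2,-2,0],[0,-1,2,0],[0,0,0,2]]
def w1 : List (Fin 4) := [3,2,1,2,0,1,2,0,1,0]
def jJ1 : List (Fin 4) := [3,0,1,2]
def pP1 : List (List ℕ) := [[1,1],[1,1,1,1,1,1],[1,1,1,1],[1,1]]

theorem th_eq_1' : type_of% @th.eq_1 := @th.eq_1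
theorem dom_eq_1' : type_of% @dom.eq_1 := @dom.eq_1
theorem tab_eq_1' : type_of% @tab.eq_1 := @tab.eq_1
theorem cB0_eq_1' : type_of% @cB0.eq_1 := @cB0.eq_1
theorem w0_eq_1' : type_of% @w0.eq_1 := @w0.eq_1
theorem jJ0_eq_1' : type_of% @jJ0.eq_1 := @jJ0.eq_1
theorem pP0_eq_1' : type_of% @pP0.eq_1 := @pP0.eq_1
theorem cB1_eq_1' : type_of% @cB1.eq_1 := @cB1.eq_1
theorem w1_eq_1' : type_of% @w1.eq_1 := @w1.eq_1
theorem jJ1_eq_1' : type_of% @jJ1.eq_1 := @jJ1.eq_1
theorem pP1_eq_1' : type_of% @pP1.eq_1 := @pP1.eq_1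

theorem k0 : invChk 4 cartanF4 0 3 tab = true := by decide +kernel
theorem k1 : highChk 4 cartanF4 (ractL cartanF4 th (omegaL (2 : Fin 4))) dom = true := by
  decide +kernel

theorem card0 {F : Type*} [Field F] [Fintype F] (hF : Odd (Fintype.card F)) (C : Cert chevF4)
    (R : RootData chevF4) (hinj : Function.Injective (cartanHom chevF4 Fˣ)) :
    Nat.card (Subgroup.centralizer {C.torEl R hinj (Pi.mulSingle (0 : Fin 4) (-1))}) =
      Fintype.card F ^ 16 * (Fintype.card F - 1) ^ 4 *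
        (pP0.map fun cs => Chev.evalP cs (Fintype.card F)).prod :=
  C.card_centralizer_bds R hinj (hasC_F4 R) (0 : Fin 4) th (2 : Fin 4) k1
    (by rw [orderOf_neg_one_of_odd hF]; decide +kernel) (CL' := cB0) (by decide +kernel) (ω₀ := w0)
    (J := jJ0) (by decide +kernel) (by decide +kernel) (show jJ0.Nodup by decide +kernel)
    (show ∀ i : Fin 4, i ∈ jJ0 by decide +kernel) (by decide +kernel)

theorem card1 {F : Type*} [Field F] [Fintype F] (hF : Odd (Fintype.card F)) (C : Cert chevF4)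
    (R : RootData chevF4) (hinj : Function.Injective (cartanHom chevF4 Fˣ)) :
    Nat.card (Subgroup.centralizer {C.torEl R hinj (Pi.mulSingle (3 : Fin 4) (-1))}) =
      Fintype.card F ^ 10 * (Fintype.card F - 1) ^ 4 *
        (pP1.map fun cs => Chev.evalP cs (Fintype.card F)).prod :=
  C.card_centralizer_bds R hinj (hasC_F4 R) (3 : Fin 4) th (2 : Fin 4) k1
    (by rw [orderOf_neg_one_of_odd hF]; decide +kernel) (CL' := cB1) (by decide +kernel) (ω₀ := w1)
    (J := jJ1) (by decide +kernel) (by decide +kernel) (show jJ1.Nodup by decide +kernel)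
    (show ∀ i : Fin 4, i ∈ jJ1 by decide +kernel) (by decide +kernel)


/-- In the Chevalley group of type F₄ over a finite field of odd order q there are exactly two conjugacy classes of involutions; the centralizer of an involution in one class has order q¹⁶(q² − 1)(q⁴ − 1)(q⁶ − 1)(q⁸ − 1), and in the other class q¹⁰(q² − 1)²(q⁴ − 1)(q⁶ − 1). -/
theorem result {F : Type*} [Field F] [Fintype F] (hF : Odd (Fintype.card F)) : ∃ s t : ↥(Cfsg.Lie.chevF4.group F), orderOf s = 2 ∧ orderOf t = 2 ∧ ¬ IsConj s t ∧ (∀ u : ↥(Cfsg.Lie.chevF4.group F), orderOf u = 2 → IsConj u s ∨ IsConj u t) ∧ Nat.card (Subgroup.centralizer ({s} : Set ↥(Cfsg.Lie.chevF4.group F))) = Fintype.card F ^ 16 * (Fintype.card F ^ 2 - 1) * (Fintype.card F ^ 4 - 1) * (Fintype.card F ^ 6 - 1) * (Fintype.card F ^ 8 - 1) ∧ Nat.card (Subgroup.centralizer ({t} : Set ↥(Cfsg.Lie.chevF4.group F))) = Fintype.card F ^ 10 * (Fintype.card F ^ 2 - 1) ^ 2 * (Fintype.card F ^ 4 -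 1) * (Fintype.card F ^ 6 - 1) := by
  obtain ⟨C, R⟩ := cert_root_of_mem (D := chevF4) (by simp)
  have hinj := cartanSNF_F4.injective Fˣ fun i a h => by
    rwa [show List.getD _ i 1 = 1 by clear h; revert i; decide +kernel, pow_one] at h
  have hq : 1 < Fintype.card F := Fintype.one_lt_card
  have hq0 := Nat.zero_lt_of_lt hq
  have ho : ∀ i, orderOf (C.torEl R hinj (Pi.mulSingle i (-1))) = 2 := fun i => by
    rw [C.orderOf_torEl, orderOf_piMulSingle, orderOf_neg_one_of_odd hF]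
  have c0 := (card0 hF C R hinj).trans (show _ = Fintype.card F ^ 16 * (Fintype.card F ^ 2 - 1) * (Fintype.card F ^ 4 - 1) * (Fintype.card F ^ 6 - 1) * (Fintype.card F ^ 8 - 1) by
    simp only [pP0, List.map_cons, List.map_nil, List.prod_cons, List.prod_nil, Chev.evalP_cons,
      Chev.evalP_nil]
    zify [Nat.one_le_pow 2 _ hq0, Nat.one_le_pow 4 _ hq0, Nat.one_le_pow 6 _ hq0, Nat.one_le_pow 8 _ hq0, hq.le]
    ring
    )
  have c1 := (card1 hF C R hinj).trans (show _ = Fintype.card F ^ 10 * (Fintype.card F ^ 2 - 1) ^ 2 * (Fintype.card F ^ 4 - 1) * (Fintype.card F ^ 6 - 1) by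
    simp only [pP1, List.map_cons, List.map_nil, List.prod_cons, List.prod_nil, Chev.evalP_cons,
      Chev.evalP_nil]
    zify [Nat.one_le_pow 2 _ hq0, Nat.one_le_pow 4 _ hq0, Nat.one_le_pow 6 _ hq0, hq.le]
    ring
    )
  refine ⟨_, _, ho _, ho _, fun h => ?_, fun u hu =>
    C.isConj_of_invChk R hinj (snf_of_mem (by simp)) hF (hasC_F4 R) k0 hu, c0, c1⟩
  have h1 := c0.symm.trans ((card_centralizer_of_isConj h).trans c1)
  simp only [mul_assoc] at h1
  refine pow_mul_ne_of_coprime hq (by decide) ?_ h1.symm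
  simp only [Nat.coprime_mul_iff_left, Nat.coprime_pow_left_iff two_pos]
  refine ⟨?_, ?_, ?_⟩ <;> exact coprime_pow_sub_one hq0 (by decide)

end Cfsg.Agent.S4280
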