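import Cfsg.Statements.S4281
import Cfsg.Agent.Chev.SubInv
import Cfsg.Agent.Chev.WeylTypes
import Cfsg.Agent.Chev.CoreAll

set_option autoImplicit false
open scoped BigOperators
open Cfsg

namespace Cfsg.Agent.S4281

open Cfsg.Lib Cfsg.Lib.Chev Cfsg.Lib.Chev.Core Cfsg.Lie

set_option maxHeartbeats 400000
set_option maxRecDepth 100000

def th : List (Fin 8) := [7,6,5,4,3,2,1,3,4,5,6,7,0,2,3,4,5,6,1,3,4,5,2,3,4,1,3,2]
def dom : List (List (Fin 8)) := [[7,6,5,4,3,2,1,3,4,5,6,7,0,2,3,4,5,6,1,3,4,5,2,3,4,1,3,2],[7,6,5,4,3,2,1,3,4,5,6,7,0,2,3,4,5,6,1,3,4,5,2,3,4,0,2,3],[7,6,5,4,3,2,1,3,4,5,6,7,0,2,3,4,5,6,1,3,4,5,2,3,4,1,3,0],[7,6,5,4,3,2,1,3,4,5,6,7,0,2,3,4,5,6,1,3,4,5,2,3,4,0,2,1],[7,6,5,4,3,2,1,3,4,5,6,7,0,2,3,4,5,6,1,3,4,5,2,3,0,2,1,3],[7,6,5,4,3,2,1,3,4,5,6,7,0,2,3,4,5,6,1,3,4,2,3,0,2,1,3,4],[7,6,5,4,3,2,1,3,4,5,6,7,0,2,3,4,5,1,3,4,2,3,0,2,1,3,4,5],[7,6,5,4,3,2,1,3,4,5,6,0,2,3,4,5,1,3,4,2,3,0,2,1,3,4,5,6]]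
def tab : List ℕ := [1,5492295652945760835925011725716175,17,2775528412625004716,5492295652945760835925011725716177,271,343268478309110052245313232857261,181897030049803113402058,44408454602000075504,5492295652945760835925011725716239,2775528412625004718,4333,21454279894319378265332077053579,173470525789062794,343268478309110052245313232857265,5492295652945760835925011728493737,2775528412625169576,710535273632001223950,44408454602002713232,5492295652945760835925011725717741,2775528412625004780,710535273632043411726,44408454602000076496,69323,1340892493394961141583254815849,10841907861816424,21454279894319378265332077053585,11368564378112694587628,2775528412625004784,343268478309110052245313232857359,173470525789062798,5492295652945760835938059245505159,2775528455000738438,42351209409806,44408455280011815024,327366331395254184965877997,165434411756,710535284480189040398,2646950588112,1163038843527,79923420750794478751435,646228170,1278774732012711660022961,11368564551683024646380,165434411760,20460395712203386560367375,10339650734,38,762209136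49364209,19512553894236933289,4763807103085263,2524328,4995213796924654921969,297737943942829,312200862307790932623,181897032826928394342090,10339650800,1278774732012711660023055,646228174,18608621496427,4995213796924654921965,40389260,79923420750794478751441,46565640403693668951575172,40414448,4995213796924663196943,2525902,4763807103085189,19512553894236965613,157868,312200862307791449809,9860,19512553894236933361,76220913649363147,1219534618389808335,9866,19512553894236965617,76220913649363021,1219534618389810351,2910352525230854309473448,646229232,79923420750794478775567,40389326,297737943942825,312200862307790932717,2524332,4995213796924654923473,616,1219534618389810417,1219534618389808331,76220913649363151,157770,312200862307790932721,4763807103085197,19512553894236933295,17746565,5237861302324066959309589127,42351202585222,83805780837185071348953426033,11368564378112025735404,10841907861817072,1340892493394961141583254816527,677619241363566,5492295652945760835925011725749963,2775528412625006282,2775528412625169678,44408454602000100528,2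1454279894319378265332077064429,10841907861817068,710535273632001608462,173470525789073104,1109161,83805780837185071348953425991,677619241363526,1340892493394961141583254815857,710535273632043413740,173470525789062896,21454279894319378265332077053711,10841907861816430,343268478309110052245313233030859,173470525789073098,44408454602000100622,2775528412625169584,343268478309110052245313232859373,173470525789062892,44408454602002713358,2775528412625006288,0,297737944345841,4995213796924654921827,18608621521615,646228066,1278774732012711659987697,1163038845101,79923420750794478749231,181897030049794523467466,2646950161648,327366331395254184956849423,165434385102,72689927819,1278774732012711659987693,10339649068,20460395712203386559803089,5492295652945760835925011726396585,2775528412625038504,10841907861843214,44408454602000616080,83805780837185071348953428205,42351202585324,710535273632009857294,677619241365200,4543120489,20460395712203386559803083,165434385098,327366331395254184956849329,11368564378112157716716,42351202585328,52378613023240669593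09589263,2646950161582,2,4763807103102193,312200862307790932615,297737943943887,40389254,79923420750794478749425,18608621496493,4995213796924654921839,11368564551683024686794,165434387696,20460395712203386559851791,10339649230,1163038843531,79923420750794478749421,646228076,1278774732012711659990737,343268478309110052246128702844073,173470528437546152,677619251735822,2775528455000738448,5237861302324066959322034413,2646950202092,44408455280011815182,42351203233488,72689927721,1278774732012711659990731,10339649226,20460395712203386559851697,710535284480189042924,2646950202096,327366331395254184957627151,165434387630,283945059,327366331395254184957627013,2646950201988,5237861302324066959322032209,2775528455011086572,677619251709168,83805780837185071349152515343,42351203231822,1340892493394961141586440294091,677619251711690,173470528437546254,10841908027387056,1340892493394961141586440245485,677619251709164,173470528438192910,10841908027346640,4543120483,20460395712203386559851689,165434387624,327366331395254184957627025,44408455280011817196,4235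1203231984,5237861302324066959322032399,2646950201998,21454279894319378265383043927755,10841908027346634,10841908027387150,173470528437546160,83805780837185071349152518381,42351203231980,2775528455000738574,677619251711696,17746567,5237861302324066959309589125,42351202585220,83805780837185071348953426001,44408454602010964204,10841907861816560,1340892493394961141583254816015,677619241363534,21454279894319378265332077104843,10841907861819082,2775528412625038606,173470525789105328,21454279894319378265332077056237,10841907861816556,2775528412625685262,173470525789064912,283945031,327366331395254184956849321,2646950161576,5237861302324066959309589137,710535273632009859308,677619241363696,83805780837185071348953426191,42351202585230,343268478309110052245313232899787,173470525789064906,173470525789105422,2775528412625038512,1340892493394961141583254819053,677619241363692,44408454602000616206,10841907861819088]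
def cB0 : List (List ℤ) := [[2,0,0,0,0,0,0,-1],[0,2,0,-1,0,0,0,0],[0,0,2,-1,0,0,0,0],[0,-1,-1,2,-1,0,0,0],[0,0,0,-1,2,-1,0,0],[0,0,0,0,-1,2,-1,0],[0,0,0,0,0,-1,2,-1],[-1,0,0,0,0,0,-1,2]]
def w0 : List (Fin 8) := [7,6,5,4,3,2,1,3,4,5,6,0,7,6,5,4,3,2,1,3,4,5,6,0,7,6,5,4,3,2,1,3,4,5,6,5,4,3,2,1,3,4,5,4,3,2,1,3,4,3,2,1,3,2,1,0]
def jJ0 : List (Fin 8) := [0,7,6,5,1,2,3,4]
def pP0 : List (List ℕ) := [[1,1,1,1,1,1,1,2,1,1,1,1,1,1,1],[1,1,1,1,1,1,2,1,1,1,1,1,1],[1,1,1,1,1,2,1,1,1,1,1],[1,1,1,1,2,1,1,1,1],[1,1,1,2,1,1,1],[1,1,1,1],[1,1,1],[1,1]]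
def cB1 : List (List ℤ) := [[2,0,-1,0,0,0,0,0],[0,2,0,-1,0,0,0,0],[-1,0,2,-1,0,0,0,0],[0,-1,-1,2,-1,0,0,0],[0,0,0,-1,2,-1,0,0],[0,0,0,0,-1,2,-1,0],[0,0,0,0,0,-1,2,0],[0,0,0,0,0,0,0,2]]
def w1 : List (Fin 8) := [7,6,5,4,3,2,1,3,4,5,6,0,2,3,4,5,1,3,4,2,3,0,2,1,3,4,5,6,0,2,3,4,5,1,3,4,2,3,0,2,1,3,4,5,1,3,4,2,3,0,2,1,3,4,2,3,0,2,1,3,0,2,1,0]
def jJ1 : List (Fin 8) := [7,6,0,5,1,2,3,4]
def pP1 : List (List ℕ) := [[1,1],[1,1,1,1,1,2,2,2,2,3,3,3,3,3,3,3,3,3,3,2,2,2,2,1,1,1,1,1],[1,1,1,1,2,2,2,2,3,2,2,2,2,1,1,1,1],[1,1,1,1,2,1,1,1,1],[1,1,1,2,1,1,1],[1,1,1,1],[1,1,1],[1,1]]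

theorem th_eq_1' : type_of% @th.eq_1 := @th.eq_1
theorem dom_eq_1' : type_of% @dom.eq_1 := @dom.eq_1
theorem tab_eq_1' : type_of% @tab.eq_1 := @tab.eq_1
theorem cB0_eq_1' : type_of% @cB0.eq_1 := @cB0.eq_1
theorem w0_eq_1' : type_of% @w0.eq_1 := @w0.eq_1
theorem jJ0_eq_1' : type_of% @jJ0.eq_1 := @jJ0.eq_1
theorem pP0_eq_1' : type_of% @pP0.eq_1 := @pP0.eq_1
theorem cB1_eq_1' : type_of% @cB1.eq_1 := @cB1.eq_1
theorem w1_eq_1' : type_of% @w1.eq_1 := @w1.eq_1
theorem jJ1_eq_1' : type_of% @jJ1.eq_1 := @jJ1.eq_1
theorem pP1_eq_1' : type_of% @pP1.eq_1 := @pP1.eq_1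

theorem k0 : invChk 8 cartanE8 0 7 tab = true := by decide +kernel
theorem k1 : highChk 8 cartanE8 (ractL cartanE8 th (omegaL (0 : Fin 8))) dom = true := by
  decide +kernel

theorem card0 {F : Type*} [Field F] [Fintype F] (hF : Odd (Fintype.card F)) (C : Cert chevE8)
    (R : RootData chevE8) (hinj : Function.Injective (cartanHom chevE8 Fˣ)) :
    Nat.card (Subgroup.centralizer {C.torEl R hinj (Pi.mulSingle (0 : Fin 8) (-1))}) =
      Fintype.card F ^ 56 * (Fintype.card F - 1) ^ 8 *
        (pP0.map fun cs => Chev.evalP cs (Fintype.card F)).prod :=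
  C.card_centralizer_bds R hinj (hasC_E8 R) (0 : Fin 8) th (0 : Fin 8) k1
    (by rw [orderOf_neg_one_of_odd hF]; decide +kernel) (CL' := cB0) (by decide +kernel) (ω₀ := w0)
    (J := jJ0) (by decide +kernel) (by decide +kernel) (show jJ0.Nodup by decide +kernel)
    (show ∀ i : Fin 8, i ∈ jJ0 by decide +kernel) (by decide +kernel)

theorem card1 {F : Type*} [Field F] [Fintype F] (hF : Odd (Fintype.card F)) (C : Cert chevE8)
    (R : RootData chevE8) (hinj : Function.Injective (cartanHom chevE8 Fˣ)) :
    Nat.card (Subgroup.centralizer {C.torEl R hinj (Pi.mulSingle (7 : Fin 8) (-1))}) =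
      Fintype.card F ^ 64 * (Fintype.card F - 1) ^ 8 *
        (pP1.map fun cs => Chev.evalP cs (Fintype.card F)).prod :=
  C.card_centralizer_bds R hinj (hasC_E8 R) (7 : Fin 8) th (0 : Fin 8) k1
    (by rw [orderOf_neg_one_of_odd hF]; decide +kernel) (CL' := cB1) (by decide +kernel) (ω₀ := w1)
    (J := jJ1) (by decide +kernel) (by decide +kernel) (show jJ1.Nodup by decide +kernel)
    (show ∀ i : Fin 8, i ∈ jJ1 by decide +kernel) (by decide +kernel)


/-- In the Chevalley group of type E₈ over a finite field of odd order q there are exactly two conjugacy classes of involutions; the centralizer of an involution in one class has order q⁵⁶(q⁸ − 1)·∏_{i=1}^{7}(q^{2i} − 1), and in the other class q⁶⁴(q² − 1)²(q⁶ − 1)(q⁸ − 1)(q¹⁰ − 1)(q¹² − 1)(q¹⁴ − 1)(q¹⁸ − 1). -/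
theorem result {F : Type*} [Field F] [Fintype F] (hF : Odd (Fintype.card F)) : ∃ s t : ↥(Cfsg.Lie.chevE8.group F), orderOf s = 2 ∧ orderOf t = 2 ∧ ¬ IsConj s t ∧ (∀ u : ↥(Cfsg.Lie.chevE8.group F), orderOf u = 2 → IsConj u s ∨ IsConj u t) ∧ Nat.card (Subgroup.centralizer ({s} : Set ↥(Cfsg.Lie.chevE8.group F))) = Fintype.card F ^ 56 * (Fintype.card F ^ 8 - 1) * ∏ i ∈ Finset.Icc 1 7, (Fintype.card F ^ (2 * i) - 1) ∧ Nat.card (Subgroup.centralizer ({t} : Set ↥(Cfsg.Lie.chevE8.group F))) = Fintype.card F ^ 64 * (Fintype.card F ^ 2 - 1) ^ 2 * (Fintype.card F ^ 6 - 1) * (Fintype.card F ^ 8 - 1) * (Fintype.card F ^ 10 - 1) * (Fintype.card F ^ 12 - 1) * (Fintype.card F ^ 14 - 1) * (Fintype.card F ^ 18 - 1) := by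
  obtain ⟨C, R⟩ := cert_root_of_mem (D := chevE8) (by simp)
  have hinj := cartanSNF_E8.injective Fˣ fun i a h => by
    rwa [show List.getD _ i 1 = 1 by clear h; revert i; decide +kernel, pow_one] at h
  have hq : 1 < Fintype.card F := Fintype.one_lt_card
  have hq0 := Nat.zero_lt_of_lt hq
  have ho : ∀ i, orderOf (C.torEl R hinj (Pi.mulSingle i (-1))) = 2 := fun i => by
    rw [C.orderOf_torEl, orderOf_piMulSingle, orderOf_neg_one_of_odd hF]
  have c0 := (card0 hF C R hinj).trans (show _ = Fintype.card F ^ 56 * (Fintype.card F ^ 8 - 1) * ∏ i ∈ Finset.Icc 1 7, (Fintype.card F ^ (2 * i) - 1) by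
    simp only [pP0, List.map_cons, List.map_nil, List.prod_cons, List.prod_nil, Chev.evalP_cons,
      Chev.evalP_nil]
    rw [show Finset.Icc 1 7 = {1, 2, 3, 4, 5, 6, 7} from rfl]
    simp only [Finset.mem_insert, Finset.mem_singleton, Finset.prod_insert, Finset.prod_singleton,
      Nat.reduceEqDiff, or_self, not_false_eq_true, Nat.reduceMul]
    zify [Nat.one_le_pow 2 _ hq0, Nat.one_le_pow 4 _ hq0, Nat.one_le_pow 6 _ hq0, Nat.one_le_pow 8 _ hq0, Nat.one_le_pow 10 _ hq0, Nat.one_le_pow 12 _ hq0, Nat.one_le_pow 14 _ hq0, hq.le]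
    ring
    )
  have c1 := (card1 hF C R hinj).trans (show _ = Fintype.card F ^ 64 * (Fintype.card F ^ 2 - 1) ^ 2 * (Fintype.card F ^ 6 - 1) * (Fintype.card F ^ 8 - 1) * (Fintype.card F ^ 10 - 1) * (Fintype.card F ^ 12 - 1) * (Fintype.card F ^ 14 - 1) * (Fintype.card F ^ 18 - 1) by
    simp only [pP1, List.map_cons, List.map_nil, List.prod_cons, List.prod_nil, Chev.evalP_cons,
      Chev.evalP_nil]
    zify [Nat.one_le_pow 2 _ hq0, Nat.one_le_pow 6 _ hq0, Nat.one_le_pow 8 _ hq0, Nat.one_le_pow 10 _ hq0, Nat.one_le_pow 12 _ hq0, Nat.one_le_pow 14 _ hq0, Nat.one_le_pow 18 _ hq0, hq.le]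
    ring
    )
  refine ⟨_, _, ho _, ho _, fun h => ?_, fun u hu =>
    C.isConj_of_invChk R hinj (snf_of_mem (by simp)) hF (hasC_E8 R) k0 hu, c0, c1⟩
  have h1 := c0.symm.trans ((card_centralizer_of_isConj h).trans c1)
  simp only [mul_assoc] at h1
  refine pow_mul_ne_of_coprime hq (by decide) ?_ h1
  exact (coprime_pow_sub_one hq0 (by decide)).mul_left (Nat.Coprime.prod_left fun i hi =>
    coprime_pow_sub_one hq0 (by have := (Finset.mem_Icc.1 hi).1; omega))

end Cfsg.Agent.S4281
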