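import Cfsg.Statements.S2386
import Cfsg.Agent.Known.GUClasses
import Cfsg.Agent.Known.SelfDualCount

set_option autoImplicit false
open Cfsg

namespace Cfsg.Agent.S2386

open Cfsg.Lib.Known Cfsg.Lib.Class Polynomial

/-- In the special unitary group `SU_n(q)` (matrices of determinant one over the field with `q²` elements preserving the standard Hermitian form), `q` a power of the prime `p`, the number of conjugacy classes of elements of order prime to `p` is `q^(n-1)`. -/
theorem result {F : Type*} [Field F] [Fintype F] {q : ℕ} (hF : Fintype.card F = q ^ 2) (p : ℕ) [Fact p.Prime] [CharP F p] (n : ℕ) (hn : 1 ≤ n) :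
    Nat.card {c : ConjClasses ↥(Cfsg.SU n F q) // ∃ g : ↥(Cfsg.SU n F q), ConjClasses.mk g = c ∧ (orderOf g).Coprime p} = q ^ (n - 1) := by
  have h1 : ∀ g : ↥(Cfsg.SU n F q), (orderOf g).Coprime p ↔ ∀ x ∈ elDivM
      ((g : Matrix.SpecialLinearGroup (Fin n) F) : Matrix (Fin n) (Fin n) F), x.2 = 1 := fun g => by
    rw [← Subgroup.orderOf_coe, ← orderOf_toGL]
    exact GL_orderOf_coprime_iff p _
  rw [card_SU_classes_of_nonsplit hF _ (fun s => ∀ x ∈ s, x.2 = 1) h1
      fun g g' hg h => SU_isConj_of_semisimple hF ((h1 g).mp hg) h,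
    ← card_selfDual_herm hF hn (c := (-1) ^ n) (by rw [map_pow, map_neg, map_one, ← mul_pow]; simp),
    ← Nat.card_congr (ssTypeEquiv n fun f => dualPoly (frobq hF) f = f ∧ f.coeff 0 = (-1) ^ n)]
  refine Nat.card_congr (Equiv.subtypeEquivRight fun s => ⟨fun h => ⟨h.1.1, h.1.2.1,
    ⟨by rw [← elProd_map_dualED, h.2.1], h.2.2.1⟩, h.2.2.2⟩, fun h => ?_⟩)
  obtain ⟨h2, h3, ⟨h4, h5⟩, h6⟩ := h
  have h7 : (elProd s).coeff 0 ≠ 0 := by rw [h5]; simp
  refine ⟨⟨h2, h3, h2.forall_ne_X_iff.mpr h7⟩, ?_, h5, h6⟩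
  rw [← h2.ssType_elProd h6, ssType_map_dualED (frobq_frobq hF) h2.monic_elProd h7, h4]

end Cfsg.Agent.S2386
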