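import Cfsg.Statements.S2384
import Mathlib
import Cfsg.Agent.Known.GLClasses

set_option autoImplicit false
open Cfsg

namespace Cfsg.Agent.S2384

open Cfsg.Lib.Known Polynomial

/-- In `SL_n(q)`, `q` a power of the prime `p`, the number of conjugacy classes of elements of order prime to `p` (the semisimple classes) is `q^(n-1)`. -/
theorem result {F : Type*} [Field F] [Fintype F] {q : ℕ} (hq : Fintype.card F = q) (p : ℕ) [Fact p.Prime] [CharP F p] (n : ℕ) (hn : 1 ≤ n) :
    Nat.card {c : ConjClasses (Matrix.SpecialLinearGroup (Fin n) F) //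
      ∃ g : Matrix.SpecialLinearGroup (Fin n) F, ConjClasses.mk g = c ∧ (orderOf g).Coprime p} = q ^ (n - 1) := by
  classical
  have h1 : ∀ g : Matrix.SpecialLinearGroup (Fin n) F, (orderOf g).Coprime p ↔
      ∀ x ∈ elDivM (g : Matrix (Fin n) (Fin n) F), x.2 = 1 := fun g => by
    rw [← orderOf_toGL]
    exact GL_orderOf_coprime_iff p _
  rw [card_SL_classes_of_nonsplit _ (fun s => ∀ x ∈ s, x.2 = 1) h1
      fun g g' hg h => SL_isConj_of_semisimple ((h1 g).mp hg) h, Fintype.card_fin,
    Nat.card_congr (ssTypeEquiv n fun f => f.coeff 0 = (-1) ^ n),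
    card_monic_coeff_zero hn fun c => c = (-1) ^ n]
  simp [hq]

end Cfsg.Agent.S2384
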