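import Cfsg.Statements.S2479
import Mathlib
import Cfsg.Agent.Known.ClassCount
import Cfsg.Agent.S2384

set_option autoImplicit false
open Cfsg

namespace Cfsg.Agent.S2479

open Cfsg.Lib.Known Polynomial

/-- The number of conjugacy classes of SL(n,q): for F a finite field with q elements, the number k of conjugacy classes of SL(n,F) satisfies q^(n−1) < k and k ≤ (5/2)·q^(n−1) for n ≥ 2, and k ≤ q^(n−1) + 3q^(n−2) for n ≥ 3. -/
theorem result {F : Type*} [Field F] [Fintype F] (n : ℕ) (hn : 2 ≤ n) :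
    Fintype.card F ^ (n - 1) < Nat.card (ConjClasses (Matrix.SpecialLinearGroup (Fin n) F)) ∧ 2 * Nat.card (ConjClasses (Matrix.SpecialLinearGroup (Fin n) F)) ≤ 5 * Fintype.card F ^ (n - 1) ∧
      (3 ≤ n → Nat.card (ConjClasses (Matrix.SpecialLinearGroup (Fin n) F)) ≤ Fintype.card F ^ (n - 1) + 3 * Fintype.card F ^ (n - 2)) := by
  classical
  have : Nonempty (Fin n) := ⟨⟨0, by omega⟩⟩
  have := finite_conjClasses_SL (n := Fin n) (K := F)
  have h1 := card_conjClasses_SL_le_clB (n := Fin n) (K := F)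
  rw [Fintype.card_fin, Nat.card_eq_fintype_card] at h1
  obtain ⟨α, hα⟩ : ∃ α, Fintype.card F = α + 1 := ⟨_, (Nat.sub_add_cancel Fintype.card_pos).symm⟩
  have h2 : 1 ≤ α := by have := Fintype.one_lt_card (α := F); omega
  refine ⟨?_, ?_, fun h => ?_⟩
  · obtain ⟨p, hp⟩ := CharP.exists F
    have : Fact p.Prime := ⟨CharP.char_is_prime F p⟩
    rw [← Cfsg.Agent.S2384.result (F := F) rfl p n (by omega)]
    have h3 := isGLType_add (isGLType_X_sub_one (K := F) two_pos)
      (isGLType_nsmul (isGLType_X_sub_one (K := F) one_pos) (n - 2))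
    obtain ⟨g, hg⟩ := exists_SL_elDivM_eq' (n := Fin n) (by
      rw [Fintype.card_fin, show n = 2 + (n - 2) * 1 by omega]; exact h3)
      (by rw [tDet_add, tDet_nsmul, tDet_X_sub_one, tDet_X_sub_one, one_pow, one_mul])
    refine Finite.card_subtype_lt (x := ConjClasses.mk g) ?_
    rintro ⟨g', h4, h5⟩
    have h6 := SL_elDivM_snd_eq_one p h5 (X - 1, 2) (by
      rw [isConj_iff_elDivM.mp (SL_isConj_coe (ConjClasses.mk_eq_mk_iff_isConj.mp h4)), hg]
      simp)
    simp at h6
  · rw [hα, Nat.add_sub_cancel] at h1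
    have h3 := (Nat.mul_le_mul_left 2 h1).trans (clB_lin' h2 (by omega))
    rw [mul_left_comm] at h3
    exact hα ▸ Nat.le_of_mul_le_mul_left h3 h2
  · rw [hα, Nat.add_sub_cancel] at h1
    exact hα ▸ Nat.le_of_mul_le_mul_left (h1.trans (clB_lin h2 h)) h2

end Cfsg.Agent.S2479
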