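import Cfsg.Statements.S2480
import Mathlib
import Cfsg.Agent.Known.ClassCount
import Cfsg.Agent.S2479
import Cfsg.Agent.Class.SLCenter

set_option autoImplicit false
open Cfsg

namespace Cfsg.Agent.S2480

open Cfsg.Lib.Known Cfsg.Lib.Class Polynomial

theorem card_le_center_mul {G : Type*} [Group G] [Finite G] :
    Nat.card (ConjClasses G) ≤
      Nat.card (Subgroup.center G) * Nat.card (ConjClasses (G ⧸ Subgroup.center G)) := by
  have : Finite (ConjClasses G) := Finite.of_surjective _ ConjClasses.mk_surjective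
  have : Finite (ConjClasses (G ⧸ Subgroup.center G)) :=
    Finite.of_surjective _ ConjClasses.mk_surjective
  refine natCard_le_mul_of_fiber (ConjClasses.map (QuotientGroup.mk' _)) _ fun C => ?_
  obtain ⟨g, rfl⟩ := ConjClasses.mk_surjective C
  refine Nat.card_le_card_of_surjective (fun z => ⟨ConjClasses.mk (g * z.1), ?_⟩) ?_
  · change ConjClasses.mk _ = ConjClasses.mk _
    rw [map_mul, QuotientGroup.mk'_apply _ z.1, (QuotientGroup.eq_one_iff _).mpr z.2, mul_one]
  · rintro ⟨D, hD⟩
    obtain ⟨h, rfl⟩ := ConjClasses.mk_surjective D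
    obtain ⟨c, hc⟩ := isConj_iff.mp (ConjClasses.mk_eq_mk_iff_isConj.mp hD)
    obtain ⟨c, rfl⟩ := QuotientGroup.mk'_surjective _ c
    rw [← map_inv, ← map_mul, ← map_mul, eq_comm] at hc
    refine ⟨⟨_, QuotientGroup.eq.mp hc⟩, Subtype.ext ?_⟩
    simp only [mul_inv_cancel_left]
    exact ConjClasses.mk_eq_mk_iff_isConj.mpr (isConj_iff.mpr ⟨c, rfl⟩).symm

theorem center_mul_le_sum {G : Type*} [Group G] [Finite G] [Fintype (Subgroup.center G)] :
    Nat.card (Subgroup.center G) * Nat.card (ConjClasses (G ⧸ Subgroup.center G)) ≤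
      ∑ z : Subgroup.center G,
        Nat.card {C : ConjClasses G // ∃ g, ConjClasses.mk g = C ∧ IsConj (z * g) g} := by
  classical
  have : Finite (ConjClasses G) := Finite.of_surjective _ ConjClasses.mk_surjective
  let _ : MulAction (Subgroup.center G) (ConjClasses G) :=
    { smul := fun z => Quotient.map (z.1 * ·) fun a b h => by
        obtain ⟨c, rfl⟩ := isConj_iff.mp h
        exact isConj_iff.mpr ⟨c, by
          rw [← mul_assoc, Subgroup.mem_center_iff.mp z.2 c]; simp only [mul_assoc]⟩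
      one_smul := fun C => Quotient.inductionOn C fun a => congrArg ConjClasses.mk (one_mul a)
      mul_smul := fun x y C => Quotient.inductionOn C fun a =>
        congrArg ConjClasses.mk (mul_assoc _ _ a) }
  have hs : ∀ (z : Subgroup.center G) (g : G), z • ConjClasses.mk g = ConjClasses.mk (z * g) :=
    fun _ _ => rfl
  have := Fintype.ofFinite (MulAction.orbitRel.Quotient (Subgroup.center G) (ConjClasses G))
  have := fun z : Subgroup.center G => Fintype.ofFinite (MulAction.fixedBy (ConjClasses G) z)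
  have h1 := MulAction.sum_card_fixedBy_eq_card_orbits_mul_card_group (Subgroup.center G)
    (ConjClasses G)
  simp only [← Nat.card_eq_fintype_card] at h1
  rw [mul_comm]
  refine le_trans (Nat.mul_le_mul_right _ ?_) (h1.symm.le.trans (Finset.sum_le_sum fun z _ => ?_))
  · refine Nat.card_le_card_of_surjective (Quotient.lift (ConjClasses.map (QuotientGroup.mk' _))
      fun C D h => ?_) fun C => ?_
    · obtain ⟨z, rfl⟩ := h
      obtain ⟨g, rfl⟩ := ConjClasses.mk_surjective D
      change ConjClasses.mk _ = ConjClasses.mk _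
      rw [map_mul, QuotientGroup.mk'_apply _ z.1, (QuotientGroup.eq_one_iff _).mpr z.2, one_mul]
    · obtain ⟨g, rfl⟩ := ConjClasses.mk_surjective C
      obtain ⟨g, rfl⟩ := QuotientGroup.mk'_surjective _ g
      exact ⟨Quotient.mk _ (ConjClasses.mk g), rfl⟩
  · refine Nat.card_le_card_of_injective (fun C => ⟨C.1, ?_⟩)
      fun C D h => Subtype.ext (Subtype.mk.inj h)
    obtain ⟨C, hC⟩ := C
    obtain ⟨g, rfl⟩ := ConjClasses.mk_surjective C
    exact ⟨g, rfl, ConjClasses.mk_eq_mk_iff_isConj.mp hC⟩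

theorem numerics {α n j m c : ℕ} (hα : 1 ≤ α) (hn : 3 ≤ n) (hj : 2 ≤ j) (hm : n = j * m)
    (h : α * c ≤ clB α (α + 1) m) : (α - 1) * c ≤ 2 * (α + 1) ^ (n - 2) := by
  have h1 : 1 ≤ m := Nat.pos_of_ne_zero (by rintro rfl; omega)
  have h2 : 2 * m ≤ n := hm ▸ Nat.mul_le_mul_right _ hj
  obtain ⟨b, rfl⟩ := Nat.exists_eq_add_of_le hα
  rw [Nat.add_sub_cancel_left]
  obtain rfl | rfl | h3 : m = 1 ∨ m = 2 ∨ 3 ≤ m := by omega
  · rw [clB_one] at h
    have h3 : c ≤ 1 := Nat.le_of_mul_le_mul_left (h.trans_eq (mul_one _).symm) hα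
    have h4 : (1 + b + 1) ^ 1 ≤ (1 + b + 1) ^ (n - 2) := Nat.pow_le_pow_right (by omega) (by omega)
    nlinarith
  · have h3 := Nat.le_of_mul_le_mul_left (h.trans (clB_lin_two _)) hα
    have h4 : (1 + b + 1) ^ 2 ≤ (1 + b + 1) ^ (n - 2) := Nat.pow_le_pow_right (by omega) (by omega)
    nlinarith
  · have h3 := (Nat.mul_le_mul_left 2 h).trans (clB_lin' hα h1)
    rw [mul_left_comm] at h3
    have h4 := Nat.le_of_mul_le_mul_left h3 hα
    have h5 : (1 + b + 1) ^ (m - 1 + 2) ≤ (1 + b + 1) ^ (n - 2) :=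
      Nat.pow_le_pow_right (by omega) (by omega)
    rw [pow_add] at h5
    nlinarith [Nat.mul_le_mul_left b h4, Nat.zero_le ((1 + b + 1) ^ (m - 1)),
      Nat.zero_le (b * (1 + b + 1) ^ (m - 1)), Nat.zero_le (b * b * (1 + b + 1) ^ (m - 1))]

/-- The number of conjugacy classes of PSL(n,q): for F a finite field with q elements, n ≥ 2 and d = gcd(n, q − 1), the number k of conjugacy classes of PSL(n,F) satisfies q^(n−1) ≤ d·k ≤ q^(n−1) + 5q^(n−2). -/
theorem result {F : Type*} [Field F] [Fintype F] (n : ℕ) (hn : 2 ≤ n) :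
    Fintype.card F ^ (n - 1) ≤ Nat.gcd n (Fintype.card F - 1) * Nat.card (ConjClasses (Matrix.ProjectiveSpecialLinearGroup (Fin n) F)) ∧
      Nat.gcd n (Fintype.card F - 1) * Nat.card (ConjClasses (Matrix.ProjectiveSpecialLinearGroup (Fin n) F)) ≤ Fintype.card F ^ (n - 1) + 5 * Fintype.card F ^ (n - 2) := by
  classical
  have : Nonempty (Fin n) := ⟨⟨0, by omega⟩⟩
  have := finite_conjClasses_SL (n := Fin n) (K := F)
  have hZ := card_center_SL (ι := Fin n) (F := F) Fintype.card_pos
  rw [Fintype.card_fin, Nat.card_eq_fintype_card (α := F)] at hZ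
  rw [← hZ]
  refine ⟨(Cfsg.Agent.S2479.result n hn).1.le.trans card_le_center_mul,
    center_mul_le_sum.trans ?_⟩
  obtain ⟨α, hα⟩ : ∃ α, Fintype.card F = α + 1 := ⟨_, (Nat.sub_add_cancel Fintype.card_pos).symm⟩
  have h2 : 1 ≤ α := by have := Fintype.one_lt_card (α := F); omega
  have key : ∀ z : Subgroup.center (Matrix.SpecialLinearGroup (Fin n) F), ∃ j m, n = j * m ∧
      (z ≠ 1 → 2 ≤ j) ∧ (z = 1 → j = 1) ∧
      α * Nat.card {C : ConjClasses (Matrix.SpecialLinearGroup (Fin n) F) //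
        ∃ g, ConjClasses.mk g = C ∧ IsConj (z * g) g} ≤ clB α (α + 1) m := by
    intro z
    obtain ⟨r, hr, hz⟩ := Matrix.SpecialLinearGroup.mem_center_iff.mp z.2
    rw [Fintype.card_fin] at hr
    obtain ⟨m, hm⟩ := orderOf_dvd_of_pow_eq_one hr
    have h3 : 0 < orderOf r := Nat.pos_of_ne_zero fun h => by rw [h] at hm; omega
    refine ⟨_, m, hm, fun h => ?_, fun h => ?_, ?_⟩
    · by_contra h4
      have h5 : r = 1 := orderOf_eq_one_iff.mp (by omega)
      exact h (Subtype.ext (Subtype.ext (by rw [← hz, h5, map_one]; rfl)))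
    · rw [h] at hz
      have i : Fin n := ⟨0, by omega⟩
      simpa using congrFun (congrFun hz i) i
    · have h4 := card_SL_classes_le_clB (n := Fin n) h3 (IsPrimitiveRoot.orderOf r)
        ((Fintype.card_fin n).trans hm)
      rw [Nat.card_eq_fintype_card, hα, Nat.add_sub_cancel] at h4
      refine le_trans (Nat.mul_le_mul_left _ (Finite.card_le_of_embedding
        (Subtype.impEmbedding _ _ fun C hC => ?_))) h4
      obtain ⟨g, h5, h6⟩ := hC
      refine ⟨g, h5, ?_⟩
      rw [← isConj_iff_elDivM.mp (SL_isConj_coe h6), Matrix.SpecialLinearGroup.coe_mul, ← hz,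
        Matrix.scalar_apply, ← Matrix.smul_eq_diagonal_mul]
  have hc : (Finset.univ.erase
      (1 : Subgroup.center (Matrix.SpecialLinearGroup (Fin n) F))).card ≤ min (n - 1) (α - 1) := by
    rw [Finset.card_erase_of_mem (Finset.mem_univ _), Finset.card_univ, ← Nat.card_eq_fintype_card,
      hZ, hα, Nat.add_sub_cancel]
    have := Nat.gcd_le_left α (show 0 < n by omega)
    have := Nat.gcd_le_right n h2
    omega
  rw [← Finset.add_sum_erase _ _ (Finset.mem_univ 1), hα]
  obtain ⟨j, m, h3, -, h4, h5⟩ := key 1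
  rw [h4 rfl, one_mul] at h3
  subst h3
  rcases hn.eq_or_lt with rfl | hn3
  · have h6 := Nat.le_of_mul_le_mul_left (h5.trans (clB_lin_two α)) h2
    refine (Nat.add_le_add h6 ((Finset.sum_le_card_nsmul _ _ 1 fun z hz => ?_).trans
      (Nat.mul_le_mul_right _ (hc.trans (min_le_left _ _))))).trans (by simp)
    obtain ⟨j, m, h3, h4, -, h5⟩ := key z
    have h7 := h4 (Finset.ne_of_mem_erase hz)
    obtain rfl : m = 1 := by
      rcases m with _ | _ | m
      · omega
      · rfl
      · nlinarith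
    rw [clB_one] at h5
    exact Nat.le_of_mul_le_mul_left (h5.trans_eq (mul_one _).symm) h2
  · have h6 := Nat.le_of_mul_le_mul_left (h5.trans (clB_lin h2 hn3)) h2
    rcases h2.eq_or_lt with rfl | h7
    · rw [Finset.card_eq_zero.mp (Nat.le_zero.mp (hc.trans (min_le_right _ _))), Finset.sum_empty]
      omega
    refine (Nat.add_le_add h6 (Nat.le_of_mul_le_mul_left (c := α - 1)
      (b := 2 * (α + 1) ^ (n - 2)) ?_ (by omega))).trans (by omega)
    rw [Finset.mul_sum]
    refine (Finset.sum_le_card_nsmul _ _ _ fun z hz => ?_).trans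
      (Nat.mul_le_mul_right _ (hc.trans (min_le_right _ _)))
    obtain ⟨j, m, h3, h4, -, h5⟩ := key z
    exact numerics h2 hn3 (h4 (Finset.ne_of_mem_erase hz)) h3 h5

end Cfsg.Agent.S2480
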