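import Cfsg.Statements.S0983
import Cfsg.Agent.PrimeOne.Elim
import Cfsg.Agent.PrimeOne.SqOrder

set_option autoImplicit false
open Cfsg

namespace Cfsg.Agent.S0983

/-- A non-abelian finite simple group of order greater than 3640 and at most 6232 has order 4080, 5616, 6048 or 6072. -/
theorem result {G : Type*} [Group G] [Finite G] [IsSimpleGroup G] (hG : ¬ IsMulCommutative G) (h1 : 3640 < Nat.card G) (h2 : Nat.card G ≤ 6232) : Nat.card G = 4080 ∨ Nat.card G = 5616 ∨ Nat.card G = 6048 ∨ Nat.card G = 6072 := by
  open Cfsg.Lib.PrimeOne in focus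
  have h3 : allBelow (fun n => n ≤ 3640 || kill 80 n || n == 4080 || n == 4500 || n == 5292 ||
      n == 5400 || n == 5616 || n == 6048 || n == 6072) 6233 = true := by decide +kernel
  have h4 := allBelow_sound h3 _ (Nat.lt_succ_of_le h2)
  have h5 := card_ne_4500 hG
  have h6 := card_ne_5292 hG
  have h7 := card_ne_5400 hG
  simp only [Bool.or_eq_true, eq_false (not_kill hG 80), or_false, beq_iff_eq, decide_eq_true_eq] at h4
  omega

end Cfsg.Agent.S0983
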