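import Cfsg.Statements.S0695
import Cfsg.Agent.Perm.MultiNormal

set_option autoImplicit false
open Cfsg

namespace Cfsg.Agent.S0695

/-- A regular normal subgroup of a doubly primitive group of finite degree at least 2 is an elementary abelian 2-group (and the degree is a power of 2), unless the degree is 3. -/
theorem result {G : Type*} [Group G] {X : Type*} [Fintype X] [MulAction G X] (hX : 2 ≤ Fintype.card X) (h2 : MulAction.IsMultiplyPreprimitive G X 2) (N : Subgroup G) [N.Normal] (htrans : MulAction.IsPretransitive N X) (hreg : ∀ x : X, MulAction.stabilizer N x = ⊥) : Fintype.card X = 3 ∨ (IsMulCommutative N ∧ (∀ n ∈ N, n ^ 2 = 1) ∧ ∃ m : ℕ, Fintype.card X = 2 ^ m) := by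
  classical
  by_cases h3 : Fintype.card X = 3
  · exact Or.inl h3
  right
  obtain ⟨x⟩ : Nonempty X := Fintype.card_pos_iff.1 (by omega)
  have hsq : ∀ n ∈ N, n ^ 2 = 1 := by
    intro n hn
    refine (Cfsg.Lib.Perm.sq_eq_one_or_card_eq ∅ x (by simp)
      (Cfsg.Lib.Perm.isPreprimitive_fixing_of_isMultiplyPreprimitive h2 hX _ (by simp)) N
      (fun g _ n hn => Subgroup.Normal.conj_mem inferInstance n hn g) (by simp)
      (fun m hm hmx => ?_) hn).resolve_right (by simpa using h3)
    have : (⟨m, hm⟩ : N) ∈ MulAction.stabilizer N x := hmx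
    rw [hreg x, Subgroup.mem_bot] at this
    exact congrArg Subtype.val this
  refine ⟨Cfsg.Lib.Perm.isMulCommutative_of_sq_eq_one N hsq, hsq, ?_⟩
  have hc := Cfsg.Lib.Perm.card_eq_of_regular N htrans x (hreg x)
  rw [Nat.card_eq_fintype_card (α := X)] at hc
  have : Finite N := Nat.finite_of_card_ne_zero (by omega)
  have hp : IsPGroup 2 N := fun n => ⟨1, Subtype.ext (by simpa using hsq n n.2)⟩
  have := Fact.mk Nat.prime_two
  obtain ⟨m, hm⟩ := IsPGroup.iff_card.1 hp
  exact ⟨m, hc ▸ hm⟩

end Cfsg.Agent.S0695
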