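import Cfsg.Statements.S0696
import Cfsg.Agent.S0695

set_option autoImplicit false
open Cfsg

namespace Cfsg.Agent.S0696

/-- A triply primitive group of degree at least 3 having a regular normal subgroup has degree 3 or 4. -/
theorem result {G : Type*} [Group G] {X : Type*} [Fintype X] [MulAction G X] (hX : 3 ≤ Fintype.card X) (h3 : MulAction.IsMultiplyPreprimitive G X 3) (N : Subgroup G) [N.Normal] (htrans : MulAction.IsPretransitive N X) (hreg : ∀ x : X, MulAction.stabilizer N x = ⊥) : Fintype.card X = 3 ∨ Fintype.card X = 4 := by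
  classical
  have h2 : MulAction.IsMultiplyPreprimitive G X 2 :=
    MulAction.isMultiplyPreprimitive_of_le G X h3 (by norm_num) (by
      rw [ENat.card_eq_coe_fintype_card]; exact_mod_cast hX)
  rcases Cfsg.Agent.S0695.result (by omega) h2 N htrans hreg with h | ⟨-, hsq, -⟩
  · exact Or.inl h
  have hreg' : ∀ x : X, ∀ m ∈ N, m • x = x → m = 1 := by
    intro x m hm hmx
    have : (⟨m, hm⟩ : N) ∈ MulAction.stabilizer N x := hmx
    rw [hreg x, Subgroup.mem_bot] at this
    exact congrArg Subtype.val this
  obtain ⟨x, y, z, hxy, hxz, hyz⟩ := Fintype.two_lt_card_iff.1 (show 2 < Fintype.card X by omega)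
  obtain ⟨⟨n, hn⟩, hnx⟩ := MulAction.exists_smul_eq N x y
  change n • x = y at hnx
  have hnn : ∀ w : X, n • n • w = w := fun w => by rw [← mul_smul, ← pow_two, hsq n hn, one_smul]
  have hn1 : n ≠ 1 := by rintro rfl; exact hxy (by simpa using hnx)
  have hprim := Cfsg.Lib.Perm.isPreprimitive_fixing_of_isMultiplyPreprimitive h3 hX {x, y}
    (by rw [Finset.card_pair hxy]; norm_num)
  rcases Cfsg.Lib.Perm.subsingleton_or_of_isPreprimitive_fixing hprim {z, n • z} (by
    intro g hg b hb hgb c hc
    have hcomm : ∀ w : X, g • n • w = n • g • w := by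
      have : n⁻¹ * (g * n * g⁻¹) = 1 := by
        apply hreg' x _ (N.mul_mem (N.inv_mem hn) (Subgroup.Normal.conj_mem inferInstance n hn g))
        rw [mul_smul, inv_smul_eq_iff, mul_smul, mul_smul,
          show g⁻¹ • x = x by rw [inv_smul_eq_iff, hg x (by simp)], hnx, hg y (by simp)]
      rw [inv_mul_eq_one, eq_mul_inv_iff_mul_eq] at this
      intro w
      rw [← mul_smul, ← this, mul_smul]
    have hcl : ∀ w : X, w ∈ ({z, n • z} : Set X) → n • w ∈ ({z, n • z} : Set X) := by
      rintro w (rfl | rfl)
      · simp
      · simp [hnn]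
    rcases hb with rfl | rfl <;> rcases hc with rfl | rfl
    · exact hgb
    · rw [hcomm]; exact hcl _ hgb
    · rw [← hnn (g • c), ← hcomm]; exact hcl _ hgb
    · exact hgb) with h | h
  · exfalso
    refine hn1 (hreg' z n hn (h _ (by simp) _ (by simp) ?_ (by simp [hxz.symm, hyz.symm])))
    simp only [Finset.coe_insert, Finset.coe_singleton, Set.mem_insert_iff, Set.mem_singleton_iff,
      not_or]
    constructor
    · intro e
      apply hyz
      rw [← hnx, ← e, hnn]
    · intro e
      exact hxz (smul_left_cancel n (hnx.trans e.symm))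
  · have hle : Fintype.card X ≤ 4 := by
      have : (Finset.univ : Finset X) ⊆ {x, y, z, n • z} := by
        intro w _
        by_cases hw : w ∈ (({x, y} : Finset X) : Set X)
        · simp only [Finset.coe_insert, Finset.coe_singleton, Set.mem_insert_iff,
            Set.mem_singleton_iff] at hw
          rcases hw with rfl | rfl <;> simp
        · rcases h w hw with rfl | rfl <;> simp
      exact (Finset.card_le_card this).trans Finset.card_le_four
    omega

end Cfsg.Agent.S0696
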