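import Cfsg.Statements.S0698
import Cfsg.Agent.S0696

set_option autoImplicit false
open Cfsg

namespace Cfsg.Agent.S0698

/-- Jordan's Theorem on normal subgroups of multiply transitive groups: if `G` is `k`-transitive (`k > 1`) of degree greater than `k`, a non-trivial normal subgroup is `(k-1)`-transitive, except possibly for `k = 3` when it may be an elementary abelian 2-group. -/
theorem result {α : Type*} [Fintype α] [DecidableEq α] (G : Subgroup (Equiv.Perm α)) {k : ℕ} (hk : 1 < k) (hdeg : k < Fintype.card α) (hG : MulAction.IsMultiplyPretransitive G α k) (N : Subgroup G) [N.Normal] (hN : N ≠ ⊥) : MulAction.IsMultiplyPretransitive N α (k - 1) ∨ (k = 3 ∧ IsMulCommutative N ∧ ∀ n ∈ N, n ^ 2 = 1) := by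
  obtain ⟨k, rfl⟩ : ∃ j, k = j + 1 := ⟨k - 1, by omega⟩
  have hprim : MulAction.IsMultiplyPreprimitive G α k :=
    MulAction.isMultiplyPreprimitive_of_isMultiplyPretransitive_succ G α (by
      rw [ENat.card_eq_coe_fintype_card]; exact_mod_cast hdeg.le)
  rw [Nat.add_sub_cancel]
  by_cases hnr : ∃ a : α, MulAction.stabilizer N a ≠ ⊥
  · obtain ⟨a, ha⟩ := hnr
    exact Or.inl ((Cfsg.Lib.Perm.isMultiplyPretransitive_or_card_le hprim (by omega) N
      ha).resolve_right (by omega))
  push Not at hnr
  have hle : ∀ j, j ≤ k → MulAction.IsMultiplyPreprimitive G α j := fun j hj =>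
    MulAction.isMultiplyPreprimitive_of_le G α hprim hj (by
      rw [ENat.card_eq_coe_fintype_card]; exact_mod_cast (show k ≤ Fintype.card α by omega))
  have h1 : MulAction.IsPreprimitive G α := (MulAction.is_one_preprimitive_iff G α).1 (hle 1 (by omega))
  have htrans : MulAction.IsPretransitive N α := by
    apply MulAction.IsQuasiPreprimitive.isPretransitive_of_normal
    intro hfix
    apply hN
    rw [eq_bot_iff]
    intro n hn
    rw [Subgroup.mem_bot]
    ext x
    have : x ∈ MulAction.fixedPoints N α := by rw [hfix]; trivial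
    exact this ⟨n, hn⟩
  rcases Nat.lt_or_ge k 2 with h | h
  · left
    rw [show k = 1 by omega, MulAction.is_one_pretransitive_iff]
    exact htrans
  rcases Nat.lt_or_ge k 3 with h' | h'
  · right
    rcases Cfsg.Agent.S0695.result (by omega) (hle 2 h) N htrans hnr with e | ⟨e1, e2, -⟩
    · omega
    · exact ⟨by omega, e1, e2⟩
  · have := Cfsg.Agent.S0696.result (by omega) (hle 3 h') N htrans hnr
    omega

end Cfsg.Agent.S0698
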