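import Cfsg.Statements.S0705
import Cfsg.Agent.Perm.MultiBasic

set_option autoImplicit false
open scoped Pointwise
open Cfsg

namespace Cfsg.Agent.S0705

theorem gen_perm {α : Type*} [Fintype α] [DecidableEq α] (G : Subgroup (Equiv.Perm α)) {k : ℕ}
    (hgen : ∀ s : Finset α, s.card = k + 1 → ∀ σ : Equiv.Perm ↥s, ∃ g ∈ G, ∀ x : ↥s, g (x : α) = σ x)
    (s : Finset α) (hs : s.card = k + 1) (τ : Equiv.Perm α) (hτ : ∀ x ∈ s, τ x ∈ s) :
    ∃ g ∈ G, ∀ x ∈ s, g x = τ x := by
  obtain ⟨g, hg, h⟩ := hgen s hs (τ.subtypePermOfFintype (p := fun x => x ∈ s) hτ)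
  exact ⟨g, hg, fun x hx => h ⟨x, hx⟩⟩

/-- A generously `k`-transitive permutation group (every `(k+1)`-subset has its full symmetric group induced by the setwise stabiliser) of degree greater than `k` is `k`-transitive, and for a `k`-subset the setwise and pointwise stabilisers have the same orbits outside it. -/
theorem result {α : Type*} [Fintype α] [DecidableEq α] (G : Subgroup (Equiv.Perm α)) {k : ℕ} (hk : k < Fintype.card α) (hgen : ∀ s : Finset α, s.card = k + 1 → ∀ σ : Equiv.Perm ↥s, ∃ g ∈ G, ∀ x : ↥s, g (x : α) = σ x) : MulAction.IsMultiplyPretransitive G α k ∧ ∀ s : Finset α, s.card = k → ∀ a b : α, a ∉ s → b ∉ s → (∃ g ∈ G, g • s = s ∧ g a = b) → ∃ g ∈ G, (∀ x ∈ s, g x = x) ∧ g a = b := by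
  constructor
  · apply Cfsg.Lib.Perm.isMultiplyPretransitive_of_forall_fix
    intro s hs x y hx hy
    obtain ⟨t, hst, -, ht⟩ := Finset.exists_subsuperset_card_eq
      (Finset.subset_univ (insert x (insert y s))) (n := k + 1)
      ((Finset.card_insert_le _ _).trans (by have := Finset.card_insert_le y s; omega))
      (by rw [Finset.card_univ]; omega)
    have hxt : x ∈ t := hst (by simp)
    have hyt : y ∈ t := hst (by simp)
    obtain ⟨g, hg, h⟩ := gen_perm G hgen t ht (Equiv.swap x y) (fun z hz => by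
      rw [Equiv.swap_apply_def]; split_ifs <;> assumption)
    refine ⟨⟨g, hg⟩, fun z hz => ?_, ?_⟩
    · change g z = z
      rw [h z (hst (by simp [hz])), Equiv.swap_apply_of_ne_of_ne]
      · rintro rfl; exact hx hz
      · rintro rfl; exact hy hz
    · change g x = y
      rw [h x hxt, Equiv.swap_apply_left]
  · rintro s hs a b ha hb ⟨g, hg, hgs, hga⟩
    have h1 : ∀ x ∈ s, g⁻¹ x ∈ s := by
      intro x hx
      rw [← hgs] at hx
      obtain ⟨y, hy, rfl⟩ := Finset.mem_smul_finset.1 hx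
      simpa using hy
    let τ : Equiv.Perm α := Equiv.Perm.ofSubtype (g⁻¹.subtypePermOfFintype (p := fun x => x ∈ s) h1)
    have hτ1 : ∀ x ∈ s, τ x = g⁻¹ x := fun x hx => Equiv.Perm.ofSubtype_apply_of_mem _ hx
    have hτ2 : τ a = a := Equiv.Perm.ofSubtype_apply_of_not_mem _ ha
    obtain ⟨h, hh, hh'⟩ := gen_perm G hgen (insert a s)
      (by rw [Finset.card_insert_of_notMem ha, hs]) τ (fun x hx => by
        rcases Finset.mem_insert.1 hx with rfl | hx
        · rw [hτ2]; exact hx
        · rw [hτ1 x hx]; exact Finset.mem_insert_of_mem (h1 x hx))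
    refine ⟨g * h, G.mul_mem hg hh, fun x hx => ?_, ?_⟩
    · rw [Equiv.Perm.mul_apply, hh' x (Finset.mem_insert_of_mem hx), hτ1 x hx]
      simp
    · rw [Equiv.Perm.mul_apply, hh' a (Finset.mem_insert_self _ _), hτ2, hga]

end Cfsg.Agent.S0705
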