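import Cfsg.Statements.S0706
import Cfsg.Agent.S0705
import Mathlib.GroupTheory.Sylow

set_option autoImplicit false
open Cfsg

namespace Cfsg.Agent.S0706

/-- In a generously `k`-transitive permutation group, for a prime `p ≤ k` and a `k`-set `Γ`, there are no `p` points outside `Γ` lying in distinct orbits of the pointwise stabiliser of `Γ` all of length prime to `p` (at most `p - 1` such orbits). -/
theorem result {α : Type*} [Fintype α] [DecidableEq α] (G : Subgroup (Equiv.Perm α)) {k : ℕ} (hk : k < Fintype.card α) (hgen : ∀ s : Finset α, s.card = k + 1 → ∀ σ : Equiv.Perm ↥s, ∃ g ∈ G, ∀ x : ↥s, g (x : α) = σ x) {p : ℕ} (hp : p.Prime) (hpk : p ≤ k) (Γ : Finset α) (hΓ : Γ.card = k) (f : Fin p → α) (hf : ∀ i, f i ∉ Γ) (hdist : ∀ i j, i ≠ j → f j ∉ MulAction.orbit (fixingSubgroup G (Γ : Set α)) (f i)) : ∃ i, p ∣ Nat.card (MulAction.orbit (fixingSubgroup G (Γ : Set α)) (f i)) := by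
  by_contra hcon
  push Not at hcon
  have := Fact.mk hp
  have hkt := (Cfsg.Agent.S0705.result G hk hgen).1
  obtain ⟨T, hTΓ, hT⟩ := Finset.exists_subset_card_eq (s := Γ) (n := p) (by omega)
  obtain ⟨σ₀, hσ₀⟩ := exists_prime_orderOf_dvd_card (G := Equiv.Perm T) p (by
    rw [Fintype.card_perm, Fintype.card_coe, hT]; exact Nat.dvd_factorial hp.pos le_rfl)
  let σ : Equiv.Perm α := Equiv.Perm.ofSubtype σ₀
  have hσp : σ ^ p = 1 := by
    rw [← map_pow, ← hσ₀, pow_orderOf_eq_one, map_one]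
  have hσT : ∀ (i : ℕ) (x : α), x ∉ T → (σ ^ i) x = x := fun i x hx => by
    rw [← map_pow]; exact Equiv.Perm.ofSubtype_apply_of_not_mem _ hx
  have hσΓ : ∀ (i : ℕ) (x : α), x ∈ Γ → (σ ^ i) x ∈ Γ := fun i x hx => by
    by_cases hxT : x ∈ T
    · rw [← map_pow]
      exact hTΓ ((Equiv.Perm.ofSubtype_apply_mem_iff_mem _ x).2 hxT)
    · rw [hσT i x hxT]; exact hx
  obtain ⟨x₀, hx₀, hσx₀⟩ : ∃ x ∈ Γ, σ x ≠ x := by
    by_contra h
    push Not at h
    have : σ₀ = 1 := by
      ext x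
      have := h x (hTΓ x.2)
      rwa [Equiv.Perm.ofSubtype_apply_coe] at this
    rw [this, orderOf_one] at hσ₀
    exact hp.one_lt.ne hσ₀
  have hpow : ∀ (g : G) (i : ℕ), (∀ x ∈ Γ, g • x = (σ ^ i) x) → ∀ (j : ℕ), ∀ x ∈ Γ,
      (g ^ j) • x = (σ ^ (i * j)) x := by
    intro g i hg j
    induction j with
    | zero => intro x _; simp
    | succ j ih =>
      intro x hx
      rw [pow_succ', mul_smul, ih x hx, hg _ (hσΓ _ x hx), mul_add, mul_one, add_comm, pow_add,
        Equiv.Perm.mul_apply]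
  let K : Subgroup G :=
    { carrier := {g | ∃ i : ℕ, ∀ x ∈ Γ, g • x = (σ ^ i) x}
      one_mem' := ⟨0, fun x _ => by simp⟩
      mul_mem' := by
        rintro a b ⟨i, hi⟩ ⟨j, hj⟩
        exact ⟨i + j, fun x hx => by
          rw [mul_smul, hj x hx, hi _ (hσΓ j x hx), pow_add, Equiv.Perm.mul_apply]⟩
      inv_mem' := by
        rintro a ⟨i, hi⟩
        refine ⟨i * (p - 1), fun x hx => ?_⟩
        rw [inv_smul_eq_iff, hi _ (hσΓ _ x hx), ← Equiv.Perm.mul_apply, ← pow_add,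
          show i + i * (p - 1) = p * i by
            obtain ⟨q, rfl⟩ : ∃ q, p = q + 1 := ⟨p - 1, by have := hp.pos; omega⟩
            simp; ring, pow_mul, hσp]
        simp }
  set H := fixingSubgroup G (Γ : Set α) with hH
  have hHmem : ∀ g : G, g ∈ H ↔ ∀ x ∈ Γ, g • x = x := fun g => mem_fixingSubgroup_iff _
  have hHK : H ≤ K := fun g hg => ⟨0, fun x hx => by simpa using (hHmem g).1 hg x hx⟩
  have hgy : ∀ y : α, y ∉ Γ → ∀ i : ℕ, ∃ g : G, (∀ x ∈ Γ, g • x = (σ ^ i) x) ∧ g • y = y := by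
    intro y hy i
    have hyT : y ∉ T := fun h => hy (hTΓ h)
    obtain ⟨g, hg, h⟩ := Cfsg.Agent.S0705.gen_perm G hgen (insert y Γ)
      (by rw [Finset.card_insert_of_notMem hy, hΓ]) (σ ^ i) (fun x hx => by
        rcases Finset.mem_insert.1 hx with rfl | hx
        · rw [hσT i _ hyT]; exact hx
        · exact Finset.mem_insert_of_mem (hσΓ i x hx))
    exact ⟨⟨g, hg⟩, fun x hx => h x (Finset.mem_insert_of_mem hx),
      (h y (Finset.mem_insert_self _ _)).trans (hσT i y hyT)⟩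
  have hconj : ∀ (g g' h : G) (i : ℕ), (∀ x ∈ Γ, g • x = (σ ^ i) x) →
      (∀ x ∈ Γ, g' • x = (σ ^ i) x) → h ∈ H → g * h * g'⁻¹ ∈ H := by
    intro g g' h i hg hg' hh
    rw [hHmem]
    intro x hx
    obtain ⟨y, hy, rfl⟩ : ∃ y ∈ Γ, (σ ^ i) y = x := by
      refine ⟨(σ ^ (i * (p - 1))) x, hσΓ _ x hx, ?_⟩
      rw [← Equiv.Perm.mul_apply, ← pow_add, show i + i * (p - 1) = p * i by
            obtain ⟨q, rfl⟩ : ∃ q, p = q + 1 := ⟨p - 1, by have := hp.pos; omega⟩
            simp; ring, pow_mul, hσp]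
      simp
    rw [mul_smul, mul_smul, ← hg' y hy, inv_smul_smul, (hHmem h).1 hh y hy, hg y hy, hg' y hy]
  obtain ⟨Q⟩ : Nonempty (Sylow p K) := inferInstance
  let Q' : Subgroup G := (Q : Subgroup K).map K.subtype
  have hQ'K : Q' ≤ K := Subgroup.map_subtype_le _
  have hz : ∀ i, ∃ z ∈ MulAction.orbit H (f i), ∀ g ∈ Q', g • z = z := by
    intro i
    refine Cfsg.Lib.Perm.exists_fixed_of_not_dvd_ncard hp Q' (Q.isPGroup'.map _) _ ?_ (hcon i)
    rintro g hg _ ⟨h, rfl⟩
    obtain ⟨j, hj⟩ := hQ'K hg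
    obtain ⟨g', hg', hg'f⟩ := hgy (f i) (hf i) j
    refine ⟨⟨g * h * g'⁻¹, hconj g g' h j hj hg' h.2⟩, ?_⟩
    change (g * h * g'⁻¹) • f i = g • (h : G) • f i
    rw [mul_smul, mul_smul, show g'⁻¹ • f i = f i by rw [inv_smul_eq_iff, hg'f]]
  choose z hz hzQ using hz
  have hzinj : Function.Injective z := by
    intro i j hij
    by_contra hne
    apply hdist i j hne
    have h1 := MulAction.orbit_eq_iff.2 (hz i)
    have h2 := MulAction.orbit_eq_iff.2 (hz j)
    rw [← h1, hij, h2]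
    exact MulAction.mem_orbit_self _
  have hzΓ : ∀ i, z i ∉ Γ := by
    intro i hi
    obtain ⟨h, hh⟩ := hz i
    have h1 := (hHmem h).1 h.2 _ hi
    have h2 : (h : G) • f i = z i := hh
    rw [← h2] at h1
    have := smul_left_cancel _ h1
    exact hf i (by rw [← this, h2]; exact hi)
  let Γ' : Finset α := (Γ \ T) ∪ Finset.univ.image z
  have hΓ' : Γ'.card = k := by
    rw [Finset.card_union_of_disjoint, Finset.card_sdiff_of_subset hTΓ,
      Finset.card_image_of_injective _ hzinj, Finset.card_univ, Fintype.card_fin]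
    · omega
    · rw [Finset.disjoint_right]
      intro x hx hx'
      obtain ⟨i, -, rfl⟩ := Finset.mem_image.1 hx
      exact hzΓ i (Finset.mem_sdiff.1 hx').1
  have hQle : Q' ≤ fixingSubgroup G (Γ' : Set α) := by
    intro g hg
    rw [mem_fixingSubgroup_iff]
    intro x hx
    rcases Finset.mem_union.1 hx with hx | hx
    · obtain ⟨j, hj⟩ := hQ'K hg
      rw [hj x (Finset.mem_sdiff.1 hx).1, hσT j x (Finset.mem_sdiff.1 hx).2]
    · obtain ⟨i, -, rfl⟩ := Finset.mem_image.1 hx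
      exact hzQ i g hg
  have hcardeq : Nat.card (fixingSubgroup G (Γ' : Set α)) = Nat.card H := by
    have e1 := MulAction.IsMultiplyPretransitive.index_of_fixingSubgroup_mul hkt
      (s := (Γ : Set α)) (by simp [hΓ])
    have e2 := MulAction.IsMultiplyPretransitive.index_of_fixingSubgroup_mul hkt
      (s := (Γ' : Set α)) (by rw [Set.ncard_coe_finset, hΓ'])
    have e3 := Nat.eq_of_mul_eq_mul_right (Nat.factorial_pos _) (e2.trans e1.symm)
    have e4 := (fixingSubgroup G (Γ' : Set α)).card_mul_index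
    rw [e3, ← H.card_mul_index] at e4
    exact Nat.eq_of_mul_eq_mul_right (Nat.pos_of_ne_zero Subgroup.FiniteIndex.index_ne_zero) e4
  have hnormal : (H.subgroupOf K).Normal := ⟨fun h hh g => by
    obtain ⟨j, hj⟩ := g.2
    exact hconj g g h j hj hj hh⟩
  have hpg : IsPGroup p (K ⧸ H.subgroupOf K) := by
    intro q
    obtain ⟨g, rfl⟩ := QuotientGroup.mk_surjective q
    refine ⟨1, ?_⟩
    rw [pow_one, ← QuotientGroup.mk_pow, QuotientGroup.eq_one_iff, Subgroup.mem_subgroupOf, hHmem]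
    obtain ⟨j, hj⟩ := g.2
    intro x hx
    rw [Subgroup.coe_pow, hpow g j hj p x hx, mul_comm, pow_mul, hσp]
    simp
  obtain ⟨m, hm⟩ := IsPGroup.iff_card.1 hpg
  have hm0 : m ≠ 0 := by
    rintro rfl
    have h1 : (H.subgroupOf K).index = 1 := hm
    rw [Subgroup.index_eq_one, Subgroup.subgroupOf_eq_top] at h1
    obtain ⟨g, hg, -⟩ := hgy (f ⟨0, hp.pos⟩) (hf _) 1
    have := (hHmem g).1 (h1 ⟨1, hg⟩) x₀ hx₀
    rw [hg x₀ hx₀, pow_one] at this
    exact hσx₀ this
  have hK : Nat.card K = p ^ m * Nat.card H := by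
    rw [Subgroup.card_eq_card_quotient_mul_card_subgroup (H.subgroupOf K), hm,
      Nat.card_congr (Subgroup.subgroupOfEquivOfLe hHK).toEquiv]
  have hd := Subgroup.card_dvd_of_le hQle
  rw [hcardeq, Subgroup.card_map_of_injective (Subgroup.subtype_injective _),
    Q.card_eq_multiplicity, hp.pow_dvd_iff_le_factorization Nat.card_pos.ne', hK,
    Nat.factorization_mul (pow_ne_zero _ hp.ne_zero) Nat.card_pos.ne', hp.factorization_pow] at hd
  simp only [Finsupp.coe_add, Pi.add_apply, Finsupp.single_eq_same] at hd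
  omega

end Cfsg.Agent.S0706
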