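import Cfsg.Statements.S0699
import Cfsg.Agent.S0698
import Cfsg.Agent.S0706

set_option autoImplicit false
open Cfsg

namespace Cfsg.Agent.S0699

/-- Wagner's Theorem: a non-trivial normal subgroup of a triply transitive permutation group of odd degree at least 5 is triply transitive. -/
theorem result {α : Type*} [Fintype α] [DecidableEq α] (G : Subgroup (Equiv.Perm α)) (hodd : Odd (Fintype.card α)) (h5 : 5 ≤ Fintype.card α) (hG : MulAction.IsMultiplyPretransitive G α 3) (N : Subgroup G) [N.Normal] (hN : N ≠ ⊥) : MulAction.IsMultiplyPretransitive N α 3 := by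
  open Pointwise in
  have h2f := Fact.mk Nat.prime_two
  have hcard : 3 ≤ Nat.card α := by rw [Nat.card_eq_fintype_card]; omega
  have hN2 : MulAction.IsMultiplyPretransitive N α 2 := by
    rcases Cfsg.Agent.S0698.result G (by norm_num) (by omega) hG N hN with h | ⟨-, -, hsq⟩
    · exact h
    exfalso
    have hp : IsPGroup 2 N := fun n => ⟨1, Subtype.ext (by simpa using hsq n n.2)⟩
    obtain ⟨x, -, hx⟩ := Cfsg.Lib.Perm.exists_fixed_of_not_dvd_ncard Nat.prime_two N hp
      (Set.univ : Set α) (fun _ _ _ _ => trivial) (by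
        rw [Set.ncard_univ, Nat.card_eq_fintype_card]; exact hodd.not_two_dvd_nat)
    apply hN
    rw [eq_bot_iff]
    intro n hn
    rw [Subgroup.mem_bot]
    ext y
    by_cases hxy : x = y
    · rw [← hxy]; exact hx n hn
    obtain ⟨g, -, hg⟩ := Cfsg.Lib.Perm.exists_fix_smul_eq hG hcard ∅ (by simp) (x := x) (y := y)
      (by simp) (by simp)
    have := hx _ (Subgroup.Normal.conj_mem' inferInstance n hn g)
    rw [mul_smul, mul_smul, hg, inv_smul_eq_iff, hg] at this
    exact this
  have hodd2 : ∀ a b : α, a ≠ b → ¬ 2 ∣ ((({a, b} : Finset α) : Set α)ᶜ).ncard := by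
    intro a b hab
    have := Set.ncard_add_ncard_compl (({a, b} : Finset α) : Set α)
    rw [Set.ncard_coe_finset, Finset.card_pair hab, Nat.card_eq_fintype_card] at this
    obtain ⟨m, hm⟩ := hodd
    omega
  -- a swap with a fixed third point
  have hswap : ∀ a b c : α, a ≠ b → a ≠ c → b ≠ c → ∃ n ∈ N, n • a = b ∧ n • b = a ∧ n • c = c := by
    intro a b c hab hac hbc
    obtain ⟨s, hsa, hsb⟩ := (MulAction.is_two_pretransitive_iff.1 hN2) hab hab.symm
    obtain ⟨i, m, hm, him⟩ := Nat.exists_eq_two_pow_mul_odd (orderOf_pos s).ne'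
    have hpow : ∀ j : ℕ, (s ^ (2 * j)) • a = a ∧ (s ^ (2 * j)) • b = b := by
      intro j
      induction j with
      | zero => simp
      | succ j ih =>
        rw [mul_add, pow_add, mul_one, pow_two, mul_smul, mul_smul, mul_smul, mul_smul, hsa, hsb,
          hsa]
        exact ih
    obtain ⟨j, rfl⟩ := hm
    set t := s ^ (2 * j + 1) with ht
    have hta : t • a = b := by rw [ht, pow_succ, mul_smul, hsa, (hpow j).2]
    have htb : t • b = a := by rw [ht, pow_succ, mul_smul, hsb, (hpow j).1]
    have htp : IsPGroup 2 (Subgroup.zpowers t) := by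
      apply IsPGroup.of_card_dvd_pow (n := i)
      rw [Nat.card_zpowers, orderOf_dvd_iff_pow_eq_one, ht, ← pow_mul, mul_comm, ← him,
        pow_orderOf_eq_one]
    obtain ⟨c₀, hc₀, hc₀t⟩ := Cfsg.Lib.Perm.exists_fixed_of_not_dvd_ncard Nat.prime_two
      (Subgroup.zpowers t) htp ((({a, b} : Finset α) : Set α)ᶜ) (by
        intro g hg x hx
        have hle : Subgroup.zpowers t ≤ MulAction.stabilizer N (({a, b} : Finset α) : Set α) := by
          rw [Subgroup.zpowers_le, MulAction.mem_stabilizer_iff]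
          simp [Set.smul_set_insert, Set.smul_set_singleton, hta, htb, Set.pair_comm]
        intro hgx
        rw [← MulAction.mem_stabilizer_iff.1 (hle hg), Set.smul_mem_smul_set_iff] at hgx
        exact hx hgx) (hodd2 a b hab)
    simp only [Finset.coe_insert, Finset.coe_singleton, Set.mem_compl_iff, Set.mem_insert_iff,
      Set.mem_singleton_iff, not_or] at hc₀
    obtain ⟨g, hg, hgc⟩ := Cfsg.Lib.Perm.exists_fix_smul_eq hG hcard {a, b}
      (by rw [Finset.card_pair hab]; norm_num) (x := c) (y := c₀)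
      (by simp [hac.symm, hbc.symm]) (by simp [hc₀])
    have hga : g • a = a := hg a (by simp)
    have hgb : g • b = b := hg b (by simp)
    refine ⟨g⁻¹ * t * g, Subgroup.Normal.conj_mem' inferInstance _ t.2 g, ?_, ?_, ?_⟩
    · rw [mul_smul, mul_smul, hga, inv_smul_eq_iff, hgb]; exact hta
    · rw [mul_smul, mul_smul, hgb, inv_smul_eq_iff, hga]; exact htb
    · rw [mul_smul, mul_smul, hgc, inv_smul_eq_iff, hgc]; exact hc₀t t (Subgroup.mem_zpowers t)
  let N' : Subgroup (Equiv.Perm α) := N.map G.subtype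
  have hgen : ∀ s : Finset α, s.card = 2 + 1 → ∀ σ : Equiv.Perm ↥s,
      ∃ g ∈ N', ∀ x : ↥s, g (x : α) = σ x := by
    intro s hs σ
    induction σ using Equiv.Perm.swap_induction_on with
    | one => exact ⟨1, N'.one_mem, fun x => rfl⟩
    | swap_mul f x y hxy ih =>
      obtain ⟨g, hg, hgf⟩ := ih
      obtain ⟨z, hz⟩ : ∃ z, (s.erase x).erase y = {z} := by
        rw [← Finset.card_eq_one, Finset.card_erase_of_mem, Finset.card_erase_of_mem x.2, hs]
        exact Finset.mem_erase.2 ⟨fun e => hxy (Subtype.ext e.symm), y.2⟩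
      have hz' : z ∈ (s.erase x).erase y := by rw [hz]; simp
      simp only [Finset.mem_erase] at hz'
      obtain ⟨n, hn, h1, h2, h3⟩ := hswap x y z (fun e => hxy (Subtype.ext e)) hz'.2.1.symm
        hz'.1.symm
      refine ⟨n * g, N'.mul_mem ⟨n, hn, rfl⟩ hg, fun w => ?_⟩
      rw [Equiv.Perm.mul_apply, hgf, Equiv.Perm.mul_apply, Equiv.swap_apply_def]
      split_ifs with e1 e2
      · rw [e1]; exact h1
      · rw [e2]; exact h2
      · have : (f w : α) ∈ (s.erase x).erase y := by
          simp only [Finset.mem_erase]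
          exact ⟨fun e => e2 (Subtype.ext e), fun e => e1 (Subtype.ext e), (f w).2⟩
        rw [hz, Finset.mem_singleton] at this
        rw [this]; exact h3
  apply Cfsg.Lib.Perm.isMultiplyPretransitive_of_forall_fix_card (k := 2) (by omega)
  intro Γ hΓ c d hc hd
  set H := fixingSubgroup N' (Γ : Set α) with hH
  have hoddorb : ∀ e, e ∉ Γ → ¬ 2 ∣ Nat.card (MulAction.orbit H e) := by
    intro e he
    obtain ⟨P⟩ : Nonempty (Sylow 2 H) := inferInstance
    obtain ⟨a, b, hab, rfl⟩ := Finset.card_eq_two.1 hΓ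
    obtain ⟨c₀, hc₀, hc₀P⟩ := Cfsg.Lib.Perm.exists_fixed_of_not_dvd_ncard Nat.prime_two
      (P : Subgroup H) P.isPGroup' ((({a, b} : Finset α) : Set α)ᶜ) (by
        intro g _ x hx hgx
        have h1 := (mem_fixingSubgroup_iff _).1 g.2 _ hgx
        have h2 : g • x = x := smul_left_cancel g h1
        exact hx (h2 ▸ hgx)) (hodd2 a b hab)
    have h1 : ¬ 2 ∣ Nat.card (MulAction.orbit H c₀) := by
      rw [Nat.card_coe_set_eq, ← MulAction.index_stabilizer]
      intro h
      exact P.not_dvd_index (h.trans (Subgroup.index_dvd_of_le (fun g hg => hc₀P g hg)))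
    obtain ⟨g, hg, hgc⟩ := Cfsg.Lib.Perm.exists_fix_smul_eq hG hcard {a, b}
      (by rw [Finset.card_pair hab]; norm_num) (x := c₀) (y := e) hc₀ he
    have hmap : ∀ (g : G) (u v : α), (∀ z ∈ ({a, b} : Finset α), g • z = z) → g • u = v →
        ∀ x ∈ MulAction.orbit H u, g • x ∈ MulAction.orbit H v := by
      rintro g u v hg rfl _ ⟨⟨⟨_, n, hn, rfl⟩, hnH⟩, rfl⟩
      refine ⟨⟨⟨(g * n * g⁻¹ : G), _, Subgroup.Normal.conj_mem inferInstance n hn g, rfl⟩, ?_⟩, ?_⟩
      · rw [hH, mem_fixingSubgroup_iff]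
        intro z hz
        change (g * n * g⁻¹) • z = z
        rw [mul_smul, mul_smul, show g⁻¹ • z = z by rw [inv_smul_eq_iff, hg z hz]]
        have : n • z = z := (mem_fixingSubgroup_iff _).1 hnH z hz
        rw [this, hg z hz]
      · change (g * n * g⁻¹) • g • u = g • n • u
        simp [mul_smul]
    have e1 : MulAction.orbit H c₀ ≃ MulAction.orbit H e :=
      { toFun := fun x => ⟨g • x.1, hmap g c₀ e hg hgc x x.2⟩
        invFun := fun x => ⟨g⁻¹ • x.1, hmap g⁻¹ e c₀ (fun z hz => by rw [inv_smul_eq_iff, hg z hz])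
          (by rw [inv_smul_eq_iff, hgc]) x x.2⟩
        left_inv := fun x => by simp
        right_inv := fun x => by simp }
    rwa [← Nat.card_congr e1]
  have hmem : d ∈ MulAction.orbit H c := by
    by_contra hcon
    obtain ⟨i, hi⟩ := Cfsg.Agent.S0706.result N' (k := 2) (by omega) hgen Nat.prime_two le_rfl Γ hΓ
      ![c, d] (by intro i; fin_cases i <;> simpa) (by
        intro i j hij
        fin_cases i <;> fin_cases j
        · exact absurd rfl hij
        · exact hcon
        · exact fun h => hcon (MulAction.mem_orbit_symm.1 h)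
        · exact absurd rfl hij)
    refine hoddorb _ ?_ hi
    fin_cases i <;> simpa
  obtain ⟨⟨⟨_, n, hn, rfl⟩, hnH⟩, h⟩ := hmem
  exact ⟨⟨n, hn⟩, fun z hz => (mem_fixingSubgroup_iff _).1 hnH z hz, h⟩

end Cfsg.Agent.S0699
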