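import Cfsg.Statements.S4385
import Cfsg.Agent.Local.Sims
import Cfsg.Agent.Local.SimsDih

set_option autoImplicit false
open Pointwise
open Cfsg

namespace Cfsg.Agent.S4385

open Subgroup Cfsg.Lib.Solv Cfsg.Lib.FT Cfsg.Lib.Local Cfsg.Lib.Local.Sims DihedralGroup
open scoped commutatorElement

section
variable {G : Type*} [Group G] [Finite G] {P : Subgroup G} {g : G} {t u : ℕ} {x : ℤ → G}

theorem sq_eq (F : Frame 2 P g t x) (hu : Frame.Near x u) {a b : ℤ} (hab : a ≤ b)
    (h : a + t ≤ b + u) {z : G} (hz : z ∈ I P g a b) : z * z = 1 := by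
  have hc := F.I_le_cent hu hab hab h h
  let C : Subgroup G :=
    { carrier := {w | w ∈ I P g a b ∧ w * w = 1}
      one_mem' := ⟨one_mem _, mul_one _⟩
      mul_mem' := fun {v w} hv hw => ⟨mul_mem hv.1 hw.1, by
        have := mem_cent.1 (hc hv.1) w hw.1
        calc v * w * (v * w) = v * (w * v) * w := by group
          _ = v * v * (w * w) := by rw [this]; group
          _ = 1 := by rw [hv.2, hw.2, mul_one]⟩
      inv_mem' := fun {v} hv => ⟨inv_mem hv.1, by rw [← mul_inv_rev, hv.2, inv_one]⟩ }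
  exact (F.I_le (C := C) hab (fun k k1 k2 =>
    ⟨F.mem_I_of k2 k1, by rw [← pow_two, F.pow_eq_one]⟩) hz).2

theorem mul_mem_of_two {A B : Subgroup G} (hA : A ≤ B) (hc : Nat.card B = 2 * Nat.card A)
    {e w : G} (he : e ∈ B) (he' : e ∉ A) (hw : w ∈ B) : w ∈ A ∨ e * w ∈ A := by
  have h1 := card_mul_relIndex_of_le hA
  rw [hc, mul_comm] at h1
  have h2 : (A.subgroupOf B).index = 2 := Nat.eq_of_mul_eq_mul_right Nat.card_pos h1
  have := mul_mem_iff_of_index_two h2 (a := ⟨e, he⟩) (b := ⟨w, hw⟩)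
  simp only [mem_subgroupOf, coe_mul] at this
  tauto

theorem left_two (F : Frame 2 P g t x) {a b : ℤ} (hab : a ≤ b) (h : b < a + t) {w : G}
    (hw : w ∈ I P g a b) : w ∈ I P g (a - 1) b ∨ x a * w ∈ I P g (a - 1) b :=
  mul_mem_of_two (I_anti (by omega) le_rfl) (F.step a b hab h) (F.mem_I_of le_rfl h)
    (fun e => F.not_mem_left a (I_le_Pk le_rfl (by omega) e)) hw

theorem right_two (F : Frame 2 P g t x) {a b k : ℤ} (hab : a ≤ b) (h : b < a + t)
    (hk : k + t = b + 1) {w : G} (hw : w ∈ I P g a b) :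
    w ∈ I P g a (b + 1) ∨ x k * w ∈ I P g a (b + 1) :=
  mul_mem_of_two (I_anti le_rfl (by omega)) (F.step' hab h) (F.mem_I_of (by omega) (by omega))
    (fun e => F.not_mem_right k (I_le_Pk (by omega) (by omega) e)) hw

theorem xx (F : Frame 2 P g t x) (k : ℤ) : x k * x k = 1 := by rw [← pow_two, F.pow_eq_one]

theorem eq_or_eq (F : Frame 2 P g t x) {a b : ℤ} (h : b + 1 = a + t) {w : G}
    (hw : w ∈ I P g a b) : w = 1 ∨ w = x a := by
  have := F.pos
  rcases left_two F (by omega) (by omega) hw with e | e <;>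
    rw [F.eq_bot (by omega), mem_bot] at e
  · exact .inl e
  · exact .inr (mul_left_cancel (e.trans (xx F a).symm))

theorem x_ne (F : Frame 2 P g t x) {i j : ℤ} (h1 : i < j) (h2 : j ≤ i + t) : x i ≠ x j :=
  fun e => F.not_mem_left j (e ▸ F.mem_Pk_of (by omega) (by omega))

omit [Finite G] in
theorem comm_shift (F : Frame 2 P g t x) {i j a b : ℤ} (h : ⁅x i, x j⁆ ∈ I P g a b) (m : ℤ) :
    ⁅x (i + m), x (j + m)⁆ ∈ I P g (a + m) (b + m) := by
  rw [← F.shift, ← F.shift, ← sh_comm]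
  exact sh_mem_I.2 h

omit [Finite G] in
theorem comm_invol {a b : G} (ha : a * a = 1) (hb : b * b = 1) (h : ⁅a, b⁆ * ⁅a, b⁆ = 1) :
    ⁅a, b⁆ ∈ 𝐂₁ a ∧ ⁅a, b⁆ ∈ 𝐂₁ b := by
  have e : ⁅a, b⁆ = (a * b) ^ 2 := by
    rw [commutatorElement_def, inv_eq_of_mul_eq_one_right ha, inv_eq_of_mul_eq_one_right hb,
      pow_two, mul_assoc (a * b)]
  have e2 := inv_eq_of_mul_eq_one_right h
  rw [mem_cent1, mem_cent1, eq_comm, ← mul_inv_eq_iff_eq_mul, eq_comm (a := ⁅a, b⁆ * b),
    ← mul_inv_eq_iff_eq_mul]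
  constructor
  · rw [e, ← conj_pow, dih_inverts ha hb, inv_pow, ← e, e2]
  · rw [e, ← conj_pow, dih_inverts' ha hb, inv_pow, ← e, e2]

theorem six (F : Frame 2 P g 6 x) (hu : Frame.Near x 4) (hn : ¬ Commute (x 0) (x (4 : ℕ)))
    {a : ℤ} (h1 : -1 ≤ a) (h2 : a ≤ 1) : Pk P g a ≤ 𝐍 (I P g (-1) 1) := by
  have c4 : ⁅x 0, x 4⁆ ∈ I P g 2 7 := by simpa using F.comm_mem_both hu hn (by omega)
  have c5 : ⁅x 0, x 5⁆ ∈ I P g 3 7 := by
    have hw : ⁅x 0, x 5⁆ ∈ I P g 4 6 := by
      simpa using (F.comm_x (i := 0) (j := 5) (by omega) (by omega)).1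
    obtain ⟨e0, e5⟩ := comm_invol (xx F 0) (xx F 5) (sq_eq F hu (by omega) (by omega) hw)
    have h3 := F.mem_left hu hn (by omega) (by omega) (by omega) hw e0
    simpa using F.mem_right hu hn (by omega) (by omega) (by omega) h3 e5
  have key : ∀ i j : ℤ, i ≤ j → j ≤ i + 5 → -6 ≤ i → i ≤ -1 → -4 ≤ j → j ≤ 1 →
      (i < -4 → j ≤ -1) → ⁅x i, x j⁆ ∈ I P g (-1) 1 := by
    intro i j a1 a2 a3 a4 a5 a6 a7
    by_cases e : j < i + 4
    · rw [commutatorElement_eq_one_iff_commute.2 (hu i j (by omega) (by omega))]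
      exact one_mem _
    by_cases e' : j = i + 4
    · have := comm_shift F c4 i
      rw [zero_add, show 4 + i = j by omega] at this
      exact I_anti (by omega) (by omega) this
    · have := comm_shift F c5 i
      rw [zero_add, show 5 + i = j by omega] at this
      exact I_anti (by omega) (by omega) this
  rw [← I_self]
  refine F.I_le le_rfl fun k k1 k2 => mem_normalizer_of_conj_mem ?_
  refine conj_smul_le_iff.1 (conj_smul_le_iff_le_conj_inv_smul.2 (F.I_le (by omega)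
    fun j j1 j2 => ?_))
  rw [mem_conj_smul, inv_inv, show x k * x j * (x k)⁻¹ = ⁅x k, x j⁆ * x j by group]
  refine mul_mem ?_ (F.mem_I_of j2 j1)
  rcases le_total k j with e | e
  · exact key k j e (by omega) (by omega) (by omega) (by omega) (by omega) (by omega)
  · rw [← commutatorElement_inv]
    exact inv_mem (key j k e (by omega) (by omega) (by omega) (by omega) (by omega) (by omega))

theorem hQ_of (F : Frame 2 P g t x) (ht : 3 ≤ t) {k : ℤ} (hk : k + t = 2) {w : G}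
    (hw : w ∈ I P g 0 1) : w ∈ I P g (-1) 2 ∨ x k * w ∈ I P g (-1) 2 ∨
      x 0 * w ∈ I P g (-1) 2 ∨ x k * x 0 * w ∈ I P g (-1) 2 := by
  rcases left_two F (by omega) (by omega) hw with e | e <;>
    rcases right_two F (k := k) (by omega) (by omega) (by omega) e with e | e
  · exact .inl e
  · exact .inr (.inl e)
  · exact .inr (.inr (.inl e))
  · exact .inr (.inr (.inr (mul_assoc (x k) _ _ ▸ e)))

end

theorem odd_of {K : Type*} [Group K] [Finite K] {n : ℕ} (hn : 2 ≤ n) (φ : K →* DihedralGroup n)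
    (hs : Function.Surjective φ) (hk : φ.ker = pCore 2 K) : Odd n := by
  rcases Nat.even_or_odd n with ⟨m, hm⟩ | h
  swap
  · exact h
  exfalso
  have h0 : (m : ZMod n) + m = 0 := by rw [← Nat.cast_add, ← hm, ZMod.natCast_self]
  have h1 : (zpowers (r (m : ZMod n))).Normal := by
    refine ⟨?_⟩
    rintro _ ⟨j, rfl⟩ g
    rw [← conj_zpow]
    refine zpow_mem ?_ j
    rcases g with k | k
    · rw [r_mul_r, inv_r, r_mul_r, add_neg_cancel_comm]; exact mem_zpowers _
    · rw [sr_mul_r, inv_sr, sr_mul_sr, sub_add_cancel_left, ← inv_r]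
      exact inv_mem (mem_zpowers _)
  have h2 : IsPGroup 2 (zpowers (r (m : ZMod n))) := by
    rintro ⟨_, j, rfl⟩
    refine ⟨1, Subtype.ext ?_⟩
    simp only [pow_one, SubgroupClass.coe_pow, OneMemClass.coe_one]
    rw [← zpow_natCast, ← zpow_mul, mul_comm, zpow_mul, zpow_natCast, pow_two, r_mul_r, h0,
      r_zero, one_zpow]
  have h3 : IsPGroup 2 φ.ker := hk ▸ pCore_isPGroup 2 K
  have h4 := le_pCore (h1.comap φ) (h2.comap_of_ker_isPGroup φ h3)
  obtain ⟨c, hc⟩ := hs (r m)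
  have h5 : c ∈ φ.ker := hk ▸ h4 (mem_comap.2 (hc ▸ mem_zpowers _))
  rw [MonoidHom.mem_ker, hc, one_def, r.injEq, ZMod.natCast_eq_zero_iff] at h5
  have := Nat.le_of_dvd (by omega) h5
  omega

/-- Let H be a subgroup of a finite group G whose largest normal 2-subgroup O_2(H) is nontrivial and such that H/O_2(H) is a dihedral group of order at least 4. Let P be a Sylow 2-subgroup of H and S a Sylow 2-subgroup of G containing P. Suppose y ∈ S lies outside P, normalizes P, has y² in the product of P with the centralizer of P in G, and normalizes no non-identity normal subgroup of H contained in P. Then P has order 4, 8 or 16, and H modulo its largest normal subgroup of odd order is isomorphic to the four-group, to the symmetric group of degree 4, or to the direct product of the symmetric group of degree 4 with a group of order 2. -/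
theorem result {G : Type*} [Group G] [Finite G]
    (H : Subgroup G) (hO : Cfsg.pCore 2 ↥H ≠ ⊥) (n : ℕ) (hn : 2 ≤ n) (hdih : Nonempty (↥H ⧸ Cfsg.pCore 2 ↥H ≃* DihedralGroup n))
    (P : Subgroup G) (hPH : P ≤ H) (hP : IsPGroup 2 P) (hPsyl : ¬ 2 ∣ P.relIndex H)
    (S : Sylow 2 G) (hPS : P ≤ (S : Subgroup G)) (y : G) (hyS : y ∈ (S : Subgroup G)) (hyP : y ∉ P)
    (hy2 : y ^ 2 ∈ P ⊔ Subgroup.centralizer (P : Set G)) (hyN : MulAut.conj y • P = P)
    (hyQ : ∀ Q : Subgroup G, Q ≤ P → (Q.subgroupOf H).Normal → MulAut.conj y • Q = Q → Q = ⊥) :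
    (Nat.card P = 4 ∨ Nat.card P = 8 ∨ Nat.card P = 16) ∧
    (Nonempty (↥H ⧸ Cfsg.oddCore ↥H ≃* Multiplicative (ZMod 2) × Multiplicative (ZMod 2)) ∨
     Nonempty (↥H ⧸ Cfsg.oddCore ↥H ≃* Equiv.Perm (Fin 4)) ∨
     Nonempty (↥H ⧸ Cfsg.oddCore ↥H ≃* Equiv.Perm (Fin 4) × Multiplicative (ZMod 2))) := by

  obtain ⟨e⟩ := hdih
  let φ : H →* DihedralGroup n := e.toMonoidHom.comp (QuotientGroup.mk' _)
  have hs : Function.Surjective φ := e.surjective.comp (QuotientGroup.mk'_surjective _)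
  have hk : φ.ker = pCore 2 H := by
    ext k
    rw [MonoidHom.mem_ker, ← QuotientGroup.eq_one_iff]
    exact e.map_eq_one_iff
  have hodd := odd_of hn φ hs hk
  have := NeZero.mk (show n ≠ 0 by omega)
  have hQP : ∀ k : H, φ k = 1 → (k : G) ∈ P := fun k hk' =>
    pcore_sub_Hall (Sylow_of hPH hP hPsyl) (by
      rw [pcore_eq_map, ← hk]; exact mem_map_of_mem _ hk')
  have hrot : ∀ k : H, (k : G) ∈ P → ∀ j, φ k = r j → j = 0 := by
    intro k hkP j hj
    obtain ⟨m, hm⟩ := hP ⟨k, hkP⟩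
    have h1 : k ^ 2 ^ m = 1 := Subtype.ext (show (k : G) ^ 2 ^ m = 1 from congrArg Subtype.val hm)
    have h2 : φ k ^ n = 1 := by rw [hj, r_pow, ZMod.natCast_self, mul_zero, r_zero]
    have h3 : φ k ^ 2 ^ m = 1 := by rw [← map_pow, h1, map_one]
    have h4 := (pow_gcd_eq_one.2 ⟨h2, h3⟩)
    rw [((Nat.coprime_two_right.2 hodd).pow_right m).gcd_eq_one, pow_one, hj, one_def] at h4
    exact r.inj h4
  obtain ⟨s, hsP, i, hsi⟩ : ∃ s : H, (s : G) ∈ P ∧ ∃ i, φ s = sr i := by
    by_contra hc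
    push Not at hc
    apply hPsyl
    have h1 : P.subgroupOf H ≤ φ.ker := fun k hkP => by
      rcases h2 : φ k with j | j
      · rw [MonoidHom.mem_ker, h2, hrot k hkP j h2, r_zero]
      · exact absurd h2 (hc k hkP j)
    refine dvd_trans ?_ (index_dvd_of_le h1)
    rw [index_ker, MonoidHom.range_eq_top.2 hs, card_top, nat_card]
    exact dvd_mul_right 2 n
  have memP : ∀ k : H, (k : G) ∈ P ↔ φ k = 1 ∨ φ k = sr i := by
    intro k
    constructor
    · intro hkP
      rcases h2 : φ k with j | j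
      · left; rw [hrot k hkP j h2, r_zero]
      · right
        rw [sub_eq_zero.1 (hrot (s * k) (mul_mem hsP hkP) (j - i)
          (by rw [map_mul, hsi, h2, sr_mul_sr]))]
    · rintro (h | h)
      · exact hQP k h
      · exact (mul_mem_cancel_left hsP).1 (hQP (s * k) (by rw [map_mul, hsi, h, sr_mul_self]))
  obtain ⟨c, hc⟩ : ∃ c : ZMod n, c + c = 1 := by
    obtain ⟨m, hm⟩ := hodd
    refine ⟨((m + 1 : ℕ) : ZMod n), ?_⟩
    rw [← Nat.cast_add, show m + 1 + (m + 1) = n + 1 by omega, Nat.cast_succ, ZMod.natCast_self,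
      zero_add]
  have hi : (i + 1 : ZMod n) ≠ i := by
    have : Fact (1 < n) := ⟨by omega⟩
    simp
  obtain ⟨h0, hh0⟩ := hs (r c)
  obtain ⟨g, hg⟩ : ∃ g : G, g = y * h0 := ⟨_, rfl⟩
  have hyn : y ∈ 𝐍 P := normP.2 hyN
  have m1 : ∀ z : G, z ∈ Pk P g 1 ↔ h0 * z * (h0 : G)⁻¹ ∈ P := fun z => by
    rw [mem_Pk, ← memJ_norm (x := h0 * z * (h0 : G)⁻¹) hyn]
    simp [sh, hg, mul_assoc]
  have hP1H : Pk P g 1 ≤ H := fun z hz =>
    (memJ_norm (normG H h0.2)).1 (hPH ((m1 z).1 hz))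
  have memP1 : ∀ k : H, (k : G) ∈ Pk P g 1 ↔ φ k = 1 ∨ φ k = sr (i + 1) := by
    intro k
    rw [m1, ← coe_inv, ← coe_mul, ← coe_mul, memP, map_mul, map_mul, map_inv, conjg_eq1, hh0,
      mul_inv_eq_iff_eq_mul, ← eq_inv_mul_iff_mul_eq, inv_r, sr_mul_r, r_mul_sr, sub_neg_eq_add,
      add_assoc, hc]
  have memQ : ∀ k : H, (k : G) ∈ I P g 0 1 ↔ k ∈ φ.ker := by
    intro k
    constructor
    · intro hkI
      rcases (memP k).1 (Pk_zero.le (I_le_Pk le_rfl (by omega) hkI)) with h1 | h1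
      · exact h1
      rcases (memP1 k).1 (I_le_Pk (by omega) le_rfl hkI) with h2 | h2
      · exact h2
      · exact absurd (sr.inj (h2.symm.trans h1)) hi
    · intro h1
      exact mem_I_right (b := 0) ((Pk_zero.symm.trans (I_self 0).symm).le (hQP k h1))
        ((memP1 k).2 (.inl h1))
  have hIH : I P g 0 1 ≤ H := (I_le_Pk (by omega) le_rfl).trans hP1H
  have hQ : I P g 0 1 = φ.ker.map H.subtype := by
    ext z
    constructor
    · intro hz; exact ⟨⟨z, hIH hz⟩, (memQ _).1 hz, rfl⟩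
    · rintro ⟨k, hk', rfl⟩; exact (memQ k).2 hk'
  have hgen : ∀ C : Subgroup G, P ≤ C → Pk P g 1 ≤ C → H ≤ C := by
    intro C c1 c2
    obtain ⟨s', hs'⟩ := hs (sr (i + 1))
    have d1 : (s : G) ∈ C := c1 hsP
    have d2 : (s' : G) ∈ C := c2 ((memP1 s').2 (.inr hs'))
    have hr : ∀ (k : H) j, φ k = r j → (k : G) ∈ C := fun k j hj => by
      obtain ⟨l, q, hq, rfl⟩ := exists_rot_of (d := s * s')
        (by rw [map_mul, hsi, hs', sr_mul_sr, add_sub_cancel_left]) hj
      exact mul_mem (zpow_mem (mul_mem d1 d2) l) (c1 (hQP q hq))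
    intro z hz
    rcases h2 : φ ⟨z, hz⟩ with j | j
    · exact hr _ j h2
    · exact (mul_mem_cancel_left d1).1 (hr (s * ⟨z, hz⟩) _ (by rw [map_mul, hsi, h2, sr_mul_sr]))
  have kill : ∀ N : Subgroup G, N ≤ P → Pk P g (-1) ≤ 𝐍 N → Pk P g 0 ≤ 𝐍 N → Pk P g 1 ≤ 𝐍 N →
      N = ⊥ := by
    intro N n0 n1 n2 n3
    have a1 : H ≤ 𝐍 N := hgen _ (Pk_zero.ge.trans n2) n3
    have a2 : H ≤ g⁻¹ •ᶜ 𝐍 N := by
      refine hgen _ (fun z hz => ?_) (fun z hz => ?_) <;> rw [mem_conj_smul]
      · have := (sh_mem_Pk (k := 0) (m := -1)).2 ((Pk_zero (g := g)).ge hz)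
        rw [zero_add, sh, zpow_neg, zpow_one] at this
        exact n1 this
      · have := (sh_mem_Pk (k := 1) (m := -1)).2 hz
        rw [add_neg_cancel, sh, zpow_neg, zpow_one] at this
        exact n2 this
    have a3 : H ≤ 𝐍 (y⁻¹ •ᶜ N) := by
      have := conj_smul_mono (h0 : G) a2
      rwa [conjGid (g := (h0 : G)) (H := H) h0.2, ← conj_mul_smul, hg, mul_inv_rev,
        mul_inv_cancel_left, ← normJ] at this
    have a4 : y⁻¹ •ᶜ N ≤ P := conj_sub_norm (inv_mem hyn) n0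
    have a5 : y ^ 2 ∈ 𝐍 (y⁻¹ •ᶜ N) :=
      sup_le (hPH.trans a3) ((centS a4).trans (cent_sub _)) hy2
    have a6 : y •ᶜ N = y⁻¹ •ᶜ N := by
      rw [← normP.1 a5, ← conj_mul_smul, pow_two, mul_inv_cancel_right]
    have := hyQ (N ⊔ y⁻¹ •ᶜ N) (sup_le n0 a4) (normal_subgroupOf (normsY a1 a3)) (by
      rw [conjYg, a6, conj_smul_conj_inv_smul, sup_comm])
    exact le_bot_iff.1 (le_sup_left.trans this.le)
  have HY : Hyp 2 P g := by
    refine ⟨Nat.prime_two, hP1H.trans (hQ ▸ le_normalizer_map_subtype _), ?_, fun N n1 n2 n3 => ?_⟩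
    · rw [relIndex, index_eq_two_iff]
      obtain ⟨s', hs'⟩ := hs (sr (i + 1))
      refine ⟨⟨s', (memP1 s').2 (.inr hs')⟩, fun z => ?_⟩
      simp only [mem_subgroupOf, coe_mul]
      have e1 := memQ ⟨z, hP1H z.2⟩
      have e2 := memQ (⟨z, hP1H z.2⟩ * s')
      simp only [coe_mul, MonoidHom.mem_ker, map_mul, hs'] at e1 e2
      rw [e1, e2]
      rcases (memP1 ⟨z, hP1H z.2⟩).1 z.2 with h | h <;> rw [h]
      · exact Or.inr ⟨rfl, by rw [one_mul, one_def]; nofun⟩
      · exact Or.inl ⟨sr_mul_self _, by rw [one_def]; nofun⟩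
    · have a1 : H ≤ 𝐍 N := hgen _ n2 fun z hz => by
        have := n2 (mem_Pk.1 hz)
        simp only [sh, zpow_neg, zpow_one, inv_inv] at this
        exact (memJ_norm (normG _ n3)).1 this
      refine hyQ N n1 (normal_subgroupOf a1) (normP.1 ?_)
      exact (mul_mem_cancel_right (a1 h0.2)).1 (hg ▸ n3)
  obtain ⟨t, x, F⟩ := HY.exists_frame
  obtain ⟨u, u1, u2, hu, u3⟩ := F.exists_near
  have h3 : 2 * u ≤ t + 2 := by
    refine F.two_mul_le' hu u2 fun z hz hc _ => ?_
    have a1 : H ≤ 𝐂₁ z := hgen _ (Pk_zero.ge.trans (le_cent1_iff.2 (hc 0 le_rfl (by omega))))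
      (le_cent1_iff.2 (hc 1 (by omega) (by omega)))
    have a2 : zpowers z ≤ Pk P g 1 := by
      refine (pcore_max' (isPGroupS (zpowers_le.2 hz) hP) ⟨(zpowers_le.2 hz).trans hPH,
        a1.trans (cent1_le_norm_zpowers z)⟩).trans ?_
      rw [pcore_eq_map, ← hk, ← hQ]
      exact I_le_Pk (by omega) le_rfl
    have a3 : ∀ k : ℤ, -1 ≤ k → k ≤ 1 → Pk P g k ≤ 𝐍 (zpowers (sh g (-1) z)) := by
      intro k k1 k2 w hw
      refine cent1_le_norm_zpowers _ (mem_cent1.2 ?_)
      have b1 := mem_cent.1 (hc (k + 1) (by omega) (by omega)) _ ((sh_mem_Pk (m := 1)).2 hw)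
      have b2 := congrArg (sh g (-1)) b1
      rwa [sh_mul, sh_mul, sh_sh, add_neg_cancel, sh_zero] at b2
    have a4 := kill _ (zpowers_le.2 (mem_Pk.1 (a2 (mem_zpowers z)))) (a3 _ (by omega) (by omega))
      (a3 _ (by omega) (by omega)) (a3 _ (by omega) (by omega))
    exact sh_eq_one.1 (zpowers_eq_bot.1 a4)
  have hcQ : ∀ j : ℕ, 1 + j = t → Nat.card φ.ker = 2 ^ j := fun j hj => by
    rw [← card_map_subtype, ← hQ, F.card_I (j := j) (by omega) (by omega)]
  have ht1 : t ≠ 1 := fun e => hO (by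
    rw [← hk, ← card_eq_one, hcQ 0 (by omega), pow_zero])
  have hpos := F.pos
  have hx : ∀ k : ℤ, 1 ≤ k + t → k ≤ 1 → x k ∈ H := fun k k1 k2 => by
    by_cases e : k = 1
    · exact hP1H (F.mem_Pk_of k2 (by omega))
    · exact hPH (Pk_zero.le (F.mem_Pk_of (by omega) (by omega)))
  have hD : ∀ k : ℤ, ∀ hk' : k + t = 1, t ≤ 1 + u →
      Dih φ ⟨x k, hx k (by omega) (by omega)⟩ ⟨x 1, hx 1 (by omega) le_rfl⟩ i := by
    intro k hk' htu
    refine ⟨hodd, hs, fun w hw => Subtype.ext (sq_eq F hu (by omega) (by omega) ((memQ w).2 hw)),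
      ?_, ?_⟩
    · refine ((memP _).1 (Pk_zero.le (F.mem_Pk_of (by omega) (by omega)))).resolve_left fun e => ?_
      exact F.not_mem_right k (I_le_Pk (by omega) (by omega) ((memQ _).2 e))
    · refine ((memP1 _).1 (F.mem_Pk_of (by omega) (by omega))).resolve_left fun e => ?_
      exact F.not_mem_left 1 (I_le_Pk (by omega) (by omega) ((memQ _).2 e))
  have hc' : ∀ i j : ℤ, i < j + u → j < i + u → x i * x j * (x i)⁻¹ = x j := fun i j a1 a2 => by
    rw [(hu i j a1 a2).eq, mul_inv_cancel_right]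
  have hcm : ∀ a b : G, a * b * a⁻¹ = ⁅a, b⁆ * b := fun a b => by group
  rw [F.card_P]
  rcases u2.eq_or_lt with rfl | hlt
  · obtain rfl : u = 2 := by omega
    exact ⟨by norm_num, .inl ((hD (-1) (by omega) (by omega)).four (hcQ 1 rfl)
      (Subtype.ext (xx F _)))⟩
  have hnc := u3.resolve_left hlt.ne
  have h4 := F.two_mul_le hu hnc hlt
  have hw1 : ∀ k : ℤ, ⁅x k, x (k + u)⁆ ≠ 1 := fun k e =>
    F.not_commute hu hnc k (commutatorElement_eq_one_iff_commute.1 e)
  have hcase : (t = 3 ∧ u = 2) ∨ (t = 4 ∧ u = 3) ∨ (t = 6 ∧ u = 4) := by omega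
  rcases hcase with ⟨rfl, rfl⟩ | ⟨rfl, rfl⟩ | ⟨rfl, rfl⟩
  · have w0 : ⁅x (-2), x 0⁆ = x (-1) := (eq_or_eq F (by omega)
      (F.comm_x (i := -2) (j := 0) (by omega) (by omega)).1).resolve_left (hw1 (-2))
    have w1 : ⁅x (-1), x 1⁆ = x 0 := (eq_or_eq F (by omega)
      (F.comm_x (i := -1) (j := 1) (by omega) (by omega)).1).resolve_left (hw1 (-1))
    refine ⟨by norm_num, .inr (.inl ((hD (-2) (by omega) (by omega)).equiv_S4
      (e₁ := ⟨x (-1), hx _ (by omega) (by omega)⟩) (e₂ := ⟨x 0, hx _ (by omega) (by omega)⟩)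
      ((memQ _).1 (F.mem_I_of (by omega) (by omega))) ((memQ _).1 (F.mem_I_of (by omega) (by omega)))
      (hcQ 2 rfl) (fun e => x_ne F (by omega) (by omega) (congrArg Subtype.val e))
      (fun e => F.ne _ (congrArg Subtype.val e)) (fun e => F.ne _ (congrArg Subtype.val e))
      (Subtype.ext (hc' _ _ (by omega) (by omega))) (Subtype.ext ?_) (Subtype.ext ?_)
      (Subtype.ext (hc' _ _ (by omega) (by omega))) fun w hw => ?_))⟩
    · exact (hcm _ _).trans (by rw [w0]; rfl)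
    · refine (hcm _ _).trans ?_
      rw [← commutatorElement_inv, w1, inv_eq_of_mul_eq_one_right (xx F 0)]
      exact (hu 0 (-1) (by omega) (by omega)).eq
    · have := hQ_of F le_rfl (k := -1) (by omega) ((memQ w).2 hw)
      rw [F.eq_bot (by omega)] at this
      simpa only [mem_bot, Subtype.ext_iff, coe_mul, coe_one] using this
  · have D := hD (-3) (by omega) (by omega)
    have q1 : (⟨x (-2), hx _ (by omega) (by omega)⟩ : H) ∈ φ.ker :=
      (memQ _).1 (F.mem_I_of (by omega) (by omega))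
    have q2 : (⟨x 0, hx _ (by omega) (by omega)⟩ : H) ∈ φ.ker :=
      (memQ _).1 (F.mem_I_of (by omega) (by omega))
    have qz : (⟨x (-1), hx _ (by omega) (by omega)⟩ : H) ∈ φ.ker :=
      (memQ _).1 (F.mem_I_of (by omega) (by omega))
    have hsh : ⁅x (-2), x 1⁆ = sh g 1 ⁅x (-3), x 0⁆ := by rw [sh_comm, F.shift, F.shift]; rfl
    have az := hc' (-3) (-1) (by omega) (by omega)
    have bz := hc' 1 (-1) (by omega) (by omega)
    have a1 := hc' (-3) (-2) (by omega) (by omega)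
    have b2 := hc' 1 0 (by omega) (by omega)
    have bad : ∀ e : H, e ∈ φ.ker → x (-3) * x 1 * e * (x (-3) * x 1)⁻¹ = x (-1) * e → False := by
      intro e he h5
      have h6 := congrArg Subtype.val (mem_cent1.1 (D.commute_of_sq he (mem_cent1.2
        (Subtype.ext ?_))))
      · simp only [coe_mul] at h6
        rw [h6, mul_inv_cancel_right, eq_comm, mul_eq_right] at h5
        exact F.ne _ h5
      · simp only [coe_mul, SubgroupClass.coe_zpow]
        rw [← mul_inv_eq_iff_eq_mul, zpow_two]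
        calc x (-3) * x 1 * (x (-3) * x 1) * e * (x (-3) * x 1 * (x (-3) * x 1))⁻¹
            = x (-3) * x 1 * (x (-3) * x 1 * e * (x (-3) * x 1)⁻¹) * (x (-3) * x 1)⁻¹ := by group
          _ = x (-3) * x 1 * (x (-1) * e) * (x (-3) * x 1)⁻¹ := by rw [h5]
          _ = x (-3) * (x 1 * x (-1) * (x 1)⁻¹) * (x (-3))⁻¹ *
                (x (-3) * x 1 * e * (x (-3) * x 1)⁻¹) := by group
          _ = e := by rw [bz, az, h5, ← mul_assoc, xx F, one_mul]
    have w0 : ⁅x (-3), x 0⁆ = x (-2) * x (-1) := by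
      have hw := (F.comm_x (i := -3) (j := 0) (by omega) (by omega)).1
      rcases left_two F (by omega) (by omega) hw with e | e <;>
        rcases eq_or_eq F (by omega) e with e | e
      · exact absurd e (hw1 (-3))
      · exfalso
        refine bad _ q1 ?_
        have : x 1 * x (-2) * (x 1)⁻¹ = x (-1) * x (-2) := by
          rw [hcm, ← commutatorElement_inv, hsh, e, F.shift]
          exact congrArg (· * _) (inv_eq_of_mul_eq_one_right (xx F _))
        calc x (-3) * x 1 * x (-2) * (x (-3) * x 1)⁻¹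
            = x (-3) * (x 1 * x (-2) * (x 1)⁻¹) * (x (-3))⁻¹ := by group
          _ = x (-3) * x (-1) * (x (-3))⁻¹ * (x (-3) * x (-2) * (x (-3))⁻¹) := by rw [this]; group
          _ = _ := by rw [az, a1]
      · exfalso
        refine bad _ q2 ?_
        have e' : ⁅x (-3), x 0⁆ = x (-1) := mul_left_cancel (e.trans (xx F _).symm)
        calc x (-3) * x 1 * x 0 * (x (-3) * x 1)⁻¹
            = x (-3) * (x 1 * x 0 * (x 1)⁻¹) * (x (-3))⁻¹ := by group
          _ = _ := by rw [b2, hcm, e']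
      · have e' : x (-1) * ⁅x (-3), x 0⁆ = x (-2) := e
        rw [(hu (-2) (-1) (by omega) (by omega)).eq, ← e', ← mul_assoc, xx F, one_mul]
    have w1 : ⁅x (-2), x 1⁆ = x (-1) * x 0 := by rw [hsh, w0, sh_mul, F.shift, F.shift]; rfl
    refine ⟨by norm_num, .inr (.inr (D.equiv_S4_C2 q1 q2 qz (hcQ 3 rfl) (Subtype.ext (xx F _))
      (fun e => F.ne _ (congrArg Subtype.val e)) (fun e => F.ne _ (congrArg Subtype.val e))
      (fun e => F.ne _ (congrArg Subtype.val e))
      (fun e => x_ne F (by omega) (by omega) (congrArg Subtype.val e))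
      (fun e => x_ne F (by omega) (by omega) (congrArg Subtype.val e))
      (fun e => x_ne F (by omega) (by omega) (congrArg Subtype.val e).symm)
      (Subtype.ext a1) (Subtype.ext ?_) (Subtype.ext az) (Subtype.ext ?_) (Subtype.ext b2)
      (Subtype.ext bz) fun w hw => ?_))⟩
    · refine (hcm _ _).trans ?_
      rw [w0, mul_assoc, (hu (-1) 0 (by omega) (by omega)).eq, ← mul_assoc]; rfl
    · refine (hcm _ _).trans ?_
      rw [← commutatorElement_inv, w1, mul_inv_rev, inv_eq_of_mul_eq_one_right (xx F 0),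
        inv_eq_of_mul_eq_one_right (xx F (-1)), mul_assoc, (hu (-1) (-2) (by omega) (by omega)).eq,
        ← mul_assoc, (hu 0 (-2) (by omega) (by omega)).eq]
      rfl
    · have key : ∀ v : H, (v : G) ∈ I P g (-1) 2 →
          v ∈ zpowers (⟨x (-1), hx _ (by omega) (by omega)⟩ : H) := fun v hv => by
        rcases eq_or_eq F (by omega) hv with e | e
        · rw [show v = 1 from Subtype.ext e]; exact one_mem _
        · exact ⟨1, Subtype.ext ((zpow_one _).trans e.symm)⟩
      exact (hQ_of F (by omega) (k := -2) (by omega) ((memQ w).2 hw)).imp (key _)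
        (Or.imp (key _) (Or.imp (key _) (key _)))
  · have := kill (I P g (-1) 1) ((I_le_Pk (by omega) (by omega)).trans Pk_zero.le)
      (six F hu hnc (by omega) (by omega)) (six F hu hnc (by omega) (by omega))
      (six F hu hnc (by omega) (by omega))
    exact absurd (mem_bot.1 (this.le (F.mem_I_of (k := -1) (by omega) (by omega)))) (F.ne _)

end Cfsg.Agent.S4385
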