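import Cfsg.Statements.S0381
import Cfsg.Agent.Spor.M24Six

set_option autoImplicit false
open Cfsg

namespace Cfsg.Agent.S0381

open Cfsg.Lib.Spor Cfsg.Lib.Spor.MP
open scoped Pointwise

/-- The pointwise stabiliser of an octad in the group of the length-24 code has order 16 and every element of it squares to the identity. -/
theorem result (o : Finset Cfsg.GolayPt) (ho : o ∈ Cfsg.octads) : Nat.card ↥(Cfsg.M24 ⊓ fixingSubgroup (Equiv.Perm Cfsg.GolayPt) (o : Set Cfsg.GolayPt)) = 16 ∧ ∀ g ∈ Cfsg.M24 ⊓ fixingSubgroup (Equiv.Perm Cfsg.GolayPt) (o : Set Cfsg.GolayPt), g * g = 1 := by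
  obtain ⟨g, hg, e⟩ := M24_trans_octads ho stdOctad_mem
  have key : ∀ x, x ∈ M24 ⊓ fixingSubgroup (Equiv.Perm GolayPt) (o : Set GolayPt) ↔
      g * x * g⁻¹ ∈ fixSub 8388655 := by
    intro x
    rw [← fixSub_octad, mem_fixSub, ← mem_fixing_conj hg e, Subgroup.mem_inf,
      mem_fixingSubgroup_iff]
    rfl
  refine ⟨(Nat.card_congr (equivOfConj' _ _ g key).toEquiv).trans card_fix6, fun x hx => ?_⟩
  have := chain_fix6.forall (leaf := fun t => Nat.beq (pmul t t) pid) (by decide +kernel) _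
    ((key x).1 hx)
  rw [Nat.beq_eq, ← pack_mul, ← pack_one, pack_injective.eq_iff] at this
  simpa using this

end Cfsg.Agent.S0381
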