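import Cfsg.Statements.S3329
import Cfsg.Agent.Recog.A8Set

set_option autoImplicit false
open Cfsg

namespace Cfsg.Agent.S3329

/-- A 3-local characterization of the alternating group of degree 8. Let G be a finite group whose Sylow 3-subgroup D is elementary abelian of order 9, generated by y and z, and suppose: (i) C_G(D) = D and N_G(D)/D is dihedral of order 8; (ii) D is normal in C_G(y), C_G(y) has order 18, D is normal in N_G(⟨y⟩) and N_G(⟨y⟩)/D is elementary abelian of order 4; (iii) C_G(z) is isomorphic to the direct product of a cyclic group of order 3 and the alternating group of degree 5, and N_G(⟨z⟩) is isomorphic to the subgroup of index 2 of Sym(3) × Sym(5) consisting of the pairs of permutations whose signs agree. Then G is isomorphic to the alternating group of degree 8. -/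
theorem result {G : Type*} [Group G] [Finite G]
    (P : Sylow 3 G) (D : Subgroup G) (hDP : D = P) (y z : G) (hgen : Subgroup.closure {y, z} = D)
    (hcomm : IsMulCommutative D) (hcard : Nat.card D = 9) (hexp : ∀ a ∈ D, a ^ 3 = 1)
    (hC : Subgroup.centralizer (D : Set G) = D)
    (eN : Subgroup.normalizer (D : Set G) ⧸ D.subgroupOf (Subgroup.normalizer (D : Set G)) ≃* DihedralGroup 4)
    (hyn : (D.subgroupOf (Subgroup.centralizer ({y} : Set G))).Normal)
    (hycard : Nat.card (Subgroup.centralizer ({y} : Set G)) = 18)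
    (Ny : Subgroup G) (hNy : Ny = Subgroup.normalizer (Subgroup.zpowers y : Set G))
    (hyN : D ≤ Ny) [hyNn : (D.subgroupOf Ny).Normal]
    (hyNcard : Nat.card (Ny ⧸ D.subgroupOf Ny) = 4) (hyNexp : ∀ g : Ny ⧸ D.subgroupOf Ny, g ^ 2 = 1)
    (eC : Subgroup.centralizer ({z} : Set G) ≃* Multiplicative (ZMod 3) × alternatingGroup (Fin 5))
    (eL : Subgroup.normalizer (Subgroup.zpowers z : Set G) ≃*
      (((Equiv.Perm.sign).comp (MonoidHom.fst (Equiv.Perm (Fin 3)) (Equiv.Perm (Fin 5)))) *
        ((Equiv.Perm.sign).comp (MonoidHom.snd (Equiv.Perm (Fin 3)) (Equiv.Perm (Fin 5))))).ker) :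
    Nonempty (G ≃* alternatingGroup (Fin 8)) := by
  open Subgroup Cfsg.Lib.L3 Cfsg.Lib.Spor.PK Cfsg.Lib.Trans Cfsg.Lib.Odd3 in
  have zD : z ∈ D := hgen ▸ subset_closure (by simp)
  have yD : y ∈ D := hgen ▸ subset_closure (by simp)
  have cz : Nat.card (centralizer ({z} : Set G)) = 180 := by
    have := two_mul_nat_card_alternatingGroup (α := Fin 5)
    rw [Nat.card_perm, Nat.card_eq_fintype_card (α := Fin 5), Fintype.card_fin,
      show Nat.factorial 5 = 120 from rfl] at this
    rw [Nat.card_congr eC.toEquiv, Nat.card_prod, Nat.card_congr Multiplicative.toAdd, Nat.card_zmod]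
    omega
  have hy : ¬ IsConj z y := fun e => by
    have := Cfsg.Lib.Block.card_centralizer_eq_of_isConj e
    omega
  have cm : ∀ p ∈ D, ∀ q ∈ D, p * q = q * p := fun p hp q hq =>
    congrArg Subtype.val (hcomm.1.1 ⟨p, hp⟩ ⟨q, hq⟩)
  have ne : ∀ p q : G, closure {p, q} = D → p ≠ 1 := fun p q e p1 => by
    have h3 : orderOf q ∣ 3 := orderOf_dvd_of_pow_eq_one (hexp q (e ▸ subset_closure (by simp)))
    rw [← e, p1, closure_insert_one, ← zpowers_eq_closure, Nat.card_zpowers] at hcard
    rw [hcard] at h3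
    omega
  have cN : Nat.card (normalizer (zpowers z : Set G)) = 360 := by
    rw [Nat.card_congr eL.toEquiv]
    have := card_mul_index (((Equiv.Perm.sign).comp (MonoidHom.fst (Equiv.Perm (Fin 3))
      (Equiv.Perm (Fin 5)))) * ((Equiv.Perm.sign).comp (MonoidHom.snd (Equiv.Perm (Fin 3))
      (Equiv.Perm (Fin 5))))).ker
    rw [index_ker, MonoidHom.range_eq_top.2 fun v => by
      obtain ⟨p, rfl⟩ := Equiv.Perm.sign_surjective (Fin 3) v
      exact ⟨(p, 1), by simp⟩, card_top, Nat.card_prod, Nat.card_perm, Nat.card_perm,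
      Nat.card_eq_fintype_card (α := ℤˣ), Fintype.card_units_int, Nat.card_eq_fintype_card (α := Fin 3),
      Nat.card_eq_fintype_card (α := Fin 5), Fintype.card_fin, Fintype.card_fin,
      show Nat.factorial 3 * Nat.factorial 5 = 720 from rfl] at this
    omega
  obtain ⟨x, s, u, a, b, h, rfl⟩ := exists_NL ((Subgroup.subtype _).comp eL.toMonoidHom)
    ((subtype_injective _).comp eL.injective) (fun p hp => ⟨eL.symm ⟨p, by simp [hp]⟩, by simp⟩) cN
    (hexp z zD) (ne z y (Set.pair_comm y z ▸ hgen)) (fun d hd => mem_norm_of_comm (cm d hd z zD)) hcard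
  refine h.a8 ?_ yD (ne y z hgen) hy fun g e => mem_norm_of_conj fun d hd =>
    hyn.conj_mem ⟨d, mem_centralizer_singleton_iff.2 (cm d hd y yD)⟩ hd
      ⟨g, mem_centralizer_singleton_iff.2 e⟩
  have c1 := card_eq_card_quotient_mul_card_subgroup ((gen [z, x]).subgroupOf (normalizer (gen [z, x] : Set G)))
  rw [Nat.card_congr eN.toEquiv, Nat.card_congr (subgroupOfEquivOfLe le_normalizer).toEquiv, hcard,
    DihedralGroup.nat_card] at c1
  have le : gen [z, x, s, u] ≤ normalizer (gen [z, x] : Set G) := gen_le fun _ => h.normE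
  have c2 := card_mul_relIndex le
  rw [ML_cardE h.emb, c1] at c2
  obtain ⟨n, hn, n1⟩ := SetLike.exists_of_lt (lt_of_le_of_ne le fun e => by
    rw [← e, ML_cardE h.emb] at c1; omega)
  have mu : u ∈ gen [z, x, s, u] := mem_gen (by simp)
  have n2 : n⁻¹ * u * n ∈ gen [z, x, s, u] :=
    (normal_of_index_eq_two (H := (gen [z, x, s, u]).subgroupOf (normalizer (gen [z, x] : Set G)))
      (by change relIndex _ _ = 2; omega)).conj_mem' ⟨u, le mu⟩ mu ⟨n, hn⟩
  have ui : u⁻¹ = u := inv_eq_of_mul_eq_one_right h.u2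
  have q : u * (n * z * n⁻¹) * u⁻¹ = n * (n⁻¹ * u * n * z * (n⁻¹ * u * n)⁻¹) * n⁻¹ := by group
  have ci : IsConj x x⁻¹ := h.ux ▸ isConj_cj u x
  have nz : n * z * n⁻¹ ∉ zpowers z := fun e => n1 (h.nD n (mem_norm_zpowers e)
    ⟨_, conj_mem_of_norm hn (mem_gen (x := x) (by simp)), (inv_mul_cancel_right _ _).symm⟩)
  rcases h.ud _ (conj_mem_of_norm hn zD) (by
    rcases cube_cases h.z3 (conj_mem_of_norm (h.le_N (by simp) n2) (mem_zpowers z)) with e | e | e <;>
      rw [e] at q
    · exact absurd (conj_eq_one_iff.1 e) h.ne.1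
    · exact Or.inl (mul_inv_eq_iff_eq_mul.1 q)
    · exact Or.inr (by nth_rw 2 [← ui]; rw [q, ← conj_inv, inv_mul_cancel])) with e | e | e | e | e
  · exact absurd (e ▸ one_mem _) nz
  · exact absurd (by rw [e]; exact mem_zpowers _) nz
  · exact absurd (e ▸ inv_mem (mem_zpowers _)) nz
  · exact e ▸ isConj_cj n z
  · exact (e ▸ isConj_cj n z).trans ci.symm

end Cfsg.Agent.S3329
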