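import Cfsg.Statements.S1010
import Cfsg.Agent.PrimeOne.SylowNum
import Cfsg.Agent.PrimeOne.Elim

set_option autoImplicit false
open Cfsg

namespace Cfsg.Agent.S1010

/-- No finite group has exactly twenty-one Sylow 5-subgroups. -/
theorem result {G : Type*} [Group G] [Finite G] : Nat.card (Sylow 5 G) ≠ 21 := by
  open Cfsg.Lib.PrimeOne in focus
  intro h
  have : Fact (Nat.Prime 5) := ⟨by norm_num⟩
  obtain ⟨S, _, _, _, hS⟩ := exists_simple_card_sylow h (by norm_num) (by decide +kernel)
    (by decide +kernel)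
  have hG := not_comm_of_card_sylow (p := 5) (G := S) (by omega)
  obtain ⟨P⟩ : Nonempty (Sylow 5 S) := inferInstance
  have hP := card_sylow_eq_prime (by omega) (by omega) P
  obtain ⟨c, e, t, T, y, he, het, hn, h⟩ := exists_params hG hP
  rw [hS] at hn h
  have hc : c ≠ 1 := by
    rintro rfl
    have h1 : e = 2 ∨ e = 4 := by
      have : e ≤ 4 := Nat.le_of_dvd (by norm_num) ⟨t, by omega⟩
      interval_cases e <;> omega
    refine not_kill hG 21 ?_
    rcases h1 with rfl | rfl <;> rw [hn] <;> decide +kernel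
  have key : ∀ s : ℤ, s.natAbs ∣ e * 21 → 1 < s.natAbs → s ≡ 1 [ZMOD 5] → SmallOk 5 c e t s →
      7 ∣ s := fun s h1 h2 h3 h4 => by
    have h5 : s.natAbs ∣ 84 := h1.trans (Nat.mul_dvd_mul_right (⟨t, by omega⟩ : e ∣ 4) 21)
    have h6 : ∀ d ∈ Nat.divisors 84, d % 5 = 1 ∨ d % 5 = 4 → d = 1 ∨ d = 4 ∨ d = 6 ∨ 7 ∣ d := by
      decide +kernel
    have h7 := h6 _ (Nat.mem_divisors.2 ⟨h5, by norm_num⟩) (by unfold Int.ModEq at h3; omega)
    have h8 := mt (fun h => (h4.1 h).1) hc
    have h9 := mt h4.2 hc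
    unfold Int.ModEq at h3
    omega
  have h1 : ∀ s ∈ T, 7 ∣ s := fun s hs => key s (h.dvd s (Multiset.mem_cons_of_mem hs))
    (h.one_lt s (Multiset.mem_cons_of_mem hs)) (h.modEq s hs) (h.small s hs)
  have h2 := Multiset.dvd_sum h1
  have h3 := h.rel
  have h4 := h.dvd y (Multiset.mem_cons_self _ _)
  have h5 := h.one_lt y (Multiset.mem_cons_self _ _)
  have h6 : e ≤ 4 := Nat.le_of_dvd (by norm_num) ⟨t, by omega⟩
  have h7 := h.card
  interval_cases e
  · obtain ⟨s, rfl⟩ := Multiset.card_eq_one.1 (show T.card = 1 by omega)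
    have h8 := h.modEq s (Multiset.mem_singleton_self s)
    rw [Multiset.sum_singleton] at h2 h3
    have h9 : ∀ d ∈ Nat.divisors 42, d % 7 = 1 ∨ d % 7 = 6 → d = 1 ∨ d = 6 := by decide +kernel
    have := h9 _ (Nat.mem_divisors.2 ⟨h4, by norm_num⟩) (by omega)
    unfold Int.ModEq at h8
    omega
  · omega
  · have h8 : T.sum ≡ T.card [ZMOD 5] := by
      have : ∀ T : Multiset ℤ, (∀ s ∈ T, s ≡ 1 [ZMOD 5]) → T.sum ≡ T.card [ZMOD 5] := by
        intro T
        induction T using Multiset.induction_on with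
        | empty => simp
        | cons a T ih =>
          intro h
          rw [Multiset.sum_cons, Multiset.card_cons, Nat.cast_add, add_comm (T.card : ℤ)]
          exact (h a (Multiset.mem_cons_self _ _)).add
            (ih fun s hs => h s (Multiset.mem_cons_of_mem hs))
      exact this T h.modEq
    have := key y h4 h5 (by unfold Int.ModEq at h8 ⊢; omega) (h.small_y (by omega))
    omega

end Cfsg.Agent.S1010
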