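import Cfsg.Statements.S0422
import Cfsg.Agent.Spor.O24FSc11
import Cfsg.Agent.Spor.O24FSplit
import Cfsg.Agent.Spor.O24FBB
import Cfsg.Agent.Spor.O24FIIb
import Cfsg.Agent.Spor.O24FMain

set_option autoImplicit false
open Cfsg

namespace Cfsg.Agent.S0422

/-- Simple groups of order 244823040 are all isomorphic to the concrete largest Mathieu group. -/
theorem result {G : Type*} [Group G] [Finite G] (hG : Cfsg.IsM24 G) : Nonempty (G ≃* Cfsg.M24) := by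
  have := hG.1
  obtain ⟨c, α, β, χ, ψ, h⟩ := Cfsg.Lib.Spor.O24F.exists_B5 hG.2
  obtain ⟨ξ, d, y, k⟩ | ⟨_, _, _, _, h1, h2, d1, d2, d3, d4⟩ |
    ⟨_, _, _, _, h1, h2, h3, d1, d2, d3, d4⟩ := h.split
  · exact k.equiv
  · exact (h.notBB h1 h2 d1 d2 d3 d4).elim
  · obtain ⟨L, Y, θ, δ, ε, k, hl⟩ := h.rest11 h1 h2 h3 d1 d2 d3 d4
    exact (h.not_rest11 k hl).elim

end Cfsg.Agent.S0422
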