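import Cfsg.Statements.S2162
import Mathlib
import Cfsg.Agent.Known.GLDet

set_option autoImplicit false
open Cfsg

namespace Cfsg.Agent.S2162

open Cfsg.Lib.Known Polynomial

theorem sq_zero {F : Type*} [Field F] [CharP F 2] {n : ℕ} (a : Matrix.SpecialLinearGroup (Fin n) F)
    (ha : orderOf a = 2) : ((a : Matrix (Fin n) (Fin n) F) - 1) ^ 2 = 0 := by
  have h1 : (a : Matrix (Fin n) (Fin n) F) ^ 2 = 1 := by
    rw [← Matrix.SpecialLinearGroup.coe_pow, ← ha, pow_orderOf_eq_one]; rfl
  have h2 : (2 : F) = 0 := CharP.cast_eq_zero F 2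
  have h3 : ((a : Matrix (Fin n) (Fin n) F) - 1) ^ 2 =
      (a : Matrix (Fin n) (Fin n) F) ^ 2 - 1 - (2 : F) • ((a : Matrix (Fin n) (Fin n) F) - 1) := by
    rw [two_smul]; noncomm_ring
  rw [h3, h1, h2]; simp

/-- Conjugacy of involutions in the special linear group over a finite field of characteristic two, in dimension at least 3: two elements of order 2 of SL_n(F) are conjugate in SL_n(F) exactly when the matrices a − 1 and b − 1 have the same rank (the rank of a − 1 is the dimension of the commutator space [V, a]). -/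
theorem result {F : Type*} [Field F] [Fintype F] [CharP F 2] {n : ℕ} (hn : 3 ≤ n) (a b : Matrix.SpecialLinearGroup (Fin n) F) (ha : orderOf a = 2) (hb : orderOf b = 2) :
    IsConj a b ↔ ((a : Matrix (Fin n) (Fin n) F) - 1).rank = ((b : Matrix (Fin n) (Fin n) F) - 1).rank := by
  have ha2 := sq_zero a ha
  have hb2 := sq_zero b hb
  constructor
  · intro h
    have := ((sim_toLin'_iff.mpr (SL_isConj_coe h)).aeval (X - 1)).finrank_range
    rw [← toLin'_aeval, ← toLin'_aeval] at this
    change Matrix.rank _ = Matrix.rank _ at this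
    simp only [map_sub, aeval_X, map_one (aeval _)] at this
    exact this
  · intro h
    have h1 : elDivM (a : Matrix (Fin n) (Fin n) F) = elDivM (b : Matrix (Fin n) (Fin n) F) := by
      refine elDivM_eq_of_unipotent rfl ⟨2, ha2⟩ ⟨2, hb2⟩ fun k => ?_
      rcases k with _ | _ | k
      · simp
      · simpa using h
      · rw [show k + 1 + 1 = 2 + k by ring, pow_add, pow_add, ha2, hb2, zero_mul, zero_mul]
    have hne : elDivM (a : Matrix (Fin n) (Fin n) F) ≠ 0 := by
      intro h0
      have := elDeg_elDivM (a : Matrix (Fin n) (Fin n) F)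
      rw [h0, elDeg_zero, Fintype.card_fin] at this
      omega
    obtain ⟨x, hx⟩ := Multiset.exists_mem_of_ne_zero hne
    refine SL_isConj_of_isConj hx ?_ (isConj_iff_elDivM.mpr h1)
    have h2 := ((sub_one_pow_eq_zero_iff _ 2).mp ha2 x hx).2
    have h3 := (isElDivs_elDivM _ x hx).2.2
    intro c
    obtain h4 | h4 : x.2 = 1 ∨ x.2 = 2 := by omega
    · exact ⟨c, by simp [h4]⟩
    · obtain ⟨d, hd⟩ := FiniteField.isSquare_of_char_two (ringChar.eq F 2) (c : F)
      have hd0 : d ≠ 0 := by rintro rfl; exact c.ne_zero (by simpa using hd)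
      exact ⟨Units.mk0 d hd0, Units.ext (by simp [h4, hd, pow_two])⟩

end Cfsg.Agent.S2162
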