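import Cfsg.Statements.S2182
import Cfsg.Agent.Chev.InvTwE6

set_option autoImplicit false
open Cfsg Cfsg.Lie Cfsg.Lib.Chev Cfsg.Lib.Chev.Core

namespace Cfsg.Agent.S2182

/-- The twisted group ²E₆(q), q even, realised inside the Chevalley group of type E₆ over the field K with q² elements, has exactly three conjugacy classes of elements of order 2. -/
theorem result {K : Type*} [Field K] [Fintype K] [CharP K 2] (q : ℕ) (hK : Fintype.card K = q ^ 2) :
    (ConjClasses.mk '' {g : ↥(Cfsg.Lie.twistedE6 K q) | orderOf g = 2}).ncard = 3 := by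
  obtain ⟨f, hf, hq, e⟩ := exists_twE6 hK
  rw [← e]
  refine ncard_invol_twE6 f hf (by_contra fun h => ?_)
  have h1 := card_pow_eq_self hK
  have h2 := two_le_of_card hK
  rw [Nat.card_congr (Equiv.subtypeUnivEquiv fun t => (hq t).symm.trans
    (by_contra fun h' => h ⟨t, h'⟩)), Nat.card_eq_fintype_card, hK] at h1
  nlinarith

end Cfsg.Agent.S2182
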