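import Cfsg.Statements.S4265
import Cfsg.Agent.KR.Main

set_option autoImplicit false
open Cfsg

namespace Cfsg.Agent.S4265

/-- Let G be a finite solvable subgroup of GL_r(ℂ), r ≥ 1, with Fitting subgroup F(G) normal in G. Then for every subgroup H of G the quotient H/(H ∩ F(G)) has at most 3^{r−1} conjugacy classes. -/
theorem result (r : ℕ) (hr : 1 ≤ r) (G : Subgroup (GL (Fin r) ℂ)) [Finite ↥G] (hsolv : Group.IsSolvable ↥G) [hF : (Cfsg.fittingSubgroup ↥G).Normal] (H : Subgroup ↥G) : Nat.card (ConjClasses (↥H ⧸ (Cfsg.fittingSubgroup ↥G).subgroupOf H)) ≤ 3 ^ (r - 1) := by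
  have := Fintype.ofFinite G
  let ρ : Representation ℂ G (Fin r → ℂ) :=
    (Matrix.toLinAlgEquiv' : Matrix (Fin r) (Fin r) ℂ ≃ₐ[ℂ] _).toRingEquiv.toMonoidHom.comp
      ((Units.coeHom _).comp G.subtype)
  have h := Lib.KR.kb_char r G hsolv ρ.character ⟨r, ρ, rfl⟩
    ((Lib.Char.charKer_rep_eq_bot_iff ρ).2 fun a b e =>
      Subtype.ext (Units.ext (Matrix.toLinAlgEquiv'.injective e))) (by simp) hr
  refine (h.of_inj (QuotientGroup.map _ _ H.subtype le_rfl) ?_).top
  rw [← MonoidHom.ker_eq_bot_iff, QuotientGroup.ker_map]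
  exact QuotientGroup.map_mk'_self _

end Cfsg.Agent.S4265
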