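import Cfsg.Statements.S1953
import Cfsg.Agent.Trans.StableModel
import Cfsg.Agent.Solv.PowCoset

set_option autoImplicit false
open Cfsg

namespace Cfsg.Agent.S1953

open Cfsg.Lib.Trans

/-- Let p be an odd prime and P a Sylow p-subgroup of the finite group G, and suppose that for no p-subgroup Q of G does N_G(Q)/C_G(Q) have a section isomorphic to SL₂(p). Call a subgroup Q of P centric-radical when Z(Q) is a Sylow p-subgroup of C_G(Q) and the only normal subgroup X of N_G(Q) containing Q·C_G(Q) such that the index of Q·C_G(Q) in X is a power of p is Q·C_G(Q) itself (that is, N_G(Q)/Q·C_G(Q) has no nontrivial normal p-subgroup). Then there is a centric-radical subgroup Q of P contained in every centric-radical subgroup of P; it is normal in P, and N_G(Q) controls strong fusion in P: whenever a subgroup A of P has g A g⁻¹ ≤ P, the element g is a product h c with h in N_G(Q) and c centralizing A. -/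
theorem result {G : Type*} [Group G] [Finite G] {p : ℕ} [Fact p.Prime] (hp : p ≠ 2) (P : Sylow p G)
    (hfree : ∀ Q : Subgroup G, IsPGroup p ↥Q → ¬ ∃ (H K : Subgroup G) (_ : (K.subgroupOf H).Normal),
      Subgroup.centralizer (Q : Set G) ≤ K ∧ K ≤ H ∧ H ≤ Subgroup.normalizer (Q : Set G) ∧
      Nonempty ((↥H ⧸ K.subgroupOf H) ≃* Matrix.SpecialLinearGroup (Fin 2) (ZMod p)))
    (cr : Subgroup G → Prop)
    (hcr : ∀ Q : Subgroup G, cr Q ↔ (Q ≤ (P : Subgroup G) ∧
      (∃ R : Sylow p ↥(Subgroup.centralizer (Q : Set G)),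
        (R : Subgroup ↥(Subgroup.centralizer (Q : Set G))).map (Subgroup.centralizer (Q : Set G)).subtype = Q ⊓ Subgroup.centralizer (Q : Set G)) ∧
      ∀ X : Subgroup G, X ≤ Subgroup.normalizer (Q : Set G) →
        (∀ n ∈ Subgroup.normalizer (Q : Set G), X.map (MulAut.conj n).toMonoidHom = X) →
        Q ⊔ Subgroup.centralizer (Q : Set G) ≤ X → (∃ k : ℕ, (Q ⊔ Subgroup.centralizer (Q : Set G)).relIndex X = p ^ k) →
        X = Q ⊔ Subgroup.centralizer (Q : Set G))) :
    ∃ Q : Subgroup G, cr Q ∧ (∀ R : Subgroup G, cr R → Q ≤ R) ∧ (∀ x ∈ (P : Subgroup G), Q.map (MulAut.conj x).toMonoidHom = Q) ∧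
      ∀ A : Subgroup G, A ≤ (P : Subgroup G) → ∀ g : G, A.map (MulAut.conj g).toMonoidHom ≤ (P : Subgroup G) →
        ∃ h ∈ Subgroup.normalizer (Q : Set G), ∃ c ∈ Subgroup.centralizer (A : Set G), g = h * c := by
  have hqd : ¬ Involves (qd p) G := by
    intro h
    obtain ⟨Q, M, ψ, hQ, hM, hψ, hC⟩ := exists_automizer_section_of_involves_qd h
    set C := Subgroup.centralizer (Q : Set G) with hCdef
    have hMC : M ≤ Subgroup.normalizer (C : Set G) :=
      hM.trans (normalizer_le_normalizer_centralizer Q)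
    have : (C.subgroupOf (M ⊔ C)).Normal :=
      (Subgroup.normal_subgroupOf_iff_le_normalizer le_sup_right).mpr
        (sup_le hMC Subgroup.le_normalizer)
    let φ : M →* ↥(M ⊔ C) ⧸ C.subgroupOf (M ⊔ C) :=
      (QuotientGroup.mk' _).comp (Subgroup.inclusion le_sup_left)
    have hφ : Function.Surjective φ := by
      rintro ⟨x, hx⟩
      obtain ⟨m, hm, c, hc, rfl⟩ := (Lib.Solv.mem_sup_of_le_normalizer' hMC).mp hx
      refine ⟨⟨m, hm⟩, QuotientGroup.eq.mpr ?_⟩
      change m⁻¹ * (m * c) ∈ C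
      rwa [inv_mul_cancel_left]
    let χ := (φ.liftOfSurjective hφ ⟨ψ, fun m hm =>
      hC m ((QuotientGroup.eq_one_iff (N := C.subgroupOf (M ⊔ C)) _).mp hm)⟩).comp (QuotientGroup.mk' _)
    have hχ : Function.Surjective χ := by
      intro g
      obtain ⟨m, rfl⟩ := hψ g
      exact ⟨Subgroup.inclusion le_sup_left m, 
        φ.liftOfRightInverse_comp_apply _ (Function.rightInverse_surjInv hφ) _ m⟩
    have e : (χ.ker.map (M ⊔ C).subtype).subgroupOf (M ⊔ C) = χ.ker :=
      Subgroup.comap_map_eq_self_of_injective (M ⊔ C).subtype_injective _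
    have : ((χ.ker.map (M ⊔ C).subtype).subgroupOf (M ⊔ C)).Normal := by
      rw [e]; infer_instance
    refine hfree Q hQ ⟨M ⊔ C, χ.ker.map (M ⊔ C).subtype, this, fun c hc => ?_,
      Subgroup.map_subtype_le _, sup_le hM (Subgroup.centralizer_le_normalizer _),
      ⟨(QuotientGroup.quotientMulEquivOfEq e).trans
        (QuotientGroup.quotientKerEquivOfSurjective χ hχ)⟩⟩
    refine ⟨⟨c, Subgroup.mem_sup_right hc⟩, ?_, rfl⟩
    rw [SetLike.mem_coe, MonoidHom.mem_ker, MonoidHom.comp_apply, QuotientGroup.mk'_apply,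
      (QuotientGroup.eq_one_iff (N := C.subgroupOf (M ⊔ C)) _).mpr hc, map_one]
  have hS := isSylowIn_top P
  have hpow : ∀ {C : Subgroup G} {x : G} {k : ℕ}, (orderOf x).Coprime p → x ^ p ^ k ∈ C → x ∈ C :=
    fun hx h => Lib.Solv.mem_of_pow_mem_of_pow_mem (hx.pow_right _)
      (by rw [pow_orderOf_eq_one]; exact Subgroup.one_mem _) h
  have hDN : ∀ Q : Subgroup G, Q ⊔ Subgroup.centralizer (Q : Set G) ≤
      Subgroup.normalizer (Q : Set G) := fun Q =>
    sup_le Subgroup.le_normalizer (Subgroup.centralizer_le_normalizer _)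
  have hND : ∀ Q : Subgroup G, ∀ n ∈ Subgroup.normalizer (Q : Set G),
      cj n (Q ⊔ Subgroup.centralizer (Q : Set G)) = Q ⊔ Subgroup.centralizer (Q : Set G) :=
    fun Q n hn => by rw [cj_sup, cj_centralizer, cj_eq_of_mem_normalizer hn]
  have hmem : ∀ {Q : Subgroup G} {x : G}, x ∈ Q ⊔ Subgroup.centralizer (Q : Set G) →
      ∃ v ∈ Q, ∃ c ∈ Subgroup.centralizer (Q : Set G), v * c = x := fun hx =>
    (Lib.Solv.mem_sup_of_le_normalizer' (Subgroup.le_normalizer.trans
      (normalizer_le_normalizer_centralizer _))).mp hx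
  obtain ⟨V, hV, hSN, hr, hc⟩ := exists_radicalIn_ctlFus hp
    (stableOnNormal_of_not_involves_qd hp hqd) hS
  refine ⟨V, (hcr V).mpr ⟨hV, ?_, fun X hX hXn hDX ⟨k, hk⟩ => ?_⟩, fun R hR => ?_,
    fun x hx => cj_eq_of_mem_normalizer (hSN hx), fun A hA g hg =>
      ctlFus_subgroup_iff'.mp hc A hA g trivial hg⟩
  · have h1 := (hS.mono hSN le_top).inf_normal_of_le (normalizer_le_normalizer_centralizer V)
      (Subgroup.centralizer_le_normalizer _)
    refine ⟨h1.toSylow, h1.map_toSylow.trans (le_antisymm (le_inf (hr.inf_centralizer_le le_top)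
      inf_le_right) (inf_le_inf_right _ hV))⟩
  · have hXn' : Subgroup.normalizer (V : Set G) ≤ Subgroup.normalizer (X : Set G) :=
      fun n hn => cj_eq_self_iff.mp (hXn n hn)
    have h1 := (hS.mono hSN le_top).inf_normal_of_le hXn' hX
    have h2 : (P : Subgroup G) ⊓ X ≤ V := by
      refine hr X (le_inf le_top hX) (inf_le_right.trans hXn') fun x hx hcop => ?_
      have : ((V ⊔ Subgroup.centralizer (V : Set G)).subgroupOf X).Normal :=
        (Subgroup.normal_subgroupOf_iff_le_normalizer hDX).mpr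
          fun n hn => cj_eq_self_iff.mp (hND V n (hX hn))
      have h3 := Subgroup.pow_index_mem
        (H := (V ⊔ Subgroup.centralizer (V : Set G)).subgroupOf X) ⟨x, hx⟩
      rw [← Subgroup.relIndex, hk] at h3
      obtain ⟨v, hv, c, hc, rfl⟩ := hmem (hpow hcop h3)
      obtain ⟨m, hm⟩ := hS.isPGroup ⟨v, hV hv⟩
      refine hpow (k := m) hcop ?_
      rw [Commute.mul_pow (Subgroup.mem_centralizer_iff.mp hc v hv),
        show v ^ p ^ m = 1 from congrArg Subtype.val hm, one_mul]
      exact Subgroup.pow_mem _ hc _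
    have h3 := h1.not_dvd_relIndex_of_le (h2.trans
      (le_sup_left : V ≤ V ⊔ Subgroup.centralizer (V : Set G)))
    rw [hk] at h3
    rcases k with _ | k
    · exact le_antisymm (Subgroup.relIndex_eq_one.mp hk) hDX
    · exact absurd (dvd_pow_self p k.succ_ne_zero) h3
  obtain ⟨hRP, ⟨T₀, hT₀⟩, hX⟩ := (hcr R).mp hR
  refine RadicalIn.le_of_ctlFus (fun K hK hKn hKc => ?_) hS.isPGroup le_top hRP hV hc le_rfl
  rw [top_inf_eq] at hK hKn
  set D := R ⊔ Subgroup.centralizer (R : Set G) with hD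
  obtain ⟨T, hT⟩ := exists_isSylowIn (p := p) K
  have h1 : K ⊔ D = T ⊔ D := by
    refine le_antisymm (sup_le (fun x hx => ?_) le_sup_right) (sup_le_sup_right hT.le _)
    obtain ⟨t, ht, c, hc, -, rfl⟩ := hT.exists_mul_eq hKc hx
    exact Subgroup.mul_mem_sup ht (Subgroup.mem_sup_right hc)
  have h2 := hX (K ⊔ D) (sup_le hK (hDN R)) (fun n hn => by
    change cj n _ = _
    rw [cj_sup, cj_eq_of_mem_normalizer (hKn hn), hND R n hn]) le_sup_right (by
    have : (D.subgroupOf (T ⊔ D)).Normal :=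
      (Subgroup.normal_subgroupOf_iff_le_normalizer le_sup_right).mpr (sup_le
        (fun n hn => cj_eq_self_iff.mp (hND R n (hK (hT.le hn)))) Subgroup.le_normalizer)
    rw [h1, ← Subgroup.relIndex_subgroupOf (le_refl (T ⊔ D)),
      Subgroup.subgroupOf_sup le_sup_left le_sup_right, Subgroup.relIndex_sup_right,
      Subgroup.relIndex_subgroupOf le_sup_left]
    obtain ⟨m, hm⟩ := IsPGroup.iff_card.mp hT.isPGroup
    obtain ⟨k, -, hk⟩ := (Nat.dvd_prime_pow Fact.out).mp (hm ▸ Subgroup.relIndex_dvd_card D T)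
    exact ⟨k, hk⟩)
  rintro x ⟨hxP, hxK⟩
  obtain ⟨v, hv, c, hc, rfl⟩ := hmem (h2.le (Subgroup.mem_sup_left hxK))
  have h3 := isSylowIn_map_subtype T₀
  rw [hT₀] at h3
  have h4 := h3.eq_inf hS.isPGroup (inf_le_left.trans hRP)
  have h5 : c ∈ (P : Subgroup G) ⊓ Subgroup.centralizer (R : Set G) :=
    ⟨(Subgroup.mul_mem_cancel_left _ (hRP hv)).mp hxP, hc⟩
  rw [h4] at h5
  exact R.mul_mem hv h5.1

end Cfsg.Agent.S1953
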