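import Cfsg.Statements.S3090
import Cfsg.Agent.Asc.Fam

set_option autoImplicit false
open Cfsg

namespace Cfsg.Agent.S3090

open scoped commutatorElement
open Subgroup Cfsg.Lib Cfsg.Lib.Solv Cfsg.Lib.Trans Cfsg.Lib.Local.MSS Cfsg.Lib.Chev.Core
  Cfsg.Lib.Gold Cfsg.Lib.Gomi Cfsg.Lib.GCT

theorem uniq_of {G Γ : Type*} [Group G] [Finite G] [Group Γ] {H T : Subgroup G}
    (hT : IsSylowIn 2 T H) (e : ↥(Local.resOf 2 H) ⧸ pCore 2 ↥(Local.resOf 2 H) ≃* Γ)
    {U B : Subgroup Γ} (hU : IsPGroup 2 U) (h : UniqMax U B ⊤) : ∃ M, UniqMax T M H := by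
  have nK := self_le_normalizer_resOf (p := 2) H
  have hS := hT.inf_normal_of_le nK (resOf_le H)
  have eH := resOf_sup_isSylowIn hT
  have rK := resOf_resOf (p := 2) H
  generalize Local.resOf 2 H = K at *
  obtain ⟨M, hM⟩ : ∃ M, UniqMax (T ⊓ K) M K := by
    let f : K →* Γ := e.toMonoidHom.comp (QuotientGroup.mk' _)
    have hf : Function.Surjective f := e.surjective.comp (QuotientGroup.mk'_surjective _)
    have hk : f.ker = pCore 2 K := by
      rw [← MonoidHom.comap_ker, (MonoidHom.ker_eq_bot_iff _).2 e.injective,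
        MonoidHom.comap_bot, QuotientGroup.ker_mk']
    have h1 : UniqMax (U.comap f) (B.comap f) ⊤ := ⟨comap_mono h.le, lt_top_iff_ne_top.2 fun k =>
      h.lt.ne (comap_injective hf (k.trans (comap_top f).symm)), fun X x1 x2 =>
        map_le_iff_le_comap.1 (h.le_of_lt ((map_comap_eq_self_of_surjective hf U).ge.trans
          (map_mono x1)) (lt_top_iff_ne_top.2 fun k => x2.ne (by
            rw [← comap_map_eq_self (f := f) ((ker_le_comap f U).trans x1), k, comap_top])))⟩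
    obtain ⟨g, -, hg⟩ := hS.subgroupOf_top.exists_cj_le
      (hU.comap_of_ker_isPGroup f (hk ▸ Solv.pCore_isPGroup 2 K)) le_top
    have h2 := h1.cj_of_mem (mem_top g)
    refine ⟨_, .of_subgroupOf inf_le_right (h2.mono hg (h2.le_of_lt hg
      (lt_top_iff_ne_top.2 fun k => ?_)))⟩
    have h3 : K = ⊥ := rK.symm.trans (resOf_eq_bot_of_isPGroup
      (hS.isPGroup.to_le (subgroupOf_eq_top.1 k)))
    exact h1.lt.ne (eq_top_iff.2 fun x _ => by
      rw [show x = 1 from Subtype.ext (mem_bot.1 (h3.le x.2))]; exact one_mem _)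
  have nM : T ≤ normalizer (M : Set G) := fun t ht => mem_normalizer_of_cj_le (by
    have := hM.cj t
    rw [cj_eq_of_mem_normalizer (nK (hT.le ht)), cj_inf, cj_eq_of_mem ht,
      cj_eq_of_mem_normalizer (nK (hT.le ht))] at this
    exact hM.le_of_lt this.le this.lt)
  have KH := le_sup_left.trans eH.le
  refine ⟨M ⊔ T, le_sup_right, lt_of_le_not_ge (sup_le (hM.lt.le.trans KH) hT.le) fun k =>
    hM.not_le fun x hx => ?_, fun X x1 x2 x hx => ?_⟩
  · obtain ⟨m, hm, t, ht, rfl⟩ := exists_mul_of_mem_sup_of_le_normalizer nM (k (KH hx))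
    exact mul_mem hm (hM.le ⟨ht, (mul_mem_cancel_left (hM.lt.le hm)).1 hx⟩)
  · obtain ⟨k, hk, t, ht, rfl⟩ := exists_mul_of_mem_sup_of_le_normalizer (hT.le.trans nK)
      (eH.ge (x2.le hx))
    exact mul_mem (mem_sup_left (hM.le_of_lt (inf_le_inf_right K x1) (lt_of_le_not_ge inf_le_right
      fun l => x2.not_ge (eH.ge.trans (sup_le (l.trans inf_le_left) x1)))
      ⟨(mul_mem_cancel_right (x1 ht)).1 hx, hk⟩)) (mem_sup_right ht)

theorem uniq_sl (F : Type*) [Field F] [CharP F 2] : ∃ U B : Subgroup (Matrix.SpecialLinearGroup (Fin 2) F),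
    IsPGroup 2 U ∧ UniqMax U B ⊤ := by
  let U : Subgroup (Matrix.SpecialLinearGroup (Fin 2) F) :=
    { carrier := {x | ∃ t, sl2U t = x}
      one_mem' := ⟨0, sl2U_zero⟩
      mul_mem' := by
        rintro _ _ ⟨s, rfl⟩ ⟨t, rfl⟩
        exact ⟨_, (sl2U_mul s t).symm⟩
      inv_mem' := by
        rintro _ ⟨s, rfl⟩
        exact ⟨_, (sl2U_inv s).symm⟩ }
  let B : Subgroup (Matrix.SpecialLinearGroup (Fin 2) F) :=
    { carrier := {x | x 1 0 = 0}
      one_mem' := rfl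
      mul_mem' := fun {a b} ha hb => by
        simp only [Set.mem_setOf_eq] at ha hb
        simp [Matrix.mul_apply, ha, hb]
      inv_mem' := fun {a} ha => by
        simp only [Set.mem_setOf_eq] at ha ⊢
        simp [Matrix.SpecialLinearGroup.SL2_inv_expl, ha] }
  refine ⟨U, B, Gomi.isPGroup_of_sq ?_, ?_, lt_top_iff_ne_top.2 fun e => ?_, fun X x1 x2 S hS => ?_⟩
  · rintro _ ⟨s, rfl⟩
    rw [sl2U_mul, CharTwo.add_self_eq_zero, sl2U_zero]
  · rintro _ ⟨s, rfl⟩
    rfl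
  · exact one_ne_zero (show (1 : F) = 0 from e.ge (mem_top (sl2V 1)))
  · exact by_contra fun n => x2.ne (BB.eq_top_of_U (fun t => x1 ⟨t, rfl⟩) hS n)

/-- Let G be a finite group of characteristic 2 type, H a subgroup, K = O²(H) (the subgroup generated by the elements of H of odd order), M = N_G(K), and T a Sylow 2-subgroup of H. Assume: K/O₂(K) (that is, O²(H/O₂(H))) is cyclic of order 3 or isomorphic to L₂(2ⁿ) = SL(2, 2ⁿ) for some n ≥ 1; O₂(H) is a Sylow 2-subgroup of the centralizer in M of K/O₂(K) (every 2-subgroup of M containing O₂(H) and acting trivially on K/O₂(K) equals O₂(H)); and M is the unique maximal 2-local subgroup of G containing H. Then N_G(T) ≤ M, or G has sectional 2-rank at most 4. -/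
theorem result
    {G : Type*} [Group G] [Finite G] (hG : Cfsg.IsCharacteristicTwoType G)
    (H : Subgroup G) (T : Sylow 2 ↥H)
    (hstar : Nonempty (↥(Cfsg.oddGenerated H) ⧸ Cfsg.pCore 2 ↥(Cfsg.oddGenerated H) ≃* Multiplicative (ZMod 3)) ∨
      ∃ n : ℕ, 1 ≤ n ∧ Nonempty (↥(Cfsg.oddGenerated H) ⧸ Cfsg.pCore 2 ↥(Cfsg.oddGenerated H) ≃* Matrix.SpecialLinearGroup (Fin 2) (GaloisField 2 n)))
    (hsyl : ∀ S : Subgroup G, IsPGroup 2 ↥S → (Cfsg.pCore 2 ↥H).map H.subtype ≤ S →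
      S ≤ Subgroup.normalizer (Cfsg.oddGenerated H : Set G) →
      (∀ s ∈ S, ∀ k ∈ Cfsg.oddGenerated H, s * k * s⁻¹ * k⁻¹ ∈ (Cfsg.pCore 2 ↥(Cfsg.oddGenerated H)).map (Cfsg.oddGenerated H).subtype) →
      S = (Cfsg.pCore 2 ↥H).map H.subtype)
    (huniq : Cfsg.maxTwoLocalsContaining H = {Subgroup.normalizer (Cfsg.oddGenerated H : Set G)}) :
    Subgroup.normalizer (((T : Subgroup ↥H).map H.subtype : Subgroup G) : Set G) ≤ Subgroup.normalizer (Cfsg.oddGenerated H : Set G) ∨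
      Cfsg.SectionalPRankLE 2 4 G := by
  have eK : oddGenerated H = Local.resOf 2 H := by
    rw [resOf_eq_closure]
    simp only [oddGenerated, Nat.coprime_two_right]
  rw [eK] at hstar hsyl huniq ⊢
  have hT := isSylowIn_map_subtype T
  generalize (T : Subgroup H).map H.subtype = T at hT
  refine or_iff_not_imp_left.2 fun hN => ?_
  obtain ⟨M, hM⟩ : ∃ M, UniqMax T M H := by
    rcases hstar with ⟨⟨e⟩⟩ | ⟨n, -, ⟨e⟩⟩
    · have := Fact.mk Nat.prime_three
      refine uniq_of hT e IsPGroup.of_bot ⟨le_rfl, bot_lt_top, fun X _ h => ?_⟩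
      exact ((X.eq_bot_or_eq_top_of_prime_card (hp := ⟨by simp [Nat.prime_three]⟩)).resolve_right
        h.ne).le
    · obtain ⟨U, B, a, b⟩ := uniq_sl (GaloisField 2 n)
      exact uniq_of hT e a b
  have hu : ∀ R : Subgroup G, IsPGroup 2 R → R ≠ ⊥ → H ≤ Ns R → Ns R ≤ Ns (Local.resOf 2 H) :=
    fun R r1 r2 r3 => by
      obtain ⟨L, l1, l2⟩ := Finite.exists_le_maximal (p := fun M : Subgroup G => IsTwoLocal M)
        ⟨R, r1, r2, rfl⟩
      exact l1.trans (huniq.le ⟨⟨l2.1, fun N' h1 h2 => le_antisymm (l2.2 h1 h2) h2⟩,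
        r3.trans l1⟩).le
  have nK := self_le_normalizer_resOf (p := 2) H
  have cm : ∀ Q : Subgroup G, IsPGroup 2 Q → Q ≤ Ns (Local.resOf 2 H) → Local.resOf 2 H ≤ Ns Q →
      Q ≤ commLe (Local.resOf 2 H) (pCoreOf 2 (Local.resOf 2 H)) := fun Q q1 q2 q3 x hx =>
    ⟨BB.norm_Q _ (q2 hx), fun k hk => Local.le_pCoreOf inf_le_left
      (BB.norm_inf le_normalizer q3) (q1.to_le inf_le_right) ⟨Par.comm_mem_N (q2 hx) hk,
        commutatorElement_inv k x ▸ Q.inv_mem (Par.comm_mem_N (q3 hk) hx)⟩⟩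
  have QT := Local.pCoreOf_le_sylowIn hT
  have hs : ∀ S : Subgroup G, IsPGroup 2 S → T ≤ S → S ≤ Ns (Local.resOf 2 H) →
      S ⊓ commLe (Local.resOf 2 H) (pCoreOf 2 (Local.resOf 2 H)) ≤ T := fun S s1 s2 s3 =>
    (hsyl _ (s1.to_le inf_le_left) (le_inf (QT.trans s2) (cm _ (Local.isPGroup_pCoreOf _)
      (QT.trans (s2.trans s3)) ((resOf_le H).trans (Local.le_normalizer_pCoreOf H))))
      (inf_le_left.trans s3) fun s hs k hk => hs.2.2 k hk).le.trans QT
  obtain ⟨⟨⟨R, r1, r2, r3⟩, -⟩, -⟩ := huniq.ge rfl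
  have c1 := charP_Ns hG r1 r2
  rw [Ns, ← r3] at c1
  obtain ⟨S, hS, TS⟩ := exists_isSylowIn_ge hT.isPGroup (hT.le.trans nK)
  have OT := (le_inf (Local.pCoreOf_le_sylowIn hS) (cm _ (Local.isPGroup_pCoreOf _) (pCoreOf_le _)
    (le_normalizer.trans (Local.le_normalizer_pCoreOf _)))).trans (hs S hS.isPGroup TS hS.le)
  obtain ⟨q, 𝓔, h⟩ := exists_fam (c1.of_pCoreOf_le (OT.trans hT.le) nK) hT
    (fun e => r2 (le_bot_iff.1 (((Local.le_pCoreOf (r3 ▸ le_normalizer) r3.le r1).trans OT).trans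
      e.le))) hM fun C c1 c2 c3 c4 => hN (c3.trans (hu C (hT.isPGroup.to_le c1) c2 c4))
  exact h.main hT hu hs hG hN

end Cfsg.Agent.S3090
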