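import Cfsg.Statements.S1337
import Cfsg.Agent.Trans.Connected

set_option autoImplicit false
open Cfsg

namespace Cfsg.Agent.S1337

open Subgroup Cfsg.Lib.Trans Cfsg.Lib.Solv.PG

/-- Let P be a finite p-group of p-rank greater than 2. Then P has a normal elementary abelian subgroup U of order p², and for every elementary abelian X ≤ P with |X| ≥ p²: X is joined to U by a chain of pairwise commuting elementary abelian subgroups of order ≥ p² if and only if C_P(X) has p-rank greater than 2. -/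
theorem result {P : Type*} [Group P] [Finite P] (p : ℕ) [Fact p.Prime] (hP : IsPGroup p P) (hrk : ¬ Cfsg.PRankLE p 2 P) : ∃ U : Subgroup P, U.Normal ∧ Cfsg.IsElementaryAbelian p U ∧ Nat.card ↥U = p ^ 2 ∧ ∀ X : Subgroup P, Cfsg.IsElementaryAbelian p X → p ^ 2 ≤ Nat.card ↥X → (Relation.ReflTransGen (fun A B : Subgroup P => Cfsg.IsElementaryAbelian p A ∧ p ^ 2 ≤ Nat.card ↥A ∧ Cfsg.IsElementaryAbelian p B ∧ p ^ 2 ≤ Nat.card ↥B ∧ ∀ a ∈ A, ∀ b ∈ B, a * b = b * a) X U ↔ ¬ Cfsg.PRankLE p 2 ↥(Subgroup.centralizer (X : Set P))) := by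
  obtain ⟨U, hUn, hU, hUc⟩ := exists_normal_elementary_sq_of_rank hP hrk
  refine ⟨U, hUn, hU, hUc, fun X hX hXc => ⟨fun h hr => ?_, fun h => ?_⟩⟩
  · have key : ∀ Y : Subgroup P, Relation.ReflTransGen (fun A B : Subgroup P =>
        Cfsg.IsElementaryAbelian p A ∧ p ^ 2 ≤ Nat.card ↥A ∧ Cfsg.IsElementaryAbelian p B ∧
        p ^ 2 ≤ Nat.card ↥B ∧ ∀ a ∈ A, ∀ b ∈ B, a * b = b * a) X Y → Y = X := by
      intro Y hY
      induction hY with
      | refl => rfl
      | @tail Y Z _ hYZ ih =>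
        subst ih
        obtain ⟨h1, h2, h3, h4, h5⟩ := hYZ
        have hZY : Z ≤ Y := by
          by_contra hn
          exact not_pRankLE_centralizer_of_not_le h1 h2 h3
            (fun z hz => mem_centralizer_iff.mpr fun y hy => h5 y hy z hz) hn hr
        have := h1.1
        exact eq_of_le_of_card_ge hZY
          ((Cfsg.Lib.FT.BG4.card_le_of_pRankLE hr h1 Y.le_centralizer).trans h4)
    have := key U h
    subst this
    exact not_pRankLE_centralizer_normal_sq hP hrk hU hUc hr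
  · obtain ⟨Y, hY, hYc, h1, h2⟩ := exists_sq_commuting hP U hUc.le h
    exact (Relation.ReflTransGen.single ⟨hX, hXc, hY, hYc.ge, fun a ha b hb =>
      mem_centralizer_iff.mp (h1 hb) a ha⟩).tail ⟨hY, hYc.ge, hU, hUc.ge, fun a ha b hb =>
      (mem_centralizer_iff.mp (h2 ha) b hb).symm⟩

end Cfsg.Agent.S1337
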