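import Cfsg.Statements.S3246
import Cfsg.Agent.S1337
import Cfsg.Agent.ZH8.CharTwoCenter
import Cfsg.Agent.Solv.PConstrainedLocal
import Cfsg.Agent.Solv.CoprimeGen
import Cfsg.Agent.Solv.Fitting
import Cfsg.Agent.FT.BG4.Elem
import Cfsg.Agent.Trans.SylowIn

set_option autoImplicit false
open Cfsg

namespace Cfsg.Agent.S3246

open Subgroup Cfsg.Lib.Solv Cfsg.Lib.Trans
open scoped commutatorElement

theorem le_centralizer_of_relIndex_le_two {G : Type*} [Group G] [Finite G] {Q Y T : Subgroup G}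
    (hYQ : Y ≤ normalizer (Q : Set G)) (hcop : (Nat.card Y).Coprime (Nat.card Q))
    (hT : T.relIndex Q ≤ 2) (hc : Y ≤ centralizer ((T ⊓ Q : Subgroup G) : Set G)) :
    Y ≤ centralizer (Q : Set G) := by
  refine Coprime.le_centralizer_of_commutator_le (hcop.coprime_dvd_right
    (card_dvd_of_le inf_le_right)) (commutator_le.mpr fun q hq y hy => ?_) hc
  have h1 : y * q⁻¹ * y⁻¹ ∈ Q := conj_mem_of_mem_normalizer (hYQ hy) (inv_mem hq)
  rw [commutatorElement_def, mul_assoc, mul_assoc, ← mul_assoc y]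
  refine ⟨?_, mul_mem hq h1⟩
  have h0 : T.relIndex Q ≠ 0 := index_ne_zero_of_finite
  rcases (by omega : T.relIndex Q = 1 ∨ T.relIndex Q = 2) with h | h
  · exact relIndex_eq_one.mp h (mul_mem hq h1)
  refine (mul_mem_iff_of_index_two h (a := ⟨q, hq⟩) (b := ⟨_, h1⟩)).mpr ⟨fun h2 => ?_, fun h2 => ?_⟩
  · change y * q⁻¹ * y⁻¹ ∈ T
    rw [← hc hy q⁻¹ (inv_mem ⟨h2, hq⟩), mul_inv_cancel_right]
    exact inv_mem h2
  · have h3 := hc hy (y * q⁻¹ * y⁻¹) ⟨h2, h1⟩
    rw [inv_mul_cancel_right, mul_right_inj] at h3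
    exact inv_mem_iff.mp (show q⁻¹ ∈ T from h3 ▸ (show y * q⁻¹ * y⁻¹ ∈ T from h2))

/-- Let G be a finite group whose Sylow 2-subgroup S has a self-centralizing normal subgroup of rank at least 3. Suppose that either every maximal 2-local subgroup of G is 2-constrained with no nontrivial normal subgroup of odd order, or the centralizer of every involution of G is 2-constrained with no nontrivial normal subgroup of odd order. Then S normalizes no nontrivial subgroup of G of odd order and every 2-local subgroup of G is 2-constrained. -/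
theorem result {G : Type*} [Group G] [Finite G]
    (S : Sylow 2 G) (A : Subgroup G) (hA : Cfsg.IsSCN (S : Subgroup G) A) (hA3 : ¬ Cfsg.PRankLE 2 2 ↥A)
    (h : (∀ M : Subgroup G, Cfsg.IsMaximalTwoLocal M → Cfsg.IsPConstrained 2 ↥M ∧ Cfsg.oddCore ↥M = ⊥) ∨
      (∀ t : G, orderOf t = 2 → Cfsg.IsPConstrained 2 ↥(Subgroup.centralizer ({t} : Set G)) ∧
        Cfsg.oddCore ↥(Subgroup.centralizer ({t} : Set G)) = ⊥)) :
    (∀ X : Subgroup G, Odd (Nat.card ↥X) → (S : Subgroup G) ≤ Subgroup.normalizer (X : Set G) → X = ⊥) ∧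
      (∀ T : Subgroup G, IsPGroup 2 ↥T → T ≠ ⊥ → Cfsg.IsPConstrained 2 ↥(Subgroup.normalizer (T : Set G))) := by
  have : Fact (Nat.Prime 2) := ⟨Nat.prime_two⟩
  have hz : ∀ u : G, orderOf u = 2 → IsPGroup 2 (zpowers u) ∧ zpowers u ≠ ⊥ := fun u hu =>
    ⟨IsPGroup.of_card (n := 1) (by rw [Nat.card_zpowers, hu, pow_one]), by
      rw [Ne, zpowers_eq_bot]; rintro rfl; simp at hu⟩
  refine ⟨fun X hX hSX => ?_, fun T hT hT1 => ?_⟩
  · have key : ∀ u : G, orderOf u = 2 → ∃ M : Subgroup G, centralizer {u} ≤ M ∧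
        IsPConstrained 2 M ∧ oddCore M = ⊥ := fun u hu => by
      rcases h with h | h
      · obtain ⟨M, hM, hle⟩ := Cfsg.Lib.ZH8.exists_maxTwoLocal_ge ⟨_, (hz u hu).1, (hz u hu).2, rfl⟩
        refine ⟨M, le_trans ?_ ((centralizer_le_normalizer _).trans hle), h M hM⟩
        rw [zpowers_eq_closure, centralizer_closure]
      · exact ⟨_, le_rfl, h u hu⟩
    obtain ⟨U, hUn, hU, hU4⟩ := Cfsg.Agent.S1337.result 2 S.isPGroup'
      fun h1 => hA3 (Cfsg.Lib.FT.BG4.pRankLE_of_le h1 hA.1)
    replace hU4 := hU4.1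
    have hU' := ElemAb.of_isElementaryAbelian hU
    have hV := ElemAb.isElementaryAbelian 2 _ (h := ElemAb.map U (S : Subgroup G).subtype)
    set V := U.map (S : Subgroup G).subtype
    have hV4 : Nat.card V = 4 := (card_map_subtype U).trans hU4
    have hVS : V ≤ S := map_subtype_le _
    have := hV.1
    have hcop : ∀ Q : Subgroup G, IsPGroup 2 Q → (Nat.card Q).Coprime (Nat.card X) := fun Q hQ => by
      obtain ⟨n, hn⟩ := hQ.exists_card_eq
      exact hn ▸ (Nat.coprime_two_left.mpr hX).pow_left n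
    have hVlt : ⁅V, (S : Subgroup G)⁆ < V :=
      lt_of_le_of_ne (commutator_le_left_of_le_normalizer (le_normalizer_map_subtype U)) fun he => by
        rw [eq_bot_of_le_commutator_of_isNilpotent S.isPGroup'.isNilpotent hVS he.ge, card_bot] at hV4
        omega
    have hV2 : Nat.card (⁅V, (S : Subgroup G)⁆ : Subgroup G) ≤ 2 := by
      have h1 := Cfsg.Lib.Solv.card_lt_of_lt hVlt
      have h2 := card_dvd_of_le hVlt.le
      rw [hV4] at h1 h2
      by_contra h3
      rw [show Nat.card (⁅V, (S : Subgroup G)⁆ : Subgroup G) = 3 by omega] at h2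
      omega
    refine eq_bot_iff.mpr (Coprime.le_of_forall_centralizer_singleton (A := V) (fun hc => ?_)
      (hVS.trans hSX) (hcop _ (S.isPGroup'.to_le hVS)) fun u hu hu1 => ?_)
    · have h1 := IsCyclic.exponent_eq_card (α := V)
      have h2 := Monoid.exponent_dvd_of_forall_pow_eq_one (G := V) (n := 2)
        fun v => Subtype.ext (hV.2 v v.2)
      rw [h1, hV4] at h2
      omega
    obtain ⟨M, hM, hc, hO⟩ := key u (orderOf_eq_prime (hV.2 u hu) hu1)
    have hQ := (isPConstrained_iff_of_pPrimeCore_eq_bot hO).mp hc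
    set Q := (pCore 2 M).map M.subtype with hQdef
    have hQp : IsPGroup 2 Q := isPGroup_map_pCore 2 M
    have hMQ : M ≤ normalizer (Q : Set G) := le_normalizer_map_subtype _
    set T := centralizer ({u} : Set G) ⊓ (S : Subgroup G)
    have hT : T.relIndex S ≤ 2 := by
      rw [inf_relIndex_right]
      exact (Cfsg.Lib.FT.BG4.relIndex_centralizer_le_card fun x hx =>
        (commutator_comm (S : Subgroup G) V).le (commutator_mem_commutator hx hu)).trans hV2
    have hTM : T ≤ M := inf_le_left.trans hM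
    have hTQ : T.relIndex Q ≤ 2 := by
      have hTp : IsPGroup 2 T := S.isPGroup'.to_le inf_le_right
      have h1 : Nat.card (T ⊔ Q : Subgroup G) ≤ Nat.card (S : Subgroup G) :=
        (isSylowIn_top S).card_le (hTp.to_sup_of_normal_right' hQp (hTM.trans hMQ)) le_top
      have h2 := card_mul_relIndex (inf_le_right : T ≤ S)
      have h3 := card_mul_relIndex (le_sup_left : T ≤ T ⊔ Q)
      have h5 : T.relIndex Q ≤ T.relIndex (T ⊔ Q) :=
        relIndex_le_of_le_right le_sup_right index_ne_zero_of_finite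
      have h6 : Nat.card T * T.relIndex (T ⊔ Q) ≤ Nat.card T * 2 :=
        h3.le.trans (h1.trans (h2.ge.trans (Nat.mul_le_mul_left _ hT)))
      exact h5.trans (Nat.le_of_mul_le_mul_left h6 Nat.card_pos)
    have hYM : X ⊓ centralizer {u} ≤ M := inf_le_right.trans hM
    have h4 := le_centralizer_of_relIndex_le_two (hYM.trans hMQ)
      ((hcop Q hQp).symm.coprime_dvd_left (card_dvd_of_le inf_le_left)) hTQ (by
        rw [← commutator_eq_bot_iff_le_centralizer, eq_bot_iff,
          ← inf_eq_bot_of_coprime_card (hcop Q hQp)]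
        exact le_inf ((commutator_mono le_rfl inf_le_right).trans
          (commutator_le_right_of_le_normalizer (hYM.trans hMQ)))
          ((commutator_mono inf_le_left (inf_le_left.trans inf_le_right)).trans
            (commutator_le_left_of_le_normalizer hSX)))
    rw [← inf_eq_bot_of_coprime_card (hcop Q hQp)]
    exact fun x hx => ⟨⟨⟨x, hYM hx⟩, hQ fun q hq => Subtype.ext (h4 hx q ⟨q, hq, rfl⟩), rfl⟩, hx.1⟩
  rcases h with h | h
  · obtain ⟨M, hM, hle⟩ := Cfsg.Lib.ZH8.exists_maxTwoLocal_ge ⟨T, hT, hT1, rfl⟩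
    rw [← inf_eq_left.mpr hle]
    exact isPConstrained_normalizer_inf (h M hM).1 hT (le_normalizer.trans hle)
  · have : Nontrivial T := (nontrivial_iff_ne_bot T).mpr hT1
    have := hT.center_nontrivial
    obtain ⟨z, hz⟩ := exists_prime_orderOf_dvd_card' (G := center T) 2
      ((hT.to_subgroup _).card_eq_or_dvd.resolve_left Finite.one_lt_card.ne')
    rw [← Subgroup.orderOf_coe, ← Subgroup.orderOf_coe] at hz
    have h1 := isPConstrained_centralizer_inf (h _ hz).1 hT fun t ht =>
      mem_centralizer_singleton_iff.mpr (congrArg Subtype.val (mem_center_iff.mp z.2 ⟨t, ht⟩))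
    rw [inf_eq_left.mpr (centralizer_le (Set.singleton_subset_iff.mpr z.1.2))] at h1
    exact isPConstrained_normalizer_of_centralizer hT h1

end Cfsg.Agent.S3246
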