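import Cfsg.Statements.S2934
import Cfsg.Agent.Perm.QuatAut
import Cfsg.Agent.Solv.ActionTransport
import Cfsg.Agent.Solv.PGroupNormal
import Cfsg.Agent.Trans.Extraspecial
import Cfsg.Agent.Local.ProdCard

set_option autoImplicit false
open Cfsg

namespace Cfsg.Agent.S2934

open Subgroup Cfsg.Lib
open scoped commutatorElement

variable {W : Type*} [Group W]

/-- Fixed points of an automorphism. -/
def fx (e : MulAut W) : Subgroup W where
  carrier := {x | e x = x}
  mul_mem' := fun {a b} ha hb => by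
    simp only [Set.mem_ofPred_eq] at *; rw [map_mul, ha, hb]
  one_mem' := map_one e
  inv_mem' := fun {a} ha => by
    simp only [Set.mem_ofPred_eq] at *; rw [map_inv, ha]

theorem mem_fx {e : MulAut W} {x : W} : x ∈ fx e ↔ e x = x := Iff.rfl

/-- At most one involution. -/
def Uq (X : Subgroup W) : Prop :=
  ∀ x ∈ X, ∀ y ∈ X, x ≠ 1 → y ≠ 1 → x ^ 2 = 1 → y ^ 2 = 1 → x = y

theorem Uq.mono {X Y : Subgroup W} (h : Uq X) (hY : Y ≤ X) : Uq Y :=
  fun x hx y hy => h x (hY hx) y (hY hy)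

/-- Restriction of an automorphism to an invariant subgroup. -/
noncomputable def rs [Finite W] (f : MulAut W) (X : Subgroup W) (h : ∀ x ∈ X, f x ∈ X) :
    MulAut X :=
  MulEquiv.ofBijective ((f.toMonoidHom.comp X.subtype).codRestrict X fun x => h x x.2)
    (Finite.injective_iff_bijective.mp fun a b hab =>
      Subtype.ext (f.injective (congrArg Subtype.val hab)))

theorem rs_apply [Finite W] (f : MulAut W) (X : Subgroup W) (h : ∀ x ∈ X, f x ∈ X) (x : X) :
    (rs f X h x : W) = f x := rfl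

theorem rs_pow_apply [Finite W] (f : MulAut W) (X : Subgroup W) (h : ∀ x ∈ X, f x ∈ X) (n : ℕ)
    (x : X) : (((rs f X h) ^ n) x : W) = (f ^ n) x := by
  induction n generalizing x with
  | zero => rfl
  | succ n ih => rw [pow_succ, pow_succ, MulAut.mul_apply, MulAut.mul_apply, ih, rs_apply]

theorem key [Finite W] (hW : IsPGroup 2 W) {p : ℕ} [hp : Fact p.Prime] (hp2 : p ≠ 2)
    {X : Subgroup W} (hX : Uq X) {f : MulAut W} {k : ℕ} (hf : f ^ p ^ k = 1)
    (hi : ∀ x ∈ X, f x ∈ X) (hn : ¬ X ≤ fx f) :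
    Nat.card X = 8 ∧ (∃ x ∈ X, ∃ y ∈ X, x * y ≠ y * x) ∧ p = 3 ∧
      ∀ x ∈ X, f x = x → x ^ 2 = 1 := by
  classical
  have : Fact (Nat.Prime 2) := ⟨Nat.prime_two⟩
  set σ := rs f X hi with hσ
  have hσp : σ ^ p ^ k = 1 := by
    ext x
    rw [hσ, rs_pow_apply, hf]; rfl
  have hσ1 : σ ≠ 1 := by
    intro h
    exact hn fun x hx => by
      have := congrArg (fun τ : MulAut X => (τ ⟨x, hx⟩ : W)) h
      exact this
  have hnot : ¬ IsPGroup 2 (MulAut X) := by
    intro h
    obtain ⟨m, hm⟩ := h σ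
    apply hσ1
    have hc : (p ^ k).Coprime (2 ^ m) :=
      Nat.Coprime.pow _ _ ((Nat.coprime_primes hp.out Nat.prime_two).mpr hp2)
    exact (pow_eq_one_iff_of_coprime hc).mp ⟨hσp, hm⟩
  have hX2 : IsPGroup 2 X := hW.to_subgroup X
  have hq : Nonempty (X ≃* QuaternionGroup 2) := by
    rcases Perm.isCyclic_or_quaternion_of_unique hX2 (fun x y hx hy hx2 hy2 => Subtype.ext
      (hX x x.2 y y.2 (fun e => hx (Subtype.ext e)) (fun e => hy (Subtype.ext e))
        (congrArg Subtype.val hx2) (congrArg Subtype.val hy2))) with h1 | ⟨n, ⟨e⟩⟩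
    · exact absurd (Perm.isPGroup_mulAut_of_isCyclic hX2) hnot
    rcases n with _ | n
    · exact ⟨e⟩
    · exact absurd (Perm.isPGroup_mulAut_quaternion e) hnot
  obtain ⟨e⟩ := hq
  have h8 : Nat.card X = 8 := by
    rw [Nat.card_congr e.toEquiv, Nat.card_eq_fintype_card, QuaternionGroup.card]
  have hnc : ∃ x ∈ X, ∃ y ∈ X, x * y ≠ y * x := by
    refine ⟨e.symm (QuaternionGroup.a 1), Subtype.prop _, e.symm (QuaternionGroup.xa 0),
      Subtype.prop _, fun h => ?_⟩
    have h' : e.symm (QuaternionGroup.a 1) * e.symm (QuaternionGroup.xa 0) =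
        e.symm (QuaternionGroup.xa 0) * e.symm (QuaternionGroup.a 1) := Subtype.ext h
    rw [← map_mul, ← map_mul] at h'
    exact absurd (e.symm.injective h') (by decide)
  -- count fixed points
  have : Fintype X := Fintype.ofFinite X
  have hmod := Equiv.Perm.card_fixedPoints_modEq (α := X)
    (f := (MulAction.toEndHom σ : Function.End X)) (p := p) (n := k) (by
      rw [← map_pow, hσp, map_one])
  have hc : Nat.card (Function.fixedPoints (MulAction.toEndHom σ : Function.End X)) =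
      Nat.card (fx σ) := rfl
  simp only [Fintype.card_eq_nat_card] at hmod
  rw [hc, h8] at hmod
  have hdvd : Nat.card (fx σ) ∣ 8 := h8 ▸ card_subgroup_dvd_card (fx σ)
  have hne8 : Nat.card (fx σ) ≠ 8 := by
    intro h
    apply hσ1
    have : fx σ = ⊤ := eq_top_of_card_eq _ (h.trans h8.symm)
    ext x
    have hx : x ∈ fx σ := this ▸ mem_top x
    exact congrArg Subtype.val hx
  have hne1 : Nat.card (fx σ) ≠ 1 := by
    intro h
    have hb : fx σ = ⊥ := card_eq_one.mp h
    obtain ⟨z, hz⟩ := exists_prime_orderOf_dvd_card' (G := X) 2 (by rw [h8]; norm_num)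
    have hz1 : z ≠ 1 := by rintro rfl; simp at hz
    have hz2 : z ^ 2 = 1 := hz ▸ pow_orderOf_eq_one z
    have : z ∈ fx σ := by
      refine Subtype.ext (hX _ (σ z).2 _ z.2 ?_ (fun e => hz1 (Subtype.ext e)) ?_
        (congrArg Subtype.val hz2))
      · intro e
        exact hz1 (σ.injective (by rw [map_one]; exact Subtype.ext e))
      · have : (σ z) ^ 2 = 1 := by rw [← map_pow, hz2, map_one]
        exact congrArg Subtype.val this
    rw [hb] at this
    exact hz1 (mem_bot.mp this)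
  have hpodd : ¬ p ∣ 4 := fun h => hp2 ((Nat.prime_dvd_prime_iff_eq hp.out Nat.prime_two).mp
    (hp.out.dvd_of_dvd_pow (n := 2) (by simpa using h)))
  have h2 : Nat.card (fx σ) = 2 := by
    have hle := Nat.le_of_dvd (by norm_num) hdvd
    generalize Nat.card (fx σ) = c at *
    interval_cases c <;> simp_all
    exact hpodd ((Nat.modEq_iff_dvd' (by norm_num)).mp hmod.symm)
  rw [h2] at hmod
  refine ⟨h8, hnc, ?_, fun x hx hfx => ?_⟩
  · have h6 : p ∣ 2 * 3 := (Nat.modEq_iff_dvd' (by norm_num)).mp hmod.symm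
    rcases (Nat.Prime.dvd_mul hp.out).mp h6 with h | h
    · exact absurd ((Nat.prime_dvd_prime_iff_eq hp.out Nat.prime_two).mp h) hp2
    · exact (Nat.prime_dvd_prime_iff_eq hp.out Nat.prime_three).mp h
  · have hm : (⟨x, hx⟩ : X) ∈ fx σ := Subtype.ext hfx
    have := pow_card_eq_one' (G := fx σ) (x := ⟨_, hm⟩)
    rw [h2] at this
    exact congrArg (fun y : fx σ => ((y : X) : W)) this

theorem card_sup_le [Finite W] {Z A B : Subgroup W} [B.Normal] (hZ : Nat.card Z = 2) (hA : Z ≤ A)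
    (hB : Z ≤ B) {a : ℕ} (ha : Nat.card A ≤ a) (hb : Nat.card B ≤ 8) :
    Nat.card (A ⊔ B : Subgroup W) ≤ 4 * a := by
  have h := Local.CD.card_sup_mul_card_inf_of_le_normalizer (H := A) (K := B)
    (by rw [normalizer_eq_top]; exact le_top)
  have h2 : 2 ≤ Nat.card (A ⊓ B : Subgroup W) := hZ ▸ card_le_of_le (le_inf hA hB)
  have h3 : Nat.card A * Nat.card B ≤ a * 8 := Nat.mul_le_mul ha hb
  have h4 : Nat.card (A ⊔ B : Subgroup W) * 2 ≤ _ := Nat.mul_le_mul_left _ h2
  omega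

/-- A noncyclic abelian group of order nine is covered by four cyclic subgroups. -/
theorem cover {E : Type*} [Group E] [Finite E] [IsMulCommutative E] (h9 : Nat.card E = 9)
    (hnc : ¬ IsCyclic E) : ∃ a b c d : E, a ≠ 1 ∧ b ≠ 1 ∧ c ≠ 1 ∧ d ≠ 1 ∧
      ∀ e : E, e ≠ 1 → a ∈ zpowers e ∨ b ∈ zpowers e ∨ c ∈ zpowers e ∨ d ∈ zpowers e := by
  have hcm : ∀ x y : E, x * y = y * x := fun x y => IsMulCommutative.is_comm.comm x y
  have h3 : ∀ x : E, x ^ 3 = 1 := by
    intro x
    have hd : orderOf x ∣ 3 ^ 2 := by have := orderOf_dvd_natCard x; rwa [h9] at this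
    obtain ⟨k, hk, hk'⟩ := (Nat.dvd_prime_pow Nat.prime_three).mp hd
    interval_cases k
    · rw [← orderOf_dvd_iff_pow_eq_one, hk']; norm_num
    · rw [← orderOf_dvd_iff_pow_eq_one, hk']; norm_num
    · exact absurd (isCyclic_of_orderOf_eq_card x (by rw [hk', h9]; norm_num)) hnc
  have : Fact (Nat.Prime 3) := ⟨Nat.prime_three⟩
  obtain ⟨a, ha⟩ := exists_prime_orderOf_dvd_card' (G := E) 3 (by rw [h9]; norm_num)
  have ha1 : a ≠ 1 := by rintro rfl; simp at ha
  have hca : Nat.card (zpowers a) = 3 := by rw [Nat.card_zpowers, ha]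
  obtain ⟨b, hb⟩ : ∃ b, b ∉ zpowers a := by
    by_contra h
    push Not at h
    have : zpowers a = ⊤ := (eq_top_iff' _).mpr h
    rw [this, card_top, h9] at hca
    omega
  have hb1 : b ≠ 1 := by rintro rfl; exact hb (one_mem _)
  have htop : zpowers a ⊔ zpowers b = ⊤ := by
    have hd : Nat.card (zpowers a ⊔ zpowers b : Subgroup E) ∣ 3 ^ 2 := by
      have := card_subgroup_dvd_card (zpowers a ⊔ zpowers b); rwa [h9] at this
    obtain ⟨k, hk, hk'⟩ := (Nat.dvd_prime_pow Nat.prime_three).mp hd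
    have hlt : Nat.card (zpowers a) < Nat.card (zpowers a ⊔ zpowers b : Subgroup E) := by
      refine lt_of_le_of_ne (card_le_of_le le_sup_left) fun h => hb ?_
      have := eq_of_le_of_card_ge (le_sup_left : zpowers a ≤ zpowers a ⊔ zpowers b) h.ge
      rw [this]
      exact mem_sup_right (mem_zpowers b)
    apply eq_top_of_card_eq
    rw [hca] at hlt
    interval_cases k <;> omega
  have hz : ∀ x y : E, y ∈ zpowers x → y = 1 ∨ y = x ∨ y = x⁻¹ := by
    intro x y hy
    obtain ⟨n, rfl⟩ := hy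
    have h3' : x ^ (3 : ℤ) = 1 := by exact_mod_cast h3 x
    have : x ^ n = x ^ (n % 3) := by
      conv_lhs => rw [← Int.mul_ediv_add_emod n 3, zpow_add, zpow_mul, h3', one_zpow, one_mul]
    have h0 := Int.emod_nonneg n (by norm_num : (3 : ℤ) ≠ 0)
    have h1 := Int.emod_lt_of_pos n (by norm_num : (0 : ℤ) < 3)
    simp only [this]
    generalize n % 3 = r at *
    interval_cases r
    · simp
    · simp
    · right; right
      rw [eq_inv_iff_mul_eq_one, ← zpow_add_one]; exact h3'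
  have : (zpowers b).Normal := ⟨fun x hx g => by rwa [hcm g x, mul_inv_cancel_right]⟩
  refine ⟨a, b, a * b, a * b⁻¹, ha1, hb1, fun h => hb ?_, fun h => hb ?_, fun e he => ?_⟩
  · rw [eq_inv_of_mul_eq_one_right h]; exact inv_mem (mem_zpowers a)
  · rw [← mul_inv_eq_one.mp h]; exact mem_zpowers a
  have hm : e ∈ ((zpowers a ⊔ zpowers b : Subgroup E) : Set E) := by rw [htop]; trivial
  rw [mul_normal] at hm
  obtain ⟨x, hx, y, hy, rfl⟩ := hm
  have hi : ∀ u v : E, v = u⁻¹ → v ∈ zpowers u := fun u v h => h ▸ inv_mem (mem_zpowers u)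
  rcases hz a x hx with rfl | rfl | rfl <;> rcases hz b y hy with rfl | rfl | rfl
  · simp at he
  · simp
  · exact Or.inr (Or.inl (hi _ _ (by simp)))
  · simp
  · simp
  · simp
  · exact Or.inl (hi _ _ (by simp))
  · exact Or.inr (Or.inr (Or.inr (hi _ _ (by simp [hcm]))))
  · exact Or.inr (Or.inr (Or.inl (hi _ _ (by simp [hcm]))))

/-- Let p be an odd prime, W a finite 2-group and E a non-cyclic abelian p-subgroup of Aut(W) such that, for every nontrivial e ∈ E, the fixed points of e in W contain at most one involution. Then E has order 9, W is extraspecial of order 2⁵, 2⁷ or 2⁹, and the common fixed points of E in W form exactly the centre Z(W). -/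
theorem result {W : Type*} [Group W] [Finite W] (hW : IsPGroup 2 W) {p : ℕ} [Fact p.Prime] (hp : p ≠ 2) (E : Subgroup (MulAut W)) (hE : IsPGroup p ↥E) (hab : IsMulCommutative ↥E) (hnc : ¬ IsCyclic ↥E) (hfix : ∀ e ∈ E, e ≠ 1 → ∀ x y : W, orderOf x = 2 → orderOf y = 2 → e x = x → e y = y → x = y) : Nat.card ↥E = 9 ∧ Cfsg.IsExtraspecial 2 W ∧ (Nat.card W = 2 ^ 5 ∨ Nat.card W = 2 ^ 7 ∨ Nat.card W = 2 ^ 9) ∧ {x : W | ∀ e ∈ E, e x = x} = (Subgroup.center W : Set W) := by
  have : Fact (Nat.Prime 2) := ⟨Nat.prime_two⟩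
  have hcm : ∀ e ∈ E, ∀ f ∈ E, e * f = f * e := fun e he f hf =>
    congrArg Subtype.val (hab.is_comm.comm (⟨e, he⟩ : E) ⟨f, hf⟩)
  have huq : ∀ e ∈ E, e ≠ 1 → Uq (fx e) := fun e he h1 x hx y hy hx1 hy1 hx2 hy2 =>
    hfix e he h1 x y (orderOf_eq_prime hx2 hx1) (orderOf_eq_prime hy2 hy1) hx hy
  have hinv : ∀ e ∈ E, ∀ f ∈ E, ∀ x ∈ fx e, f x ∈ fx e := fun e he f hf x hx => by
    rw [mem_fx, ← MulAut.mul_apply, hcm e he f hf, MulAut.mul_apply, mem_fx.mp hx]
  have hK : ∀ {X : Subgroup W}, Uq X → ∀ f ∈ E, (∀ x ∈ X, f x ∈ X) → ¬ X ≤ fx f →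
      Nat.card X = 8 ∧ (∃ x ∈ X, ∃ y ∈ X, x * y ≠ y * x) ∧ p = 3 ∧
        ∀ x ∈ X, f x = x → x ^ 2 = 1 := fun {X} hX f hf hi hn => by
    obtain ⟨k, hk⟩ := hE ⟨f, hf⟩
    exact key hW hp hX (congrArg Subtype.val hk) hi hn
  have hgen : ∀ {H U : Subgroup W}, (∀ f ∈ E, ∀ x ∈ H, f x ∈ H) →
      (∀ e ∈ E, e ≠ 1 → H ⊓ fx e ≤ U) → H ≤ U := fun {H U} hH hU => by
    refine Solv.Act.le_of_forall_fix_zpowers (φ := MonoidHom.id (MulAut W)) (B := E) hnc hH ?_
      fun b hb hb1 x hx => hU b hb hb1 ⟨hx.1, Solv.Act.mem_fix_zpowers.mp hx.2⟩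
    exact IsPGroup.coprime_card_of_ne p 2 hp _ _ hE (hW.to_subgroup H)
  -- every non-identity element acts non-trivially on some `fx e`
  have hex : ∀ f ∈ E, f ≠ 1 → ∃ e ∈ E, e ≠ 1 ∧ ¬ fx e ≤ fx f := fun f hf hf1 => by
    by_contra h
    push Not at h
    apply hf1
    ext x
    exact hgen (H := ⊤) (fun _ _ _ _ => mem_top _)
      (fun e he he1 => inf_le_right.trans (h e he he1)) (mem_top x)
  obtain ⟨f₀, hf₀, hf₀1⟩ : ∃ f ∈ E, f ≠ 1 := by
    by_contra h
    push Not at h
    apply hnc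
    rw [(eq_bot_iff_forall E).mpr h]
    infer_instance
  obtain ⟨e₁, he₁, he₁1, hn₁⟩ := hex f₀ hf₀ hf₀1
  obtain ⟨e₂, he₂, he₂1, hn₂⟩ := hex e₁ he₁ he₁1
  obtain ⟨hc₁, hq₁, rfl, hs₁⟩ := hK (huq e₁ he₁ he₁1) f₀ hf₀ (hinv e₁ he₁ f₀ hf₀) hn₁
  obtain ⟨hc₂, -, -, -⟩ := hK (huq e₂ he₂ he₂1) e₁ he₁ (hinv e₂ he₂ e₁ he₁) hn₂
  -- elements of order four
  have hfour : ∀ e ∈ E, e ≠ 1 → Nat.card (fx e) = 8 → ∃ x ∈ fx e, x ^ 2 ≠ 1 := by
    intro e he h1 h8
    by_contra h
    push Not at h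
    have h3 : 2 < Nat.card (fx e) := by omega
    have := Fintype.ofFinite (fx e)
    rw [Nat.card_eq_fintype_card] at h3
    have := Fintype.two_lt_card_iff.mp h3
    obtain ⟨a, b, c, hab, hac, hbc⟩ := this
    have hu : ∀ u v : fx e, u ≠ 1 → v ≠ 1 → u = v := fun u v hu hv => Subtype.ext
      (huq e he h1 u u.2 v v.2 (fun e => hu (Subtype.ext e)) (fun e => hv (Subtype.ext e))
        (h u u.2) (h v v.2))
    by_cases ha : a = 1
    · exact hbc (hu b c (fun h => hab (ha.trans h.symm)) fun h => hac (ha.trans h.symm))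
    by_cases hb : b = 1
    · exact hac (hu a c ha fun h => hbc (hb.trans h.symm))
    · exact hab (hu a b ha hb)
  have hidx : ∀ e ∈ E, Nat.card (fx e) = 8 → ∀ x ∈ fx e, (MulAction.stabilizer E x).index ≤ 3 := by
    intro e he h8 x hx
    obtain ⟨k, hk⟩ := hE.index (MulAction.stabilizer E x)
    have hle : (MulAction.stabilizer E x).index ≤ 8 := by
      rw [MulAction.index_stabilizer, ← h8]
      refine Set.ncard_le_ncard (t := (fx e : Set W)) ?_ (Set.toFinite _)
      rintro _ ⟨f, rfl⟩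
      exact hinv e he f f.2 x hx
    rw [hk] at hle ⊢
    rcases k with _ | _ | k
    · norm_num
    · norm_num
    · have : 3 ^ 2 ≤ 3 ^ (k + 1 + 1) := Nat.pow_le_pow_right (by norm_num) (by omega)
      omega
  have h9 : Nat.card E = 9 := by
    obtain ⟨x₁, hx₁, hx₁2⟩ := hfour e₁ he₁ he₁1 hc₁
    obtain ⟨x₂, hx₂, hx₂2⟩ := hfour e₂ he₂ he₂1 hc₂
    have hb : MulAction.stabilizer E x₁ ⊓ MulAction.stabilizer E x₂ = ⊥ := by
      rw [eq_bot_iff_forall]
      rintro ⟨f, hf⟩ ⟨h1, h2⟩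
      by_contra hf1
      have hf1' : f ≠ 1 := fun h => hf1 (Subtype.ext h)
      have k1 : fx e₁ ≤ fx f := by
        by_contra hn
        exact hx₁2 ((hK (huq e₁ he₁ he₁1) f hf (hinv e₁ he₁ f hf) hn).2.2.2 x₁ hx₁ h1)
      have k2 : fx e₂ ≤ fx f := by
        by_contra hn
        exact hx₂2 ((hK (huq e₂ he₂ he₂1) f hf (hinv e₂ he₂ f hf) hn).2.2.2 x₂ hx₂ h2)
      have k3 := (hK (huq f hf hf1') f₀ hf₀ (hinv f hf f₀ hf₀) fun h => hn₁ (k1.trans h)).1
      have k4 := eq_of_le_of_card_ge k1 (by rw [k3, hc₁])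
      exact hn₂ (k4 ▸ k2)
    have hle : Nat.card E ≤ 9 := by
      rw [← index_bot, ← hb]
      exact index_inf_le.trans (Nat.mul_le_mul (hidx e₁ he₁ hc₁ x₁ hx₁) (hidx e₂ he₂ hc₂ x₂ hx₂))
    obtain ⟨k, hk⟩ := IsPGroup.iff_card.mp hE
    rcases k with _ | _ | _ | k
    · exact absurd (by rw [card_eq_one.mp hk]; infer_instance) hnc
    · exact absurd (isCyclic_of_prime_card (p := 3) (by simpa using hk)) hnc
    · simpa using hk
    · have : 3 ^ 3 ≤ 3 ^ (k + 1 + 1 + 1) := Nat.pow_le_pow_right (by norm_num) (by omega)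
      omega
  -- the involution
  obtain ⟨⟨z, hz⟩, hzo⟩ := exists_prime_orderOf_dvd_card' (G := fx e₁) 2 (by rw [hc₁]; norm_num)
  rw [← orderOf_coe] at hzo
  replace hzo : orderOf z = 2 := hzo
  have hz1 : z ≠ 1 := by rintro rfl; simp at hzo
  have hz2 : z ^ 2 = 1 := hzo ▸ pow_orderOf_eq_one z
  have hfz : ∀ x : W, (∀ e ∈ E, e x = x) → x ∈ zpowers z := fun x hx => by
    by_cases hx1 : x = 1
    · rw [hx1]; exact one_mem _
    rw [huq e₁ he₁ he₁1 x (hx e₁ he₁) z hz hx1 hz1 (hs₁ x (hx e₁ he₁) (hx f₀ hf₀)) hz2]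
    exact mem_zpowers z
  have habel : ∀ A : Subgroup W, (∀ f ∈ E, ∀ x ∈ A, f x ∈ A) →
      (∀ x ∈ A, ∀ y ∈ A, x * y = y * x) → A ≤ zpowers z := fun A hA hc => by
    refine hgen hA fun e he he1 x hx => hfz x fun f hf => ?_
    by_contra hfx
    obtain ⟨-, ⟨u, hu, v, hv, huv⟩, -⟩ := hK ((huq e he he1).mono (inf_le_right : A ⊓ fx e ≤ _))
      f hf (fun y hy => ⟨hA f hf y hy.1, hinv e he f hf y hy.2⟩) fun h => hfx (h hx)
    exact huv (hc u hu.1 v hv.1)
  have hchar : ∀ (A : Subgroup W) [A.Characteristic], ∀ f ∈ E, ∀ x ∈ A, f x ∈ A :=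
    fun A hA f _ x hx => (characteristic_iff_le_comap.mp hA f) hx
  have hzc : Nat.card (zpowers z) = 2 := by rw [Nat.card_zpowers, hzo]
  have hnt : Nontrivial W := ⟨z, 1, hz1⟩
  have hZ : center W = zpowers z := by
    have h1 := habel (center W) (hchar _) fun x _ y hy => mem_center_iff.mp hy x
    refine eq_of_le_of_card_ge h1 ?_
    have := hW.center_nontrivial
    have := Finite.one_lt_card (α := center W)
    omega
  have hZc : Nat.card (center W) = 2 := hZ ▸ hzc
  have hcl : _root_.commutator W ≤ center W := by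
    by_contra h
    obtain ⟨x, hx, hxZ, -, hxc⟩ := Solv.PG.exists_normal_step_elt hW h
    apply hxZ
    rw [hZ]
    refine habel (_root_.commutator W ⊓ Subgroup.upperCentralSeries W 2) (hchar _) ?_ ⟨hx, ?_⟩
    · rintro a ⟨-, ha⟩ b ⟨hb, -⟩
      have ha' : ∀ y, ⁅a, y⁆ ∈ center W := fun y => by
        have := Subgroup.mem_upperCentralSeries_succ_iff.mp ha y
        rwa [Subgroup.upperCentralSeries_one] at this
      let ψ : W →* center W :=
        { toFun := fun y => ⟨⁅a, y⁆, ha' y⟩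
          map_one' := Subtype.ext (by simp)
          map_mul' := fun u v => Subtype.ext (by
            have := mem_center_iff.mp (ha' v) u
            change ⁅a, u * v⁆ = ⁅a, u⁆ * ⁅a, v⁆
            calc ⁅a, u * v⁆ = ⁅a, u⁆ * (u * ⁅a, v⁆) * u⁻¹ := by
                  simp only [commutatorElement_def]; group
              _ = _ := by rw [this]; group) }
      have hk : _root_.commutator W ≤ ψ.ker := by
        rw [_root_.commutator_def, commutator_le]
        intro u _ v _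
        rw [MonoidHom.mem_ker, map_commutatorElement, commutatorElement_eq_one_iff_mul_comm]
        exact Subtype.ext (mem_center_iff.mp (ψ v).2 _)
      have h1 : ψ b = 1 := hk hb
      exact commutatorElement_eq_one_iff_mul_comm.mp (congrArg Subtype.val h1)
    · exact Subgroup.mem_upperCentralSeries_succ_iff.mpr fun y => by
        rw [Subgroup.upperCentralSeries_one]; exact hxc y
  have hpre : Trans.ES.IsPre 2 W := ⟨hZc, Trans.ES.classTwo_iff.mpr hcl⟩
  have hzf : ∀ e ∈ E, center W ≤ fx e := fun e he => by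
    rw [hZ, zpowers_le]
    refine huq e₁ he₁ he₁1 _ (hinv e₁ he₁ e he z hz) z hz ?_ hz1 ?_ hz2
    · exact fun h => hz1 (e.injective (by rw [h, map_one]))
    · rw [← map_pow, hz2, map_one]
  refine ⟨h9, hpre.isExtraspecial ?_, ?_, ?_⟩
  · intro h
    obtain ⟨x, -, y, -, hxy⟩ := hq₁
    exact hxy (mem_center_iff.mp (h ▸ mem_top y) x)
  · obtain ⟨n, hn⟩ := hpre.exists_card_eq
    have hlow : 8 < Nat.card W := by
      rw [← hc₁, ← card_top (G := W)]
      refine lt_of_le_of_ne (card_le_of_le le_top) fun h => hn₂ ?_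
      rw [eq_of_le_of_card_ge le_top h.ge]
      exact le_top
    have hnorm : ∀ e ∈ E, (fx e).Normal := fun e he =>
      Normal.of_commutator_le _ (hcl.trans (hzf e he))
    have h8 : ∀ e ∈ E, e ≠ 1 → Nat.card (fx e) ≤ 8 := fun e he he1 => by
      by_cases h : ∀ f ∈ E, fx e ≤ fx f
      · have : fx e ≤ zpowers z := fun x hx => hfz x fun f hf => h f hf hx
        have := card_le_of_le this
        omega
      · push Not at h
        obtain ⟨f, hf, hn⟩ := h
        exact (hK (huq e he he1) f hf (hinv e he f hf) hn).1.le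
    have hup : Nat.card W ≤ 4 * (4 * (4 * 8)) := by
      obtain ⟨a, b, c, d, ha, hb, hc, hd, hcov⟩ := cover h9 hnc
      have hle : ∀ u e : E, u ∈ zpowers e → fx (e : MulAut W) ≤ fx (u : MulAut W) := by
        rintro _ e ⟨n, rfl⟩ x hx
        exact MulAction.mem_fixedBy.mp
          (MulAction.fixedBy_subset_fixedBy_zpow W e n (MulAction.mem_fixedBy.mpr hx))
      have ht : (⊤ : Subgroup W) ≤ fx (a : MulAut W) ⊔ fx (b : MulAut W) ⊔ fx (c : MulAut W) ⊔
          fx (d : MulAut W) := by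
        refine hgen (fun _ _ _ _ => mem_top _) fun e he he1 => inf_le_right.trans ?_
        rcases hcov ⟨e, he⟩ (fun h => he1 (congrArg Subtype.val h)) with h | h | h | h
        · exact (hle _ _ h).trans (le_sup_of_le_left (le_sup_of_le_left le_sup_left))
        · exact (hle _ _ h).trans (le_sup_of_le_left (le_sup_of_le_left le_sup_right))
        · exact (hle _ _ h).trans (le_sup_of_le_left le_sup_right)
        · exact (hle _ _ h).trans le_sup_right
      have := hnorm _ b.2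
      have := hnorm _ c.2
      have := hnorm _ d.2
      have hs : ∀ u : E, u ≠ 1 → Nat.card (fx (u : MulAut W)) ≤ 8 := fun u hu =>
        h8 u u.2 fun h => hu (Subtype.ext h)
      rw [← card_top]
      refine (card_le_of_le ht).trans (card_sup_le hZc ?_ (hzf _ d.2) (card_sup_le hZc ?_
        (hzf _ c.2) (card_sup_le hZc (hzf _ a.2) (hzf _ b.2) (hs a ha) (hs b hb)) (hs c hc))
        (hs d hd))
      · exact le_sup_of_le_right (hzf _ c.2)
      · exact le_sup_of_le_right (hzf _ b.2)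
    rw [hn] at hlow hup ⊢
    rcases n with _ | _ | _ | _ | _ | n
    · omega
    · omega
    · simp
    · simp
    · simp
    · have : 2 ^ 11 ≤ 2 ^ (2 * (n + 1 + 1 + 1 + 1 + 1) + 1) :=
        Nat.pow_le_pow_right (by norm_num) (by omega)
      omega
  · ext x
    exact ⟨fun hx => hZ ▸ hfz x hx, fun hx e he => hzf e he hx⟩

end Cfsg.Agent.S2934
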