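import Cfsg.Statements.S1480
import Cfsg.Agent.Trans.Transitivity

set_option autoImplicit false
open Cfsg

namespace Cfsg.Agent.S1480

/-- Let G be a finite group and p a prime such that the normalizer of every nontrivial p-subgroup of G is p-constrained; if p = 2 assume also that the Sylow 2-subgroups of G have nilpotency class at most 2. Let E be an abelian p-subgroup containing an elementary abelian subgroup of order p ^ 3 and containing every element of p-power order of C_G(E). Then for every prime q ≠ p, any two maximal E-invariant q-subgroups of G are conjugate by an element of O_{p'}(C_G(E)). -/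
theorem result {G : Type*} [Group G] [Finite G] (p : ℕ) [Fact p.Prime]
    (hloc : ∀ T : Subgroup G, IsPGroup p T → T ≠ ⊥ → Cfsg.IsPConstrained p ↥(Subgroup.normalizer (T : Set G)))
    (h2 : p = 2 → ∀ S : Sylow p G, Group.IsNilpotent (S : Subgroup G) ∧ Group.nilpotencyClass (S : Subgroup G) ≤ 2)
    (E : Subgroup G) (hEp : IsPGroup p E) (hEc : IsMulCommutative E) (hE3 : ¬ Cfsg.PRankLE p 2 E)
    (hEfull : ∀ x ∈ Subgroup.centralizer (E : Set G), IsPGroup p (Subgroup.zpowers x) → x ∈ E)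
    (q : ℕ) [Fact q.Prime] (hqp : q ≠ p) :
    ∀ Q₁ ∈ Cfsg.maxInvSubgroups ⊤ E {q}, ∀ Q₂ ∈ Cfsg.maxInvSubgroups ⊤ E {q},
        ∃ k ∈ Cfsg.piCoreOf (Cfsg.primesNotDvd p) (Subgroup.centralizer (E : Set G)), Q₂ = Q₁.map (MulAut.conj k).toMonoidHom := by
  open Cfsg.Lib.FT Cfsg.Lib.Solv Pointwise in
  · have hp : p.Prime := Fact.out
    obtain ⟨A, hA1, hA2, hA3⟩ : ∃ A : Subgroup E, IsMulCommutative A ∧ (∀ a ∈ A, a ^ p = 1) ∧
        p ^ 2 < Nat.card A := by
      by_contra hcon
      push Not at hcon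
      exact hE3 hcon
    have hB : ∀ b ∈ A.map E.subtype, b ^ p = 1 := by
      rintro _ ⟨a, ha, rfl⟩
      exact congrArg Subtype.val (hA2 a ha)
    have hBE : A.map E.subtype ≤ E := Subgroup.map_subtype_le _
    have h3 : p ^ 3 ≤ Nat.card (A.map E.subtype) := by
      obtain ⟨m, hm⟩ := pgroup_card_pow (hEp.to_le hBE)
      rw [hm]
      rw [← Subgroup.card_map_of_injective E.subtype_injective, hm] at hA3
      exact Nat.pow_le_pow_right hp.pos ((Nat.pow_lt_pow_iff_right hp.one_lt).1 hA3)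
    have key := thompson_transitivity_constrained hloc (fun h S => by
      obtain ⟨h1, h4⟩ := h2 h S
      exact Subgroup.lowerCentralSeries_eq_bot_of_nilpotencyClass_le h4) hEp hEc hBE hB h3 hEfull hqp
    intro Q₁ h₁ Q₂ h₂
    obtain ⟨k, hk, e⟩ := key Q₁ h₁ Q₂ h₂
    refine ⟨k, ?_, e⟩
    rwa [eq_in_pcore (σ := ({p}ᶜ : Set ℕ))]
    intro r hr _
    exact ⟨fun h e => h.2 (e ▸ dvd_rfl), fun h => ⟨hr, fun hd => h ((Nat.prime_dvd_prime_iff_eq hr hp).1 hd)⟩⟩

end Cfsg.Agent.S1480
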