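import Cfsg.Statements.S4501
import Cfsg.Agent.S0483
import Cfsg.Agent.S3331
import Cfsg.Agent.S0253
import Cfsg.Agent.PrimeOne.SelfCent
import Cfsg.Agent.Class.PGL2Sub
import Cfsg.Agent.Block.PrimeSylow
import Cfsg.Agent.Solv.Cores
import Mathlib.GroupTheory.SpecificGroups.KleinFour

set_option autoImplicit false
open Cfsg

namespace Cfsg.Agent.S4501

/-- Let G be a non-abelian finite simple group and p, q distinct primes. If the order of G is 4·p^a·q^b with a ≤ 2, then G is isomorphic to the alternating group of degree 5. If the order of G is 3·p^a·q^b with a ≤ 2, then G is isomorphic to the alternating group of degree 5 or to PSL(2,7). -/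
theorem result {G : Type*} [Group G] [Finite G] [IsSimpleGroup G] (hna : ∃ x y : G, x * y ≠ y * x) (p q a b : ℕ) (hp : p.Prime) (hq : q.Prime) (hpq : p ≠ q) (ha : a ≤ 2) : (Nat.card G = 4 * p ^ a * q ^ b → Nonempty (G ≃* alternatingGroup (Fin 5))) ∧ (Nat.card G = 3 * p ^ a * q ^ b → Nonempty (G ≃* alternatingGroup (Fin 5)) ∨ Nonempty (G ≃* Matrix.ProjectiveSpecialLinearGroup (Fin 2) (ZMod 7))) := by

  obtain ⟨x, y, hxy⟩ := hna
  have hns : ¬ Group.IsSolvable G := fun h => hxy (IsSimpleGroup.comm_iff_isSolvable.2 h x y)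
  have hB : ∀ r s : ℕ, r.Prime → s.Prime → (∀ t, t.Prime → t ∣ Nat.card G → t = r ∨ t = s) →
      False := fun r s hr hs h => hns (Cfsg.Lib.Char.isSolvable_of_prime_dvd_card hr hs G h)
  have hd : ∀ c t : ℕ, t.Prime → t ∣ c * p ^ a * q ^ b → t ∣ c ∨ t = p ∨ t = q := fun c t ht h => by
    rcases (Nat.Prime.dvd_mul ht).1 h with h | h
    · rcases (Nat.Prime.dvd_mul ht).1 h with h | h
      · exact Or.inl h
      · exact Or.inr (Or.inl ((Nat.prime_dvd_prime_iff_eq ht hp).1 (ht.dvd_of_dvd_pow h)))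
    · exact Or.inr (Or.inr ((Nat.prime_dvd_prime_iff_eq ht hq).1 (ht.dvd_of_dvd_pow h)))
  have hne : ∀ r k : ℕ, r.Prime → Nat.card G = r ^ k * p ^ a * q ^ b → p ≠ r ∧ q ≠ r :=
    fun r k hr h => by
      by_contra h1
      refine hB p q hp hq fun t ht h2 => ?_
      rcases hd _ t ht (h ▸ h2) with h3 | h3
      · have := (Nat.prime_dvd_prime_iff_eq ht hr).1 (ht.dvd_of_dvd_pow h3)
        omega
      · exact h3
  have hq' : ∀ (N : Subgroup G) [N.Normal], N ≠ ⊤ → Nonempty (G ≃* G ⧸ N) := fun N hN h => by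
    obtain rfl := (IsSimpleGroup.eq_bot_or_eq_top_of_normal N hN).resolve_right h
    exact ⟨QuotientGroup.quotientBot.symm⟩
  refine ⟨fun h => ?_, fun h => ?_⟩
  · obtain ⟨hp2, hq2⟩ := hne 2 2 Nat.prime_two h
    have ho : Odd (p ^ a * q ^ b) := (hp.odd_of_ne_two hp2).pow.mul (hq.odd_of_ne_two hq2).pow
    obtain ⟨S⟩ : Nonempty (Sylow 2 G) := inferInstance
    have hS : Nat.card S = 2 ^ 2 := by
      rw [S.card_eq_multiplicity, h, mul_assoc, Nat.factorization_mul (by norm_num) ho.pos.ne',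
        Finsupp.add_apply, Nat.factorization_eq_zero_of_not_dvd ho.not_two_dvd_nat,
        show 4 = 2 ^ 2 by rfl, Nat.factorization_pow_self Nat.prime_two]
    have hperf : commutator G = ⊤ :=
      (IsSimpleGroup.eq_bot_or_eq_top_of_normal _ inferInstance).resolve_left fun h' =>
        hxy (((commutator_eq_bot_iff G).1 h').1.1 x y)
    have hc : ¬ IsCyclic S := fun hc => by
      have hm : (Nat.card G).minFac = 2 := (Nat.minFac_eq_two_iff _).2 (by rw [h, mul_assoc]; omega)
      have h1 := (hc.isComplement' hm).symm.index_eq_card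
      rcases IsSimpleGroup.eq_bot_or_eq_top_of_normal _ (inferInstance :
        (MonoidHom.transferSylow S (hc.normalizer_le_centralizer hm)).ker.Normal) with h2 | h2
      · rw [h2, Subgroup.index_bot, hS] at h1
        exact hB 2 2 Nat.prime_two Nat.prime_two fun t ht h3 => Or.inl
          ((Nat.prime_dvd_prime_iff_eq ht Nat.prime_two).1 (ht.dvd_of_dvd_pow (h1 ▸ h3)))
      · rw [h2, Subgroup.index_top, hS] at h1
        omega
    have : IsKleinFour S := ⟨hS, (not_isCyclic_iff_exponent_eq_prime Nat.prime_two hS).1 hc⟩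
    have : Group.IsPerfect G := ⟨hperf⟩
    obtain ⟨e⟩ := hq' (Cfsg.oddCore G) fun h' => by
      have h1 := Cfsg.Lib.Solv.odd_card_oddCore G
      rw [h', Subgroup.card_top, h, mul_assoc] at h1
      exact absurd (Nat.odd_mul.1 h1).1 (by decide)
    rcases Cfsg.Agent.S0483.result S 2 le_rfl IsKleinFour.nonempty_mulEquiv with
      ⟨F, i1, i2, ⟨m, hm⟩, h3, ⟨f⟩⟩ | ⟨⟨f⟩⟩
    · have h1 := Cfsg.Lib.Class.gcd_mul_card_PSL2 (F := F)
      rw [← Nat.card_congr (e.trans f).toEquiv, h, Nat.card_eq_fintype_card, hm,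
        Nat.add_sub_cancel, Nat.gcd_mul_right_right] at h1
      have h2 : (2 * m + 1) * m * (m + 1) = 2 * (p ^ a * q ^ b) := by nlinarith
      have h4 : ∀ n, 2 < n → n ∣ (2 * m + 1) * m * (m + 1) → p ∣ n ∨ q ∣ n := fun n hn h' => by
        by_contra h5
        rw [not_or] at h5
        have := Nat.le_of_dvd two_pos ((Nat.Coprime.mul_right
          (Nat.Coprime.pow_right a ((Nat.Prime.coprime_iff_not_dvd hp).2 h5.1).symm)
          (Nat.Coprime.pow_right b ((Nat.Prime.coprime_iff_not_dvd hq).2 h5.2).symm)).dvd_of_dvd_mul_right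
          (h2 ▸ h'))
        omega
      have h5 : m = 2 := by
        by_contra h5
        have k1 := h4 (2 * m + 1) (by omega) ((dvd_mul_right _ _).mul_right _)
        have k2 := h4 m (by omega) ((dvd_mul_left _ _).mul_right _)
        have k3 := h4 (m + 1) (by omega) (dvd_mul_left _ _)
        have k4 : ∀ s : ℕ, s.Prime → (s ∣ 2 * m + 1 → ¬ s ∣ m) ∧ (s ∣ 2 * m + 1 → ¬ s ∣ m + 1) ∧
            (s ∣ m → ¬ s ∣ m + 1) := fun s hs =>
          ⟨fun u v => hs.not_dvd_one ((Nat.dvd_add_right (v.mul_left 2)).1 u),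
            fun u v => hs.not_dvd_one ((Nat.dvd_add_right u).1 (by
              rw [show 2 * m + 1 + 1 = 2 * (m + 1) by ring]; exact v.mul_left 2)),
            fun u v => hs.not_dvd_one ((Nat.dvd_add_right u).1 v)⟩
        obtain ⟨a1, a2, a3⟩ := k4 p hp
        obtain ⟨b1, b2, b3⟩ := k4 q hq
        rcases k1 with k1 | k1 <;> rcases k2 with k2 | k2 <;> rcases k3 with k3 | k3
        exacts [a1 k1 k2, a1 k1 k2, a2 k1 k3, b3 k2 k3, a3 k2 k3, b2 k1 k3, b1 k1 k2, b1 k1 k2]
      obtain ⟨g⟩ := Cfsg.Agent.S0253.result (F := F) (by omega)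
      exact ⟨(e.trans f).trans g⟩
    · have h1 := Nat.card_congr (e.trans f).toEquiv
      rw [h, nat_card_alternatingGroup, Nat.card_eq_fintype_card, Fintype.card_fin, mul_assoc] at h1
      obtain ⟨k, hk⟩ := ho
      rw [hk] at h1
      simp [Nat.factorial] at h1
      omega
  · obtain ⟨hp3, hq3⟩ := hne 3 1 Nat.prime_three (by simpa using h)
    have := Fact.mk Nat.prime_three
    obtain ⟨z, hz⟩ := exists_prime_orderOf_dvd_card' (G := G) 3 (h ▸ (dvd_mul_right _ _).mul_right _)
    have hC := Cfsg.Lib.PrimeOne.centralizer_eq_zpowers_of_card (a := a) (b := b) hp hq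
      Nat.prime_three hp3 hq3 (by rw [h]; ring) hz
    rcases Cfsg.Agent.S3331.result (Subgroup.zpowers z) (by rw [Nat.card_zpowers, hz])
      (by rw [Cfsg.Lib.Block.PS.centralizer_zpowers, hC]) with
      ⟨N, hN, -, h1, h2⟩ | ⟨N, hN, h1, -, ⟨f⟩⟩ | h1
    · exfalso
      obtain ⟨e⟩ := hq' N fun h' => by
        rw [h', Subgroup.card_top, h, mul_assoc] at h1
        exact absurd (Nat.Coprime.eq_one_of_dvd h1.symm (dvd_mul_right _ _)) (by decide)
      refine hB 2 3 Nat.prime_two Nat.prime_three fun t ht h3 => ?_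
      have h4 : t ∣ 2 * 3 := by
        rw [Nat.card_congr e.toEquiv] at h3
        rcases h2 with h2 | ⟨⟨f⟩⟩
        · exact (h2 ▸ h3).mul_left 2
        · rwa [Nat.card_congr f.toEquiv, Nat.card_perm, Nat.card_eq_fintype_card,
            Fintype.card_fin] at h3
      exact ((Nat.Prime.dvd_mul ht).1 h4).imp (Nat.prime_dvd_prime_iff_eq ht Nat.prime_two).1
        (Nat.prime_dvd_prime_iff_eq ht Nat.prime_three).1
    · obtain ⟨e⟩ := hq' N fun h' => by
        subst h'
        exact hxy (congrArg Subtype.val (h1.1.1 ⟨x, trivial⟩ ⟨y, trivial⟩))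
      exact Or.inl ⟨e.trans f⟩
    · exact Or.inr h1

end Cfsg.Agent.S4501
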