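import Cfsg.Statements.S0561
import Cfsg.Agent.Solv.Factor
import Cfsg.Agent.Solv.Hall

set_option autoImplicit false
open Pointwise
open Cfsg

namespace Cfsg.Agent.S0561

open Cfsg.Lib.Solv

/-- Ambient form: `A`, `B` Hall subgroups of a solvable group, normalised by the factors. -/
theorem exists_coe_eq_mul {G : Type*} [Group G] [Finite G] [Group.IsSolvable G]
    {H K A B : Subgroup G} (hHK : ∀ g : G, ∃ h ∈ H, ∃ k ∈ K, g = h * k)
    (hA : H ≤ Subgroup.normalizer (A : Set G)) (hB : K ≤ Subgroup.normalizer (B : Set G))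
    (hAh : (Nat.card A).Coprime A.index) (hBh : (Nat.card B).Coprime B.index) :
    ∃ S : Subgroup G, (S : Set G) = (A : Set G) * (B : Set G) := by
  have hdvd : Nat.lcm (Nat.card A) (Nat.card B) ∣ Nat.card G :=
    Nat.lcm_dvd A.card_subgroup_dvd_card B.card_subgroup_dvd_card
  obtain ⟨n, hn⟩ := hdvd
  have key : ∀ C : Subgroup G, (Nat.card C).Coprime C.index →
      Nat.card C ∣ Nat.lcm (Nat.card A) (Nat.card B) → (Nat.card C).Coprime n := by
    intro C hC ⟨k, hk⟩
    refine Nat.Coprime.coprime_dvd_right ⟨k, ?_⟩ hC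
    apply Nat.eq_of_mul_eq_mul_left (Nat.card_pos (α := C))
    rw [C.card_mul_index, hn, hk]; ring
  have hAn := key A hAh (Nat.dvd_lcm_left _ _)
  have hBn := key B hBh (Nat.dvd_lcm_right _ _)
  have hcop : (Nat.lcm (Nat.card A) (Nat.card B)).Coprime n :=
    Nat.Coprime.coprime_dvd_left (Nat.lcm_dvd_mul _ _) (Nat.Coprime.mul_left hAn hBn)
  obtain ⟨S, hS⟩ := exists_isPiHall {p | p ∣ n}ᶜ G
  obtain ⟨u, hu⟩ := exists_conj_le_isPiHall hS (K := A) (isPiNum_compl_setOf_dvd_iff.mpr hAn)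
  obtain ⟨v, hv⟩ := exists_conj_le_isPiHall hS (K := B) (isPiNum_compl_setOf_dvd_iff.mpr hBn)
  obtain ⟨g, h1, h2⟩ := exists_conj_pair_of_le_normalizer hHK hA hB u v
  rw [h1, conj_smul_le_iff_le_conj_inv_smul] at hu
  rw [h2, conj_smul_le_iff_le_conj_inv_smul] at hv
  refine ⟨_, coe_eq_mul_of_card_le hu hv ?_⟩
  rw [card_conj_smul, (isPiHall_iff_card_eq hn hcop).mp hS, ← Nat.gcd_mul_lcm (Nat.card A) (Nat.card B),
    mul_comm]
  apply Nat.mul_le_mul_right
  apply Nat.le_of_dvd (Nat.gcd_pos_of_pos_left _ Nat.card_pos)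
  exact Nat.dvd_gcd (Subgroup.card_dvd_of_le inf_le_left) (Subgroup.card_dvd_of_le inf_le_right)

/-- Let the finite solvable group G be the product HK of subgroups, and let A be normal in H and B normal in K, where A and B are Hall subgroups of G (order coprime to index). Then for all x, y the product set of xAx⁻¹ and yBy⁻¹ is a subgroup of G. -/
theorem result {G : Type*} [Group G] [Finite G] [Group.IsSolvable G] (H K A B : Subgroup G) (hHK : ∀ g : G, ∃ h ∈ H, ∃ k ∈ K, g = h * k) (hA : A ≤ H) (hAn : (A.subgroupOf H).Normal) (hB : B ≤ K) (hBn : (B.subgroupOf K).Normal) (hAh : (Nat.card A).Coprime A.index) (hBh : (Nat.card B).Coprime B.index) (x y : G) : ∃ S : Subgroup G, (S : Set G) = ((MulAut.conj x • A : Subgroup G) : Set G) * ((MulAut.conj y • B : Subgroup G) : Set G) := by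
  have h1 := (Subgroup.normal_subgroupOf_iff_le_normalizer hA).mp hAn
  have h2 := (Subgroup.normal_subgroupOf_iff_le_normalizer hB).mp hBn
  obtain ⟨S, hS⟩ := exists_coe_eq_mul hHK h1 h2 hAh hBh
  obtain ⟨g, e1, e2⟩ := exists_conj_pair_of_le_normalizer hHK h1 h2 x y
  exact ⟨_, by rw [e1, e2]; exact coe_conj_smul_eq_mul hS g⟩

end Cfsg.Agent.S0561
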