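import Cfsg.Statements.S3050
import Cfsg.Agent.CITCor.NatMod

set_option autoImplicit false
open Cfsg

namespace Cfsg.Agent.S3050

open Cfsg.Lib Cfsg.Lib.CITCor

/-- Let G be a finite group with a normal 2-subgroup Q such that G/Q is isomorphic to SL(2, 2ⁿ) with n ≥ 2, and suppose some element of G of order 3 fixes no nonidentity element of Q under conjugation. Then Q is elementary abelian and is the direct product of normal subgroups of G on each of which G acts as SL(2, 2ⁿ) acts on its natural two-dimensional module (a Galois twist of the natural action allowed). -/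
theorem result {G : Type*} [Group G] [Finite G]
    (Q : Subgroup G) [Q.Normal] (hQ : IsPGroup 2 ↥Q) (n : ℕ) (hn : 2 ≤ n)
    (K : Type*) [Field K] [Fintype K] (hK : Fintype.card K = 2 ^ n)
    (e : G ⧸ Q ≃* Matrix.SpecialLinearGroup (Fin 2) K)
    (x : G) (hx : orderOf x = 3) (hfpf : ∀ q ∈ Q, x * q * x⁻¹ = q → q = 1) :
    Cfsg.IsElementaryAbelian 2 Q ∧
      ∃ (k : ℕ) (V : Fin k → Subgroup G), (∀ i, V i ≤ Q ∧ (V i).Normal ∧
        Cfsg.ActsAsSL2OnSection K ⊤ ⊤ (V i) ⊥) ∧ iSupIndep V ∧ ⨆ i, V i = Q := by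
  have h2 : (2 : K) = 0 := two_eq_zero_of_card (by omega) hK
  have h4 : 4 ≤ Fintype.card K := hK ▸ Nat.pow_le_pow_right (n := 2) (i := 2) (by norm_num) hn
  have ha : F3 Q x := ⟨hx ▸ pow_orderOf_eq_one x, hfpf⟩
  have ha1 : x ∉ Q := fun h => by
    rw [hfpf x h (mul_inv_cancel_right x x), orderOf_one] at hx
    omega
  obtain ⟨k, ψ, h⟩ := ha.exists_natCoord h2 h4 e hQ ha1
  exact ⟨ha.isElementaryAbelian_SL2 h2 h4 e hQ ha1, k, fun i => h.sub {i}ᶜ,
    fun i => ⟨fun u hu => hu.1, h.sub_normal _, h.actsAs i⟩, h.iSupIndep_sub, h.iSup_sub⟩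

end Cfsg.Agent.S3050
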