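import Cfsg.Statements.S0200
import Cfsg.Agent.Local.BaerSuzuki

set_option autoImplicit false
open Cfsg

namespace Cfsg.Agent.S0200


/-- An involution lying in no normal 2-subgroup of a finite group inverts a nontrivial element of odd order (a consequence of the Baer–Suzuki Theorem). -/
theorem result {G : Type*} [Group G] [Finite G] (t : G) (ht : orderOf t = 2) (hO : ∀ N : Subgroup G, N.Normal → IsPGroup 2 N → t ∉ N) : ∃ h : G, h ≠ 1 ∧ Odd (orderOf h) ∧ t * h * t⁻¹ = h⁻¹ := by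
  have : Fact (Nat.Prime 2) := ⟨Nat.prime_two⟩
  have htt : t * t = 1 := by rw [← pow_two, ← ht, pow_orderOf_eq_one]
  have hinv : t⁻¹ = t := inv_eq_of_mul_eq_one_right htt
  by_contra hc
  push Not at hc
  refine hO (Subgroup.normalClosure {t}) inferInstance
    (Cfsg.Lib.Local.baer_suzuki_elem t fun g => ?_) (Subgroup.subset_normalClosure rfl)
  set y := g * t * g⁻¹ with hy
  have hyy : y * y = 1 := by
    rw [hy]; simp only [mul_assoc, inv_mul_cancel_left]
    rw [← mul_assoc t t, htt, one_mul, mul_inv_cancel]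
  have hyinv : y⁻¹ = y := inv_eq_of_mul_eq_one_right hyy
  set r := t * y with hr
  have hxr : t * r * t = r⁻¹ := by
    rw [hr, mul_inv_rev, hinv, hyinv, ← mul_assoc, htt, one_mul]
  have hxrk : ∀ k : ℤ, t * r ^ k * t = r ^ (-k) := by
    intro k
    have : t * r ^ k * t⁻¹ = (t * r * t⁻¹) ^ k := by rw [conj_zpow]
    rw [hinv] at this
    rw [this, hxr, zpow_neg, inv_zpow]
  have hxrk' : ∀ k : ℤ, r ^ k * t = t * r ^ (-k) := by
    intro k
    rw [← hxrk k, ← mul_assoc, ← mul_assoc, htt, one_mul]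
  have key : ∀ d ∈ Subgroup.closure ({t, y} : Set G),
      (∃ k : ℤ, d = r ^ k) ∨ (∃ k : ℤ, d = t * r ^ k) := by
    intro d hd
    induction hd using Subgroup.closure_induction with
    | mem z hz =>
      rcases hz with rfl | rfl
      · right; exact ⟨0, by simp⟩
      · right; refine ⟨1, ?_⟩
        rw [zpow_one, hr, ← mul_assoc, htt, one_mul]
    | one => left; exact ⟨0, by simp⟩
    | mul a b _ _ ha hb =>
      rcases ha with ⟨k, rfl⟩ | ⟨k, rfl⟩ <;> rcases hb with ⟨l, rfl⟩ | ⟨l, rfl⟩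
      · left; exact ⟨k + l, by rw [zpow_add]⟩
      · right; refine ⟨-k + l, ?_⟩
        rw [← mul_assoc, hxrk', zpow_add, mul_assoc]
      · right; exact ⟨k + l, by rw [zpow_add, mul_assoc]⟩
      · left; refine ⟨-k + l, ?_⟩
        rw [← mul_assoc, hxrk, zpow_add]
    | inv a _ ha =>
      rcases ha with ⟨k, rfl⟩ | ⟨k, rfl⟩
      · left; exact ⟨-k, by rw [zpow_neg]⟩
      · right; refine ⟨k, ?_⟩
        rw [mul_inv_rev, hinv, ← zpow_neg, hxrk', neg_neg]
  obtain ⟨a, m, hm, ham⟩ := Nat.exists_eq_two_pow_mul_odd (orderOf_pos r).ne'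
  have hra : r ^ 2 ^ a = 1 := by
    by_contra hne
    refine hc (r ^ 2 ^ a) hne ?_ ?_
    · have : orderOf (r ^ 2 ^ a) ∣ m := by
        apply orderOf_dvd_of_pow_eq_one
        rw [← pow_mul, ← ham, pow_orderOf_eq_one]
      exact hm.of_dvd_nat this
    · rw [hinv]
      have := hxrk (2 ^ a : ℕ)
      rwa [zpow_neg, zpow_natCast] at this
  rintro ⟨d, hd⟩
  rcases key d hd with ⟨k, rfl⟩ | ⟨k, rfl⟩
  · refine ⟨a, Subtype.ext ?_⟩
    simp only [SubmonoidClass.mk_pow, OneMemClass.coe_one]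
    rw [← zpow_natCast, ← zpow_mul, mul_comm, zpow_mul, zpow_natCast, hra, one_zpow]
  · refine ⟨1, Subtype.ext ?_⟩
    simp only [SubmonoidClass.mk_pow, OneMemClass.coe_one]
    rw [pow_one, pow_two, ← mul_assoc, hxrk, ← zpow_add, neg_add_cancel, zpow_zero]

end Cfsg.Agent.S0200
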