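import Cfsg.Statements.S5317
import Cfsg.Agent.Fus.TwoInvol
import Cfsg.Agent.Known.PSL2Basic
import Cfsg.Agent.Known.SL2Sylow

set_option autoImplicit false
open Cfsg

namespace Cfsg.Agent.S5317

open Cfsg.Lib.Fus Cfsg.Lib.Fus.Grp Cfsg.Lib.Known.GL2


/-- Let F be a finite field of odd order q with q² ≡ 1 mod 16 (so that a Sylow 2-subgroup of PSL(2,q), dihedral of order the 2-part of (q²−1)/2, has order at least 8). Then the 2-fusion system of PSL(2,F) on a Sylow 2-subgroup is simple: saturated, over a nontrivial 2-group, with no normal subsystem other than the trivial one and itself. -/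
theorem result {F : Type*} [Field F] [Fintype F] (hodd : Fintype.card F % 2 = 1) (h16 : 16 ∣ Fintype.card F ^ 2 - 1)
    (S : Sylow 2 (Matrix.ProjectiveSpecialLinearGroup (Fin 2) F)) :
    (Cfsg.groupFusionSystem (S : Subgroup (Matrix.ProjectiveSpecialLinearGroup (Fin 2) F))).IsSimple 2 := by
  have h2 : (2 : F) ≠ 0 := two_ne_zero_of_odd (Nat.odd_iff.2 hodd)
  have hq : Fintype.card F % 8 = 1 ∨ Fintype.card F % 8 = 7 := by
    generalize Fintype.card F = q at hodd h16
    have h0 : 1 ≤ q ^ 2 := Nat.one_le_pow _ _ (by omega)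
    have h1 : q ^ 2 % 16 = 1 := by omega
    have h3 : q % 16 < 16 := Nat.mod_lt _ (by norm_num)
    rw [Nat.pow_mod] at h1
    have h4 : q % 8 = q % 16 % 8 := by omega
    rw [h4]
    generalize q % 16 = r at h1 h3
    interval_cases r <;> simp_all
  haveI := finite_PSL2 (F := F)
  obtain ⟨P⟩ : Nonempty (Sylow 2 (SL2 F)) := inferInstance
  obtain ⟨i, j, D⟩ := exists_syl2Data h2 P
  have hS : IsSylowIn 2 ((P : Subgroup (SL2 F)).map (piSL F)) ⊤ := by
    have := (isSylowIn_top P).map (piSL F)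
    rwa [Subgroup.map_top_of_surjective _ piSL_surjective] at this
  refine SimpleData.isSimple (S₀ := (P : Subgroup (SL2 F)).map (piSL F))
    ⟨hS, fun h => ?_, fun T hTS hT1 hT => ?_, fun g hg => ?_⟩ S
  · have h3 : piSL F i ∈ (P : Subgroup (SL2 F)).map (piSL F) := ⟨i, D.i_mem, rfl⟩
    rw [h, Subgroup.mem_bot, piSL_eq_one_iff] at h3
    exact not_mem_Z_of_trace_SL h2 D.trace_i h3
  · rw [Subgroup.map_le_iff_le_comap]
    refine le_of_forall_not_mem D.j_mem D.j_not_mem fun x hx hxC => ?_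
    refine invol_mem_of_closed hS.isPGroup hTS hT1 hT (fun _ _ => isConj_of_orderOf_two_PSL)
      ⟨x, hx, rfl⟩ (piSL_mul_self_eq_one_iff.2 (Or.inr ?_))
    exact (isTorus_of_trace h2 D.trace_i).trace_eq_zero_of_mem_normalizer
      (exists_not_mem_Z_of_trace h2 D.trace_i) (D.le hx) hxC
  · obtain ⟨x, rfl⟩ := piSL_surjective g
    refine le_closure_goodSet hS.isPGroup ⟨x, ?_, rfl⟩
    rw [SetLike.mem_coe, ← normalizer_sylow_two_eq h2 P hq]
    refine mem_normalizer_of_conj_mem fun y hy => ?_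
    rw [← comap_map_piSL D.Z_le, Subgroup.mem_comap, map_mul, map_mul, map_inv]
    exact Grp.conj_mem_of_mem_normalizer hg ⟨y, hy, rfl⟩

end Cfsg.Agent.S5317
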