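import Cfsg.Statements.S5318
import Cfsg.Agent.Fus.SL3Type
import Cfsg.Agent.Known.SL2Basic

set_option autoImplicit false
open Cfsg

namespace Cfsg.Agent.S5318

open Cfsg.Lib.Fus.Grp Cfsg.Lib.Known.GL2


/-- For a finite field F of odd order, the 2-fusion system of PSL(3,F) on a Sylow 2-subgroup (semidihedral or wreathed according as |F| ≡ 3 or 1 mod 4) is simple. -/
theorem result {F : Type*} [Field F] [Fintype F] (hodd : Fintype.card F % 2 = 1) (S : Sylow 2 (Matrix.ProjectiveSpecialLinearGroup (Fin 3) F)) :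
    (Cfsg.groupFusionSystem (S : Subgroup (Matrix.ProjectiveSpecialLinearGroup (Fin 3) F))).IsSimple 2 := by
  have h2 : (2 : F) ≠ 0 := two_ne_zero_of_odd (Nat.odd_iff.2 hodd)
  refine (gl2DataSL h2).isSimple ((QuotientGroup.mk' _).comp (Subgroup.subtype ⊤))
    ((QuotientGroup.mk'_surjective _).comp fun x => ⟨⟨x, trivial⟩, rfl⟩) (fun x hx => ?_) S
  obtain ⟨r, -, hr⟩ := Matrix.SpecialLinearGroup.mem_center_iff.1 ((QuotientGroup.eq_one_iff _).1 hx)
  rw [← Subgroup.orderOf_coe]
  exact coprime_two_of_eq_smul (a := r) (hr.symm.trans (Matrix.smul_one_eq_diagonal r).symm)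

end Cfsg.Agent.S5318
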