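import Cfsg.Statements.S5319
import Cfsg.Agent.Fus.SL3Type
import Cfsg.Agent.Known.SL2Basic

set_option autoImplicit false
open Cfsg

namespace Cfsg.Agent.S5319

open Cfsg.Lib.Fus.Grp Cfsg.Lib.Known.GL2


/-- Let q be an odd prime power and F a field with q² elements. Then the 2-fusion system of PSU(3,q) (realised as the special unitary group of the standard Hermitian form over F modulo its centre) on a Sylow 2-subgroup is simple. -/
theorem result {F : Type*} [Field F] [Fintype F] (q : ℕ) (hq : Fintype.card F = q ^ 2) (hodd : q % 2 = 1) (S : Sylow 2 (Cfsg.PSU 3 F q)) :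
    (Cfsg.groupFusionSystem (S : Subgroup (Cfsg.PSU 3 F q))).IsSimple 2 := by
  have h2 : (2 : F) ≠ 0 := two_ne_zero_of_odd (hq ▸ (Nat.odd_iff.2 hodd).pow)
  refine (gl2DataSU hq h2).isSimple (QuotientGroup.mk' _) (QuotientGroup.mk'_surjective _)
    (fun x hx => ?_) S
  obtain ⟨r, hr⟩ := (Cfsg.Lib.Class.Form.mem_center_SU_iff hq 3 (by norm_num) x).1
    ((QuotientGroup.eq_one_iff _).1 hx)
  rw [← Subgroup.orderOf_coe]
  exact coprime_two_of_eq_smul hr

end Cfsg.Agent.S5319
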