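import Cfsg.Statements.S5309
import Cfsg.Agent.Fus.Layer

set_option autoImplicit false
open Cfsg

namespace Cfsg.Agent.S5309

open Cfsg.Lib.Fus Cfsg.FusionSystem


/-- Self-centralizing property of the generalized Fitting subsystem. Let F be a saturated fusion system over a finite p-group S and D a generalized Fitting subsystem of F, over U. Then the centre of D is the largest subgroup Y of C_S(U) centralized by D in F, in the sense that every map of D extends to a map of F fixing Y elementwise: the centre of D is such a subgroup, and every such Y lies in the centre of D. -/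
theorem result {Ω : Type*} [Group Ω] {S : Subgroup Ω} [Finite S] (p : ℕ) [Fact p.Prime] (hS : IsPGroup p S) (F : Cfsg.FusionSystem S) (hF : F.IsSaturated p)
    {U : Subgroup Ω} (D : Cfsg.FusionSystem U) (hD : D.IsGeneralizedFittingOf F p) :
    (D.center ≤ Cfsg.FusionSystem.centralizerIn S U ∧ ∀ P : Subgroup Ω, D.Hom P ⊆ F.centralizerHom D.center P) ∧
      ∀ Y : Subgroup Ω, Y ≤ Cfsg.FusionSystem.centralizerIn S U →
        (∀ P : Subgroup Ω, D.Hom P ⊆ F.centralizerHom Y P) → Y ≤ D.center := by
  have h1 := IsGeneralizedFittingOf.isNormalIn hS hD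
  have hU := h1.1.2.2.2.1.1
  have := finite_of_le hU
  refine ⟨(centE_iff hU).1 ((centE_of_isCentral (isCentral_center D) (sub_refl D)).mono h1.1.2.2.1),
    fun Y hY h => ?_⟩
  have h2 := (centE_iff hU).2 ⟨hY, h⟩
  exact le_center (h2.isCentral hS h1.1.1 hU (IsGeneralizedFittingOf.le_of_centE hS hD h2) le_rfl)

end Cfsg.Agent.S5309
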