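import Cfsg.Statements.S2824
import Cfsg.Agent.Local.PReduced

set_option autoImplicit false
open Cfsg

namespace Cfsg.Agent.S2824

open Cfsg.Lib.Local (resOf CharP charP_iff charP_top_iff)
open Cfsg.Lib.Local.MSS Cfsg.Lib.Solv Cfsg.Lib.Trans Cfsg.Lib.Trans.TJ Subgroup

/-- Let H be a finite group, p a prime, T a Sylow p-subgroup, L and M subgroups of characteristic p containing T, Y_L the largest p-reduced normal subgroup of L and T₀ = C_T(Y_L). If M·C_H(Y_L) = L·C_H(Y_L), then L* := N_M(T₀) has Y_{L*} = Y_L and L·C_H(Y_L) = L*·C_H(Y_L). -/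
theorem result {H : Type*} [Group H] [Finite H] {p : ℕ} [Fact p.Prime] (T : Sylow p H) (L M : Subgroup H) (hTL : (T : Subgroup H) ≤ L) (hTM : (T : Subgroup H) ≤ M) (hL : Subgroup.centralizer (Cfsg.pCore p ↥L : Set ↥L) ≤ Cfsg.pCore p ↥L) (hM : Subgroup.centralizer (Cfsg.pCore p ↥M : Set ↥M) ≤ Cfsg.pCore p ↥M) (T₀ : Subgroup H) (hT₀ : T₀ = (T : Subgroup H) ⊓ Subgroup.centralizer (((Cfsg.largestPReducedOf p L) : Subgroup H) : Set H)) (hfac : M ⊔ Subgroup.centralizer (((Cfsg.largestPReducedOf p L) : Subgroup H) : Set H) = L ⊔ Subgroup.centralizer (((Cfsg.largestPReducedOf p L) : Subgroup H) : Set H)) (Ls : Subgroup H) (hLs : Ls = M ⊓ Subgroup.normalizer ((T₀ : Subgroup H) : Set H)) : (Cfsg.largestPReducedOf p Ls) = (Cfsg.largestPReducedOf p L) ∧ L ⊔ Subgroup.centralizer (((Cfsg.largestPReducedOf p L) : Subgroup H) : Set H) = Ls ⊔ Subgroup.centralizer (((Cfsg.largestPReducedOf p L) : Subgroup H) : Set H) := by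
  subst hT₀ hLs
  set Y := largestPReducedOf p L with hY
  have hMY : PRed p Y M := (yOf_pRed L).of_sup_centralizer_eq hfac
  have hTM' := isSylowIn_of_le T hTM
  have hTs := le_inf_normalizer_inf_centralizer hTM hMY.1
  refine ⟨le_antisymm ?_ ?_, ?_⟩
  · refine (yOf_le_omega _).trans ?_
    rw [hMY.pCoreOf_inf_normalizer hTM']
    exact (yOf_eq_omega (charP_iff.2 hL) (isSylowIn_of_le T hTL)).ge
  · exact le_yOf (((yOf_le_pCoreOf L).trans (pCoreOf_le_sylow T hTL)).trans hTs) (yOf_ea L)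
      (hMY.inf_normalizer hTM')
  · rw [← hfac]
    refine le_antisymm (sup_le ?_ le_sup_right) (sup_le_sup_right inf_le_left _)
    rw [sup_comm]
    exact le_centralizer_sup_normalizer hTM' hMY.1

end Cfsg.Agent.S2824
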