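import Cfsg.Statements.S5944
import Cfsg.Agent.Known.SymAut

set_option autoImplicit false
open Cfsg

namespace Cfsg.Agent.S5944

/-- For n ≠ 4, every proper subgroup of the symmetric group S_n other than the alternating group A_n has index at least n. -/
theorem result (n : ℕ) (hn : n ≠ 4) (H : Subgroup (Equiv.Perm (Fin n))) (hH : H ≠ ⊤) (hA : H ≠ alternatingGroup (Fin n)) : n ≤ H.index := by
  open Cfsg.Lib.Known Equiv in
  have h0 := Subgroup.index_ne_zero_of_finite (H := H)
  have h1 := Subgroup.index_eq_one.not.2 hH
  have h2 : H.index ≠ 2 := fun h => hA (Equiv.Perm.eq_alternatingGroup_of_index_eq_two h)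
  by_contra h3
  have h5 : 5 ≤ n := by omega
  by_cases hc : H.normalCore = ⊥
  · have h6 : Function.Injective (MulAction.toPermHom (Perm (Fin n)) (Perm (Fin n) ⧸ H)) := by
      rw [← MonoidHom.ker_eq_bot_iff, ← Subgroup.normalCore_eq_ker, hc]
    have h7 := Nat.card_le_card_of_injective _ h6
    rw [Nat.card_perm, Nat.card_perm, ← Subgroup.index_eq_card, Nat.card_eq_fintype_card,
      Fintype.card_fin] at h7
    have h8 := (Nat.factorial_lt (n := H.index) (m := n) (by omega)).2 (by omega)
    omega
  · have h6 := (Perm.alternatingGroup_le_of_normal (by simpa using h5)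
      ((Subgroup.nontrivial_iff_ne_bot _).2 hc)).trans H.normalCore_le
    have h7 := Subgroup.index_dvd_of_le h6
    have : Nontrivial (Fin n) := Fin.nontrivial_iff_two_le.2 (by omega)
    rw [alternatingGroup.index_eq_two] at h7
    have := Nat.le_of_dvd (by omega) h7
    omega

end Cfsg.Agent.S5944
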