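import Cfsg.Statements.S0801
import Cfsg.Agent.Class.SL2Dickson

set_option autoImplicit false
open Cfsg

namespace Cfsg.Agent.S0801

open Cfsg.Lib.Class Matrix Cfsg.Lib.Class.P1
open scoped MatrixGroups

theorem card_dvd {F : Type*} [Field F] [Fintype F] [CharP F 3] {lam : F}
    (hgen : Subfield.closure ({lam} : Set F) = ⊤) (k : ℕ) (h : lam ^ 3 ^ k = lam) :
    Fintype.card F - 1 ∣ 3 ^ k - 1 := by
  have : Fact (Nat.Prime 3) := ⟨Nat.prime_three⟩
  have h1 : (iterateFrobenius F 3 k).eqLocusField (RingHom.id F) = ⊤ := by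
    rw [← top_le_iff, ← hgen, Subfield.closure_le]
    rintro _ rfl
    exact h
  rw [← FiniteField.forall_pow_eq_one_iff]
  intro x
  have h2 : x.1 ∈ (iterateFrobenius F 3 k).eqLocusField (RingHom.id F) := h1 ▸ Subfield.mem_top _
  have h3 : x ^ 3 ^ k = x := Units.ext h2
  have h4 : 3 ^ k = 3 ^ k - 1 + 1 := (Nat.sub_add_cancel (Nat.one_le_pow _ _ (by norm_num))).symm
  rw [h4, pow_succ] at h3
  simpa using h3

theorem rho1 {F : Type*} [Field F] (lam : F) : rho (slπ (slV 1 * slU lam)) = (2 + lam) ^ 2 := by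
  rw [rho_toPGL]
  change (!![1, 0; 1, 1] * !![1, lam; 0, 1]).trace ^ 2 = _
  simp [Matrix.trace_fin_two]; ring


/-- Let F be a finite field of odd characteristic and λ ≠ 0 an element generating F as a field. Then the lower and upper unitriangular matrices with off-diagonal entries 1 and λ generate SL_2(F), unless |F| = 9 and λ² = −1, in which case they generate a subgroup of order 120. -/
theorem result {F : Type*} [Field F] [Fintype F] (h2 : (2 : F) ≠ 0) (lam : F) (hlam : lam ≠ 0) (hgen : Subfield.closure ({lam} : Set F) = ⊤) : (Subgroup.closure {g : Matrix.SpecialLinearGroup (Fin 2) F | (g : Matrix (Fin 2) (Fin 2) F) = !![1, 0; 1, 1] ∨ (g : Matrix (Fin 2) (Fin 2) F) = !![1, lam; 0, 1]} = ⊤ ∧ ¬ (Fintype.card F = 9 ∧ lam ^ 2 = -1)) ∨ (Fintype.card F = 9 ∧ lam ^ 2 = -1 ∧ Nat.card ↥(Subgroup.closure {g : Matrix.SpecialLinearGroup (Fin 2) F | (g : Matrix (Fin 2) (Fin 2) F) = !![1, 0; 1, 1] ∨ (g : Matrix (Fin 2) (Fin 2) F) = !![1, lam; 0, 1]}) = 120) := by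
  set H := Subgroup.closure {g : Matrix.SpecialLinearGroup (Fin 2) F |
    (g : Matrix (Fin 2) (Fin 2) F) = !![1, 0; 1, 1] ∨
      (g : Matrix (Fin 2) (Fin 2) F) = !![1, lam; 0, 1]} with hH
  have hS : H = Subgroup.closure {slV 1, slU lam} := by
    rw [hH]; congr 1; ext g
    exact or_congr (Subtype.ext_iff (a1 := g) (a2 := slV 1)).symm
      (Subtype.ext_iff (a1 := g) (a2 := slU lam)).symm
  clear_value H
  have hu : slV 1 ∈ H := hS ▸ Subgroup.subset_closure (Or.inl rfl)
  have hv : slU lam ∈ H := hS ▸ Subgroup.subset_closure (Or.inr rfl)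
  obtain ⟨p, hp, hc⟩ := exists_char F
  have hp2 : p ≠ 2 := (two_ne_zero_iff_char p).1 h2
  have hu1 : slπ (slV (1 : F)) ≠ 1 := by rw [slπ_slV, Ne, mob_eq_one_iff]; simp
  have hv1 : slπ (slU lam) ≠ 1 := by rw [slπ_slU, aff, Ne, mob_eq_one_iff]; simp [hlam]
  by_cases hex : Fintype.card F = 9 ∧ lam ^ 2 = -1
  · refine Or.inr ⟨hex.1, hex.2, ?_⟩
    have h3 : (3 : F) = 0 := by
      have := FiniteField.cast_card_eq_zero F
      rw [hex.1] at this
      exact pow_eq_zero_iff (two_ne_zero) |>.1 (by push_cast at this; linear_combination this)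
    have : CharP F 3 := (CharP.charP_iff_prime_eq_zero Nat.prime_three).2 (by exact_mod_cast h3)
    have ht : slπ (slV 1 * slU lam) ^ 5 = 1 := pow_five_of_rho (by
      rw [rho1]
      linear_combination (lam ^ 2 + 8 * lam + 20) * hex.2 + (4 * lam - 5) * h3)
    have ha : rho (slπ ((slV 1)⁻¹ * (slV 1 * slU lam) ^ 3)) = 0 := by
      rw [pow_succ, pow_two, rho_toPGL, ← slV_neg]
      change (!![1, 0; -1, 1] * (!![1, 0; 1, 1] * !![1, lam; 0, 1] * (!![1, 0; 1, 1] *
        !![1, lam; 0, 1]) * (!![1, 0; 1, 1] * !![1, lam; 0, 1]))).trace ^ 2 = 0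
      simp [Matrix.trace_fin_two]
      linear_combination 2 * hex.2 + (2 * lam) * h3
    have e := Tri.closure_equiv_A5 (mul_self_of_rho ha) (b := slπ (slV 1))
      (by rw [← map_pow, slV_pow_char, map_one])
      (by
        have := conj_pow (a := (slπ (slV (1 : F)))⁻¹) (b := slπ (slV 1 * slU lam) ^ 3) (i := 5)
        rw [inv_inv] at this
        rw [map_mul, map_inv, map_pow, this, ← pow_mul, mul_comm 3, pow_mul, ht]; simp) hu1
    have hM : H.map slπ = Subgroup.closure {slπ ((slV 1)⁻¹ * (slV 1 * slU lam) ^ 3), slπ (slV 1)} := by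
      apply le_antisymm
      · rw [hS, MonoidHom.map_closure, Subgroup.closure_le, Set.image_pair]
        have h1 := Subgroup.subset_closure
          (k := {slπ ((slV 1)⁻¹ * (slV 1 * slU lam) ^ 3), slπ (slV 1)}) (Or.inl rfl)
        have h2 := Subgroup.subset_closure
          (k := {slπ ((slV 1)⁻¹ * (slV 1 * slU lam) ^ 3), slπ (slV 1)}) (Or.inr rfl)
        rintro _ (rfl | rfl)
        · exact h2
        · have h4 := Subgroup.mul_mem _ (Subgroup.inv_mem _ h2)
            (Subgroup.pow_mem _ (Subgroup.mul_mem _ h2 h1) 2)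
          generalize Subgroup.closure (G := PGL(2, F)) _ = K at h4 ⊢
          rwa [map_mul, map_inv, map_pow, mul_inv_cancel_left, ← pow_mul,
            show 3 * 2 = 5 + 1 from rfl, pow_succ, ht, one_mul, map_mul, inv_mul_cancel_left] at h4
      · rw [Subgroup.closure_le]
        rintro _ (rfl | rfl)
        · exact ⟨_, H.mul_mem (H.inv_mem hu) (H.pow_mem (H.mul_mem hu hv) _), rfl⟩
        · exact ⟨_, hu, rfl⟩
    have h60 := card_of_equiv_A5 e
    rw [← hM] at h60
    rw [card_eq_two_mul_card_map h2 (by rw [h60]; norm_num), h60]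
  refine Or.inl ⟨eq_top_of_psl2_le_map p ?_, hex⟩
  have m1 : slπ (slV 1 * slU lam) ∈ H.map slπ := ⟨_, H.mul_mem hu hv, rfl⟩
  have m2 : slπ (slV 1 * slU (-lam)) ∈ H.map slπ :=
    ⟨_, H.mul_mem hu (slU_neg lam ▸ H.inv_mem hv), rfl⟩
  rcases dickson_of_two_unip p hp2 (pt_ne_inf (0 : F)) (M := H.map slπ) ⟨_, hu, rfl⟩
    ⟨by rw [slπ_slV, mob_smul_pt_eq_pt_iff]; simp, by rw [← map_pow, slV_pow_char, map_one]⟩ hu1
    ⟨_, hv, rfl⟩ (mem_unip_inf p |>.2 ⟨_, slπ_slU _⟩) hv1 with ⟨rfl, e⟩ | ⟨F₀, c, h⟩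
  · exfalso
    have h3 : (3 : F) = 0 := by exact_mod_cast CharP.cast_eq_zero F 3
    have key : ∀ x : F, x ≠ 0 → slπ (slV 1 * slU x) ∈ H.map slπ → x ^ 3 ^ 1 = x ∨
        (2 + x) ^ 4 + 1 = 0 := by
      intro x hx hm
      have h1 : slπ (slV 1 * slU x) ≠ 1 := fun h => by
        rw [map_mul, slπ_slV, slπ_slU, aff, mob_mul, mob_eq_one_iff] at h
        simp at h
      have hr := rho1 x
      rcases pow_of_equiv_A5 e ⟨_, hm⟩ with h | h | h
      · rw [rho_of_mul_self (by rw [← pow_two]; exact congrArg Subtype.val h) h1] at hr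
        have : x = -2 := by linear_combination pow_eq_zero_iff (two_ne_zero) |>.1 hr.symm
        left; rw [this]; linear_combination (-2) * h3
      · rw [rho_of_pow_three (congrArg Subtype.val h) h1] at hr
        left
        linear_combination (4 - x) * hr + (4 * x + 4) * h3
      · have := rho_of_pow_five (congrArg Subtype.val h) h1
        change rho (slπ (slV 1 * slU x)) ^ 2 - 3 * rho (slπ (slV 1 * slU x)) + 1 = 0 at this
        rw [hr] at this
        right
        linear_combination this + (2 + x) ^ 2 * h3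
    have h60 : 60 ∣ Fintype.card F * (Fintype.card F - 1) * (Fintype.card F + 1) := by
      rw [← card_of_equiv_A5 e, ← Nat.card_eq_fintype_card, ← card_PGL2]
      exact Subgroup.card_subgroup_dvd_card _
    have hq : 1 < Fintype.card F := Fintype.one_lt_card
    have hne : lam ^ 3 ^ 1 ≠ lam := fun h => by
      have := Nat.le_of_dvd (by norm_num) (card_dvd hgen 1 h)
      have : Fintype.card F ≤ 3 := by omega
      interval_cases Fintype.card F <;> omega
    have k1 := (key _ hlam m1).resolve_left hne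
    have k2 := (key _ (neg_ne_zero.2 hlam) m2).resolve_left fun h => hne (by linear_combination -h)
    have k3 : lam ^ 2 = -1 := by
      have : lam * (lam ^ 2 + 1) = 0 := by
        linear_combination k1 - k2 - (5 * lam ^ 3 + 21 * lam) * h3
      linear_combination (mul_eq_zero.1 this).resolve_left hlam
    have h8 := card_dvd hgen 2 (by
      rw [show 3 ^ 2 = 2 * 4 + 1 from rfl, pow_succ, pow_mul, k3]; ring)
    have := Nat.le_of_dvd (by norm_num) h8
    have h9 : Fintype.card F ≠ 9 := fun h => hex ⟨h, k3⟩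
    have h5 : 3 ∣ Fintype.card F := (CharP.cast_eq_zero_iff F 3 _).1 (FiniteField.cast_card_eq_zero F)
    have : Fintype.card F ≤ 9 := by omega
    interval_cases Fintype.card F <;> omega
  · have r1 := rho_mem_of_mem_pglSub_conj (h.le m1)
    have r2 := rho_mem_of_mem_pglSub_conj (h.le m2)
    rw [rho1] at r1 r2
    have : lam ∈ F₀ := by
      have h8 : (2 : F) ∈ F₀ := by exact_mod_cast natCast_mem F₀ 2
      have := F₀.div_mem (F₀.sub_mem r1 r2) (F₀.pow_mem h8 3)
      rwa [show ((2 + lam) ^ 2 - (2 + -lam) ^ 2) / 2 ^ 3 = lam by field_simp; ring] at this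
    obtain rfl : F₀ = ⊤ := by
      rw [← top_le_iff, ← hgen, Subfield.closure_le]
      rintro _ rfl
      exact this
    exact h.psl2_le

end Cfsg.Agent.S0801
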