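import Cfsg.Statements.S2109
import Cfsg.Agent.Chev.PcE62
import Cfsg.Agent.Chev.TwMultPc
import Cfsg.Agent.Chev.TwMultE6

set_option autoImplicit false
open Cfsg

namespace Cfsg.Agent.S2109

open Cfsg.Lie Cfsg.Lib Cfsg.Lib.Known Cfsg.Lib.Chev Cfsg.Lib.Chev.Core

/-- Exceptional Schur multiplier: ²E₆(2), realised over the field with 4 elements, has Schur multiplier isomorphic to the product of cyclic groups of orders 3, 2 and 2 (order 12, not cyclic; here the Schur multiplier is described through stem extensions, as in the definitions). -/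
theorem result {K : Type*} [Field K] [Fintype K] (hK : Fintype.card K = 4) : Cfsg.HasSchurMultiplier ↥(Cfsg.Lie.twistedE6 K 2) (Multiplicative (ZMod 3 × ZMod 2 × ZMod 2)) := by
  have hK' : Fintype.card K = 2 ^ 2 := hK
  have hF : Nat.card K = 4 := Nat.card_eq_fintype_card.trans hK
  obtain ⟨f, hf, hq, hG⟩ := exists_twE6 hK'
  rw [← hG]
  obtain ⟨ω, fm⟩ := e62.fm_four ⟨rfl, rfl, rfl, rfl⟩ hF
  have h0 : ∀ t : f.eqLocusField (.id K), t ≠ 0 → ∃ e : ℕ, t = 1 ^ e := fun t ht => ⟨0, Subtype.ext (by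
    simpa [hq, sq, ht] using show f t = t from t.2)⟩
  let m : Fin 6 → ℕ := ![1, 0, 1, 0, 2, 2]
  have hm : ∀ {r} {J : List (Fin 6)}, (∀ i ∈ J, m i = if chevE6.simple i = r then 1 else 2) →
      ∀ i ∈ J, (if chevE6.simple i = r then RingHom.id K else f) ω = ω ^ m i := fun h i hi => by
    rw [h i hi]; split_ifs <;> simp [hq]
  have hm' : ∀ {J : List (Fin 6)}, (∀ i ∈ J, m i = 0) →
      ∀ i ∈ J, (f.eqLocusField (.id K)).subtype 1 = ω ^ m i := fun h i hi => by simp [h i hi]
  obtain ⟨h1, h2⟩ := e62_fit.mult_graph rootE6 fm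
    (fun s => s.tri_sound e62U_tri1 (s.tri_sound e62U_tri0 (Pc.Cert.base_sound e62U_base))) e62U_fin (k := 2) rfl
    (B := Multiplicative (ZMod 2 × ZMod 2)) (.ofAdd (1, 0)) (.ofAdd (0, 1)) (k' := 2) (by decide) (by simp; rfl)
    e62_com (Pc.closure_tl (by decide +kernel)) gE6 f hq (endE6 f hf) (clE6 f hf _) (by decide +kernel)
    (((twE6 f hf).card_U (Core.certE6.faithful K rootE6) (twE6_card_UL f hf hK' hq)).trans
      (by rw [rootE6.card_posRoots]; decide +kernel))
    repTE6 (repTE6_surj f) (fun k => orbE6 (repTE6 k)) m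
    (fun k => ⟨(twist_E6_t (hasC_E6 rootE6) _ (subE6_π f) _).2.1, (by decide +kernel : ∀ k,
      listE6 (repTE6 k) = (orbE6 (repTE6 k)).map fun i : Fin 6 => chevE6.simple i) k⟩)
    (fun k => by
      fin_cases k
      exacts [⟨K, _, _, ω, parE6_0 f hf, fm.gen, hm (by decide +kernel)⟩,
        ⟨_, _, _, 1, Classes.par_one _ f rfl rfl, h0, hm' (by decide +kernel)⟩,
        ⟨K, _, _, ω, parE6_2 f hf, fm.gen, hm (by decide +kernel)⟩,
        ⟨_, _, _, 1, Classes.par_one _ f rfl rfl, h0, hm' (by decide +kernel)⟩])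
    (by decide +kernel)
  obtain ⟨E⟩ := Core.certE6.nonempty_stEnd (subE6 f)
  obtain ⟨π, k1, k2, k3⟩ := exists_cover_E6 f hf hK' hq E
  have := Core.certE6.finite_stGroup (F := K) rootE6
  have : CharP K 2 := (CharP.charP_iff_prime_eq_zero Nat.prime_two).2 (Pc.cast_eq_zero (k := 1) hF)
  have h3 := fun p (hp : p.Prime) (h : p ≠ 2) => Pc.pBound_of_card hp ((Nat.coprime_primes hp Nat.prime_two).2 h)
    (k3 ▸ k1.card_ker_dvd k2 fun _ _ _ _ => ker_E6_of_coprime f hf E (hHom_stGen_injective_E6 K) 2)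
  refine hasSchurMultiplier_of_multDvd (multLe_322 (a := 1) (b := 1) h1 ((h3 3 Nat.prime_three (by decide)).2 dvd_rfl)
    (fun p hp h h' => (h3 p hp h).1 ((Nat.coprime_primes hp Nat.prime_three).2 h')) rfl rfl) ?_
  have := (k3 ▸ multDvd_of_stem (Solv.isStemExtension_of_isPerfect k2 π k1.surj k1.cen)).mul h2 (by simp; decide)
  simpa using this

end Cfsg.Agent.S2109
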