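import Cfsg.Statements.S0556
import Cfsg.Agent.Solv.FrobeniusComplement
import Cfsg.Agent.Solv.MinNormal
import Cfsg.Agent.S0035

set_option autoImplicit false
open Cfsg

namespace Cfsg.Agent.S0556

theorem derivedSeries_two_eq_bot {G : Type*} [Group G] (N H : Subgroup G) [N.Normal]
    [IsMulCommutative N] [IsMulCommutative H] (h : N ⊔ H = ⊤) : derivedSeries G 2 = ⊥ := by
  have h1 := Subgroup.Normal.commutator_le_of_self_sup_commutative_eq_top h inferInstance
  rw [derivedSeries_succ, derivedSeries_one, eq_bot_iff,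
    ← Subgroup.commutator_self_eq_bot_iff.2 (inferInstance : IsMulCommutative N)]
  exact Subgroup.commutator_mono h1 h1

/-- If a finite group has a maximal subgroup that is abelian, then the third term of its derived series is trivial (so the group is solvable of derived length at most three). -/
theorem result {G : Type*} [Group G] [Finite G] (A : Subgroup G) (hA : IsCoatom A) [IsMulCommutative A] : derivedSeries G 3 = ⊥ := by
  by_cases hn : A.Normal
  · obtain ⟨x, hx⟩ : ∃ x, x ∉ A := by
      by_contra h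
      push Not at h
      exact hA.1 (eq_top_iff.2 fun x _ => h x)
    have h := derivedSeries_two_eq_bot A (Subgroup.zpowers x)
      (Cfsg.Lib.Solv.PG.sup_zpowers_eq_top_of_isCoatom hA hx)
    rw [derivedSeries_succ, h, Subgroup.commutator_bot_left]
  have hNA : Subgroup.normalizer (A : Set G) = A := by
    rcases hA.le_iff.1 (Subgroup.le_normalizer (H := A)) with h | h
    · exact absurd (Subgroup.normalizer_eq_top_iff.1 h) hn
    · exact h
  have hZ : Subgroup.center G ≤ A := hNA ▸ Subgroup.center_le_normalizer _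
  let f := QuotientGroup.mk' (Subgroup.center G)
  have hf : Function.Surjective f := QuotientGroup.mk'_surjective _
  have hmem : ∀ x : G, f x ∈ A.map f → x ∈ A := by
    intro x hx
    have : x ∈ (A.map f).comap f := hx
    rwa [Subgroup.comap_map_eq, QuotientGroup.ker_mk', sup_eq_left.2 hZ] at this
  have hco : IsCoatom (A.map f) := Cfsg.Lib.Solv.isCoatom_map_mk' hZ hA
  have hF : IsFrobeniusComplement (A.map f) := by
    refine Cfsg.Lib.Solv.isFrobeniusComplement_iff.2 ⟨?_, hco.1, ?_⟩
    · intro h
      rw [Subgroup.map_eq_bot_iff, QuotientGroup.ker_mk'] at h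
      apply hn
      rw [le_antisymm h hZ]; infer_instance
    · rintro _ ⟨x, hx, rfl⟩ hne g hg
      obtain ⟨g, rfl⟩ := hf g
      apply Subgroup.mem_map_of_mem
      have h1 : g * x * g⁻¹ ∈ A := hmem _ (by simpa using hg)
      have h2 : Subgroup.centralizer {x} = A := by
        rcases hA.le_iff.1 ((Subgroup.le_centralizer A).trans
          (Subgroup.centralizer_le (Set.singleton_subset_iff.2 hx))) with h | h
        · rw [Subgroup.centralizer_eq_top_iff_subset, Set.singleton_subset_iff] at h
          exact absurd ((QuotientGroup.eq_one_iff x).2 h) hne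
        · exact h
      rw [← hNA, ← inv_mem_iff]
      apply Cfsg.Lib.Solv.mem_normalizer_of_conj_mem
      intro a ha
      rw [← h2, Subgroup.mem_centralizer_singleton_iff]
      have h3 : a * (g * x * g⁻¹) = (g * x * g⁻¹) * a := setLike_mul_comm ha h1
      calc g⁻¹ * a * g⁻¹⁻¹ * x = g⁻¹ * (a * (g * x * g⁻¹)) * g := by simp [mul_assoc]
        _ = _ := by rw [h3]; simp [mul_assoc]
  obtain ⟨K, -, hK, hc⟩ := Cfsg.Agent.S0035.result _ hF
  have hm := Cfsg.Lib.Solv.isMalnormal_of_isFrobeniusComplement hF
  have hd : K ⊓ A.map f = ⊥ := disjoint_iff.1 hc.disjoint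
  have hK0 : K ≠ ⊥ := by
    rintro rfl
    exact hF.2.1 (by simpa using hc.sup_eq_top)
  have hAK : A.map f ≤ Subgroup.normalizer (K : Set _) := by
    rw [Subgroup.normalizer_eq_top]; exact le_top
  obtain ⟨r, hr, hrK⟩ := Nat.exists_prime_and_dvd ((Subgroup.one_lt_card_iff_ne_bot K).2 hK0).ne'
  obtain ⟨V, hVK, hV, hVc, -, hAV⟩ := Cfsg.Lib.Solv.Fpf.exists_invariant_abelian hAK
    (Cfsg.Lib.Solv.Fpf.coprime_card hAK (hm.fpf_of_disjoint hd))
    (Or.inl (Cfsg.Lib.Solv.Coprime.isSolvable_of_isMulCommutative _)) hr hrK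
  have htop : V ⊔ A.map f = ⊤ := by
    refine hco.2 _ (lt_of_le_of_ne le_sup_right fun h => hV ?_)
    rw [eq_bot_iff, ← hd]
    exact le_inf hVK (h ▸ le_sup_left)
  have hKV : K = V := by
    have := Cfsg.Lib.Solv.sup_inf_assoc_of_le_normalizer hAV hVK
    rwa [htop, top_inf_eq, inf_comm, hd, sup_bot_eq] at this
  have : IsMulCommutative K := hKV ▸ hVc
  have h2 := derivedSeries_two_eq_bot K (A.map f) hc.sup_eq_top
  rw [← map_derivedSeries_eq hf, Subgroup.map_eq_bot_iff, QuotientGroup.ker_mk'] at h2
  rw [derivedSeries_succ, eq_bot_iff, ← Subgroup.commutator_center_right (derivedSeries G 2)]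
  exact Subgroup.commutator_mono le_rfl h2

end Cfsg.Agent.S0556
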