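import Cfsg.Statements.S2133
import Cfsg.Agent.Spor.WMCen
import Cfsg.Agent.Spor.CenTv
import Cfsg.Agent.Known.MathieuModel

set_option autoImplicit false
open Cfsg

namespace Cfsg.Agent.S2133

open Cfsg.Lib.Spor Cfsg.Lib.Spor.WM Cfsg.Lib.Known Cfsg.Lib.Known.Model

/-- The operations on codes. -/
noncomputable def O : Ops := ⟨984818244535754528103549039458486304, mul24, Nat.beq, MP.ap, fun x => Nat.blt x 24, fun _ x => x, MP.pinv⟩

theorem has : (subModel Cfsg.M24).Has O :=
  ⟨rfl, rfl, rfl, rfl, rfl, fun {a g} (ha : MP.Rep (g : Equiv.Perm GolayPt) a) => ha.inv⟩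

theorem inM {l : List ℕ} (h : PC.lall MP.isM24 l = true) : ∀ c ∈ l, (subModel Cfsg.M24).In ⊤ c :=
  subModel_in (fun _ h => MP.inSub_M24 h) h

/-- The Mathieu group M₂₄ (the automorphism group of the length-24 binary code) has an involution whose centraliser is isomorphic to the centraliser of a transvection in SL(5, 2) (a group of shape 2^{1+6}:GL(3, 2)). -/
theorem result (s : Matrix.SpecialLinearGroup (Fin 5) (ZMod 2)) (hs : (s : Matrix (Fin 5) (Fin 5) (ZMod 2)) = Matrix.transvection 0 1 1) : ∃ z : ↥Cfsg.M24, orderOf z = 2 ∧ Nonempty (↥(Subgroup.centralizer ({z} : Set ↥Cfsg.M24)) ≃* ↥(Subgroup.centralizer ({s} : Set (Matrix.SpecialLinearGroup (Fin 5) (ZMod 2))))) := by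
  obtain ⟨a, ha⟩ := ctv_pres s hs
  obtain ⟨z, -, hz⟩ := inM (l := [818652210493768282815686675879014446]) (by decide +kernel) _ List.mem_cons_self
  refine ⟨z, has.orderOf (b := 0) Nat.prime_two hz (by decide +kernel), cent_equiv has ha (Agent.S0445.result s hs)
    (inM (l := [984818244535754528103549039458486304,777105538796843531215431146185802791,
  527884023369819808433668054122089519,237121120084349495342526251856402475,652491626483957258550568813201569836,
  957234151365436425186095494206075584,793461466413592503413035808954455566,28174104827370268214431940227634615,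
  295041042597555531250243270518452658,818652209555699707457277357675808806]) (by decide +kernel)) hz
    (card_cen_of_cenO has (inM (l := [837803296176589940384621275918280851,22461028143924445130462450281487794,349209936893883193423414331423546823,
  858197846533526187169559482599561710,836093664102487994705897572803218097,602308025244888486545077531300834886,
  974171344905024481542632899391920130,955870948830514742921700555071596997,961316026682636722463957077437455658,
  974408281469061995760631845837094001,963392401175998656475642868737134735,981528676994013487671175905257007627,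
  955557052715433436552231742179294443,983210868067147991893942585178562057,984764982862875991490565150074216492,
  979134089335808675579962983519944867,960904015955840020603108081262637537,964847674497720947512575385954408596,
  973903754279180774803560779359082821,984818244535754528103549039458486304,
  958348434814564638836487408034855312]) (by decide +kernel)) MP.card_M24.le
      (ls := [⟨13, 0, 0, 4, [0,1,2]⟩, ⟨23, 0, 0, 4, [3,4,5]⟩, ⟨19, 24, 0, 4, [6,7,8]⟩, ⟨6, 0, 0, 3, [9,10,11]⟩, ⟨17, 7, 0, 4, [12,13,14]⟩, ⟨7, 0, 0, 3, [15,16,17]⟩, ⟨11, 8, 0, 1, [18,19,20]⟩]) hz (by decide +kernel))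
    [[8,9,7,2,1,8,6,7,8,1],[7,3,6,8,6,2,7,9,2,5,8,5,9,2],[9,6,3,1,9,8,9,6,8,2,5,4],[5,3,8,1,9,8,7,5,3,6],[7,9,2,8,
  5,8,2,5,9,8,1,6],[7,6,8,1,2,7,9,5,8,7],[3,8,5,3,8,9,7,2,1,8,6,7,8],[7,8,4,9],[8,2,9,6,2,9,8,3,6,5,9,8,6],[8,6,
  9,7,8,9,3,6,5,8]]
    [⟨0, 0, 0, 4, [0,1]⟩, ⟨1, 0, 0, 3, [2,3]⟩, ⟨2, 0, 0, 4, [4,5]⟩, ⟨3, 0, 0, 2, [6,7]⟩, ⟨4, 0, 0, 1, [8,9]⟩] (by decide +kernel)⟩

end Cfsg.Agent.S2133
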