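import Cfsg.Statements.S0743
import Cfsg.Agent.Perm.MultiBasic

set_option autoImplicit false
open Cfsg

namespace Cfsg.Agent.S0743

/-- Gleason's Lemma: let `p` be a prime and `1 ≤ k < n`; if every `k`-subset of the `n` points is exactly the fixed-point set of some `p`-subgroup of `G`, then `G` is `k`-transitive. -/
theorem result {α : Type*} [Fintype α] [DecidableEq α] (G : Subgroup (Equiv.Perm α)) {p k : ℕ} (hp : p.Prime) (hk : 1 ≤ k) (hkn : k < Fintype.card α) (h : ∀ s : Finset α, s.card = k → ∃ P : Subgroup G, IsPGroup p P ∧ MulAction.fixedPoints P α = (s : Set α)) : MulAction.IsMultiplyPretransitive G α k := by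
  obtain ⟨k, rfl⟩ : ∃ j, k = j + 1 := ⟨k - 1, by omega⟩
  apply Cfsg.Lib.Perm.isMultiplyPretransitive_of_forall_fix_card hkn
  intro s hs x y hx hy
  suffices hh : ∃ g ∈ fixingSubgroup G (s : Set α), g • x = y by
    obtain ⟨g, hg, hgx⟩ := hh
    exact ⟨g, fun z hz => (mem_fixingSubgroup_iff _).1 hg z hz, hgx⟩
  refine Cfsg.Lib.Perm.gleason_step (G := G) hp (fixingSubgroup G (s : Set α))
    ((s : Set α)ᶜ) (Set.toFinite _) (x := x) (y := y) ?_ ?_ hx hy
  · intro g hg z hz hgz
    apply hz
    have h1 := (mem_fixingSubgroup_iff _).1 hg _ hgz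
    have h2 : g • z = z := smul_left_cancel g h1
    rw [← h2]; exact hgz
  · intro z hz
    have hz' : z ∉ s := hz
    obtain ⟨P, hP, hfix⟩ := h (insert z s) (by rw [Finset.card_insert_of_notMem hz', hs])
    have hmem : ∀ w, (∀ g ∈ P, g • w = w) ↔ w ∈ insert z s := by
      intro w
      rw [← Finset.mem_coe, ← hfix, MulAction.mem_fixedPoints]
      exact ⟨fun hw g => hw g g.2, fun hw g hg => hw ⟨g, hg⟩⟩
    refine ⟨P, fun g hg => ?_, hP, (hmem z).2 (Finset.mem_insert_self _ _), fun w hw hw' => ?_⟩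
    · rw [mem_fixingSubgroup_iff]
      intro w hw
      exact (hmem w).2 (Finset.mem_insert_of_mem hw) g hg
    · rcases Finset.mem_insert.1 ((hmem w).1 hw') with e | e
      · exact e
      · exact absurd e hw

end Cfsg.Agent.S0743
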