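import Cfsg.Statements.S3752
import Cfsg.Agent.Local.CharP
import Cfsg.Agent.Trans.GenFitting
import Cfsg.Agent.Solv.FittingOf
import Cfsg.Agent.Solv.Nilpotent
import Cfsg.Agent.Solv.Subnormal

set_option autoImplicit false
open Cfsg

namespace Cfsg.Agent.S3752

open Cfsg.Lib.Solv
open scoped Pointwise

open Cfsg.Lib.Trans Cfsg.Lib.Local

variable {G : Type*} [Group G] [Finite G]

theorem layer_le {M₁ M₂ : Subgroup G}
    (h₁ : (generalizedFittingSubgroup M₁).map M₁.subtype ≤ M₂)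
    (h₂ : (generalizedFittingSubgroup M₂).map M₂.subtype ≤ M₁) :
    (layer M₁).map M₁.subtype ≤ (layer M₂).map M₂.subtype := by
  rw [map_layer_subtype_le_iff]
  intro K hKM hK
  set U := (generalizedFittingSubgroup M₂).map M₂.subtype with hU
  have hK2 : K ≤ M₂ := (le_map_layer_subtype hKM hK).trans
    ((Subgroup.map_mono (layer_le_genFitting M₁)).trans h₁)
  have hq := isQuasisimple_of_isComponent_subgroupOf hKM hK
  have hKU : K ≤ Subgroup.normalizer (U : Set G) :=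
    hK2.trans (Subgroup.le_normalizer.trans (normalizer_le_normalizer_map_genFitting M₂))
  rcases le_or_commutator_eq_bot_of_subgroupOf_of_le_normalizer hKM h₂ hK hKU with h | h
  · have hp : ⁅K.subgroupOf M₂, K.subgroupOf M₂⁆ = K.subgroupOf M₂ :=
      IsQuasisimple.perfect ((isQuasisimple_subgroupOf_iff hK2).2 hq)
    have := le_layer_of_perfect_of_le_genFitting hp (by
      intro x hx
      obtain ⟨y, hy, hyx⟩ := h hx
      rwa [← Subtype.ext hyx])
    have := Subgroup.map_mono (f := M₂.subtype) this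
    rwa [Subgroup.map_subgroupOf_eq_of_le hK2] at this
  · exfalso
    have h3 : K ≤ fittingOf M₂ := (le_inf hK2
      (Subgroup.commutator_eq_bot_iff_le_centralizer.1 h)).trans
      (inf_centralizer_map_genFitting_le M₂)
    exact IsQuasisimple.not_le_of_isSolvable hq inferInstance h3

theorem centr {M₁ M₂ : Subgroup G} (h₁ : fittingOf M₁ ≤ M₂) (h₂ : fittingOf M₂ ≤ M₁)
    {A B : Subgroup G} (hA : A ≤ fittingOf M₁) (hB : B ≤ fittingOf M₂)
    (h : (Nat.card A).Coprime (Nat.card B)) : A ≤ Subgroup.centralizer (B : Set G) := by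
  refine le_centralizer_of_coprime_of_isNilpotent (N := fittingOf (M₁ ⊓ M₂)) inferInstance
    (hA.trans ?_) (hB.trans ?_) h
  · exact fittingOf_le_fittingOf_of_le (le_inf (fittingOf_le _) h₁) inf_le_left
  · exact fittingOf_le_fittingOf_of_le (le_inf h₂ (fittingOf_le _)) inf_le_right

theorem coprime_of_ne {p q : ℕ} [hp : Fact p.Prime] [hq : Fact q.Prime] (h : p ≠ q)
    {A B : Subgroup G} (hA : IsPGroup p A) (hB : IsPGroup q B) :
    (Nat.card A).Coprime (Nat.card B) := by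
  obtain ⟨k, hk⟩ := IsPGroup.iff_card.1 hA
  obtain ⟨l, hl⟩ := IsPGroup.iff_card.1 hB
  rw [hk, hl]
  exact Nat.Coprime.pow _ _ ((Nat.coprime_primes hp.out hq.out).2 h)

/-- elements of `M` centralizing all `O_r(M)`, `r ≠ p`. -/
def cc (p : ℕ) (M : Subgroup G) : Subgroup G :=
  M ⊓ ⨅ r : {r : ℕ // r.Prime ∧ r ≠ p}, Subgroup.centralizer (pCoreOf r.1 M : Set G)

theorem le_normalizer_cc (p : ℕ) (M : Subgroup G) : M ≤ Subgroup.normalizer (cc p M : Set G) := by
  intro m hm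
  refine mem_normalizer_of_conj_mem fun x hx => ⟨M.mul_mem (M.mul_mem hm hx.1) (M.inv_mem hm), ?_⟩
  have := Subgroup.mem_iInf.1 hx.2
  exact Subgroup.mem_iInf.2 fun r => conj_mem_of_mem_normalizer
    (le_normalizer_centralizer (Cfsg.Lib.Local.le_normalizer_pCoreOf M) hm) (this r)

theorem cc_le {p : ℕ} (M : Subgroup G) {r : ℕ} (hr : r.Prime) (h : r ≠ p) :
    cc p M ≤ Subgroup.centralizer (pCoreOf r M : Set G) :=
  inf_le_right.trans (iInf_le (fun r : {r : ℕ // r.Prime ∧ r ≠ p} =>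
    Subgroup.centralizer (pCoreOf r.1 M : Set G)) ⟨r, hr, h⟩)

theorem pCoreOf_le_cc {M₁ M₂ : Subgroup G} (h₁ : fittingOf M₁ ≤ M₂) (h₂ : fittingOf M₂ ≤ M₁)
    (p : ℕ) [Fact p.Prime] : pCoreOf p M₂ ≤ cc p M₁ := by
  refine le_inf ((map_pCore_le_fittingOf p M₂).trans h₂) (le_iInf fun r => ?_)
  haveI : Fact r.1.Prime := ⟨r.2.1⟩
  exact centr h₂ h₁ (map_pCore_le_fittingOf p M₂) (map_pCore_le_fittingOf r.1 M₁)
    (coprime_of_ne r.2.2.symm (Cfsg.Lib.Local.isPGroup_pCoreOf _) (Cfsg.Lib.Local.isPGroup_pCoreOf _))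

theorem cc_inf_le {M : Subgroup G} {p q : ℕ} (h : p ≠ q) :
    cc p M ⊓ cc q M ≤ M ⊓ Subgroup.centralizer (fittingOf M : Set G) := by
  refine le_inf (inf_le_left.trans inf_le_left) (Subgroup.le_centralizer_iff.1
    (fittingOf_le_of_forall_pCore_le fun r hr => Subgroup.le_centralizer_iff.1 ?_))
  by_cases hrp : r = p
  · exact inf_le_right.trans (cc_le M hr.out (hrp ▸ h))
  · exact inf_le_left.trans (cc_le M hr.out hrp)

theorem pCoreOf_ne_bot_of {M₁ M₂ : Subgroup G} (h₁ : fittingOf M₁ ≤ M₂) (h₂ : fittingOf M₂ ≤ M₁)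
    (hc : M₁ ⊓ Subgroup.centralizer (fittingOf M₁ : Set G) ≤ fittingOf M₁)
    (p : ℕ) [Fact p.Prime] (h : pCoreOf p M₂ ≠ ⊥) : pCoreOf p M₁ ≠ ⊥ := by
  intro h0
  apply h
  rw [eq_bot_iff, ← h0]
  refine le_map_pCore_of_le_fittingOf (Cfsg.Lib.Local.isPGroup_pCoreOf _) (le_trans ?_ hc)
  refine le_inf ((map_pCore_le_fittingOf p M₂).trans h₂) (Subgroup.le_centralizer_iff.1
    (fittingOf_le_of_forall_pCore_le fun r hr => Subgroup.le_centralizer_iff.1 ?_))
  by_cases hrp : r = p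
  · subst hrp
    change _ ≤ Subgroup.centralizer (pCoreOf r M₁ : Set G)
    rw [h0]
    intro x _
    simp [Subgroup.mem_centralizer_iff]
  · exact (pCoreOf_le_cc h₁ h₂ p).trans (cc_le M₁ hr.out hrp)

theorem pCoreOf_le_pCoreOf {M₁ M₂ : Subgroup G} (h₁ : fittingOf M₁ ≤ M₂) (h₂ : fittingOf M₂ ≤ M₁)
    (hc : M₁ ⊓ Subgroup.centralizer (fittingOf M₁ : Set G) ≤ fittingOf M₁)
    {p q : ℕ} [Fact p.Prime] [Fact q.Prime] (hpq : p ≠ q)
    (hN : M₁ ⊓ Subgroup.normalizer (pCoreOf q M₂ : Set G) ≤ M₂) :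
    pCoreOf p M₂ ≤ pCoreOf p M₁ := by
  set A := pCoreOf p M₂ with hA
  set B := pCoreOf q M₂ with hB
  have hAc : A ≤ cc p M₁ := pCoreOf_le_cc h₁ h₂ p
  have hBc : B ≤ cc q M₁ := pCoreOf_le_cc h₁ h₂ q
  have hcomm : ⁅B, cc p M₁⁆ ≤ fittingOf M₁ := by
    refine le_trans ?_ ((cc_inf_le hpq).trans hc)
    refine le_inf ?_ ?_
    · exact commutator_le_right_of_le_normalizer
        (hBc.trans (inf_le_left.trans (le_normalizer_cc p M₁)))
    · exact (Subgroup.commutator_mono hBc le_rfl).trans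
        (commutator_le_left_of_le_normalizer (inf_le_left.trans (le_normalizer_cc q M₁)))
  set N := fittingOf M₁ ⊔ B with hNd
  have hNn : Group.IsNilpotent N := by
    refine isNilpotent_of_le (K := fittingOf (M₁ ⊓ M₂)) (sup_le ?_ ?_) inferInstance
    · exact fittingOf_le_fittingOf_of_le (le_inf (fittingOf_le _) h₁) inf_le_left
    · exact (map_pCore_le_fittingOf q M₂).trans
        (fittingOf_le_fittingOf_of_le (le_inf h₂ (fittingOf_le _)) inf_le_right)
  have hcN : cc p M₁ ≤ Subgroup.normalizer (N : Set G) := by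
    intro x hx
    refine mem_normalizer_of_conj_mem fun y hy => ?_
    have hBF : B ≤ Subgroup.normalizer (fittingOf M₁ : Set G) :=
      hBc.trans (inf_le_left.trans (le_normalizer_fittingOf M₁))
    obtain ⟨f, hf, b, hb, rfl⟩ := (Cfsg.Lib.Solv.mem_sup_of_le_normalizer hBF).1 hy
    have e : x * (f * b) * x⁻¹ = (x * f * x⁻¹) * (b * x * b⁻¹ * x⁻¹)⁻¹ * b := by group
    rw [e]
    refine Subgroup.mul_mem _ (Subgroup.mem_sup_left (Subgroup.mul_mem _ ?_ (Subgroup.inv_mem _ ?_)))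
      (Subgroup.mem_sup_right hb)
    · exact conj_mem_of_mem_normalizer (le_normalizer_fittingOf M₁ hx.1) hf
    · exact hcomm (Subgroup.commutator_mem_commutator hb hx)
  have hBQ : B ≤ pCoreOf q N := le_map_pCore_of_le_fittingOf (Cfsg.Lib.Local.isPGroup_pCoreOf _)
    (by rw [fittingOf_eq_self_of_isNilpotent hNn]; exact le_sup_right)
  have hcomm2 : ⁅B, cc p M₁⁆ ≤ pCoreOf q M₁ := by
    have h3 : ⁅B, cc p M₁⁆ ≤ pCoreOf q N := (Subgroup.commutator_mono hBQ le_rfl).trans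
      (commutator_le_left_of_le_normalizer
        (hcN.trans (Cfsg.Lib.Local.normalizer_le_normalizer_pCoreOf N)))
    exact le_map_pCore_of_le_fittingOf ((Cfsg.Lib.Local.isPGroup_pCoreOf _).to_le h3) hcomm
  have hres : resOf q (cc p M₁) ≤ Subgroup.centralizer (B : Set G) :=
    resOf_le_centralizer_of_commutator_le (Cfsg.Lib.Local.isPGroup_pCoreOf _) hcomm2
      (cc_le M₁ Fact.out hpq.symm)
  set X := resOf q (cc p M₁) with hX
  have hXM : X ≤ M₁ := (resOf_le _).trans inf_le_left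
  have hX2 : X ≤ M₂ := (le_inf hXM (hres.trans (Subgroup.centralizer_le_normalizer _))).trans hN
  have hAX : A ≤ X := by
    intro a ha
    refine mem_resOf (hAc ha) ?_
    obtain ⟨k, hk⟩ := IsPGroup.iff_orderOf.1 (Cfsg.Lib.Local.isPGroup_pCoreOf (p := p) M₂) ⟨a, ha⟩
    rw [Subgroup.orderOf_mk] at hk
    rw [hk]
    exact Nat.Coprime.pow_left _ ((Nat.coprime_primes Fact.out Fact.out).2 hpq)
  refine Cfsg.Lib.Local.le_pCoreOf_of_subnormalIn ?_ (Cfsg.Lib.Local.isPGroup_pCoreOf _)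
  refine (SubnormalIn.of_le_normalizer hAX
    (hX2.trans (Cfsg.Lib.Local.le_normalizer_pCoreOf M₂))).trans
    (SubnormalIn.of_le_normalizer hXM ?_)
  exact (le_normalizer_cc p M₁).trans (normalizer_le_normalizer_resOf _)

/-- Bender's Theorem on primitive pairs. Two distinct subgroups M₁, M₂ of G form a primitive pair when, for {i, j} = {1, 2}, every non-trivial normal subgroup A of M_i contained in M₁ ∩ M₂ satisfies N_{M_j}(A) = M₁ ∩ M₂; the pair has characteristic p when moreover C_{M_i}(O_p(M_i)) ≤ O_p(M_i) for both i and O_p(M₁)O_p(M₂) ≤ M₁ ∩ M₂. If (M₁, M₂) is a primitive pair of the finite group G with F*(M₁) ≤ M₂ and F*(M₂) ≤ M₁, then for some prime p the pair has characteristic p. -/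
theorem result {G : Type*} [Group G] [Finite G] (M₁ M₂ : Subgroup G) (hne : M₁ ≠ M₂) (hP : ∀ A : Subgroup G, A ≠ ⊥ → A ≤ M₁ ⊓ M₂ → (M₁ ≤ Subgroup.normalizer (A : Set G) → M₂ ⊓ Subgroup.normalizer (A : Set G) = M₁ ⊓ M₂) ∧ (M₂ ≤ Subgroup.normalizer (A : Set G) → M₁ ⊓ Subgroup.normalizer (A : Set G) = M₁ ⊓ M₂)) (h₁ : (Cfsg.generalizedFittingSubgroup ↥M₁).map M₁.subtype ≤ M₂) (h₂ : (Cfsg.generalizedFittingSubgroup ↥M₂).map M₂.subtype ≤ M₁) : ∃ p : ℕ, p.Prime ∧ Subgroup.centralizer (Cfsg.pCore p ↥M₁ : Set ↥M₁) ≤ Cfsg.pCore p ↥M₁ ∧ Subgroup.centralizer (Cfsg.pCore p ↥M₂ : Set ↥M₂) ≤ Cfsg.pCore p ↥M₂ ∧ (Cfsg.pCore p ↥M₁).map M₁.subtype ⊔ (Cfsg.pCore p ↥M₂).map M₂.subtype ≤ M₁ ⊓ M₂ := by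
  have hnn : ∀ A : Subgroup G, A ≤ M₁ ⊓ M₂ → M₁ ≤ Subgroup.normalizer (A : Set G) →
      M₂ ≤ Subgroup.normalizer (A : Set G) → A = ⊥ := by
    intro A hA h1 h2
    by_contra h0
    have e1 := (hP A h0 hA).1 h1
    have e2 := (hP A h0 hA).2 h2
    rw [inf_eq_left.2 h2] at e1
    rw [inf_eq_left.2 h1] at e2
    exact hne (e2.trans e1.symm)
  have hE : (layer M₁).map M₁.subtype = (layer M₂).map M₂.subtype :=
    le_antisymm (layer_le h₁ h₂) (layer_le h₂ h₁)
  have hE1 : (layer M₁).map M₁.subtype = ⊥ := by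
    refine hnn _ (le_inf (Subgroup.map_subtype_le _) (hE ▸ Subgroup.map_subtype_le _))
      (Subgroup.le_normalizer.trans (normalizer_le_normalizer_map_layer _)) ?_
    rw [hE]; exact Subgroup.le_normalizer.trans (normalizer_le_normalizer_map_layer _)
  have hE2 := hE ▸ hE1
  have hc : ∀ M : Subgroup G, (layer M).map M.subtype = ⊥ →
      M ⊓ Subgroup.centralizer (fittingOf M : Set G) ≤ fittingOf M := by
    intro M hM
    have := inf_centralizer_map_genFitting_le M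
    rwa [map_genFitting_subtype, hM, bot_sup_eq] at this
  have hc₁ := hc M₁ hE1
  have hc₂ := hc M₂ hE2
  have k₁ : fittingOf M₁ ≤ M₂ := (Subgroup.map_mono (fitting_le_genFitting M₁)).trans h₁
  have k₂ : fittingOf M₂ ≤ M₁ := (Subgroup.map_mono (fitting_le_genFitting M₂)).trans h₂
  have hO : ∀ (p : ℕ) [Fact p.Prime], pCoreOf p M₁ ⊔ pCoreOf p M₂ ≤ M₁ ⊓ M₂ := fun p _ =>
    sup_le (le_inf (Subgroup.map_subtype_le _) ((map_pCore_le_fittingOf p M₁).trans k₁))
      (le_inf ((map_pCore_le_fittingOf p M₂).trans k₂) (Subgroup.map_subtype_le _))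
  have huniq : ∀ (p q : ℕ) [Fact p.Prime] [Fact q.Prime], p ≠ q → pCoreOf p M₁ ≠ ⊥ →
      pCoreOf q M₁ = ⊥ := by
    intro p q _ _ hpq hp
    by_contra hq
    have hq2 := pCoreOf_ne_bot_of k₂ k₁ hc₂ q hq
    have a1 : pCoreOf p M₂ ≤ pCoreOf p M₁ := pCoreOf_le_pCoreOf k₁ k₂ hc₁ hpq
      (((hP _ hq2 (le_sup_right.trans (hO q))).2
        (Cfsg.Lib.Local.le_normalizer_pCoreOf M₂)).le.trans inf_le_right)
    have a2 : pCoreOf p M₁ ≤ pCoreOf p M₂ := pCoreOf_le_pCoreOf k₂ k₁ hc₂ hpq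
      (((hP _ hq (le_sup_left.trans (hO q))).1
        (Cfsg.Lib.Local.le_normalizer_pCoreOf M₁)).le.trans inf_le_left)
    refine hp (hnn _ (le_sup_left.trans (hO p)) (Cfsg.Lib.Local.le_normalizer_pCoreOf M₁) ?_)
    rw [le_antisymm a2 a1]
    exact Cfsg.Lib.Local.le_normalizer_pCoreOf M₂
  have hex : ∃ p : ℕ, p.Prime ∧ pCoreOf p M₁ ≠ ⊥ := by
    by_contra hno
    push Not at hno
    have f1 : fittingOf M₁ = ⊥ := eq_bot_iff.2 (fittingOf_le_of_forall_pCore_le fun p hp =>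
      (hno p hp.out).le)
    have f2 : fittingOf M₂ = ⊥ := eq_bot_iff.2 (fittingOf_le_of_forall_pCore_le fun p hp => by
      by_contra h
      exact pCoreOf_ne_bot_of k₁ k₂ hc₁ p (fun h' => h h'.le) (hno p hp.out))
    have hb : ∀ M : Subgroup G, fittingOf M = ⊥ →
        M ⊓ Subgroup.centralizer (fittingOf M : Set G) ≤ fittingOf M → M = ⊥ := by
      intro M h1 h2
      rw [h1] at h2
      rw [eq_bot_iff]
      refine le_trans (le_inf le_rfl ?_) h2
      intro x _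
      simp [Subgroup.mem_centralizer_iff]
    exact hne ((hb M₁ f1 hc₁).trans (hb M₂ f2 hc₂).symm)
  obtain ⟨p, hp, hp0⟩ := hex
  haveI : Fact p.Prime := ⟨hp⟩
  have hfin : ∀ M : Subgroup G, M ⊓ Subgroup.centralizer (fittingOf M : Set G) ≤ fittingOf M →
      (∀ (q : ℕ) [Fact q.Prime], p ≠ q → pCoreOf q M = ⊥) → Cfsg.Lib.Local.CharP p M := by
    intro M h1 h2
    have : fittingOf M = pCoreOf p M := by
      refine le_antisymm (fittingOf_le_of_forall_pCore_le fun q _ => ?_)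
        (map_pCore_le_fittingOf p M)
      by_cases hq : p = q
      · subst hq; exact le_rfl
      · exact (h2 q hq).le.trans bot_le
    rw [this] at h1
    exact h1
  refine ⟨p, hp, charP_iff.1 (hfin M₁ hc₁ fun q _ hq => huniq p q hq hp0),
    charP_iff.1 (hfin M₂ hc₂ fun q _ hq => ?_), hO p⟩
  by_contra h
  exact pCoreOf_ne_bot_of k₁ k₂ hc₁ q h (huniq p q hq hp0)

end Cfsg.Agent.S3752
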