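import Cfsg.Statements.S3763
import Cfsg.Agent.Solv.ExtraTwo

set_option autoImplicit false
open Cfsg

namespace Cfsg.Agent.S3763

open Cfsg.Lib.Solv Cfsg.Lib.Solv.PG Subgroup Cfsg.Lib.Trans.ES

/-- Let E be an extraspecial 2-group of order 2^(2n+1). Then the largest elementary abelian subgroups of E have order 2^n or 2^(n+1); and two extraspecial 2-groups of the same order whose largest elementary abelian subgroups have the same order are isomorphic. -/
theorem result {E : Type*} [Group E] [Finite E] (hE : Cfsg.IsExtraspecial 2 E) (n : ℕ) (hn : Nat.card E = 2 ^ (2 * n + 1)) : ((Cfsg.PRankLE 2 n E ∧ ¬ Cfsg.PRankLE 2 (n - 1) E) ∨ (Cfsg.PRankLE 2 (n + 1) E ∧ ¬ Cfsg.PRankLE 2 n E)) ∧ ∀ (E' : Type*) [Group E'] [Finite E'], Cfsg.IsExtraspecial 2 E' → Nat.card E' = Nat.card E → (∀ k : ℕ, Cfsg.PRankLE 2 k E ↔ Cfsg.PRankLE 2 k E') → Nonempty (E ≃* E') := by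
  have h := IsPre.of_isExtraspecial hE
  have hpos : (0 : ℤ) < 2 ^ (n + 1) := by positivity
  obtain ⟨m, hm, hc⟩ := es_exists_card_eq hE
  have hmn : m = n := by
    have := Nat.pow_right_injective le_rfl (hc.symm.trans hn)
    omega
  refine ⟨?_, fun E' _ _ hE' hc hr => ?_⟩
  · simp only [pRankLE_iff_of_isPre h hn]
    rcases defect_of_isPre h hn with h1 | h1 <;> omega
  · have h' := IsPre.of_isExtraspecial hE'
    refine nonempty_mulEquiv_of_defect_eq h h' hc.symm ?_
    have := hr n
    rw [pRankLE_iff_of_isPre h hn, pRankLE_iff_of_isPre h' (hc.trans hn)] at this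
    rcases defect_of_isPre h hn with h1 | h1 <;>
      rcases defect_of_isPre h' (hc.trans hn) with h2 | h2 <;> omega

end Cfsg.Agent.S3763
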