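import Cfsg.Statements.S3861
import Cfsg.Agent.Solv.RealLift

set_option autoImplicit false
open Cfsg

namespace Cfsg.Agent.S3861

open Cfsg.Lib.Solv Cfsg.Lib.Solv.Real

/-- A finite group G has no non-identity element of odd order that is conjugate to its inverse if and only if the Sylow 2-subgroups of G are normal. -/
theorem result {G : Type*} [Group G] [Finite G] (P : Sylow 2 G) : (∀ x : G, x ≠ 1 → Odd (orderOf x) → ¬ IsConj x x⁻¹) ↔ (P : Subgroup G).Normal := by
  constructor
  · intro h
    by_contra hP
    obtain ⟨x, q, j, hq, hq2, hx1, hj, hx⟩ := exists_real_of_not_normal P hP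
    exact h x hx1 (by rw [hj]; exact (hq.odd_of_ne_two hq2).pow) hx
  · intro hP x hx1 hodd hx
    exact hx1 (eq_one_of_real_of_normal P hodd hx)

end Cfsg.Agent.S3861
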