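import Cfsg.Statements.S3862
import Cfsg.Agent.Trans.SmallOrderAction

set_option autoImplicit false
open Cfsg

namespace Cfsg.Agent.S3862

open Cfsg.Lib.Trans


/-- If every 2-element of the finite group G that is conjugate to its inverse lies in the centre of G, then G has a normal 2-complement. -/
theorem result {G : Type*} [Group G] [Finite G] (h : ∀ x : G, (∃ j : ℕ, orderOf x = 2 ^ j) → IsConj x x⁻¹ → x ∈ Subgroup.center G) : Cfsg.HasNormalPComplement 2 G := by
  apply hasNormalPComplement_of_forall_normalizer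
  intro Q hQ _ g hg hc
  have key : ∀ k : ℕ, ∀ a ∈ Q, a ^ 2 ^ k = 1 → Commute g a := by
    intro k
    induction k with
    | zero => intro a _ ha; rw [pow_zero, pow_one] at ha; rw [ha]; exact Commute.one_right g
    | succ k ih =>
      intro a ha hak
      have h1 : Commute g (a ^ 2) := ih _ (pow_mem ha 2) (by rw [← pow_mul, ← pow_succ', hak])
      have hm : g * a * g⁻¹ * a⁻¹ ∈ Q :=
        mul_mem ((Subgroup.mem_normalizer_iff.mp hg a).mp ha) (inv_mem ha)
      obtain ⟨j, hj⟩ := IsPGroup.iff_orderOf.mp hQ ⟨_, hm⟩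
      rw [Subgroup.orderOf_mk] at hj
      have h2 := h _ ⟨j, hj⟩ (by
        rw [isConj_iff]
        refine ⟨a⁻¹, ?_⟩
        have e : g * (a * a) = a * a * g := by simpa [sq] using h1.eq
        calc a⁻¹ * (g * a * g⁻¹ * a⁻¹) * a⁻¹⁻¹ = a * (a * a)⁻¹ * g * a * g⁻¹ := by group
          _ = a * ((a * a)⁻¹ * (g * (a * a))) * a⁻¹ * g⁻¹ := by group
          _ = (g * a * g⁻¹ * a⁻¹)⁻¹ := by rw [e]; group)
      refine Cfsg.Lib.Solv.Coprime.commute_of_commute_commutator
        (Subgroup.mem_center_iff.mp h2 g) ?_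
      rw [hj]
      exact hc.pow_right j
  intro a ha
  obtain ⟨k, hk⟩ := hQ ⟨a, ha⟩
  exact (key k a ha (congrArg Subtype.val hk)).symm

end Cfsg.Agent.S3862
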