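import Cfsg.Statements.S2127
import Cfsg.Agent.Chev.AutTwB
import Cfsg.Agent.Known.FinFieldAut

set_option autoImplicit false
open Cfsg Cfsg.Lib.Chev Cfsg.Lib.Chev.Core

namespace Cfsg.Agent.S2127

/-- Outer automorphisms of the small Ree groups: for q = 3^(2m+1) with m ≥ 1 the outer automorphism group of ²G₂(q) has order 2m + 1 (field automorphisms only). -/
theorem result {K : Type*} [Field K] [Fintype K] {m : ℕ} (hm : 1 ≤ m) (hK : Fintype.card K = 3 ^ (2 * m + 1)) : Nat.card (Cfsg.Out ↥(Cfsg.Lie.twistedG2 K (3 ^ m))) = 2 * m + 1 := by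
  obtain ⟨_, θ, hθ, -, hM⟩ := exists_twG2 hK
  exact (card_out_twG2 θ hθ hK hm hM).trans (Cfsg.Lib.Known.card_ringAut hK)

end Cfsg.Agent.S2127
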