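import Cfsg.Statements.S5375
import Cfsg.Agent.Spor.Fi24Tup
import Cfsg.Agent.Spor.Fi24Kl
import Cfsg.Agent.Spor.Fi24Fact
import Cfsg.Agent.Trans.Component
-- import your own Cfsg.Agent.* helpers here

set_option autoImplicit false
open Cfsg

namespace Cfsg.Agent.S5375

open Cfsg.Lib.Spor.Bulk Cfsg.Lib.Spor.Fm Cfsg.Lib.Spor.F24

/-- Let G be a finite group with trivial centre generated by a conjugation-invariant set D of 3-transpositions on which it acts primitively, of type M(24). Then the layer of G (its largest semisimple normal subgroup) has index 2, D has exactly 306936 members, G has order 2^22 · 3^16 · 5^2 · 7^3 · 11 · 13 · 17 · 23 · 29, the width of D is 24, and for every d in D the subgroup generated by the members of D other than d commuting with d is the centralizer of d. -/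
theorem result {G : Type*} [Group G] [Finite G] {D : Set G} (hD : Cfsg.IsThreeTranspositionGroup D) (hprim : Cfsg.IsPrimitiveUnderConj D) (ht : Cfsg.IsOfTypeM24 G D) : (Cfsg.layer G).index = 2 ∧ D.ncard = 306936 ∧ Nat.card G = 2 ^ 22 * 3 ^ 16 * 5 ^ 2 * 7 ^ 3 * 11 * 13 * 17 * 23 * 29 ∧ Cfsg.commutingWidth D = 24 ∧ ∀ d ∈ D, Subgroup.closure {y : G | y ∈ D ∧ y ≠ d ∧ Commute d y} = Subgroup.centralizer ({d} : Set G) := by
  
  obtain ⟨⟨M⟩, h⟩ := setup hD hprim ht
  refine ⟨?_, M.ncard_D, h.card, width M, fun d hd => ?_⟩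
  · rw [← h.index]
    congr 1
    refine le_antisymm (Lib.Trans.layer_perfect G ▸ Subgroup.commutator_mono le_top le_top)
      (Lib.Trans.IsComponent.le_layer (Lib.Trans.isComponent_of_normal ?_))
    have := h.simple
    refine Lib.Trans.isQuasisimple_of_isSimpleGroup fun hc => ?_
    have h1 : Commute (M.el [1, 2]) (M.el [2, 3]) := congrArg Subtype.val (hc.is_comm.comm
      ⟨_, h.even M (W := [1, 2]) (by decide +kernel)⟩ ⟨_, h.even M (W := [2, 3]) (by decide +kernel)⟩)
    rw [Commute, SemiconjBy, ← M.el_append, ← M.el_append] at h1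
    exact M.el_ne_of_eqW (by decide +kernel) h1
  · have h0 : 0 < C.n := by decide +kernel
    obtain ⟨y, rfl⟩ := M.exists_t_eq hd h0
    generalize M.conj y = N
    have e := N.tS_eq (P := {y | y ≠ N.t 0 ∧ Commute (N.t 0) y}) (s := df (C.nbr 0) (sg 0)) fun q hq => by
      rw [testBit_df, Bool.and_eq_true, N.testBit_nbr h0 hq, Bool.not_eq_true', ← Bool.not_eq_true, testBit_sg]
      exact ⟨fun h => ⟨fun e => h.2 (N.t_inj _ hq _ h0 e), h.1⟩, fun h => ⟨h.2, fun e => h.1 (e ▸ rfl)⟩⟩
    refine le_antisymm ((Subgroup.closure_le _).2 fun x hx =>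
      Subgroup.mem_centralizer_singleton_iff.2 hx.2.2.symm) fun x hx => ?_
    have h1 : x ∈ N.grp kl_s := (N.mem_grp_F (F := [0]) (by simpa using h0)).2
      (List.forall_mem_singleton.2 (Subgroup.mem_centralizer_singleton_iff.1 hx))
    rw [(kl N).2] at h1
    have := N.gW_le_of_prodB kl_pr h1
    rwa [e] at this

end Cfsg.Agent.S5375
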