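import Cfsg.Statements.S0999
import Cfsg.Agent.PrimeOne.Brauer3

set_option autoImplicit false
open Cfsg

namespace Cfsg.Agent.S0999

/-- Let G be a non-cyclic finite simple group and p a prime divisor of its order with p^3 > |G|. Then p > 3 and G is isomorphic to the projective special linear group of dimension 2 over the field with p elements, or p - 1 is a power of 2 and G is isomorphic to that group over the field with p - 1 elements. -/
theorem result {G : Type*} [Group G] [Finite G] [IsSimpleGroup G] (hG : ¬ IsCyclic G) (p : ℕ) (hp : p.Prime) (hdvd : p ∣ Nat.card G) (hbig : Nat.card G < p ^ 3) : (∃ (F : Type) (_ : Field F) (_ : Fintype F), Fintype.card F = p ∧ 3 < p ∧ Nonempty (G ≃* Matrix.ProjectiveSpecialLinearGroup (Fin 2) F)) ∨ (∃ (m : ℕ) (F : Type) (_ : Field F) (_ : Fintype F), Fintype.card F = 2 ^ m ∧ p = 2 ^ m + 1 ∧ 3 < p ∧ Nonempty (G ≃* Matrix.ProjectiveSpecialLinearGroup (Fin 2) F)) := by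
  open Cfsg.Lib.PrimeOne in focus
  haveI := Fact.mk hp
  have hnp : ¬ (Nat.card G).Prime := fun h => hG (haveI := Fact.mk h; isCyclic_of_prime_card rfl)
  have hperf : commutator G = ⊤ :=
    (Cfsg.Lib.Known.isPerfect_of_simple_of_not_prime hnp).commutator_eq_top
  obtain ⟨P⟩ : Nonempty (Sylow p G) := inferInstance
  have hP : ¬ (P : Subgroup G).Normal := fun h => by
    rcases h.eq_bot_or_eq_top with h | h
    · have h1 := P.not_dvd_index
      rw [h, Subgroup.index_bot] at h1
      exact h1 hdvd
    · have h1 : IsPGroup p G := by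
        have := P.isPGroup'
        rw [h] at this
        exact this.of_equiv Subgroup.topEquiv
      haveI := h1.isNilpotent
      exact hnp (Cfsg.Lib.Char.prime_card_of_simple_of_comm
        (IsSimpleGroup.comm_iff_isSolvable.2 inferInstance))
  have hP' := card_eq_of_lt_cube hdvd hbig hP
  have hO : Cfsg.pPrimeCore p G = ⊥ := by
    refine (inferInstance : (Cfsg.pPrimeCore p G).Normal).eq_bot_or_eq_top.resolve_right fun h => ?_
    have := Cfsg.Lib.Solv.not_dvd_card_pPrimeCore p G
    rw [h, Subgroup.card_top] at this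
    exact this hdvd
  exact (concl_of_lt hP' hperf hO (lt_of_lt_cube hP' hperf hbig)).psl

end Cfsg.Agent.S0999
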