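import Cfsg.Statements.S0214
import Cfsg.Agent.Local.StronglyEmb

set_option autoImplicit false
open Cfsg

namespace Cfsg.Agent.S0214

open Cfsg.Lib.Local

/-- Let H be a proper subgroup of the finite group G and P a nontrivial Sylow 2-subgroup of H. Then H is strongly embedded in G if and only if N_G(X) ≤ H for every nontrivial subgroup X of P. -/
theorem result {G : Type*} [Group G] [Finite G] (H : Subgroup G) (hH : H ≠ ⊤) (P : Sylow 2 ↥H) (hP : (P : Subgroup ↥H) ≠ ⊥) : Cfsg.IsStronglyEmbedded H ↔ (∀ X : Subgroup ↥H, X ≤ (P : Subgroup ↥H) → X ≠ ⊥ → Subgroup.normalizer ((X.map H.subtype : Subgroup G) : Set G) ≤ H) := by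
  rw [isStronglyEmbedded_iff_se]
  constructor
  · intro h X hX h1
    apply h.normalizer_le_of_isPGroup (Subgroup.map_subtype_le _) ((P.isPGroup'.to_le hX).map _)
    rwa [Ne, Subgroup.map_eq_bot_iff_of_injective _ H.subtype_injective]
  · intro h
    obtain ⟨Q, hQ⟩ := exists_sylow_eq_of_normalizer_le P (h _ le_rfl hP)
    apply SE.of_normalizers hH Q
    · rwa [hQ, Ne, Subgroup.map_eq_bot_iff_of_injective _ H.subtype_injective]
    · intro A hA h1
      have hAH : A ≤ H := hA.trans (hQ ▸ Subgroup.map_subtype_le _)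
      have := h (A.subgroupOf H) ?_ ?_
      · rwa [Subgroup.map_subgroupOf_eq_of_le hAH] at this
      · intro x hx
        have h2 : (x : G) ∈ (P : Subgroup H).map H.subtype := hQ ▸ hA hx
        obtain ⟨y, hy, hyx⟩ := h2
        rwa [← Subtype.ext hyx]
      · intro hb
        apply h1
        rw [← Subgroup.map_subgroupOf_eq_of_le hAH, hb, Subgroup.map_bot]

end Cfsg.Agent.S0214
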