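import Cfsg.Statements.S0224
import Cfsg.Agent.Local.StronglyEmb

set_option autoImplicit false
open Cfsg

namespace Cfsg.Agent.S0224

open Cfsg.Lib.Local

theorem smul_mk_eq_iff {G : Type*} [Group G] (H : Subgroup G) (t g : G) :
    t • (QuotientGroup.mk g : G ⧸ H) = QuotientGroup.mk g ↔ g⁻¹ * t * g ∈ H := by
  rw [MulAction.Quotient.smul_mk, eq_comm, QuotientGroup.eq, smul_eq_mul, mul_assoc]

/-- Let H be a proper subgroup of even order of the finite group G. Then H is strongly embedded if and only if each involution of H fixes exactly one point (namely the coset H) in the action of G on the cosets of H. -/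
theorem result {G : Type*} [Group G] [Finite G] (H : Subgroup G) (hH : H ≠ ⊤) (heven : Even (Nat.card H)) : Cfsg.IsStronglyEmbedded H ↔ ∀ t ∈ H, orderOf t = 2 → Nat.card {c : G ⧸ H // t • c = c} = 1 := by
  rw [isStronglyEmbedded_iff_se]
  constructor
  · intro h t ht ho
    rw [Nat.card_eq_one_iff_unique]
    refine ⟨⟨?_⟩, ⟨⟨QuotientGroup.mk 1, ?_⟩⟩⟩
    · rintro ⟨a, ha⟩ ⟨b, hb⟩
      induction a using QuotientGroup.induction_on with | H a => ?_
      induction b using QuotientGroup.induction_on with | H b => ?_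
      rw [smul_mk_eq_iff] at ha hb
      apply Subtype.ext
      show (QuotientGroup.mk a : G ⧸ H) = QuotientGroup.mk b
      rw [QuotientGroup.eq]
      exact H.mul_mem (H.inv_mem (h.mem_of_conj' ht ho ha)) (h.mem_of_conj' ht ho hb)
    · rw [smul_mk_eq_iff]; simpa using ht
  · intro h
    refine ⟨hH, even_iff_two_dvd.mp heven, fun x hx ho g hg => ?_⟩
    have h1 := (Nat.card_eq_one_iff_unique.mp (h x hx ho)).1
    have h2 := h1.elim ⟨QuotientGroup.mk g⁻¹, by rw [smul_mk_eq_iff]; simpa using hg⟩
      ⟨QuotientGroup.mk 1, by rw [smul_mk_eq_iff]; simpa using hx⟩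
    have h3 : (QuotientGroup.mk g⁻¹ : G ⧸ H) = QuotientGroup.mk 1 := congrArg Subtype.val h2
    rw [QuotientGroup.eq] at h3
    simpa using h3

end Cfsg.Agent.S0224
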