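import Cfsg.Statements.S0470
import Cfsg.Agent.Mon.MFin
import Cfsg.Agent.Mon.MOdd
import Cfsg.Agent.Mon.HNM
import Cfsg.Agent.S1695
import Cfsg.Agent.S1700

set_option autoImplicit false
open Cfsg

namespace Cfsg.Agent.S0470

/-- In some simple group of the Monster's order there are elements of orders 3, 5 and 7 whose centralisers contain simple subgroups of the Thompson, Harada–Norton and Held orders respectively; the centraliser of the element of order 3 has order 3 · 90745943887872000. -/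
theorem result : ∃ (G : Type) (_ : Group G) (_ : Finite G), Cfsg.IsM G ∧ (∃ x : G, orderOf x = 3 ∧ Nat.card (Subgroup.centralizer ({x} : Set G)) = 272237831663616000 ∧ ∃ K : Subgroup G, K ≤ Subgroup.centralizer ({x} : Set G) ∧ Cfsg.IsTh K) ∧ (∃ x : G, orderOf x = 5 ∧ ∃ K : Subgroup G, K ≤ Subgroup.centralizer ({x} : Set G) ∧ Cfsg.IsHN K) ∧ (∃ x : G, orderOf x = 7 ∧ ∃ K : Subgroup G, K ≤ Subgroup.centralizer ({x} : Set G) ∧ Cfsg.IsHe K) := by
  have h := Lib.Mon.enumM
  have := h.finite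
  obtain ⟨Q, n, -, m⟩ := h.monsterType
  obtain ⟨x, x1, x2, K, x3, ⟨e⟩, -⟩ := Lib.Mon.exists_Th ⟨_, Q, n, m⟩
  obtain ⟨_, y, -, y1, L, y2, ⟨f⟩⟩ := h.exists_HN
  obtain ⟨z, z1, N, z2, ⟨g⟩⟩ := Lib.Mon.exists_He ⟨_, Q, n, m⟩
  have := S1700.result.1
  have := S1701.result.1
  have := S1695.result.1
  exact ⟨_, _, h.finite, h.isM,
    ⟨x, x1, x2, K, x3, e.isSimpleGroup, (Nat.card_congr e.toEquiv).trans S1700.result.2⟩,
    ⟨y, y1, L, y2.trans inf_le_right, f.isSimpleGroup,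
      (Nat.card_congr f.toEquiv).trans S1701.result.2⟩,
    ⟨z, z1, N, z2, g.isSimpleGroup, (Nat.card_congr g.toEquiv).trans S1695.result.2⟩⟩

end Cfsg.Agent.S0470
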