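import Cfsg.Statements.S0485
import Cfsg.Agent.Rank2.UmEnd
-- import your own Cfsg.Agent.* helpers here

set_option autoImplicit false
open Cfsg

namespace Cfsg.Agent.S0485

/-- If a finite simple group has an involution whose centralizer is isomorphic to the quotient of the general unitary
group of dimension 2 for an odd prime power q (realised over the field with q² elements) by a central subgroup of odd
order, then it is isomorphic to the projective special unitary group of dimension 3 for the same q. -/
theorem result {G : Type*} [Group G] [Finite G]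
    [IsSimpleGroup G] {F : Type*} [Field F] [Fintype F] (q : ℕ) (hq : Odd q) (hF : Fintype.card F = q ^ 2)
    (Z : Subgroup (Cfsg.GU 2 F q)) [Z.Normal] (hZc : Z ≤ Subgroup.center (Cfsg.GU 2 F q)) (hZo : Odd (Nat.card Z))
    (t : G) (ht : orderOf t = 2) (hC : Nonempty (Subgroup.centralizer ({t} : Set G) ≃* (Cfsg.GU 2 F q ⧸ Z))) :
    Nonempty (G ≃* Cfsg.PSU 3 F q) := by
  obtain ⟨e⟩ := hC
  obtain ⟨K, _, _, rfl⟩ : ∃ (K : Type _) (_ : Field K) (_ : Finite K), Nat.card K = q :=
    ⟨RingHom.eqLocusField (Cfsg.Lib.Class.frobq hF) (RingHom.id F), inferInstance,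
      inferInstance, Cfsg.Lib.Class.Form.card_pow_eq_self hF⟩
  obtain ⟨Γ, -⟩ := Cfsg.Lib.Rank2.exists_um_of_GU hq hF ht
    (e.symm.toMonoidHom.comp (QuotientGroup.mk' Z))
    (e.symm.surjective.comp (QuotientGroup.mk'_surjective Z)) (by
      rw [← MonoidHom.comap_ker, (MonoidHom.ker_eq_bot_iff _).2 e.symm.injective,
        MonoidHom.comap_bot, QuotientGroup.ker_mk']
      exact Nat.coprime_two_right.2 hZo)
  exact Γ.nonempty_equiv hF

end Cfsg.Agent.S0485
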