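import Cfsg.Statements.S0648
import Cfsg.Agent.Trans.ReplacementComm
import Cfsg.Agent.Solv.PGroupBasic

set_option autoImplicit false
open Cfsg

namespace Cfsg.Agent.S0648

/-- If A acts on B centralizing [B, B], then [B, A] has derived subgroup central in B, and for abelian A and b ∈ B with [[b, A], A, A] = 1 the derived subgroup of the subgroup [b, A] generated by the commutators of b with A has exponent dividing 2. -/
theorem result {G : Type*} [Group G] [Finite G] (A B : Subgroup G) (hAB : A ≤ Subgroup.normalizer (B : Set G)) (hc : ⁅⁅B, B⁆, A⁆ = ⊥) : ⁅⁅B, A⁆, ⁅B, A⁆⁆ ≤ B ⊓ Subgroup.centralizer (B : Set G) ∧ (IsMulCommutative A → ∀ b ∈ B, ⁅⁅(Subgroup.closure {g : G | ∃ a ∈ A, g = b⁻¹ * a * b * a⁻¹}), A⁆, A⁆ = ⊥ → ∀ w ∈ ⁅(Subgroup.closure {g : G | ∃ a ∈ A, g = b⁻¹ * a * b * a⁻¹}), (Subgroup.closure {g : G | ∃ a ∈ A, g = b⁻¹ * a * b * a⁻¹})⁆, w ^ 2 = 1) := by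
  constructor
  · have h1 := Cfsg.Lib.Trans.derived_commutator_centralizes hAB hc
    rw [Subgroup.commutator_comm B A]
    have hN : ⁅A, B⁆ ≤ B := Cfsg.Lib.Solv.commutator_le_right_of_le_normalizer hAB
    refine le_inf ((Subgroup.commutator_mono hN hN).trans
      (Cfsg.Lib.Solv.commutator_le_left_of_le_normalizer Subgroup.le_normalizer)) ?_
    exact Subgroup.commutator_eq_bot_iff_le_centralizer.mp h1
  · intro hA b hb
    have e : Subgroup.closure {g : G | ∃ a ∈ A, g = b⁻¹ * a * b * a⁻¹} =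
        Cfsg.Lib.Trans.commElt A b⁻¹ := by
      apply le_antisymm
      · rw [Subgroup.closure_le]
        rintro _ ⟨a, ha, rfl⟩
        have := Subgroup.inv_mem _ (Cfsg.Lib.Trans.commutator_mem_commElt ha b⁻¹)
        simpa [commutatorElement_def, mul_assoc] using this
      · rw [Cfsg.Lib.Trans.commElt_le_iff]
        intro a ha
        have := Subgroup.inv_mem _ (Subgroup.subset_closure
          (k := {g : G | ∃ a ∈ A, g = b⁻¹ * a * b * a⁻¹}) ⟨a, ha, rfl⟩)
        simpa [commutatorElement_def, mul_assoc] using this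
    rw [e]
    intro h3 w hw
    exact Cfsg.Lib.Trans.sq_eq_one_of_mem_derived_commElt hAB hc
      (fun x hx y hy => Cfsg.Lib.Solv.PG.mul_comm_of_mem hx hy) (B.inv_mem hb) h3 hw

end Cfsg.Agent.S0648
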