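import Cfsg.Statements.S0650
import Cfsg.Agent.Trans.Replacement
import Cfsg.Agent.Solv.PGroupBasic

set_option autoImplicit false
open Cfsg

namespace Cfsg.Agent.S0650

open Cfsg.Lib.Trans Cfsg.Lib.Solv
open scoped commutatorElement

/-- The Glauberman replacement Theorem: from an abelian A ⊇ [B, B] not normalized by the normal subgroup B and a suitable b ∈ B one gets the abelian subgroup A* = (A ∩ b⁻¹Ab)[A, b] of the same order, containing [B, B], meeting B strictly more than A does but not containing B, mutually normalizing with A, with strictly larger normalizer containing b, and (p odd) of no larger exponent. -/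
theorem result {S : Type*} [Group S] [Finite S] {p : ℕ} [Fact p.Prime] (hS : IsPGroup p S) (B : Subgroup S) [B.Normal] (hB2 : p = 2 → IsMulCommutative B) (A : Subgroup S) (hA : IsMulCommutative A) (hBA : ⁅B, B⁆ ≤ A) (hnot : ¬ B ≤ Subgroup.normalizer (A : Set S)) (b : S) (hb : b ∈ B) (hbN : b ∈ Subgroup.normalizer ((Subgroup.normalizer (A : Set S)) : Set S)) (hbA : b ∉ Subgroup.normalizer (A : Set S)) : Nat.card ↥((A ⊓ A.map (MulAut.conj (b⁻¹)).toMonoidHom) ⊔ Subgroup.closure {g : S | ∃ a ∈ A, g = a * b⁻¹ * a⁻¹ * b}) = Nat.card A ∧ IsMulCommutative ↥((A ⊓ A.map (MulAut.conj (b⁻¹)).toMonoidHom) ⊔ Subgroup.closure {g : S | ∃ a ∈ A, g = a * b⁻¹ * a⁻¹ * b}) ∧ ⁅B, B⁆ ≤ ((A ⊓ A.map (MulAut.conj (b⁻¹)).toMonoidHom) ⊔ Subgroup.closure {g : S | ∃ a ∈ A, g = a * b⁻¹ * a⁻¹ * b}) ∧ A ⊓ B < ((A ⊓ A.map (MulAut.conj (b⁻¹)).toMonoidHom) ⊔ Subgroup.closure {g : S | ∃ a ∈ A, g = a * b⁻¹ * a⁻¹ * b}) ⊓ B ∧ ((A ⊓ A.map (MulAut.conj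 (b⁻¹)).toMonoidHom) ⊔ Subgroup.closure {g : S | ∃ a ∈ A, g = a * b⁻¹ * a⁻¹ * b}) ⊓ B < B ∧ A ≤ Subgroup.normalizer (((A ⊓ A.map (MulAut.conj (b⁻¹)).toMonoidHom) ⊔ Subgroup.closure {g : S | ∃ a ∈ A, g = a * b⁻¹ * a⁻¹ * b} : Subgroup S) : Set S) ∧ ((A ⊓ A.map (MulAut.conj (b⁻¹)).toMonoidHom) ⊔ Subgroup.closure {g : S | ∃ a ∈ A, g = a * b⁻¹ * a⁻¹ * b}) ≤ Subgroup.normalizer (A : Set S) ∧ b ∈ Subgroup.normalizer (((A ⊓ A.map (MulAut.conj (b⁻¹)).toMonoidHom) ⊔ Subgroup.closure {g : S | ∃ a ∈ A, g = a * b⁻¹ * a⁻¹ * b} : Subgroup S) : Set S) ∧ Subgroup.normalizer (A : Set S) < Subgroup.normalizer (((A ⊓ A.map (MulAut.conj (b⁻¹)).toMonoidHom) ⊔ Subgroup.closure {g : S | ∃ a ∈ A, g = a * b⁻¹ * a⁻¹ * b} : Subgroup S) : Set S) ∧ (p ≠ 2 → Monoid.exponent ↥((A ⊓ A.map (MulAut.conj (b⁻¹)).toMonoidHom) ⊔ Subgroup.closure {g : S | ∃ a ∈ A, g = a * b⁻¹ * a⁻¹ * b}) ∣ Monoid.exponent A) := by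
  have e : ((A ⊓ A.map (MulAut.conj (b⁻¹)).toMonoidHom) ⊔ Subgroup.closure {g : S | ∃ a ∈ A, g = a * b⁻¹ * a⁻¹ * b}) = replace A b⁻¹ := by
    simp only [replace, commElt, commutatorElement_def, inv_inv]
  rw [e]
  have hA' : ∀ x ∈ A, ∀ y ∈ A, Commute x y := fun x hx y hy => PG.mul_comm_of_mem hx hy
  have hBA' : ∀ x ∈ B, ∀ a ∈ A, a ∈ B → x * a * x⁻¹ ∈ A := by
    intro x hx a ha haB
    have e : x * a * x⁻¹ = ⁅x, a⁆ * a := by rw [commutatorElement_def]; group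
    rw [e]
    exact A.mul_mem (hBA (Subgroup.commutator_mem_commutator hx haB)) ha
  have h : ReplSetup A B b⁻¹ := by
    refine replSetup_of_mem_normalizer (P := ⊤) le_top hA' (by rw [Subgroup.normalizer_eq_top]; exact le_top)
      (comm_eq_bot_of_commute fun x hx y hy => hA' x (hBA hx) y hy) hBA' (B.inv_mem hb) ?_
    simpa using hbN
  have hM : ∀ x ∈ commElt A b⁻¹, ∀ y ∈ commElt A b⁻¹, Commute x y := by
    by_cases hp : p = 2
    · have := hB2 hp
      exact fun x hx y hy => PG.mul_comm_of_mem (h.commElt_le hx) (h.commElt_le hy)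
    · exact h.commElt_comm_of_odd Fact.out hp (hS.to_subgroup B)
  have hB' : ⁅B, B⁆ ≤ A ⊓ cj b⁻¹ A :=
    (le_inf hBA (commutator_le_left_of_le_normalizer Subgroup.le_normalizer)).trans h.inf_le_inf_cj
  have hbR : b ∈ Subgroup.normalizer (replace A b⁻¹ : Set S) := by
    rw [← Subgroup.inv_mem_iff]
    refine mem_normalizer_of_conj_mem fun x hx => ?_
    obtain ⟨z, hz, a, ha, rfl⟩ := h.exists_eq_of_mem_replace hx
    have hm := commutator_mem_commElt ha b⁻¹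
    have e : b⁻¹ * (z * ⁅a, b⁻¹⁆) * b⁻¹⁻¹ = (b⁻¹ * z * b⁻¹⁻¹) * (⁅b⁻¹, ⁅a, b⁻¹⁆⁆ * ⁅a, b⁻¹⁆) := by
      simp only [commutatorElement_def]; group
    rw [e]
    refine Subgroup.mul_mem _ (Subgroup.mem_sup_left ⟨?_, conj_mem_cj.mpr hz.1⟩)
      (Subgroup.mul_mem _ (Subgroup.mem_sup_left (hB' (Subgroup.commutator_mem_commutator h.mem
        (h.commElt_le hm)))) (Subgroup.mem_sup_right hm))
    have h1 : ⁅z, b⁆ ∈ A := by
      rw [ReplSetup.commutator_eq]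
      exact A.mul_mem hz.1 (mem_cj_inv.mp (Subgroup.inv_mem _ hz.2))
    have h2 : ⁅z, b⁆ ∈ B := Subgroup.commutator_le_right ⊤ B
      (Subgroup.commutator_mem_commutator (Subgroup.mem_top z) hb)
    have h3 := hBA' b⁻¹ (B.inv_mem hb) _ h1 h2
    have e2 : b⁻¹ * z * b⁻¹⁻¹ = (b⁻¹ * ⁅z, b⁆ * b⁻¹⁻¹) * z := by
      simp only [commutatorElement_def]; group
    rw [e2]
    exact A.mul_mem h3 hz.1
  refine ⟨h.card_replace, PG.isMulCommutative_of_forall (h.replace_comm hM),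
    hB'.trans le_sup_left, h.inf_lt (by rwa [Subgroup.inv_mem_iff]), ?_, h.le_normalizer_replace,
    h.replace_le_normalizer, hbR, ?_, ?_⟩
  · exact lt_of_le_of_ne inf_le_right fun he => hnot
      ((he.ge.trans inf_le_left).trans h.replace_le_normalizer)
  · refine lt_of_le_of_ne ?_ fun he => hbA (he ▸ hbR)
    intro g hg
    refine mem_normalizer_of_conj_mem fun x hx => h.conj_mem_replace hg ?_
      (by rw [Subgroup.normalizer_eq_top]; trivial) ?_ hx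
    · rw [← cj_normalizer, cj_eq_of_mem_normalizer (Subgroup.inv_mem _ hbN)]
      exact hg
    · rw [inv_inv]
      exact conj_mem_of_mem_normalizer hbN hg
  · intro hp
    rw [Monoid.exponent_dvd_iff_forall_pow_eq_one]
    intro x
    have hodd : Odd (Monoid.exponent A) := by
      obtain ⟨k, hk⟩ := (hS.to_subgroup A).exists_card_eq
      have h1 : Monoid.exponent A ∣ p ^ k := hk ▸ Group.exponent_dvd_nat_card
      exact Odd.of_dvd_nat (((Fact.out : p.Prime).odd_of_ne_two hp).pow) h1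
    apply Subtype.ext
    exact h.pow_eq_one hodd (fun a ha => by
      simpa using congrArg Subtype.val (Monoid.pow_exponent_eq_one (⟨a, ha⟩ : A))) x.2

end Cfsg.Agent.S0650
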