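import Cfsg.Statements.S0652
import Cfsg.Agent.Trans.ZJ

set_option autoImplicit false
open Cfsg

namespace Cfsg.Agent.S0652

open Cfsg.Lib.Trans Cfsg.Lib.Trans.TJ
open scoped commutatorElement

theorem aux {S : Type*} [Group S] [Finite S] {p : ℕ} [Fact p.Prime] (hS : IsPGroup p S) (hp : p ≠ 2)
    {n : ℕ} (hn : n = 0 ∨ Odd n) (D : Subgroup S) [D.Normal] (B : Subgroup S) [B.Normal] :
    (∃ U ∈ (Set.image (fun A : Subgroup ↥D => A.map D.subtype) (Cfsg.maxElementaryAbelianSubgroups n ↥D)), ⁅B, B⁆ ≤ U ∧ ¬ B ≤ U) → ∃ A ∈ (Set.image (fun A : Subgroup ↥D => A.map D.subtype) (Cfsg.maxElementaryAbelianSubgroups n ↥D)), ⁅B, B⁆ ≤ A ∧ ¬ B ≤ A ∧ B ≤ Subgroup.normalizer (A : Set S) := by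
  have key : ∀ U : Subgroup S, U ∈ (Set.image (fun A : Subgroup ↥D => A.map D.subtype) (Cfsg.maxElementaryAbelianSubgroups n ↥D)) ↔ MaxEA n D U := by
    intro U
    constructor
    · rintro ⟨A, hA, rfl⟩
      have := (maxEA_top_iff.mpr hA).map D.subtype_injective
      rwa [← MonoidHom.range_eq_map, Subgroup.range_subtype] at this
    · intro hU
      refine ⟨U.subgroupOf D, maxEA_top_iff.mp ?_, Subgroup.map_subgroupOf_eq_of_le hU.le⟩
      refine MaxEA.of_map_injOn (inf_ker_eq_bot_of_injective _ D.subtype_injective) le_top ?_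
      rwa [← MonoidHom.range_eq_map, Subgroup.range_subtype, Subgroup.map_subgroupOf_eq_of_le hU.le]
  simp only [key]
  intro hU
  obtain ⟨A, ⟨hA, hA1, hA2⟩, hmax⟩ := Set.exists_max_image
    {A : Subgroup S | MaxEA n D A ∧ ⁅B, B⁆ ≤ A ∧ ¬ B ≤ A}
    (fun A => Nat.card ↥(A ⊓ B)) (Set.toFinite _) hU
  refine ⟨A, hA, hA1, hA2, ?_⟩
  by_contra hnot
  obtain ⟨A', hA', hlt, hA'A, -⟩ := exists_replacement (P := ⊤) hn (hS.to_subgroup ⊤) le_top
    (Subgroup.normalizer_eq_top D).ge le_top (Subgroup.normalizer_eq_top B).ge (Or.inl hp) hA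
    (comm_eq_bot_of_commute fun x hx y hy => ea_comm hA.ea (hA1 hx) hy) hnot
  refine absurd (hmax A' ⟨hA', ?_, fun h => hnot (h.trans hA'A)⟩) (not_le.mpr (card_lt_of_lt hlt))
  exact ((le_inf hA1 (Subgroup.commutator_le_left B B)).trans hlt.le).trans inf_le_left

/-- For odd p and D normal in the p-group S, the elementary abelian subgroups of D of largest order satisfy the replacement property for class-2 normal subgroups of S. -/
theorem result {S : Type*} [Group S] [Finite S] {p : ℕ} [Fact p.Prime] (hS : IsPGroup p S) (hp : p ≠ 2) (D : Subgroup S) [D.Normal] : ∀ (B : Subgroup S) [B.Normal], ⁅⁅B, B⁆, B⁆ = ⊥ → (∃ U ∈ (Set.image (fun A : Subgroup ↥D => A.map D.subtype) (Cfsg.maxElementaryAbelianSubgroups p ↥D)), ⁅B, B⁆ ≤ U ∧ ¬ B ≤ U) → ∃ A ∈ (Set.image (fun A : Subgroup ↥D => A.map D.subtype) (Cfsg.maxElementaryAbelianSubgroups p ↥D)), ⁅B, B⁆ ≤ A ∧ ¬ B ≤ A ∧ B ≤ Subgroup.normalizer (A : Set S) := by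
  intro B _ _
  exact aux hS hp (Or.inr ((Fact.out : p.Prime).odd_of_ne_two hp)) D B

end Cfsg.Agent.S0652
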