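import Cfsg.Statements.S0655
import Cfsg.Agent.Trans.Thompson

set_option autoImplicit false
open Cfsg

namespace Cfsg.Agent.S0655

open Cfsg.Lib.Trans.TJ

/-- In a p-group the intersection of all elementary abelian subgroups of largest order is the subgroup generated by the elements of order dividing p in the centre (equivalently the centralizer) of the elementary-version Thompson subgroup. -/
theorem result {S : Type*} [Group S] [Finite S] {p : ℕ} [Fact p.Prime] (hS : IsPGroup p S) : sInf (Cfsg.maxElementaryAbelianSubgroups p S) = Cfsg.omegaCenterThompson p S ∧ Cfsg.omegaCenterThompson p S = Cfsg.omegaOne p (Subgroup.centralizer (Cfsg.thompsonSubgroup p S : Set S)) := by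
  have h1 : Cfsg.omegaCenterThompson p S = omegaOne p (centerThompsonOf p (⊤ : Subgroup S)) := by
    unfold omegaCenterThompson centerThompsonOf
    rw [J_top]
  constructor
  · rw [h1]
    apply le_antisymm
    · intro x hx
      rw [Subgroup.mem_sInf] at hx
      obtain ⟨A, hA⟩ := exists_maxEA p (⊤ : Subgroup S)
      have hxA := hx A (maxEA_top_iff.1 hA)
      refine mem_omegaOne_of ⟨hA.le_J hxA, ?_⟩ (ea_pow hA.ea hxA)
      have : thompsonSubgroupOf p (⊤ : Subgroup S) ≤ Subgroup.centralizer {x} := by
        rw [J_le_iff]
        intro B hB y hy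
        rw [Subgroup.mem_centralizer_singleton_iff]
        exact ea_comm hB.ea hy (hx B (maxEA_top_iff.1 hB))
      intro y hy
      exact Subgroup.mem_centralizer_singleton_iff.1 (this hy)
    · rw [le_sInf_iff]
      intro A hA
      exact (maxEA_top_iff.2 hA).omegaOne_center_J_le
  · rw [h1, ← omegaOne_centralizer_J_eq, top_inf_eq, J_top]

end Cfsg.Agent.S0655
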