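import Cfsg.Statements.S0692
import Cfsg.Agent.Perm.RegularGL2

set_option autoImplicit false
open Cfsg

namespace Cfsg.Agent.S0692

open Cfsg.Lib.Perm

def tabT : ℕ := 0x90a0101000405070205020600080402040301090a00030703090608030a010501060500020202030a010504020702090408020a03020605030303040306070007010800000603080407000904010404010201030405080a0609060a0505010708060508020009030601060202040509050a02080900060303050a04060605010502090707060a080a090707070a0002070408030005030003010400080508070808050608090901070309020904040a010a0908090906000a050a06080105030802080406070a0207080709000309050906060400070a0a020101000001040601040a030409070201080a070705000a0000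

def tabD : ℕ := 0x706080b0a070902050402040a0b03090805090b0705010c0a060b05090b0909080804080c060b0c03040c090a07080a0506070c06070709080a0504070c060908050b02050c09080b0a06060a070b090b070c040c0a030a05090b030607050a0802070603040709080a0a0805000108070806040a09060300

theorem tau_A : ∀ x y : ZMod 11, ¬ (x = 0 ∧ y = 0) →
    packTau 11 tabT ![(0) * x + (-1) * y, (1) * x + (0) * y] 0 =
      (0) * packTau 11 tabT ![x, y] 0 + (-1) * packTau 11 tabT ![x, y] 1 ∧
    packTau 11 tabT ![(0) * x + (-1) * y, (1) * x + (0) * y] 1 =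
      (1) * packTau 11 tabT ![x, y] 0 + (0) * packTau 11 tabT ![x, y] 1 := by
  decide +kernel

theorem tau_B : ∀ x y : ZMod 11, ¬ (x = 0 ∧ y = 0) →
    packTau 11 tabT ![(2) * x + (4) * y, (1) * x + (-3) * y] 0 =
      (2) * packTau 11 tabT ![x, y] 0 + (4) * packTau 11 tabT ![x, y] 1 ∧
    packTau 11 tabT ![(2) * x + (4) * y, (1) * x + (-3) * y] 1 =
      (1) * packTau 11 tabT ![x, y] 0 + (-3) * packTau 11 tabT ![x, y] 1 := by
  decide +kernel

theorem dist_lt : ∀ x y : ZMod 11, ¬ (x = 0 ∧ y = 0) → (x = 1 ∧ y = 0) ∨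
    packDist 11 tabD ![(0) * x + (-1) * y, (1) * x + (0) * y] < packDist 11 tabD ![x, y] ∨
    packDist 11 tabD ![(2) * x + (4) * y, (1) * x + (-3) * y] < packDist 11 tabD ![x, y] := by
  decide +kernel

theorem ne_zero_of {x y : ZMod 11} (h : ![x, y] ≠ 0) : ¬ (x = 0 ∧ y = 0) := by
  rintro ⟨rfl, rfl⟩
  exact h (by ext i; fin_cases i <;> rfl)


/-- An exceptional sharply doubly transitive group of degree 11^2: the listed matrices generate a subgroup of GL(2,11) of order 120 acting regularly on the non-zero vectors. -/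
theorem result (A : Matrix.GeneralLinearGroup (Fin 2) (ZMod 11)) (B : Matrix.GeneralLinearGroup (Fin 2) (ZMod 11)) (hA : (A : Matrix (Fin 2) (Fin 2) (ZMod 11)) = !![0, -1; 1, 0]) (hB : (B : Matrix (Fin 2) (Fin 2) (ZMod 11)) = !![2, 4; 1, -3]) : Nat.card (Subgroup.closure ({A, B} : Set (Matrix.GeneralLinearGroup (Fin 2) (ZMod 11)))) = 120 ∧ ∀ v w : Fin 2 → ZMod 11, v ≠ 0 → w ≠ 0 → ∃! h : Subgroup.closure ({A, B} : Set (Matrix.GeneralLinearGroup (Fin 2) (ZMod 11))), Matrix.mulVec ((h : Matrix.GeneralLinearGroup (Fin 2) (ZMod 11)) : Matrix (Fin 2) (Fin 2) (ZMod 11)) v = w := by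
  have : Fact (1 < 11) := ⟨by norm_num⟩
  have key := regular_of_certificate ({A, B} : Set (Matrix.GeneralLinearGroup (Fin 2) (ZMod 11)))
    (packTau 11 tabT) (packDist 11 tabD) (by ext i; fin_cases i <;> decide +kernel) ?_ ?_
  · simpa using key
  · intro g hg
    refine forall_vec2 fun x y h => ?_
    rcases hg with rfl | rfl
    · rw [hA, mulVec_two]
      obtain ⟨h1, h2⟩ := tau_A x y (ne_zero_of h)
      revert h1 h2
      generalize packTau 11 tabT ![x, y] = w
      revert w
      refine forall_vec2 fun z w h1 h2 => ?_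
      rw [mulVec_two]
      ext i; fin_cases i
      · exact h1
      · exact h2
    · rw [hB, mulVec_two]
      obtain ⟨h1, h2⟩ := tau_B x y (ne_zero_of h)
      revert h1 h2
      generalize packTau 11 tabT ![x, y] = w
      revert w
      refine forall_vec2 fun z w h1 h2 => ?_
      rw [mulVec_two]
      ext i; fin_cases i
      · exact h1
      · exact h2
  · refine forall_vec2 fun x y h => ?_
    rcases dist_lt x y (ne_zero_of h) with ⟨rfl, rfl⟩ | h1 | h1
    · exact Or.inl rfl
    · exact Or.inr ⟨A, by simp, by rw [hA, mulVec_two]; exact h1⟩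
    · exact Or.inr ⟨B, by simp, by rw [hB, mulVec_two]; exact h1⟩

end Cfsg.Agent.S0692
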