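import Cfsg.Statements.S0812
import Cfsg.Agent.Class.PSL2Max

set_option autoImplicit false
open Cfsg

namespace Cfsg.Agent.S0812

open Cfsg.Lib.Class

/-- For q ∉ {2, 3, 5, 7, 9, 11}, PSL_2(q) has a maximal subgroup isomorphic to the dihedral group of order 2(q − 1)/d, d = gcd(2, q − 1). -/
theorem result {F : Type*} [Field F] [Fintype F] {q : ℕ} (hF : Fintype.card F = q) (hq : q ∉ ({2, 3, 5, 7, 9, 11} : Finset ℕ)) : ∃ H : Subgroup (Matrix.ProjectiveSpecialLinearGroup (Fin 2) F), IsCoatom H ∧ Nonempty (H ≃* DihedralGroup ((q - 1) / Nat.gcd 2 (q - 1))) := by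
  have hq' : Nat.card F = q := by rw [Nat.card_eq_fintype_card, hF]
  have h2 := two_le_card_field F
  have h3 : q ≠ 2 := fun h => hq (by simp [h])
  obtain ⟨x, y, hT, hc⟩ := exists_torusPair_split (F := F) (by omega)
  refine exists_isCoatom_of_covBy (hT.inf_stabPair_covBy_split hc (by rwa [hq'])) ?_
  have := hT.inf_stabPair_dihedral
  rwa [hT.card_inf_fixPair, hc, hq'] at this

end Cfsg.Agent.S0812
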