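import Cfsg.Statements.S1164
import Cfsg.Agent.Chev.CTPres
import Cfsg.Agent.Chev.RepE6
import Cfsg.Agent.Chev.RepE7
import Cfsg.Agent.Chev.RepD4
import Cfsg.Agent.Chev.CartanKer
import Cfsg.Agent.Chev.CoreAll
-- import your own Cfsg.Agent.* helpers here

set_option autoImplicit false
open Cfsg

namespace Cfsg.Agent.S1164

open Cfsg.Lie Cfsg.Lib.Chev Cfsg.Lib.Chev.Core

/-- Curtis–Tits: for the Chevalley datum of type D₄, F₄, E₆, E₇ or E₈ and a field `K` with at least four elements, there is an isomorphism from the group presented by the Curtis–Tits relators (additivity, the commutator relators and the `h̄`-relators only for roots inside a common rank-two subsystem spanned by two fundamental roots, all other generators killed) onto the group of Steinberg's presentation, sending each generator `x̄_r(t)` with `r` in such a subsystem to `x̄_r(t)`. -/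
theorem result (D : Cfsg.Lie.ChevalleyDatum)
    (hD : D ∈ [Cfsg.Lie.chevD4, Cfsg.Lie.chevF4, Cfsg.Lie.chevE6, Cfsg.Lie.chevE7, Cfsg.Lie.chevE8])
    (K : Type*) [Field K] [Fintype K] (hK : 4 ≤ Fintype.card K) :
    ∃ e : D.CurtisTitsGroup K ≃* D.SteinbergGroup K,
      ∀ (i j r : ℕ) (t : K), D.InRankTwoSub i j r →
        e (PresentedGroup.mk (D.curtisTitsRels K) (D.stX r t)) = D.stGen K r t := by
  classical
  have key : ∀ {D : Cfsg.Lie.ChevalleyDatum}, Nat.card (cartanHom D Kˣ).ker = 1 →
      Function.Injective (cartanHom D Kˣ) := fun h => by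
    rwa [Subgroup.card_eq_one, MonoidHom.ker_eq_bot_iff] at h
  simp only [List.mem_cons, List.not_mem_nil, or_false] at hD
  rcases hD with rfl | rfl | rfl | rfl | rfl
  · exact (Core.certD4.model_stGen K rootD4).exists_curtisTits_equiv (hHom_stGen_injective_D4 K)
  · exact (Core.certF4.model_stGen K rootF4).exists_curtisTits_equiv
      ((Core.certF4.model_stGen K rootF4).hHom_injective_of_cartan (key (card_ker_cartanHom_F4 _)))
  · exact (Core.certE6.model_stGen K rootE6).exists_curtisTits_equiv (hHom_stGen_injective_E6 K)
  · exact (Core.certE7.model_stGen K rootE7).exists_curtisTits_equiv (hHom_stGen_injective_E7 K)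
  · exact (Core.certE8.model_stGen K rootE8).exists_curtisTits_equiv
      ((Core.certE8.model_stGen K rootE8).hHom_injective_of_cartan (key (card_ker_cartanHom_E8 _)))

end Cfsg.Agent.S1164
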