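import Cfsg.Statements.S1293
import Cfsg.Agent.Trans.PComponent

set_option autoImplicit false
open Cfsg

namespace Cfsg.Agent.S1293

open Cfsg.Lib Cfsg.Lib.Trans


/-- Let G be finite with L_{p'}(G) = 1, and H = N_G(P) for a nontrivial p-subgroup P. Then L_{p'}(H) = 1 and O_{p'}(H) ≤ O_{p'}(G). -/
theorem result {G : Type*} [Group G] [Finite G] (p : ℕ) [Fact p.Prime] (hL : Cfsg.pLayer p G = ⊥) (P : Subgroup G) (hP : IsPGroup p ↥P) (hP1 : P ≠ ⊥) : Cfsg.pLayer p ↥(Subgroup.normalizer (P : Set G)) = ⊥ ∧ (Cfsg.pPrimeCore p ↥(Subgroup.normalizer (P : Set G))).map (Subgroup.normalizer (P : Set G)).subtype ≤ Cfsg.pPrimeCore p G := by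
  have hc := isPConstrained_iff_pLayer_eq_bot.2 hL
  refine ⟨isPConstrained_iff_pLayer_eq_bot.1 (hc.normalizer hP), ?_⟩
  have h1 := Solv.centralizer_pCore_le_normalizer (Solv.isPConstrained_iff_quotient.1 hc)
    (hP.map (QuotientGroup.mk' (pPrimeCore p G)))
  have h2 := Solv.pPrimeCore_eq_bot_of_centralizer_le h1
  rw [← ppCoreOf_eq_bot_iff, ← Solv.map_mk'_normalizer_of_isPGroup _
    (Solv.coprime_card_pPrimeCore p G) hP] at h2
  have h3 := map_ppCoreOf_le (p := p) (QuotientGroup.mk' (pPrimeCore p G))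
    (Subgroup.normalizer (P : Set G))
  rw [h2, le_bot_iff, Subgroup.map_eq_bot_iff, QuotientGroup.ker_mk'] at h3
  exact h3

end Cfsg.Agent.S1293
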