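import Cfsg.Statements.S1323
import Cfsg.Agent.Trans.Quasisimple

set_option autoImplicit false
open Cfsg

namespace Cfsg.Agent.S1323

open Equiv Equiv.Perm

variable {α : Type*} [Fintype α] [DecidableEq α]

/-- Even permutations supported in `s`. -/
def A (s : Finset α) : Subgroup (alternatingGroup α) := (alternatingGroup.ofSubtype s).range

theorem mem_A {s : Finset α} {g : alternatingGroup α} :
    g ∈ A s ↔ ∀ x, x ∉ s → (g : Perm α) x = x := by
  rw [A, alternatingGroup.mem_range_ofSubtype_iff]
  constructor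
  · intro h x hx
    by_contra h'
    exact hx (h (mem_support.2 h'))
  · intro h x hx
    by_contra h'
    exact mem_support.1 hx (h x h')

theorem exists_c3 {s : Finset α} {x u v : α} (hx : x ∈ s) (hu : u ∈ s) (hv : v ∈ s) (hxu : x ≠ u)
    (hxv : x ≠ v) (huv : u ≠ v) : ∃ t ∈ A s, (t : Perm α) x = v ∧
      ∀ y, y ≠ x → y ≠ u → y ≠ v → (t : Perm α) y = y := by
  have h : ∀ y, y ≠ x → y ≠ u → y ≠ v → (swap x u * swap x v) y = y := by
    intro y h1 h2 h3
    rw [Perm.mul_apply, swap_apply_of_ne_of_ne h1 h3, swap_apply_of_ne_of_ne h1 h2]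
  refine ⟨⟨swap x u * swap x v, (isThreeCycle_swap_mul_swap_same hxu hxv huv).mem_alternatingGroup⟩,
    mem_A.2 fun y hy => h y (fun e => hy (e ▸ hx)) (fun e => hy (e ▸ hu)) (fun e => hy (e ▸ hv)), ?_, h⟩
  show (swap x u * swap x v) x = v
  rw [Perm.mul_apply, swap_apply_left, swap_apply_of_ne_of_ne hxv.symm huv.symm]

theorem exists_two {s : Finset α} (hs : 4 ≤ s.card) (x y : α) :
    ∃ u ∈ s, ∃ v ∈ s, u ≠ v ∧ u ≠ x ∧ u ≠ y ∧ v ≠ x ∧ v ≠ y := by
  have h1 : 1 < ((s.erase x).erase y).card := by
    have := Finset.pred_card_le_card_erase (s := s) (a := x)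
    have := Finset.pred_card_le_card_erase (s := s.erase x) (a := y)
    omega
  obtain ⟨u, hu, v, hv, huv⟩ := Finset.one_lt_card.1 h1
  simp only [Finset.mem_erase] at hu hv
  exact ⟨u, hu.2.2, v, hv.2.2, huv, hu.2.1, hu.1, hv.2.1, hv.1⟩

theorem cent {s : Finset α} (hs : 4 ≤ s.card) :
    Subgroup.centralizer (A s : Set (alternatingGroup α)) = A sᶜ := by
  ext c
  rw [Subgroup.mem_centralizer_iff, mem_A]
  constructor
  · intro h x hx
    rw [Finset.mem_compl, not_not] at hx
    by_contra hc
    obtain ⟨u, hu, v, hv, huv, h1, h2, h3, h4⟩ := exists_two hs x ((c : Perm α) x)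
    obtain ⟨t, ht, e1, e2⟩ := exists_c3 hx hu hv h1.symm h3.symm huv
    have := congrArg (fun g : alternatingGroup α => (g : Perm α) x) (h t ht)
    simp only [Subgroup.coe_mul, Perm.mul_apply] at this
    rw [e2 _ hc h2.symm h4.symm, e1] at this
    exact h3 ((c : Perm α).injective this).symm
  · intro h t ht
    have ht' := mem_A.1 ht
    apply Subtype.ext
    have : Perm.Disjoint (t : Perm α) (c : Perm α) := by
      intro x
      by_cases hx : x ∈ s
      · exact Or.inr (h x (by simpa using hx))
      · exact Or.inl (ht' x hx)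
    exact this.commute.eq

theorem mem_map_conj {s : Finset α} {g k : alternatingGroup α} :
    k ∈ (A s).map (MulAut.conj g).toMonoidHom ↔ ∀ x, x ∉ s → (k : Perm α) ((g : Perm α) x) = (g : Perm α) x := by
  rw [Subgroup.mem_map_equiv, mem_A]
  refine forall_congr' fun x => imp_congr_right fun _ => ?_
  simp only [MulAut.conj_symm_apply, Subgroup.coe_mul, Subgroup.coe_inv, Perm.mul_apply]
  rw [Perm.inv_eq_iff_eq]

theorem norm_le {G : Type*} [Group G] (H : Subgroup G) :
    Subgroup.normalizer (H : Set G) ≤ Subgroup.normalizer (Subgroup.centralizer (H : Set G) : Set G) := by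
  have key : ∀ g ∈ Subgroup.normalizer (H : Set G), ∀ c ∈ Subgroup.centralizer (H : Set G),
      g * c * g⁻¹ ∈ Subgroup.centralizer (H : Set G) := by
    intro g hg c hc h hh
    have h1 : g⁻¹ * h * g ∈ H := (Subgroup.mem_normalizer_iff''.1 hg h).1 hh
    have := hc _ h1
    calc h * (g * c * g⁻¹) = g * (g⁻¹ * h * g * c) * g⁻¹ := by group
      _ = g * (c * (g⁻¹ * h * g)) * g⁻¹ := by rw [this]
      _ = _ := by group
  intro g hg
  rw [Subgroup.mem_normalizer_iff]
  intro c
  refine ⟨key g hg c, fun h => ?_⟩
  have := key g⁻¹ (inv_mem hg) _ h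
  simpa [mul_assoc] using this

theorem four_le_support {t : Perm α} (h2 : orderOf t = 2) (hs : sign t = 1) : 4 ≤ t.support.card := by
  have hp : (orderOf t).Prime := by rw [h2]; exact Nat.prime_two
  obtain ⟨k, hk⟩ := cycleType_prime_order hp
  rw [h2] at hk
  have h1 := sum_cycleType t
  have h3 := sign_of_cycleType t
  rw [hk] at h1 h3
  simp only [Multiset.sum_replicate, smul_eq_mul, Multiset.card_replicate] at h1 h3
  rcases Nat.eq_zero_or_pos k with rfl | hk0
  · rw [hs] at h3; exact absurd h3 (by decide)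
  · omega

theorem main (s : Finset α) (hs : s.card = 4) (hc : 5 ≤ sᶜ.card) : IsStandardSubgroup (A sᶜ) := by
  have c1 : Subgroup.centralizer (A sᶜ : Set (alternatingGroup α)) = A s := by
    rw [cent (by omega), compl_compl]
  have c2 : Subgroup.centralizer (A s : Set (alternatingGroup α)) = A sᶜ := cent hs.ge
  refine ⟨?_, ?_, ?_, ?_⟩
  · have : IsSimpleGroup (alternatingGroup (sᶜ : Finset α)) :=
      alternatingGroup.isSimpleGroup (by rw [Nat.card_eq_fintype_card, Fintype.card_coe]; exact hc)
    have e : alternatingGroup (sᶜ : Finset α) ≃* A sᶜ :=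
      MonoidHom.ofInjective alternatingGroup.ofSubtype_injective
    have : IsSimpleGroup (A sᶜ) := e.symm.isSimpleGroup
    apply Cfsg.Lib.Trans.isQuasisimple_of_isSimpleGroup
    intro hcomm
    have hle : A sᶜ ≤ A s := by
      rw [← c1]
      intro x hx y hy
      exact congrArg Subtype.val (hcomm.is_comm.comm ⟨y, hy⟩ ⟨x, hx⟩)
    obtain ⟨x, hx⟩ : sᶜ.Nonempty := Finset.card_pos.1 (by omega)
    obtain ⟨u, hu, v, hv, huv, h1, -, h3, -⟩ := exists_two (s := sᶜ) (by omega) x x
    obtain ⟨t, ht, e1, -⟩ := exists_c3 hx hu hv h1.symm h3.symm huv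
    rw [mem_A.1 (hle ht) x (Finset.mem_compl.1 hx)] at e1
    exact h3 e1.symm
  · rw [c1]
    constructor
    · have e : alternatingGroup s ≃* A s :=
        MonoidHom.ofInjective alternatingGroup.ofSubtype_injective
      rw [← Nat.card_congr e.toEquiv]
      have : Nontrivial s := by
        rw [← Fintype.one_lt_card_iff_nontrivial]; simp [hs]
      have h := two_mul_nat_card_alternatingGroup (α := s)
      rw [Nat.card_perm] at h
      have h4 : Nat.card s = 4 := by simp [hs]
      rw [h4] at h
      have : Nat.card (alternatingGroup s) = 12 := by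
        simp only [Nat.factorial] at h; omega
      rw [this]; decide
    · intro g hg
      rw [← Nat.not_even_iff_odd, even_iff_two_dvd]
      intro h2
      obtain ⟨t, ht⟩ := exists_prime_orderOf_dvd_card' 2 h2
      apply hg
      have ht1 := mem_A.1 t.2.1
      have ht2 := mem_map_conj.1 t.2.2
      have h4 : 4 ≤ ((t : alternatingGroup α) : Perm α).support.card := by
        apply four_le_support
        · rw [Subgroup.orderOf_coe, Subgroup.orderOf_coe, ht]
        · exact mem_alternatingGroup.1 (t : alternatingGroup α).2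
      have hsup : ((t : alternatingGroup α) : Perm α).support = s := by
        apply Finset.eq_of_subset_of_card_le _ (by omega)
        intro x hx
        by_contra h'
        exact mem_support.1 hx (ht1 x h')
      have hg1 : ∀ x, x ∉ s → (g : Perm α) x ∉ s := by
        intro x hx h'
        rw [← hsup] at h'
        exact mem_support.1 h' (ht2 x hx)
      have hg2 : ∀ x, x ∉ s → ((g : Perm α))⁻¹ x ∉ s := by
        intro x hx
        have := perm_symm_mapsTo_of_mapsTo (g : Perm α) (s := {x | x ∉ s}) (fun x hx => hg1 x hx)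
        exact this hx
      rw [Subgroup.mem_normalizer_iff]
      intro k
      rw [mem_A, mem_A]
      simp only [Subgroup.coe_mul, Subgroup.coe_inv, Perm.mul_apply]
      constructor
      · intro hk x hx
        rw [hk _ (hg2 x hx)]; simp
      · intro hk x hx
        have := hk _ (hg1 x hx)
        simpa using this
  · intro g _ hb
    rw [Subgroup.commutator_comm, Subgroup.commutator_eq_bot_iff_le_centralizer, c1] at hb
    have : ∃ x ∈ sᶜ, (g : Perm α) x ∉ s := by
      by_contra h
      push Not at h
      have := Finset.card_le_card_of_injOn (s := sᶜ) (t := s) (g : Perm α) (fun x hx => h x hx)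
        ((g : Perm α).injective.injOn)
      omega
    obtain ⟨x, hx, hgx⟩ := this
    obtain ⟨u, hu, v, hv, huv, h1, -, h3, -⟩ := exists_two (s := sᶜ) (by omega) x x
    obtain ⟨t, ht, e1, -⟩ := exists_c3 hx hu hv h1.symm h3.symm huv
    have := mem_A.1 (hb (Subgroup.mem_map_of_mem _ ht)) _ hgx
    simp only [MulEquiv.coe_toMonoidHom, MulAut.conj_apply, Subgroup.coe_mul, Subgroup.coe_inv,
      Perm.mul_apply, Perm.coe_inv, Equiv.symm_apply_apply, e1] at this
    exact h3 ((g : Perm α).injective this)
  · apply le_antisymm (norm_le _)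
    rw [c1]
    have := norm_le (A s)
    rwa [c2] at this

/-- For n ≥ 9, the subgroup of the alternating group on Fin n fixing each of the points 0, 1, 2, 3 is a standard subgroup. -/
theorem result (n : ℕ) (h4 : 4 ≤ n) (hn : 9 ≤ n) : Cfsg.IsStandardSubgroup (⨅ i : Fin 4, MulAction.stabilizer ↥(alternatingGroup (Fin n)) (Fin.castLE h4 i : Fin n)) := by
  let s : Finset (Fin n) := Finset.univ.map (Fin.castLEEmb h4)
  have hs : s.card = 4 := by simp [s]
  have e : (⨅ i : Fin 4, MulAction.stabilizer ↥(alternatingGroup (Fin n)) (Fin.castLE h4 i : Fin n)) = A sᶜ := by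
    ext g
    rw [mem_A, Subgroup.mem_iInf]
    simp only [MulAction.mem_stabilizer_iff, Finset.mem_compl, not_not, s, Finset.mem_map,
      Finset.mem_univ, true_and]
    constructor
    · rintro h x ⟨i, rfl⟩
      exact h i
    · intro h i
      exact h _ ⟨i, rfl⟩
  rw [e]
  apply main s hs
  rw [Finset.card_compl, hs, Fintype.card_fin]
  omega

end Cfsg.Agent.S1323
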