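import Cfsg.Statements.S1339
import Cfsg.Agent.Class.AffLX

set_option autoImplicit false
open Cfsg

namespace Cfsg.Agent.S1339

/-- Let F be a field with 2 elements, n ≥ 3, and t ∈ SL(n, F) a transvection (t = 1 + E_{ij}, i ≠ j). Then the generalized Fitting subgroup of C(t) is O_2(C(t)). -/
theorem result {F : Type*} [Field F] [Fintype F] [DecidableEq F] (hF : Fintype.card F = 2) (n : ℕ) (hn : 3 ≤ n) (i j : Fin n) (hij : i ≠ j) (t : Matrix.SpecialLinearGroup (Fin n) F) (ht : (t : Matrix (Fin n) (Fin n) F) = Matrix.transvection i j 1) : Cfsg.generalizedFittingSubgroup ↥(Subgroup.centralizer ({t} : Set (Matrix.SpecialLinearGroup (Fin n) F))) = Cfsg.pCore 2 ↥(Subgroup.centralizer ({t} : Set (Matrix.SpecialLinearGroup (Fin n) F))) := by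
  obtain ⟨m, rfl⟩ : ∃ m, n = m + 2 := ⟨n - 2, by omega⟩
  obtain ⟨Q, -, -, h, -⟩ := Lib.Class.splitLX_SL (by simpa using hF) (n := m) (by omega) (by simp)
    hij ht (MulEquiv.refl _)
  refine Lib.Trans.genFitting_eq_pCore_iff.2 fun c hc => ?_
  obtain ⟨d, hd, e⟩ := h.le_pCore (h.zpowers_le (h.cent (x := c.1) fun q hq => by
    obtain ⟨q, hq', rfl⟩ := h.le_pCore hq
    exact congrArg Subtype.val (hc q hq')))
  exact Subtype.ext e ▸ hd

end Cfsg.Agent.S1339
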