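import Cfsg.Statements.S1340
import Cfsg.Agent.Class.Corner
import Cfsg.Agent.Class.PSLSimple
import Cfsg.Agent.Class.SLGen
import Cfsg.Agent.Trans.Component
import Cfsg.Agent.Solv.Cores
import Cfsg.Agent.FT.Final
import Mathlib.LinearAlgebra.Projectivization.PSL.PSL2

set_option autoImplicit false
open Cfsg

namespace Cfsg.Agent.S1340

open Subgroup Matrix Cfsg.Lib.Class Cfsg.Lib.Trans

theorem corner {ι κ F : Type*} [Fintype ι] [DecidableEq ι] [Fintype κ] [DecidableEq κ] [Field F]
    [Finite F] (h2 : (2 : F) ≠ 0) (P : Matrix ι κ F) (Q : Matrix κ ι F) (h : Q * P = 1)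
    (hq : IsQuasisimple (SpecialLinearGroup κ F)) :
    HasComponent (centralizer {cornerGL P Q h (-1)} ⧸ oddCore (centralizer {cornerGL P Q h (-1)})) := by
  let f := (cornerGL P Q h).comp SpecialLinearGroup.toGL
  have hf : Function.Injective f := (cornerGL_injective P Q h).comp SpecialLinearGroup.toGL_injective
  have h1 : f.range ≤ centralizer {cornerGL P Q h (-1)} := by
    rintro _ ⟨M, rfl⟩
    simp [f, mem_centralizer_singleton_iff, ← map_mul]
  have h3 : ∀ g ∈ centralizer {cornerGL P Q h (-1)}, (g : Matrix ι ι F) * (P * Q) = P * Q * g.1 := by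
    intro g hg
    have := congrArg Units.val (mem_centralizer_singleton_iff.1 hg)
    simp only [Units.val_mul, coe_cornerGL, Units.val_neg, Units.val_one] at this
    rw [show (-1 - 1 : Matrix κ κ F) = (-2 : F) • 1 by
      rw [neg_smul, two_smul]; abel] at this
    simp only [Matrix.mul_smul, Matrix.smul_mul, Matrix.mul_one, mul_add, add_mul, one_mul,
      add_right_inj] at this
    exact smul_right_injective _ (neg_ne_zero.2 h2) this
  have h4 : centralizer {cornerGL P Q h (-1)} ≤ normalizer (f.range : Set (GL ι F)) := by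
    have := Fintype.ofFinite F
    refine fun g hg => Lib.Solv.mem_normalizer_of_conj_mem ?_
    rintro _ ⟨M, rfl⟩
    have e1 : (g : Matrix ι ι F) * P = P * (Q * g.1 * P) := by
      rw [← Matrix.mul_assoc, ← Matrix.mul_assoc, ← h3 g hg, Matrix.mul_assoc, Matrix.mul_assoc, h,
        Matrix.mul_one]
    have e2 : Q * ((g⁻¹ : GL ι F) : Matrix ι ι F) = Q * (g⁻¹ : GL ι F).1 * P * Q := by
      rw [Matrix.mul_assoc, Matrix.mul_assoc, h3 _ (inv_mem hg), ← Matrix.mul_assoc,
        ← Matrix.mul_assoc, h, Matrix.one_mul]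
    have e3 : Q * g.1 * P * (Q * (g⁻¹ : GL ι F).1 * P) = 1 := by
      rw [Matrix.mul_assoc Q, Matrix.mul_assoc Q, Matrix.mul_assoc Q, Matrix.mul_assoc g.1,
        ← Matrix.mul_assoc P, ← Matrix.mul_assoc g.1, h3 g hg, Matrix.mul_assoc _ g.1,
        ← Matrix.mul_assoc g.1, Units.mul_inv, Matrix.one_mul, Matrix.mul_assoc, h, Matrix.mul_one, h]
    refine ⟨⟨Q * g.1 * P * M.1 * (Q * (g⁻¹ : GL ι F).1 * P), ?_⟩, Units.ext ?_⟩
    · rw [det_mul, det_mul, M.det_coe, mul_one, ← det_mul, e3, det_one]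
    · change 1 + P * (Q * g.1 * P * M.1 * (Q * (g⁻¹ : GL ι F).1 * P) - 1) * Q =
        g.1 * (1 + P * (M.1 - 1) * Q) * (g⁻¹ : GL ι F).1
      rw [mul_add, add_mul, mul_one, Units.mul_inv, ← Matrix.mul_assoc g.1, ← Matrix.mul_assoc g.1,
        e1]
      conv_rhs => rw [Matrix.mul_assoc _ Q, e2]
      conv_lhs => rw [← e3]
      simp only [Matrix.mul_sub, Matrix.sub_mul, Matrix.mul_assoc, Matrix.mul_one]
  have := Fintype.ofFinite F
  have := normal_subgroupOf_of_le_normalizer h4
  have hK := isComponent_of_normal ((isQuasisimple_subgroupOf_iff h1).2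
    (IsQuasisimple.of_mulEquiv hq (MonoidHom.ofInjective hf)))
  refine ⟨_, IsComponent.map_of_surjective hK _ (QuotientGroup.mk'_surjective _) fun e => ?_⟩
  rw [Subgroup.map_eq_bot_iff, QuotientGroup.ker_mk'] at e
  exact IsComponent.not_le_of_isSolvable hK
    (Lib.FT.odd_order_solvable (Lib.Solv.odd_card_oddCore _)) e

/-- Let F be a finite field of odd order and n ≥ 3 with (n, |F|) ≠ (3, 3). Then GL(n, F) has a non-central involution t such that C(t) / O(C(t)) has a component. -/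
theorem result {F : Type*} [Field F] [Fintype F] [DecidableEq F] (hF : Odd (Fintype.card F)) (n : ℕ) (hn : 3 ≤ n) (h33 : ¬ (n = 3 ∧ Fintype.card F = 3)) : ∃ t : Matrix.GeneralLinearGroup (Fin n) F, orderOf t = 2 ∧ t ∉ Subgroup.center (Matrix.GeneralLinearGroup (Fin n) F) ∧ Cfsg.HasComponent (↥(Subgroup.centralizer ({t} : Set (Matrix.GeneralLinearGroup (Fin n) F))) ⧸ Cfsg.oddCore ↥(Subgroup.centralizer ({t} : Set (Matrix.GeneralLinearGroup (Fin n) F)))) := by
  obtain ⟨m, rfl⟩ : ∃ m, n = m + 2 + 1 := ⟨n - 3 + 0, by omega⟩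
  have h2 : (2 : F) ≠ 0 := Ring.two_ne_zero fun h => by
    have := FiniteField.even_card_of_char_two h
    rw [Nat.odd_iff] at hF; omega
  let P : Matrix (Fin (m + 2 + 1)) (Fin (m + 2)) F := (1 : Matrix _ _ F).submatrix id Fin.succ
  have h : Pᵀ * P = 1 := by
    ext i j
    simp [P, Matrix.mul_apply, Matrix.one_apply, eq_comm]
  have hq : IsQuasisimple (SpecialLinearGroup (Fin (m + 2)) F) := by
    rcases m with _ | m
    · obtain ⟨x, hx⟩ : IsCyclic Fˣ := inferInstance
      have h4 : ∃ a : F, a ≠ 0 ∧ a ^ 2 ≠ 1 := ⟨x, x.ne_zero, fun h => by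
        have h5 := orderOf_le_of_pow_eq_one zero_lt_two (Units.ext (by simpa using h) : x ^ 2 = 1)
        rw [orderOf_eq_card_of_forall_mem_zpowers hx, Nat.card_units, Nat.card_eq_fintype_card] at h5
        have := Fintype.one_lt_card (α := F)
        rw [Nat.odd_iff] at hF; omega⟩
      obtain ⟨a, ha, ha'⟩ := h4
      exact ⟨⟨SL2.commutator_eq_top ha ha'⟩,
        Matrix.ProjectiveSpecialLinearGroup.rank_two_simple' ⟨a, ha, ha'⟩⟩
    · exact ⟨⟨SL_commutator_eq_top (by simp)⟩, PSL_isSimpleGroup (by simp)⟩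
  have h3 : cornerGL P Pᵀ h (-1) ∉ center _ := fun hc => by
    obtain ⟨a, ha⟩ := GeneralLinearGroup.mem_center_iff_val_mem_range_scalar.1 hc
    have e0 := congrFun (congrFun ha 0) 0
    have e1 := mul_cornerMat_mul P Pᵀ h (-1)
    rw [show cornerMat P Pᵀ h (-1) = scalar _ a from ha.symm, scalar_apply, ← smul_eq_mul_diagonal,
      Matrix.smul_mul, h] at e1
    have e2 := congrFun (congrFun e1 0) 0
    simp [coe_cornerGL, P, Matrix.mul_apply, Matrix.one_apply, (Fin.succ_ne_zero _).symm] at e0 e2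
    exact h2 (by linear_combination e2 - e0)
  refine ⟨_, orderOf_eq_prime (by rw [← map_pow]; simp) fun e => h3 (by rw [e]; exact one_mem _), h3,
    corner h2 P Pᵀ h hq⟩

end Cfsg.Agent.S1340
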