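import Cfsg.Statements.S1571
import Cfsg.Agent.Spor.Co0Mono

set_option autoImplicit false
open scoped Pointwise
open Cfsg

namespace Cfsg.Agent.S1571

open Cfsg.Lib.Spor Cfsg.Lib.Spor.CK Cfsg.Lib.Spor.Orb MulAction

theorem mem_stdCross (v : leechLattice) :
    (v : GolayPt → ℤ) ∈ stdCross ↔ ∃ j, v = e8 j ∨ v = -e8 j := by
  have e : ∀ j : GolayPt, ((-e8 j : leechLattice) : GolayPt → ℤ) = Pi.single j (-8) := fun j => by
    rw [Pi.single_neg]; rfl
  constructor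
  · rintro ⟨j, s, rfl | rfl, h⟩
    · exact ⟨j, Or.inl (Subtype.ext h)⟩
    · exact ⟨j, Or.inr (Subtype.ext (h.trans (e j).symm))⟩
  · rintro ⟨j, rfl | rfl⟩
    · exact ⟨j, 8, Or.inl rfl, rfl⟩
    · exact ⟨j, -8, Or.inr rfl, e j⟩

/-- The stabiliser of the standard cross in the automorphism group of the lattice is the monomial group of the code: each of its elements acts as a signed permutation with permutation part in the code's group and sign set a codeword, and it has order 4096 · 244823040. -/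
theorem result : (∀ g : ↥Cfsg.Co0, (∀ v : ↥Cfsg.leechLattice, (v : Cfsg.GolayPt → ℤ) ∈ Cfsg.stdCross → ((g • v : ↥Cfsg.leechLattice) : Cfsg.GolayPt → ℤ) ∈ Cfsg.stdCross) → ∃ f ∈ Cfsg.golayMonomialMaps, ∀ v : ↥Cfsg.leechLattice, ((g • v : ↥Cfsg.leechLattice) : Cfsg.GolayPt → ℤ) = f (v : Cfsg.GolayPt → ℤ)) ∧ Nat.card {g : ↥Cfsg.Co0 // (∀ v : ↥Cfsg.leechLattice, (v : Cfsg.GolayPt → ℤ) ∈ Cfsg.stdCross → ((g • v : ↥Cfsg.leechLattice) : Cfsg.GolayPt → ℤ) ∈ Cfsg.stdCross)} = 4096 * 244823040 := by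
  have key : ∀ g : Co0, (∀ v : leechLattice, (v : GolayPt → ℤ) ∈ stdCross →
      ((g • v : leechLattice) : GolayPt → ℤ) ∈ stdCross) ↔ g ∈ monoSub := by
    intro g
    simp only [mem_stdCross]
    constructor
    · exact fun h j => h _ ⟨j, Or.inl rfl⟩
    · rintro h v ⟨j, rfl | rfl⟩
      · exact h j
      · obtain ⟨k, hk | hk⟩ := h j
        · exact ⟨k, Or.inr (by rw [co0_smul_neg, hk])⟩
        · exact ⟨k, Or.inl (by rw [co0_smul_neg, hk, neg_neg])⟩
  simp only [key]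
  refine ⟨fun g hg => ?_, card_monoSub.trans (by norm_num)⟩
  obtain ⟨σ, c, rfl⟩ := mem_monoSub.1 hg
  exact ⟨_, ⟨σ, σ.2, c, c.2, rfl⟩, monoCo0_smul σ c⟩

end Cfsg.Agent.S1571
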