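import Cfsg.Statements.S1643
import Cfsg.Agent.Class.M24Inv
import Cfsg.Agent.Spor.M23Classes

set_option autoImplicit false
open scoped Pointwise
open Cfsg

namespace Cfsg.Agent.S1643

open Cfsg.Lib.Spor Cfsg.Lib.Spor.MP Cfsg.Lib.Class.M24I Subgroup MulAction

def cC : List (ℕ × List ℕ × ℕ × ℕ × ℕ) :=
  [(971592882964418941354553515258775584, [0], 1, 0, 0),
   (958832388259865143019130215379098257, [3], 4, 19, 8),
   (981615400262322317170871210879486003, [9], 7, 12, 6),
   (984271530404481009861482530574765248, [0], 1, 0, 6),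
   (970499853232084470193938413229475936, [1, 18], 7, 22, 4),
   (975716314609545001839808103880108459, [2, 21], 2, 17, 0),
   (975630392206473584587242292868448290, [1, 16], 3, 5, 10),
   (969886588216913751772115311372837990, [8], 4, 11, 2),
   (984818046155528637472278033389945933, [3, 2], 3, 6, 6),
   (977578447038811680155875021202032992, [1, 16], 7, 3, 1),
   (979604401988481838257647565893420075, [1, 4], 7, 4, 4),
   (957309784184414224270720535670921920, [4, 11], 3, 7, 3),
   (984806274390134194629743503195224448, [6], 7, 6, 2),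
   (962735158281325315985588383328580096, [1, 16], 3, 11, 3),
   (984006699325312502246678843302972072, [3, 14], 2, 12, 5),
   (964027501500908993021918568471217280, [2, 16], 4, 11, 8),
   (984806705081099679666679233826097710, [3, 6], 7, 2, 6),
   (960921395518716972692641204184265760, [3, 10], 4, 9, 10),
   (977759530412346220643368928186273264, [0], 1, 19, 7),
   (984082729893655308937407105539413227, [3], 4, 19, 0),
   (981737844911619387273155912318462087, [8], 4, 3, 5),
   (971756445247858334844379885128419626, [1, 4], 3, 6, 10),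
   (956220798462706250605517342602692758, [11], 7, 21, 1),
   (984043701464640637515242527762011593, [4, 16], 2, 12, 1),
   (967555929534396996894990521472789088, [1, 10], 7, 9, 2),
   (965247045991236708390729189595138542, [1, 14], 3, 12, 1),
   (957547791575627323927128023169943251, [3, 6], 4, 6, 6),
   (966622207072516691986782552810704946, [1, 15], 2, 9, 8),
   (965932418051240929941778410524233776, [7], 4, 1, 4),
   (984250337059057528925372003505182189, [1, 16], 3, 18, 9),
   (978084048986100790920862552845227232, [2, 4], 7, 12, 2),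
   (965307834141142729584130318967212169, [0], 1, 13, 1),
   (962121513926875135084855130731940448, [0], 1, 5, 9),
   (973725025079559053429611728611674152, [4], 4, 5, 6),
   (984792852592371783752340207789714676, [2, 11], 7, 0, 9),
   (984612649355406094121217942427387040, [5, 4], 7, 13, 7),
   (969724328954662448005736240938917536, [1, 1, 22], 7, 4, 0),
   (981900097418149356294900620993184800, [2, 20], 7, 21, 5),
   (984817926411759647147806875770389578, [3, 5], 4, 11, 10),
   (977010343789402039325093392245033088, [2], 7, 1, 10),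
   (984813156490408329070235340691846543, [7, 6], 7, 19, 5),
   (984817887621785171022655767816798626, [1, 1, 6], 3, 17, 2),
   (978288180344178655415768347585978720, [1], 4, 20, 5),
   (984737193616507953332582334206319648, [1, 20], 2, 7, 2),
   (975260157811037623190797458966940020, [1, 1, 18], 7, 17, 9),
   (984006591303295795396162444795579043, [0], 1, 16, 4),
   (984778947275340660717821982278781344, [4, 14], 4, 16, 2),
   (984696553521143719332002643628397920, [2, 21], 3, 18, 4),
   (984006946951169795977678836971539111, [5, 1], 3, 16, 3),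
   (984235124059903731317257460682898604, [0], 1, 7, 2),
   (967942597091700011343264256864341216, [3, 17], 7, 2, 2),
   (963195967706607381843849196326881749, [5], 4, 21, 10),
   (984805567367260458273497259875606961, [1, 9, 2], 7, 8, 7),
   (973132291073698728254988681679636723, [1], 4, 19, 8),
   (984601466385488695505300014007060643, [2], 4, 15, 7),
   (972361039729901978089030791347688672, [2, 19], 7, 18, 9),
   (972445495582756216308708262548605091, [1, 11], 4, 14, 7),
   (975731604995710468720839541657801088, [11], 4, 21, 9),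
   (981900104175114368232581559952312364, [1, 3, 1], 3, 21, 8),
   (967943273439498524227250746552455562, [0], 1, 18, 5),
   (978327275714156286787191322803552608, [4, 16], 3, 16, 8),
   (984818224416700065671385021479405603, [6, 10], 4, 16, 9),
   (962183075147128606791182314138634278, [1, 7], 7, 2, 7),
   (973096264560359518864766974382540848, [8], 7, 18, 8),
   (984347934892257973202123717504769675, [6, 11], 7, 10, 1),
   (984153616618154530700594987064723698, [1, 2], 4, 15, 3),
   (984796241234587437614214050742940096, [2, 19], 4, 4, 2),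
   (962733156616831236091280781744578592, [1, 6], 3, 14, 4),
   (973124048638701802793447691787505128, [4, 16], 7, 17, 2),
   (971269385707482897573593977876229546, [2, 4], 4, 19, 2),
   (955753308936987802065114065451269366, [4, 11], 7, 3, 5),
   (984370803122632941084349081776668708, [7], 4, 1, 1),
   (978081951915662425182940454253180970, [1, 14], 7, 21, 9),
   (973942932744745288266133479294048293, [3, 12], 2, 1, 6),
   (965014491860979695465569144841679200, [6, 13], 3, 7, 6),
   (983560013014809887583010386065034864, [2, 4], 4, 5, 2),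
   (984798946271330665422475248820928871, [2, 13], 7, 13, 1),
   (965329063581473433087106836645118402, [10], 4, 19, 9),
   (984493369334060478447889424982281248, [1, 9], 7, 10, 9),
   (975692150548272134065930199587068416, [3, 16], 2, 8, 1),
   (976741646543942141927844092295120932, [1, 2, 16], 7, 3, 5),
   (964042626080668623127925739233577001, [1, 1, 11], 7, 7, 10),
   (961036959603111402640105067478368288, [1, 3, 5], 4, 12, 8),
   (960722028563314454227404855710497386, [9], 4, 19, 3),
   (984224652129268210031357947770158132, [0], 1, 12, 10),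
   (959894609041950200578829698494826528, [1, 20], 7, 6, 7),
   (984778947250829649535592083601104204, [11], 4, 2, 6),
   (974936493385237033920307400639338125, [5], 7, 9, 5),
   (975082053977659160963787840450834475, [1, 17], 7, 22, 10),
   (973966396523641464462207961513705523, [5, 8], 3, 0, 10),
   (956976657029496787623430072113367748, [1, 19], 7, 9, 6),
   (984778705959267769925405002968512544, [2, 22], 4, 21, 6),
   (979423128190589510898656251115317280, [1, 4], 2, 19, 3),
   (957477612980742219978276331242797778, [9], 4, 8, 0),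
   (984490757400711034068282643818023937, [1, 5], 3, 3, 7),
   (963232402917323708890196348166717088, [6, 12], 4, 5, 5),
   (981413322626873780338250539502518953, [4, 8], 4, 19, 1),
   (984128206606015588195678877413555201, [2, 7], 4, 13, 3),
   (971675204890797218836974603388500008, [5, 12], 7, 10, 4),
   (956257484768810106320453041697202230, [1, 6, 20], 7, 13, 10),
   (983545007758903985198415618434417699, [9, 13], 2, 12, 9),
   (984310530651196337366612103695812640, [2, 8], 7, 22, 3),
   (958653929305728121946583211508488241, [3, 18], 3, 19, 7),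
   (984614984458750332531652447945492677, [3, 20], 2, 14, 4),
   (984593592660881285511458234609305839, [0], 1, 8, 3),
   (981494464429538976006115211677967520, [2, 18], 7, 15, 8),
   (983557726868734607582921243106579722, [1, 21], 7, 0, 10),
   (984795413199899346925398490035507584, [1, 15], 4, 5, 4),
   (977029781924039310292959489809287367, [5, 9], 7, 22, 5),
   (984805562565071798891321447517630885, [1, 22], 3, 11, 5),
   (977476012435720183561587452570485205, [2, 8], 3, 9, 9),
   (967111700947947516725054255145421479, [2, 3], 2, 13, 8),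
   (983998052120831615833650709049446066, [1, 21], 4, 8, 3),
   (984798709841939313325194572911913068, [1, 8], 4, 1, 9),
   (967858409165944391364712228154607808, [1, 7], 7, 1, 10),
   (978853993020267417516602911791109156, [1, 10], 7, 13, 6),
   (967736447321437801423260333072559136, [5, 22], 7, 21, 3),
   (978806297667272864572056259051752115, [2, 14], 7, 6, 9),
   (979457355240779176982329920620431402, [2], 4, 12, 4),
   (959578043531053588907113114568952000, [1, 18], 7, 11, 2),
   (984387148071722227341493338536151092, [2, 17], 2, 6, 1),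
   (969234342259486523098288220571552992, [3], 7, 0, 3),
   (973856099564319189313876597091567667, [4, 9], 4, 9, 7),
   (983546776128445057337656335952851172, [4, 21], 4, 6, 5),
   (984318293771669514192881836267506248, [6], 4, 12, 10),
   (984022022086865659360306162523788724, [4, 11], 2, 19, 0),
   (969928423058560386795923067745208359, [5, 1], 7, 15, 3),
   (984813155368780558841140879871781120, [2, 15], 7, 8, 5),
   (973612200695377010334274720414927526, [4], 4, 4, 3),
   (965995915846317743007405937281565770, [1, 20], 3, 14, 5),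
   (984799215888371149043263883254892685, [1, 6], 4, 20, 8),
   (966226664181934590450661256858254368, [1, 13], 2, 18, 9),
   (961939405490559538899538670204857000, [10], 7, 5, 4),
   (984290268023053516059283932726274080, [6, 1], 2, 19, 5),
   (973134343538481391752226029608994852, [2, 13], 7, 15, 3),
   (983947157542783660234778121038054901, [1, 2, 2], 3, 5, 2),
   (984737182502729783464923423941280160, [7, 9], 4, 2, 10),
   (984805552710207218457786017252673956, [3, 11], 7, 19, 9),
   (984169193147127411220482351767652753, [6, 11], 4, 9, 5),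
   (984796692001594788343095819449810272, [1], 7, 2, 0),
   (960640935097623600283404633184358048, [2, 17], 7, 18, 6),
   (957546009193225796245043294306241232, [2, 8], 2, 12, 2),
   (958856637187826945719215398652598510, [1, 2], 7, 11, 3),
   (980761875422008216500370354613917952, [3, 2], 3, 1, 8),
   (984199432962770965884346657311667531, [1, 2], 4, 1, 3),
   (965103652104144463782590445260998918, [1, 22], 2, 18, 1),
   (962750373820247208505083556844120096, [4], 7, 19, 9),
   (980599622168112489979997011114557474, [10], 4, 15, 1),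
   (984614848362719774437259615112627273, [7], 7, 15, 7),
   (977505168401957748311815063804742310, [2, 17], 3, 21, 4),
   (967351286644395909347632223178832516, [4, 13], 7, 22, 7),
   (975639265381072135003295945605621005, [4, 7], 7, 19, 4),
   (964032379560113572851120924541616482, [7, 11], 7, 12, 9),
   (958309126363005815584795400579045701, [3, 14], 7, 3, 10),
   (965347111315197806843874932757416399, [3, 19], 7, 8, 1),
   (972324263468604255511164231271689905, [1, 4, 10], 7, 18, 1),
   (969768617445755094729390061845075360, [2, 12], 3, 8, 3),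
   (979220185094877299415431706412596225, [5], 4, 15, 2),
   (984110795295383836133250148513193536, [3, 17], 4, 0, 6),
   (984574840177918740285957407700534273, [8, 22], 2, 20, 10),
   (967334252318246576086866439314121088, [6], 4, 13, 7),
   (983535378138981401488138809432443028, [1, 5], 7, 9, 2),
   (975030420857451585999363860272875944, [0], 1, 19, 8),
   (984112152782508392512400925293349920, [1, 9], 7, 16, 10),
   (971820618110700196110162966521853987, [2, 9], 7, 2, 0)]

def pX : ℕ := 956302485175575353788796878166559809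
def pY : ℕ := 983435072843990828779021698901151808
def pZ : ℕ := 1795248432537898728475572672376535
def t1 : ℕ := 971592882964418941354553515258775584

def cert23 : List Cfsg.Lib.Spor.PK.Cert :=
  [⟨0, [1408, 1344, 705, 770, 1280, 962, 640, 1089, 258, 385, 1216, 896, 576, 321, 1024, 192, 129, 1152, 832,
    449, 512, 64], [[0, 1, 2, 1, 0, 2, 0], [0, 1, 1, 0, 1, 1, 1, 0, 0]]⟩,
   ⟨1, [704, 1153, 448, 897, 129, 1344, 512, 1409, 320, 833, 641, 385, 256, 768, 1217, 576, 1025, 193, 1281,
    1088, 960], [[0, 1, 0, 1, 1, 1, 1, 1], [1, 1, 1, 0, 0, 1, 1]]⟩,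
   ⟨4, [448, 705, 832, 1344, 513, 1024, 1089, 768, 193, 1152, 897, 321, 1408, 1216, 960, 641, 1280, 576, 384,
    128], [[1, 0, 1, 0, 1, 1, 1, 0, 0, 0], [1, 1, 0, 0, 0, 0, 0, 1, 1, 1, 0, 0, 0]]⟩,
   ⟨2, [704, 833, 448, 1345, 1280, 1025, 576, 193, 513, 960, 1153, 1216, 896, 1089, 384, 1408, 321, 641, 769],
    [[0, 0, 1, 1, 0], [0, 0, 0, 1, 0, 0, 0, 1, 0], [1, 0, 0, 0, 1, 0, 0, 1, 1]]⟩,
   ⟨3, [896, 705, 578, 1088, 769, 642, 1281, 1216, 321, 514, 962, 384, 1154, 1344, 448], [[1, 2, 0]]⟩,
   ⟨5, [1088, 896], []⟩]

def certB : List Cfsg.Lib.Spor.PK.Cert :=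
  [⟨0, [1408, 1344, 705, 1280, 640, 1089, 1216, 576, 321, 1024, 1152, 512, 256, 897, 960, 448, 192, 129, 832,
    384, 64, 768], [[0, 1, 0, 1, 1, 0, 1, 1, 0, 1, 1, 0, 0]]⟩,
   ⟨1, [1024, 192, 128, 576, 384, 256, 1152, 768, 512, 832], []⟩]

def certL : List Cfsg.Lib.Spor.PK.Cert :=
  [⟨0, [1408, 1474, 1344, 705, 66, 1280, 770, 640, 1089, 130, 1216, 514, 385, 576, 321, 1026, 258, 1152, 448,
    193, 897, 960, 834], [[0, 1, 2, 0, 0], [0, 0, 0, 0, 1, 1, 2, 0]]⟩,
   ⟨1, [1472, 513, 1344, 1409, 896, 961, 577, 768, 1089, 704, 449, 128, 641, 1152, 257, 321, 832, 1216, 385, 192,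
    1024, 1281], [[0, 0, 0, 0, 0, 1]]⟩,
   ⟨2, [1344, 192, 1408, 576, 256, 832, 1472, 704, 1280, 960], []⟩]

theorem hX : InSub Spor.M23 pX := inSub_M23 (by decide +kernel)
theorem hY : InSub Spor.M23 pY := inSub_M23 (by decide +kernel)
theorem hZ : InSub M24 pZ := inSub_M24 (by decide +kernel)

theorem chkC : (cC.all fun a => Nat.beq (pconj (pmul (ppow pX a.2.2.2.1) (ppow pY a.2.2.2.2))
    (ppow (ev pX a.1 a.2.1) a.2.2.1)) t1) = true := by decide +kernel

theorem chkR : ((cC.map Prod.fst).all fun r =>
    isFix [23] r && hasOrder r 2 && Nat.blt r (2 ^ 120)) = true := by decide +kernel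

theorem repR : ∀ r ∈ cC.map Prod.fst, InSub Spor.M23 r ∧ hasOrder r 2 = true ∧ r < 2 ^ 120 := by
  intro r hr
  have := List.all_eq_true.1 chkR r hr
  simp only [Bool.and_eq_true, Nat.blt_eq] at this
  exact ⟨inSub_M23 this.1.1, this.1.2, this.2⟩

theorem free : freeChk pX 23 (cC.map Prod.fst) = true := by decide +kernel

theorem card_B : Nat.card (pclosure [pX, pY]) = 253 :=
  (pk_chain_full (cert := certB) (by decide +kernel) (by decide +kernel)).1

theorem card_L : Nat.card (pclosure [pX, pY, pZ]) = 6072 :=
  (pk_chain_full (cert := certL) (by decide +kernel) (by decide +kernel)).1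

theorem B_le : pclosure [pX, pY] ≤ Spor.M23 := pclosure_le.2 (by simp [hX.2, hY.2])

theorem L_le : pclosure [pX, pY, pZ] ≤ M24 :=
  pclosure_le.2 fun t ht => by
    simp only [List.mem_cons, List.not_mem_nil, or_false] at ht
    rcases ht with rfl | rfl | rfl
    exacts [M23_le hX.2, M23_le hY.2, hZ.2]

theorem B_le_L : pclosure [pX, pY] ≤ pclosure [pX, pY, pZ] :=
  pclosure_le.2 fun t ht => (inSub_pclosure (by decide +kernel) t (by
    simp only [List.mem_cons, List.not_mem_nil, or_false] at ht ⊢; tauto)).2

theorem even_case {K : Subgroup (Equiv.Perm GolayPt)} (hB : pclosure [pX, pY] ≤ K)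
    (hK : K ≤ Spor.M23) (h2 : 2 ∣ Nat.card K) : K = Spor.M23 := by
  have hXK : InSub K pX := (inSub_pclosure (by decide +kernel) pX (by simp)).mono hB
  have hYK : InSub K pY := (inSub_pclosure (by decide +kernel) pY (by simp)).mono hB
  obtain ⟨s, hs, ho⟩ := exists_orderOf Nat.prime_two h2
  obtain ⟨k, -, r, hr, e⟩ := cover hX repR (by decide +kernel) free
    ((ncard_invol isClassList_M23 (t := t1) (c := 2688) (m := 3795) rfl (by norm_num)
      (by rw [card_M23])).1.trans (by decide +kernel)) (hK hs) ho
  have hrK : InSub K r := inSub_of_conj hXK (repR r hr).1.1 (e ▸ hs)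
  obtain ⟨a, ha, rfl⟩ := List.mem_map.1 hr
  have h1 : InSub K t1 := Nat.eq_of_beq_eq_true (List.all_eq_true.1 chkC a ha) ▸
    inSub_conj ((inSub_pow hXK _).mul (inSub_pow hYK _)) (inSub_pow (inSub_ev hXK hrK _) _)
  have h3 := pk_le_card (H := K) (gens := [pX, pY, t1]) (by simp [hXK, hYK, h1]) (cert := cert23)
    (by decide +kernel)
  exact eq_of_le_of_card hK (card_M23.le.trans h3)

theorem odd_case {K : Subgroup (Equiv.Perm GolayPt)} (hB : pclosure [pX, pY] ≤ K)
    (hK : K ≤ Spor.M23) (h2 : ¬ 2 ∣ Nat.card K) : K = pclosure [pX, pY] := by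
  classical
  have : Fact (Nat.Prime 23) := ⟨by norm_num⟩
  have hXB := inSub_pclosure (gens := [pX, pY]) (by decide +kernel) pX (by simp)
  have ho : orderOf (toPerm pX) = 23 := hX.rep.orderOf_eq (by decide +kernel)
  have hzK : zpowers (toPerm pX) ≤ K := zpowers_le.2 (hB hXB.2)
  have hd : Nat.card K ∣ 10200960 := card_M23 ▸ card_dvd_of_le hK
  obtain ⟨m, hm⟩ : 253 ∣ Nat.card K := card_B ▸ card_dvd_of_le hB
  have hm1 : m ∣ 315 := by
    have h1 : m ∣ 2 ^ 7 * 315 := Nat.dvd_of_mul_dvd_mul_left (by norm_num : 0 < 253) (hm ▸ hd)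
    refine Nat.Coprime.dvd_of_dvd_mul_left (Nat.Coprime.pow_right 7 ?_) h1
    exact ((Nat.Prime.coprime_iff_not_dvd Nat.prime_two).2 fun h => h2 (hm ▸ h.mul_left _)).symm
  have hc : Nat.card ((zpowers (toPerm pX)).subgroupOf K) = 23 := by
    rw [Nat.card_congr (subgroupOfEquivOfLe hzK).toEquiv, Nat.card_zpowers, ho]
  have hi : ¬ 23 ∣ ((zpowers (toPerm pX)).subgroupOf K).index := by
    intro h
    have h1 := card_mul_index ((zpowers (toPerm pX)).subgroupOf K)
    rw [hc] at h1
    have := (h1 ▸ Nat.mul_dvd_mul_left 23 h).trans hd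
    omega
  let P : Sylow 23 K := (IsPGroup.of_card (n := 1) hc).toSylow hi
  have h1 := card_sylow_modEq_one 23 K
  rw [P.card_eq_index_normalizer] at h1
  change (normalizer ((P : Subgroup K) : Set K)).index ≡ 1 [MOD 23] at h1
  have h3 := card_mul_index (normalizer ((P : Subgroup K) : Set K))
  have h4 : normalizer ((P : Subgroup K) : Set K) =
      (K ⊓ normalizer (zpowers (toPerm pX) : Set (Equiv.Perm GolayPt))).subgroupOf K := by
    rw [inf_subgroupOf_left, subgroupOf_normalizer_eq hzK]; rfl
  have h5 := card_normalizer_le K (toPerm pX) ((Finset.range 23).image fun e => toPerm pX ^ e)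
    fun g _ h => by
      obtain ⟨e, he, h⟩ := exists_pow_of_mem_zpowers ho (by norm_num) h
      exact Finset.mem_image.2 ⟨e, Finset.mem_range.2 he, h⟩
  have h6 : Nat.card ↥(K ⊓ centralizer {toPerm pX}) ≤ 23 :=
    (card_le_of_le (inf_le_inf_right _ hK)).trans
      (isClassList_M23.cent (pX, 23, 23) (by decide +kernel)).le
  have h7 := h5.trans (Nat.mul_le_mul (Finset.card_image_le.trans (Finset.card_range 23).le) h6)
  have h8 : pclosure [pX, pY] ≤ K ⊓ normalizer (zpowers (toPerm pX) : Set (Equiv.Perm GolayPt)) :=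
    pclosure_le.2 (by
      have a1 := (inSub_normalizer (x := pX) (e := 1) hX.1 (hXB.mono hB) (by decide +kernel)).2
      have a2 := (inSub_normalizer (x := pX) (e := 2) hX.1 ((inSub_pclosure (gens := [pX, pY])
        (by decide +kernel) pY (by simp)).mono hB) (by decide +kernel)).2
      simpa using ⟨a1, a2⟩)
  have h9 := card_dvd_of_le h8
  have h10 : Nat.card ↥(K ⊓ normalizer (zpowers (toPerm pX) : Set (Equiv.Perm GolayPt))) ∣
    Nat.card K := card_dvd_of_le inf_le_left
  have h11 : 0 < Nat.card ↥(K ⊓ normalizer (zpowers (toPerm pX) : Set (Equiv.Perm GolayPt))) :=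
    Nat.card_pos
  rw [card_B] at h9
  rw [h4] at h1 h3
  rw [Nat.card_congr (subgroupOfEquivOfLe inf_le_left).toEquiv] at h3
  have h12 : Nat.card ↥(K ⊓ normalizer (zpowers (toPerm pX) : Set (Equiv.Perm GolayPt))) = 253 := by
    by_contra hne
    exact h2 ((by omega : 2 ∣ Nat.card ↥(K ⊓ normalizer (zpowers (toPerm pX) :
      Set (Equiv.Perm GolayPt)))).trans h10)
  rw [h12, hm] at h3
  rw [Nat.eq_of_mul_eq_mul_left (by norm_num) h3] at h1
  have h13 : m = 1 := by
    have : m ∈ Nat.divisors 315 := Nat.mem_divisors.2 ⟨hm1, by norm_num⟩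
    exact (by decide +kernel : ∀ m ∈ Nat.divisors 315, m % 23 = 1 % 23 → m = 1) m this h1
  exact (eq_of_le_of_card hB (by rw [card_B, hm, h13])).symm

theorem max23 (K : Subgroup (Equiv.Perm GolayPt)) (hB : pclosure [pX, pY] ≤ K)
    (hK : K ≤ Spor.M23) : K = pclosure [pX, pY] ∨ K = Spor.M23 :=
  (em (2 ∣ Nat.card K)).elim (fun h => Or.inr (even_case hB hK h)) fun h => Or.inl (odd_case hB hK h)

theorem max24 (K : Subgroup (Equiv.Perm GolayPt)) (hL : pclosure [pX, pY, pZ] ≤ K)
    (hK : K ≤ M24) : K = pclosure [pX, pY, pZ] ∨ K = M24 := by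
  have key : ∀ J : Subgroup (Equiv.Perm GolayPt), pclosure [pX, pY] ≤ J → J ≤ M24 →
      Nat.card J = (orbit J (none : GolayPt)).ncard * 253 ∨
        Nat.card J = (orbit J (none : GolayPt)).ncard * 10200960 := by
    intro J h1 h2
    rw [card_eq_ncard_orbit_mul J (none : GolayPt)]
    rcases max23 (J ⊓ stabilizer _ (none : GolayPt)) (le_inf h1 (B_le.trans inf_le_right))
      (inf_le_inf_right _ h2) with h | h
    · rw [h, card_B]; exact Or.inl rfl
    · rw [h, card_M23]; exact Or.inr rfl
  have h1 := key _ B_le_L L_le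
  rw [card_L] at h1
  have h2 : (orbit (pclosure [pX, pY, pZ]) (none : GolayPt)).ncard ≤
      (orbit K (none : GolayPt)).ncard :=
    Set.ncard_le_ncard fun _ ⟨g, e⟩ => ⟨⟨g, hL g.2⟩, e⟩
  have h3 : (orbit K (none : GolayPt)).ncard ≤ 24 := by
    have := Set.ncard_le_card (orbit K (none : GolayPt))
    rwa [Nat.card_eq_fintype_card, card_golayPt] at this
  rcases key K (B_le_L.trans hL) hK with h | h
  · exact Or.inl (eq_of_le_of_card hL (by rw [card_L]; omega)).symm
  · exact Or.inr (eq_of_le_of_card hK (by rw [card_M24]; omega))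

/-- The unit `2`. -/
def two : (ZMod 23)ˣ := ⟨2, 12, by decide, by decide⟩

theorem repX : toPerm pX = Equiv.optionCongr (Equiv.addRight (1 : ZMod 23)) :=
  Rep.toPerm_eq (by intro x; revert x; decide +kernel)

theorem repY : toPerm pY = Equiv.optionCongr (Units.mulLeft two) :=
  Rep.toPerm_eq (by intro x; revert x; decide +kernel)

theorem repZ : toPerm pZ = projInv :=
  Rep.toPerm_eq (by intro x; revert x; decide +kernel)

theorem sq_two : IsSquare two := ⟨⟨5, 14, by decide, by decide⟩, Units.ext (by decide)⟩

theorem pow_Y (k : ℕ) : toPerm pY ^ k = Equiv.optionCongr (Units.mulLeft (two ^ k)) := by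
  induction k with
  | zero => ext x; cases x <;> simp
  | succ k ih => rw [pow_succ', ih, repY]; ext x; cases x <;> simp [pow_succ', mul_assoc]

theorem sq_mem {K : Subgroup (Equiv.Perm GolayPt)} (h : toPerm pY ∈ K) {u : (ZMod 23)ˣ}
    (hu : IsSquare u) : Equiv.optionCongr (Units.mulLeft u) ∈ K := by
  obtain ⟨r, rfl⟩ := hu
  obtain ⟨k, -, hk⟩ := (by decide +kernel : ∀ r : ZMod 23, r ≠ 0 → ∃ k < 11, r * r = 2 ^ k) r
    (by have : Fact (Nat.Prime 23) := ⟨by norm_num⟩; exact r.ne_zero)
  have : r * r = two ^ k := Units.ext (by simpa [two] using hk)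
  rw [this, ← pow_Y]
  exact K.pow_mem h k

theorem B_eq : Subgroup.closure ({Equiv.optionCongr (Equiv.addRight (1 : ZMod 23))} ∪
    {g : Equiv.Perm GolayPt | ∃ u : (ZMod 23)ˣ, IsSquare u ∧ g = Equiv.optionCongr (Units.mulLeft u)})
    = pclosure [pX, pY] := by
  have h := inSub_pclosure (gens := [pX, pY]) (by decide +kernel)
  apply le_antisymm
  · rw [closure_le]
    rintro g (rfl | ⟨u, hu, rfl⟩)
    · exact repX ▸ (h pX (by simp)).2
    · exact sq_mem (h pY (by simp)).2 hu
  · refine pclosure_le.2 fun t ht => subset_closure ?_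
    simp only [List.mem_cons, List.not_mem_nil, or_false] at ht
    rcases ht with rfl | rfl
    · exact Or.inl repX
    · exact Or.inr ⟨two, sq_two, repY⟩

theorem L_eq : Subgroup.closure ({Equiv.optionCongr (Equiv.addRight (1 : ZMod 23)), projInv} ∪
    {g : Equiv.Perm GolayPt | ∃ u : (ZMod 23)ˣ, IsSquare u ∧ g = Equiv.optionCongr (Units.mulLeft u)})
    = pclosure [pX, pY, pZ] := by
  have h := inSub_pclosure (gens := [pX, pY, pZ]) (by decide +kernel)
  apply le_antisymm
  · rw [closure_le]
    rintro g ((rfl | rfl) | ⟨u, hu, rfl⟩)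
    · exact repX ▸ (h pX (by simp)).2
    · exact repZ ▸ (h pZ (by simp)).2
    · exact sq_mem (h pY (by simp)).2 hu
  · refine pclosure_le.2 fun t ht => subset_closure ?_
    simp only [List.mem_cons, List.not_mem_nil, or_false] at ht
    rcases ht with rfl | rfl | rfl
    · exact Or.inl (Or.inl repX)
    · exact Or.inr ⟨two, sq_two, repY⟩
    · exact Or.inl (Or.inr repZ)

/-- PSL(2, 23) = ⟨t ↦ t+1, t ↦ u t (u square), t ↦ −1/t⟩ is maximal of order 6072 in the group of the length-24 code, and its point stabiliser 23:11 (order 253) is maximal in the Mathieu group of degree 23. -/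
theorem result : (Subgroup.closure ({Equiv.optionCongr (Equiv.addRight (1 : ZMod 23)), Cfsg.projInv} ∪ {g : Equiv.Perm Cfsg.GolayPt | ∃ u : (ZMod 23)ˣ, IsSquare u ∧ g = Equiv.optionCongr (Units.mulLeft u)}) ≤ Cfsg.M24 ∧ Nat.card ↥(Subgroup.closure ({Equiv.optionCongr (Equiv.addRight (1 : ZMod 23)), Cfsg.projInv} ∪ {g : Equiv.Perm Cfsg.GolayPt | ∃ u : (ZMod 23)ˣ, IsSquare u ∧ g = Equiv.optionCongr (Units.mulLeft u)})) = 6072 ∧ IsCoatom ((Subgroup.closure ({Equiv.optionCongr (Equiv.addRight (1 : ZMod 23)), Cfsg.projInv} ∪ {g : Equiv.Perm Cfsg.GolayPt | ∃ u : (ZMod 23)ˣ, IsSquare u ∧ g = Equiv.optionCongr (Units.mulLeft u)})).subgroupOf Cfsg.M24)) ∧ (Subgroup.closure ({Equiv.optionCongr (Equiv.addRight (1 : ZMod 23))} ∪ {g : Equiv.Perm Cfsg.GolayPt | ∃ u : (ZMod 23)ˣ, IsSquare u ∧ g = Equiv.optionCongr (Units.mulLeft u)}) ≤ Cfsg.M24 ⊓ MulAction.stabilizer (Equiv.Perm Cfsg.GolayPt) (none : Cfsg.GolayPt) ∧ Nat.card ↥(Subgroup.closure ({Equiv.optionCongr (Equiv.addRight (1 : ZMod 23))} ∪ {g : Equiv.Perm Cfsg.GolayPt | ∃ u : (ZMod 23)ˣ,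 IsSquare u ∧ g = Equiv.optionCongr (Units.mulLeft u)})) = 253 ∧ IsCoatom (((Subgroup.closure ({Equiv.optionCongr (Equiv.addRight (1 : ZMod 23))} ∪ {g : Equiv.Perm Cfsg.GolayPt | ∃ u : (ZMod 23)ˣ, IsSquare u ∧ g = Equiv.optionCongr (Units.mulLeft u)})).subgroupOf Cfsg.M24).subgroupOf (MulAction.stabilizer Cfsg.M24 (none : Cfsg.GolayPt)))) := by
  rw [B_eq, L_eq]
  refine ⟨⟨L_le, card_L, ?_⟩, B_le, card_B, ?_⟩
  · refine Cfsg.Lib.Class.M24I.isCoatom_comap (subtype_injective M24) ?_ ?_ ?_ <;> rw [range_subtype]
    · exact L_le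
    · intro h
      have := card_L
      rw [h, card_M24] at this
      omega
    · exact max24
  · have hr : (M24.subtype.comp (stabilizer M24 (none : GolayPt)).subtype).range = Spor.M23 := by
      ext g
      exact ⟨fun ⟨a, e⟩ => e ▸ ⟨a.1.2, a.2⟩, fun h => ⟨⟨⟨g, h.1⟩, h.2⟩, rfl⟩⟩
    rw [subgroupOf, subgroupOf, comap_comap]
    refine Cfsg.Lib.Class.M24I.isCoatom_comap
      (fun a b e => Subtype.ext (Subtype.ext e)) ?_ ?_ ?_ <;> rw [hr]
    · exact B_le
    · intro h
      have := card_B
      rw [h, card_M23] at this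
      omega
    · exact max23

end Cfsg.Agent.S1643
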