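import Cfsg.Statements.S1733
import Cfsg.Agent.Co3R.StdD
import Cfsg.Agent.Local.InvCent

set_option autoImplicit false
open Cfsg

namespace Cfsg.Agent.S1733

/-- Let G be a non-abelian finite simple group which is locally balanced (the centralizer of every involution has no nontrivial normal subgroup of odd order) and has the strong B-property (every section of G has the B-property), and let L be a standard subgroup of G whose centre has order 2 with quotient isomorphic to the symplectic group of dimension 6 over the field with 2 elements. Then G is isomorphic to the third Conway group. -/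
theorem result {G : Type*} [Group G] [Finite G] [IsSimpleGroup G] (hG : ¬ IsMulCommutative G)
    (hbal : ∀ t : G, orderOf t = 2 → Cfsg.centralizerPPrimeCore 2 t = ⊥) (hB : Cfsg.HasStrongBProperty G)
    (L : Subgroup G) (hL : Cfsg.IsStandardSubgroup L)
    {F : Type*} [Field F] [Fintype F] (hF : Fintype.card F = 2) (hLX : (Nat.card ↥(Subgroup.center ↥L) = 2 ∧ Nonempty (↥L ⧸ Subgroup.center ↥L ≃* Cfsg.PSp 3 F))) :
    Cfsg.Spor.IsoCo3 G := by
  open Lib.Spor.C3R in
  obtain ⟨c, ⟨f⟩⟩ := hLX
  obtain ⟨e⟩ := Lib.Class.nonempty_ringEquiv_zmod Nat.prime_two hF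
  have n := dc_of_perfect hL.1.1.1 c
    (f.trans ((Lib.Class.pspEquiv 3 e).trans (Lib.Class.quotCenterEquivOfEqBot center_Sp)))
  have hZ : Subgroup.center G = ⊥ :=
    (inferInstance : (Subgroup.center G).Normal).eq_bot_or_eq_top.resolve_right fun h =>
      hG ⟨⟨fun a b => Subgroup.mem_center_iff.1 (h.ge trivial) a⟩⟩
  obtain ⟨z, hz⟩ := xd_of n
  have hO := Lib.Local.oddCore_eq_bot_of_isSimpleGroup (x := (z : G))
    (ord_two (congrArg Subtype.val hz.sq) fun e => hz.ne (Subtype.ext e))
  obtain ⟨t, ht, e⟩ := centralizer_eq hO hZ hbal hL n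
  exact iso_Co3 hO hZ ht (e ▸ n)

end Cfsg.Agent.S1733
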