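import Cfsg.Statements.S1743
import Cfsg.Agent.G2T.G2Syl

set_option autoImplicit false
open Cfsg

namespace Cfsg.Agent.S1743

/-- Let G be a finite simple group whose Sylow 2-subgroups are isomorphic to a Sylow 2-subgroup of the Chevalley group of type G₂ over a finite field of odd order, and let S be a Sylow 2-subgroup of G. Then either all involutions of G are conjugate, or S has order 64 and the involutions of G form exactly two conjugacy classes. -/
theorem result {G : Type*} [Group G] [Finite G] [IsSimpleGroup G]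
    {F : Type*} [Field F] [Fintype F] (hF : Odd (Fintype.card F)) (S : Sylow 2 G) (P : Sylow 2 ↥(Cfsg.Lie.chevG2.group F))
    (hS : Nonempty (↥(S : Subgroup G) ≃* ↥(P : Subgroup ↥(Cfsg.Lie.chevG2.group F)))) :
    (∀ x y : G, orderOf x = 2 → orderOf y = 2 → IsConj x y) ∨
      (Nat.card ↥(S : Subgroup G) = 64 ∧ ∃ x y : G, orderOf x = 2 ∧ orderOf y = 2 ∧ ¬ IsConj x y ∧
        ∀ z : G, orderOf z = 2 → IsConj z x ∨ IsConj z y) := by
  obtain ⟨e⟩ := hS
  obtain ⟨m, ⟨E₀⟩⟩ := Lib.G2T.exists_emb_G2 hF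
  have hP := Lib.G2T.isPGroup_GM m
  obtain ⟨E, hE⟩ := Lib.G2T.exists_emb_of_equiv hP E₀ S P e
  obtain ⟨hz, hs, hG, hZ⟩ := (Lib.G2T.Par.zmod m).simple_data hP E
  have hc := fun y => (Lib.G2T.Par.zmod m).cls (y := y) hP hG hZ
  by_cases h : E.Fused (Lib.G2T.Par.zmod m).z Lib.G2T.GM.s
  · have k : ∀ y : G, orderOf y = 2 → IsConj y (E.j (Lib.G2T.Par.zmod m).z) := fun y hy =>
      (hc y hy).elim id fun h1 => h1.trans (IsConj.symm h)
    exact Or.inl fun x y hx hy => (k x hx).trans (k y hy).symm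
  · refine Or.inr ⟨?_, _, _, hz, hs, h, hc⟩
    rcases m with _ | m
    · rw [← hE, ← Nat.card_congr (MonoidHom.ofInjective E.inj).toEquiv, Lib.G2T.GM.card,
        Nat.card_zmod]
      rfl
    · refine absurd ((Lib.G2T.Par.zmod (m + 1)).fused_z_s hP hG hZ (r := ((2 ^ m : ℕ) : ZMod _)) ?_) h
      rw [← Nat.cast_add, ← two_mul, ← pow_succ']
      rfl

end Cfsg.Agent.S1743
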