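import Cfsg.Statements.S1909
import Cfsg.Agent.Inst.NgMain
import Cfsg.Agent.Ngrp.AsmFacts
import Cfsg.Agent.Solv.FrobL2
import Cfsg.Agent.Solv.FrobTits
import Cfsg.Agent.Solv.FrobSmall

set_option autoImplicit false
open Cfsg

namespace Cfsg.Agent.S1909

open Cfsg.Lib Cfsg.Lib.Ngrp Cfsg.Lib.Ngrp.Ti Cfsg.Lib.Solv.Frob Cfsg.Lib.Bender Cfsg.Lib.Local
  Subgroup

universe u

theorem exists_td {G : Type u} [Group G] [Finite G] [IsSimpleGroup G] (hna : ¬ IsMulCommutative G)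
    (hN : IsNGroup G) (hSE : ¬ ∃ H : Subgroup G, IsStronglyEmbedded H) (h4 : ¬ PRankLE 2 4 G) :
    ∃ z f : G, TD G z f := by
  have hr : ¬ PRankLE 2 2 G := fun h => h4 fun A a b => (h A a b).trans (by norm_num)
  have hL := IsNGroup.twoLocal hN
  have ah : AH G := ⟨(Gate.NgChar2.out hna (isSolvable_centralizer_of_twoLocal hL) hr).resolve_left
    hSE, hL⟩
  obtain ⟨S, z, Y, h⟩ := Gate.NgNat.out hna ah hr hSE
  have h2 : ∀ H : Subgroup G, H.index ≠ 2 := by
    intro H hH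
    rcases (Subgroup.normal_of_index_eq_two hH).eq_bot_or_eq_top with rfl | rfl
    · rw [Subgroup.index_bot] at hH
      have : IsCyclic G := isCyclic_of_prime_card (p := 2) hH
      exact hna IsCyclic.isMulCommutative
    · simp at hH
  obtain ⟨h3, ⟨h8, hC⟩ | ⟨h32, -⟩⟩ := Gate.NgT3.out h (Gate.NgT2.out h h2 hr)
  · exact (Gate.NgM12.out h3 h2 h8 hC).elim
  obtain ⟨a, f, p, u, t, m, h1⟩ := exists_TC0 h3 h32
  obtain ⟨g, hg⟩ := h1.exists_TP
  obtain ⟨R, M⟩ := hg.exists_mod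
  have T : TM g R := ⟨hg, M, hg.cent.resolve_right fun ⟨e, he⟩ => hg.ext_false he h2⟩
  have c := T.B.rc
  have : Fact (Nat.Prime 5) := ⟨by norm_num⟩
  refine ⟨g 14, g 15, T.of.card_eq ah, fun x hx => IsNGroup.isSolvable_centralizer hN hx,
    orderOf_eq_prime (by rw [sq, T.z2]) hg.ne, T.card, fun t ht => ?_,
    orderOf_eq_prime c.f5 (T.one ▸ T.B.ne (.gen 15) (.gen 0) (by decide +kernel)),
    mc.2 c.zf.symm, fun x h1 h2 => ?_, h4⟩
  · have t2 : t ^ 2 ^ 1 = 1 := by rw [pow_one, ← ht, pow_orderOf_eq_one]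
    obtain ⟨k, hk⟩ := Char.exists_conj_mem_of_not_dvd_index hg.odd t2
    have c := isConj_cj t k
    exact (T.of.cls _ hk (sq_of_isConj c (by rwa [← sq])) (ne_one_of_isConj c fun e => by
      rw [e, orderOf_one] at ht; omega)).imp (fun e => c.trans e.symm) fun e =>
        (Block.card_centralizer_eq_of_isConj (e.trans c.symm)).trans (T.of.card_y ah)
  · obtain ⟨j, -, rfl | rfl⟩ := T.cent_f h1 h2
    · rw [← pow_mul, mul_comm, pow_mul, c.f5, one_pow]; exact one_mem _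
    · rw [(Commute.pow_left c.zf.symm j).mul_pow, ← pow_mul, mul_comm, pow_mul, c.f5, one_pow,
        one_mul]
      exact pow_mem (mem_zpowers _) 5

theorem fc_simple {G : Type u} [Group G] [Finite G] [IsSimpleGroup G] (hN : IsNGroup G) : FC G := by
  by_cases hna : IsMulCommutative G
  · intro n hn _
    letI : CommGroup G := { mul_comm := hna.is_comm.comm }
    rcases (Nat.dvd_prime IsSimpleGroup.prime_card).1 hn with rfl | rfl
    exacts [⟨⊥, card_bot⟩, ⟨⊤, card_top⟩]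
  have l2 : ∀ (F : Type) [Field F] [Fintype F], 4 ≤ Fintype.card F →
      G ≃* Matrix.ProjectiveSpecialLinearGroup (Fin 2) F → FC G := fun F _ _ h e =>
    (fc_psl2 F (by rwa [Nat.card_eq_fintype_card])).congr e.symm
  by_cases hSE : ∃ H : Subgroup G, IsStronglyEmbedded H
  · obtain ⟨H, hH⟩ := hSE
    rcases ((core_of_gate G).simple (isStronglyEmbedded_iff_se.1 hH)).1 with
      ⟨F, i1, i2, ⟨n, hn, hF⟩, ⟨e⟩⟩ | h | ⟨F, i1, i2, n, hn, hF, ⟨e⟩⟩
    · exact l2 F (hF ▸ four_le_two_pow hn) e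
    · exact fc_isoSuzuki h
    · exact absurd (IsNGroup.congr hN e) (not_isNGroup_psu3 hF (four_le_two_pow hn))
  rcases Gate.NgMain.out hna (IsNGroup.twoLocal hN) with ⟨F, i1, i2, h, ⟨e⟩⟩ | h |
    ⟨F, i1, i2, q, hF, -, hq, ⟨e⟩⟩ | ⟨⟨e⟩⟩ | ⟨F, i1, i2, h, ⟨e⟩⟩ | ⟨⟨e⟩⟩ | ⟨⟨e⟩⟩ | ⟨-, -, h⟩
  · exact l2 F h e
  · exact fc_isoSuzuki h
  · exact absurd (IsNGroup.congr hN e) (not_isNGroup_psu3 hF hq)
  · exact fc_psl33.congr e.symm
  · exact (fc_psu33 h).congr e.symm
  · exact fc_alt7.congr e.symm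
  · exact fc_M11.congr e.symm
  · obtain ⟨z, f, T⟩ := exists_td hna hN hSE h
    exact T.fc

/-- Let G be a finite group all of whose composition factors are N-groups (every local subgroup solvable), and n a divisor of the order of G such that exactly n elements x of G satisfy x^n = 1. Then these elements form a subgroup. -/
theorem result {G : Type*} [Group G] [Finite G]
    (hN : ∀ H : Subgroup G, H.IsSubnormal → ∀ (N : Subgroup H) [N.Normal], IsSimpleGroup (H ⧸ N) → Cfsg.IsNGroup (H ⧸ N))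
    (n : ℕ) (hn : n ∣ Nat.card G) (hcount : Nat.card {x : G // x ^ n = 1} = n) :
    ∃ H : Subgroup G, (H : Set G) = {x : G | x ^ n = 1} := by
  obtain ⟨H, hH⟩ := CF.fc (G := G) (fun H hH S _ f hf hS => by
    have e := QuotientGroup.quotientKerEquivOfSurjective f hf
    have := Finite.of_surjective f hf
    exact fc_simple (IsNGroup.congr (hN H hH f.ker e.isSimpleGroup) e)) n hn hcount
  exact ⟨H, coe_eq_of_card hcount hH⟩

end Cfsg.Agent.S1909
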