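import Cfsg.Statements.S1910
import Cfsg.Agent.Trans.Tight

set_option autoImplicit false
open Cfsg

namespace Cfsg.Agent.S1910

open Cfsg.Lib.Trans Subgroup
open scoped commutatorElement

/-- Let Q be a tightly embedded subgroup of a finite group G, g an element outside N_G(Q), T a nontrivial Sylow 2-subgroup of Q^g ∩ N_G(Q), and S a Sylow 2-subgroup of QT containing T. Then T ∩ Q = 1, and N_S(T) is the direct product of T and N_S(T) ∩ Q, with N_S(T) ∩ Q isomorphic to T. -/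
theorem result {G : Type*} [Group G] [Finite G] (Q : Subgroup G) (hQ : Cfsg.IsTightlyEmbedded Q)
    (g : G) (hg : g ∉ Subgroup.normalizer (Q : Set G))
    (T : Subgroup G) (hT1 : T ≠ ⊥) (hT : T ≤ Q.map (MulAut.conj g).toMonoidHom ⊓ Subgroup.normalizer (Q : Set G))
    (hTsyl : IsPGroup 2 T ∧ ¬ 2 ∣ T.relIndex (Q.map (MulAut.conj g).toMonoidHom ⊓ Subgroup.normalizer (Q : Set G)))
    (S : Subgroup G) (hTS : T ≤ S) (hS : S ≤ Q ⊔ T) (hSsyl : IsPGroup 2 S ∧ ¬ 2 ∣ S.relIndex (Q ⊔ T)) :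
    T ⊓ Q = ⊥ ∧
      T ⊓ (S ⊓ Subgroup.normalizer (T : Set G) ⊓ Q) = ⊥ ∧
      ⁅T, S ⊓ Subgroup.normalizer (T : Set G) ⊓ Q⁆ = ⊥ ∧
      T ⊔ (S ⊓ Subgroup.normalizer (T : Set G) ⊓ Q) = S ⊓ Subgroup.normalizer (T : Set G) ∧
      Nonempty (↥(S ⊓ Subgroup.normalizer (T : Set G) ⊓ Q) ≃* T) := by
  have : Fact (Nat.Prime 2) := ⟨Nat.prime_two⟩
  have hQt : Tight Q := tight_of_isTightlyEmbedded hQ
  set P := cj g Q with hP
  have hPt : Tight P := hQt.cj g
  have hPQ : ∀ y ∈ P, y ∈ Q → orderOf y ≠ 2 := fun y h1 h2 =>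
    (Cfsg.Lib.Local.odd_card_iff_forall_not_involution _).1 (hQ.2 g hg) y ⟨h2, h1⟩
  have hTP : T ≤ P := hT.trans inf_le_left
  have hTQ : T ≤ normalizer (Q : Set G) := hT.trans inf_le_right
  have hTs : IsSylowIn 2 T (P ⊓ normalizer (Q : Set G)) := ⟨hT, hTsyl.1, hTsyl.2⟩
  have hSs : IsSylowIn 2 S (Q ⊔ T) := ⟨hS, hSsyl.1, hSsyl.2⟩
  have h1 : T ⊓ Q = ⊥ := eq_bot_of_no_involution (hTsyl.1.to_le inf_le_left)
    fun y hy => hPQ y (hTP hy.1) hy.2
  set R := S ⊓ normalizer (T : Set G) ⊓ Q with hR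
  have hRQ : R ≤ Q := inf_le_right
  have hRT : R ≤ normalizer (T : Set G) := inf_le_left.trans inf_le_right
  have hR2 : IsPGroup 2 R := hSsyl.1.to_le (inf_le_left.trans inf_le_left)
  have hcomm : ⁅T, R⁆ = ⊥ := by
    rw [eq_bot_iff, ← h1, commutator_le]
    intro t ht r hr
    constructor
    · have : ⁅t, r⁆ = t * (r * t⁻¹ * r⁻¹) := by rw [commutatorElement_def]; group
      rw [this]
      exact T.mul_mem ht (mem_normalizer_conj (hRT hr) (T.inv_mem ht))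
    · rw [commutatorElement_def]
      exact Q.mul_mem (mem_normalizer_conj (hTQ ht) (hRQ hr)) (Q.inv_mem (hRQ hr))
  have hsup := tight_sup_eq hTQ hS hTS
  refine ⟨h1, by rw [eq_bot_iff, ← h1]; exact inf_le_inf_left _ hRQ, hcomm, hsup, ?_⟩
  obtain ⟨φ, hφ⟩ := tight_exists_injective hPt (c := g⁻¹) (B := Q) (cj_inv_cj g Q) hPQ hTP hTQ hSs hTS
  have hR1 : R ≠ ⊥ := by
    intro h
    apply hT1
    rw [eq_bot_iff]
    intro t ht
    have : φ ⟨t, ht⟩ = 1 := by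
      have h2 : ((φ ⟨t, ht⟩ : R) : G) ∈ R := (φ ⟨t, ht⟩).2
      rw [h, mem_bot] at h2
      exact Subtype.ext h2
    have := hφ (this.trans (map_one φ).symm)
    exact congrArg Subtype.val this
  have hRP : R ≤ normalizer (P : Set G) := hRT.trans (hPt.normalizer_le hTsyl.1 hT1 hTP)
  have hTR2 : IsPGroup 2 ↥(T ⊔ R) := by
    rw [hR, hsup]; exact hSsyl.1.to_le inf_le_left
  obtain ⟨U, hU, hTRU⟩ := exists_isSylowIn_ge hTR2 (sup_le_sup_right hTP R)
  obtain ⟨ψ, hψ⟩ := tight_exists_injective hQt (c := g) (B := P) rfl (fun y a b => hPQ y b a) hRQ hRP hU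
    (le_sup_right.trans hTRU)
  have hTc : T ≤ normalizer (R : Set G) :=
    (commutator_eq_bot_iff_le_centralizer.1 hcomm).trans (centralizer_le_normalizer _)
  have heq : U ⊓ normalizer (R : Set G) ⊓ P = T := by
    refine hTs.eq_of_le (hU.isPGroup.to_le (inf_le_left.trans inf_le_left))
      (le_inf (le_inf (le_sup_left.trans hTRU) hTc) hTP) (le_inf inf_le_right ?_)
    exact (inf_le_left.trans inf_le_right).trans (hQt.normalizer_le hR2 hR1 hRQ)
  exact nonempty_mulEquiv_of_injective ((inclusion heq.le).comp ψ)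
    ((inclusion_injective heq.le).comp hψ) φ hφ

end Cfsg.Agent.S1910
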