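import Cfsg.Statements.S1914
import Cfsg.Agent.Semi.Beta

set_option autoImplicit false
open Cfsg

namespace Cfsg.Agent.S1914

open Subgroup Cfsg.Lib Cfsg.Lib.Trans Cfsg.Lib.Trans.TJ Cfsg.Lib.Gold Cfsg.Lib.Bau.Cy Cfsg.Lib.Semi

/-- Let A be a semisimple subgroup (a central product of quasisimple groups, A = E(A)) of a finite group and t an involution normalizing A such that the Sylow 2-subgroups of C_A(t) are cyclic of order 4. Then A has 2-rank exactly 1. -/
theorem result {G : Type*} [Group G] [Finite G] (A : Subgroup G) (hA : Cfsg.layer ↥A = ⊤)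
    (t : G) (ht : orderOf t = 2) (htA : t ∈ Subgroup.normalizer (A : Set G))
    (hC : ∀ R : Sylow 2 ↥(A ⊓ Subgroup.centralizer ({t} : Set G)), IsCyclic R ∧ Nat.card R = 4) :
    Cfsg.PRankLE 2 1 A ∧ ¬ Cfsg.PRankLE 2 0 A := by
  obtain ⟨R⟩ : Nonempty (Sylow 2 ↥(A ⊓ C1 t)) := inferInstance
  have hR := isSylowIn_map_subtype R
  have hc := (hC R).1
  obtain ⟨r, e⟩ := (Subgroup.isCyclic_iff_exists_zpowers_eq_top _).1
    (isCyclic_of_surjective _ (equivMapOfInjective (R : Subgroup ↥(A ⊓ C1 t)) _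
      (subtype_injective _)).surjective)
  have r4 : orderOf r = 4 := by
    rw [← Nat.card_zpowers, e, card_map_of_injective (subtype_injective _)]; exact (hC R).2
  rw [← e] at hR
  have hr := hR.le (mem_zpowers r)
  have hz := mul_mem (mem_zpowers r) (mem_zpowers r)
  have z1 : r * r ≠ 1 := fun e => by
    have := orderOf_dvd_of_pow_eq_one (show r ^ 2 = 1 by rw [pow_two, e])
    rw [r4] at this; omega
  have z2 : r * r * (r * r) = 1 := by
    rw [← pow_orderOf_eq_one r, r4]; simp only [pow_succ, pow_zero, one_mul, mul_assoc]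
  have t2 : t * t = 1 := by rw [← pow_two, ← ht, pow_orderOf_eq_one]
  have t1 : t ≠ 1 := fun e => by rw [e, orderOf_one] at ht; omega
  have tr : t * r = r * t := (mem_C1.1 hr.2).symm
  refine ⟨by_contra fun h0 => ?_, fun h => ?_⟩
  swap
  · have := h (zpowers ⟨r * r, A.mul_mem hr.1 hr.1⟩) inferInstance (by
      rintro _ ⟨i, rfl⟩
      show (_ ^ i) ^ 2 = 1
      rw [← zpow_natCast, ← zpow_mul, mul_comm, zpow_mul, zpow_natCast, pow_two,
        show (⟨r * r, A.mul_mem hr.1 hr.1⟩ * ⟨r * r, A.mul_mem hr.1 hr.1⟩ : A) = 1 from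
          Subtype.ext z2, one_zpow])
    rw [pow_zero, card_le_one_iff_eq_bot, zpowers_eq_bot] at this
    exact z1 (congrArg Subtype.val this)
  have hN : NoF A t := fun a ha b hb a2 b2 a1 b1 e ea eb => by
    obtain ⟨g, -, h2⟩ := hR.exists_cj_le (pg_pair a2 b2 e)
      (sup_le (zpowers_le.2 ⟨ha, mem_C1.2 ea.symm⟩) (zpowers_le.2 ⟨hb, mem_C1.2 eb.symm⟩))
    have h3 := (uniq (h2 (conj_mem_cj.2 (mem_sup_left (mem_zpowers a)))) hz
      (by rw [conj_mul', a2]; group) z2 z1).resolve_left fun e => a1 (conj_eq_one_iff.1 e)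
    have h4 := (uniq (h2 (conj_mem_cj.2 (mem_sup_right (mem_zpowers b)))) hz
      (by rw [conj_mul', b2]; group) z2 z1).resolve_left fun e => b1 (conj_eq_one_iff.1 e)
    simpa using h3.trans h4.symm
  obtain ⟨T, h, hT⟩ := exists_st hA (Local.isPGroup_sup' hR.isPGroup (pg_two t2)
    (zpowers_le.2 (Cs_le_Ns (by rw [Cs_zpowers]; exact mem_C1.2 tr))))
    (sup_le (zpowers_le.2 (le_normalizer hr.1)) (zpowers_le.2 htA))
  have tT := hT (mem_sup_right (mem_zpowers t))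
  have rS : r ∈ T ⊓ A := ⟨hT (mem_sup_left (mem_zpowers r)), hr.1⟩
  have cen : ∀ s ∈ T ⊓ A, t * s = s * t → s ∈ zpowers r := fun s hs e =>
    (hR.eq_inf h.pg (zpowers_le.2 rS.1)).le ⟨hs.1, hs.2, mem_C1.2 e.symm⟩
  refine h.not_nf h0 tT t2 hN rS z1 z2 tr fun z hz' e he z2' e2 z1' zc ce => ?_
  by_contra! h1
  obtain rfl := (uniq (cen z hz' (mem_C1.1 (zc tT))) hz z2' z2 z1).resolve_left z1'
  have te := (ce t tT).resolve_left fun e' => h1.2 (hN e he.2 _ hz'.2 e2 z2 h1.1 z1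
    (mem_C1.1 (zc he.1)) (mul_inv_eq_iff_eq_mul.1 e') (mem_C1.1 (zc tT)))
  obtain ⟨M, hM⟩ := exists_ext (N := A) htA (t2 ▸ one_mem A)
  obtain ⟨U, hU⟩ := exists_ext (N := zpowers (r * r)) (v := e)
    (Cs_le_Ns (by rw [Cs_zpowers]; exact zc he.1)) (e2 ▸ one_mem _)
  refine Fr.false (U := U) ⟨h, tT, t2, fun tA => z1 ?_, fun g hg => ((hM g).1 (sup_le
    (fun a ha => (hM a).2 (Or.inl ha)) (sup_le (zpowers_le.2 ((hM r).2 (Or.inl hr.1)))
      (zpowers_le.2 ((hM t).2 (Or.inr (t2 ▸ one_mem A))))) hg)).resolve_left, rS, rfl, z2, z1, tr,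
    cen, he, e2, h1.1, h1.2, zc, ce, te, fun u => ?_⟩
  · rw [(uniq (cen t ⟨tT, tA⟩ rfl) hz t2 z2 z1).resolve_left t1, ← mem_C1.1 (zc he.1),
      mul_inv_cancel_right] at te
    simpa using te
  · rw [hU, mem_zp z2, mem_zp z2, or_assoc, ← eq_inv_mul_iff_mul_eq, ← eq_inv_mul_iff_mul_eq,
      inv_eq_of_mul_eq_one_right e2, mul_one]

end Cfsg.Agent.S1914
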