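import Cfsg.Statements.S1915
import Cfsg.Agent.Semi.One

set_option autoImplicit false
open Cfsg

namespace Cfsg.Agent.S1915

/-- Let A be a semisimple subgroup (A = E(A)) of a finite group and U a Klein four-group normalizing A. If the subgroup of A generated by the normalizers N_A(V) of the nontrivial subgroups V of U has 2-rank exactly 1, then A has 2-rank exactly 1. -/
theorem result {G : Type*} [Group G] [Finite G] (A : Subgroup G) (hA : Cfsg.layer ↥A = ⊤)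
    (U : Subgroup G) (hU : IsKleinFour U) (hUA : U ≤ Subgroup.normalizer (A : Set G))
    (hΓ : Cfsg.PRankLE 2 1 ↥(⨆ V : {V : Subgroup G // V ≤ U ∧ V ≠ ⊥}, A ⊓ Subgroup.normalizer ((V : Subgroup G) : Set G)) ∧
      ¬ Cfsg.PRankLE 2 0 ↥(⨆ V : {V : Subgroup G // V ≤ U ∧ V ≠ ⊥}, A ⊓ Subgroup.normalizer ((V : Subgroup G) : Set G))) :
    Cfsg.PRankLE 2 1 A ∧ ¬ Cfsg.PRankLE 2 0 A := by
  refine ⟨?_, fun h => hΓ.2 (Lib.FT.BG4.pRankLE_of_le h (iSup_le fun _ => inf_le_left))⟩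
  have hP : IsPGroup 2 U := IsPGroup.of_card (n := 2) hU.card_four
  obtain ⟨T, h, hT⟩ := Lib.Semi.exists_st hA hP hUA
  have k : ∀ u : U, u ≠ 1 → Lib.Semi.NoF A u := fun u hu => Lib.Semi.noF_of_rank hΓ.1
    (le_iSup_of_le ⟨Subgroup.zpowers (u : G), Subgroup.zpowers_le.2 u.2, fun e =>
      hu (Subtype.ext (Subgroup.zpowers_eq_bot.1 e))⟩ (inf_le_inf_left _ (by
        rw [← Lib.Gold.Cs_zpowers]; exact Lib.Gold.Cs_le_Ns)))
  haveI := Fintype.ofFinite U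
  obtain ⟨u, v, w, h1, h2, h3⟩ := Fintype.two_lt_card_iff.1
    (show 2 < Fintype.card U by rw [Fintype.card_eq_nat_card, hU.card_four]; norm_num)
  obtain ⟨a, b, a1, b1, e⟩ : ∃ a b : U, a ≠ 1 ∧ b ≠ 1 ∧ a ≠ b := by
    by_cases hu : u = 1
    · exact ⟨v, w, hu ▸ h1.symm, hu ▸ h2.symm, h3⟩
    · by_cases hv : v = 1
      · exact ⟨u, w, hu, hv ▸ h3.symm, h2⟩
      · exact ⟨u, v, hu, hv, h1⟩
  have s : ∀ u : U, (u : G) * u = 1 := fun u => congrArg Subtype.val (IsKleinFour.mul_self u)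
  exact h.klein (hT a.2) (hT b.2) (s a) (s b) (s (a * b)) (k a a1) (k b b1) (k (a * b) fun e' =>
    e (by rw [mul_eq_one_iff_eq_inv.1 e', IsKleinFour.inv_eq_self]))

end Cfsg.Agent.S1915
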