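import Cfsg.Statements.S1921
import Cfsg.Agent.Trans.DiagTwo

set_option autoImplicit false
open Cfsg

namespace Cfsg.Agent.S1921

open Cfsg.Lib Cfsg.Lib.Trans

open Subgroup

/-- Let a be an involution of a finite group H and L a component of H with a L a⁻¹ ≠ L; put M = ⟨L, aLa⁻¹⟩ and let J be the subgroup generated by the elements x · a x a⁻¹ with x ∈ L (the diagonal). Then every element of M outside J·Z(M) generates M together with J. -/
theorem result {H : Type*} [Group H] [Finite H] (a : H) (ha : orderOf a = 2) (L : Subgroup H) (hL : Cfsg.IsComponent L)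
    (hLa : L.map (MulAut.conj a).toMonoidHom ≠ L) (x : H) (hxM : x ∈ L ⊔ L.map (MulAut.conj a).toMonoidHom)
    (hxJ : x ∉ Subgroup.closure {y : H | ∃ l ∈ L, y = l * (a * l * a⁻¹)} ⊔
      ((L ⊔ L.map (MulAut.conj a).toMonoidHom) ⊓ Subgroup.centralizer ((L ⊔ L.map (MulAut.conj a).toMonoidHom : Subgroup H) : Set H))) :
    Subgroup.closure {y : H | ∃ l ∈ L, y = l * (a * l * a⁻¹)} ⊔ Subgroup.zpowers x = L ⊔ L.map (MulAut.conj a).toMonoidHom := by
  rw [Solv.map_conj_eq_smul] at hLa hxM hxJ ⊢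
  have hc := IsComponent.commutator_eq_bot_of_ne hL (IsComponent.conj_smul hL a) hLa.symm
  have h := regComm_two ha hc
  rw [h.range_diag_two ha] at hxJ ⊢
  have hDM := h.range_diag_le_orbSup
  rw [orbSup_two ha] at hDM
  obtain ⟨l₁, h₁, m, hm, rfl⟩ := (mem_sup_of_le_normalizer
    (le_normalizer_of_commutator_eq_bot (commutator_eq_bot_symm hc))).1 hxM
  obtain ⟨l₂, h₂, rfl⟩ := Solv.mem_conj_smul_iff_exists.1 hm
  have hd := h.diag_two ha ⟨l₂, h₂⟩
  have he : l₁ * (a * l₂ * a⁻¹) = l₁ * l₂⁻¹ * h.diag ⟨l₂, h₂⟩ := by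
    rw [hd]
    group
  rw [he] at hxJ hxM ⊢
  have h1 : L ≤ h.diag.range ⊔ zpowers (l₁ * l₂⁻¹ * h.diag ⟨l₂, h₂⟩) := by
    apply h.le_of_range_diag_le (IsComponent.isQuasisimple hL) le_sup_left
    intro h2
    apply hxJ
    have h3 : l₁ * l₂⁻¹ ∈ L := mul_mem h₁ (inv_mem h₂)
    refine mul_mem (mem_sup_right ⟨mem_sup_left h3, ?_⟩) (mem_sup_left ⟨_, rfl⟩)
    rw [centralizer_sup_eq]
    refine ⟨h2 ⟨?_, h3⟩, commutator_eq_bot_iff_le_centralizer.1 hc h3⟩
    have hdm : h.diag ⟨l₂, h₂⟩ ∈ h.diag.range := ⟨_, rfl⟩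
    exact (mul_mem_cancel_right (mem_sup_left hdm)).1 (mem_sup_right (mem_zpowers _))
  refine le_antisymm (sup_le hDM (zpowers_le.2 hxM)) (sup_le h1 ?_)
  rw [Solv.conj_smul_le_iff]
  intro l hl
  refine (mul_mem_cancel_left (h1 hl)).1 (mem_sup_left ⟨⟨l, hl⟩, h.diag_two ha _⟩)

end Cfsg.Agent.S1921
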