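import Cfsg.Statements.S1922
import Cfsg.Agent.Trans.InvolParity
import Cfsg.Agent.Trans.Isolated
import Cfsg.Agent.Trans.SylowIn
import Cfsg.Agent.Local.InvolCount

set_option autoImplicit false
open Cfsg

namespace Cfsg.Agent.S1922

open Cfsg.Lib.Trans Subgroup

section
variable {G : Type*} [Group G] [Finite G] {Ω : Type*} [MulAction G Ω] {z : G}

omit [Finite G] in
theorem isConj_mul_zpow {d e : G} (hz : z * z = 1) (hd : IsConj z d) (he : IsConj z e) (j : ℤ) :
    IsConj z (d * (d * e) ^ j) := by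
  have hd2 := mul_self_of_isConj hz hd
  have he2 := mul_self_of_isConj hz he
  rcases Int.even_or_odd j with h | h
  · obtain ⟨k, hk⟩ := exists_zpow_conj_eq_mul_zpow_even hd2 he2 h
    exact hd.trans (isConj_iff.2 ⟨_, hk⟩)
  · obtain ⟨k, hk⟩ := exists_zpow_conj_eq_mul_zpow_odd hd2 he2 h
    exact he.trans (isConj_iff.2 ⟨_, hk⟩)

theorem odd_index (hz : z * z = 1)
    (h1 : ∀ d, IsConj z d → ∀ a b : Ω, d • a = a → d • b = b → a = b)
    (h1' : ∀ d, IsConj z d → ∃ a : Ω, d • a = a)
    (h2 : ∀ d e, IsConj z d → IsConj z e → d ≠ e → d * e = e * d →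
      ∀ a b : Ω, (d * e) • a = a → (d * e) • b = b → a = b)
    {α β : Ω} (hαβ : α ≠ β) (hzα : z • α = α) {u : G} (hu : IsConj z u) (huβ : u • β = β) :
    Odd (centralizer ({z} : Set G)).index := by
  have sq : ∀ d, IsConj z d → d * d = 1 := fun d hd => mul_self_of_isConj hz hd
  have inv : ∀ d, IsConj z d → d⁻¹ = d := fun d hd => inv_eq_of_mul_eq_one_right (sq d hd)
  have fixc : ∀ d, IsConj z d → ∀ (a : Ω) (w : G), d • a = a → d * w = w * d → w • a = a := by
    intro d hd a w ha hw
    exact h1 d hd _ _ (by rw [← mul_smul, hw, mul_smul, ha]) ha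
  have hA : ∀ d e, IsConj z d → IsConj z e → Even (orderOf (d * e)) → ∃ m : ℕ,
      Commute d ((d * e) ^ m) ∧ Commute e ((d * e) ^ m) ∧
      ∀ a b : Ω, (d * e) ^ m • a = a → (d * e) ^ m • b = b → a = b := by
    intro d e hd he hev
    obtain ⟨m, -, ho, hc1, hc2⟩ := exists_central_invol_of_even (sq d hd) (sq e he) hev
    refine ⟨m, hc1, hc2, fun a b ha hb => ?_⟩
    have h3 : IsConj z (d * (d * e) ^ m) := by
      have := isConj_mul_zpow hz hd he m
      rwa [zpow_natCast] at this
    have h4 : d * (d * (d * e) ^ m) = (d * e) ^ m := by rw [← mul_assoc, sq d hd, one_mul]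
    refine h2 d _ hd h3 ?_ ?_ a b (by rw [h4, ha]) (by rw [h4, hb])
    · intro h
      have : (d * e) ^ m = 1 := by simpa using h
      rw [this] at ho
      simp at ho
    · rw [mul_assoc, ← hc1.eq]
  have hA1 : ∀ d e, IsConj z d → IsConj z e → ∀ a b : Ω, d • a = a → e • b = b → a ≠ b →
      Odd (orderOf (d * e)) := by
    intro d e hd he a b ha hb hab
    refine Nat.not_even_iff_odd.1 fun hev => hab ?_
    obtain ⟨m, hc1, hc2, h⟩ := hA d e hd he hev
    exact h a b (fixc d hd a _ ha hc1.eq) (fixc e he b _ hb hc2.eq)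
  have hA2 : ∀ d e, IsConj z d → IsConj z e → ∀ a b : Ω, (d * e) • a = a → (d * e) • b = b →
      a ≠ b → Odd (orderOf (d * e)) := by
    intro d e hd he a b ha hb hab
    refine Nat.not_even_iff_odd.1 fun hev => hab ?_
    obtain ⟨m, -, -, h⟩ := hA d e hd he hev
    exact h a b ((MulAction.stabilizer G a).pow_mem ha m) ((MulAction.stabilizer G b).pow_mem hb m)
  let V : Set G := {v | IsConj z v ∧ v • α = β}
  let Dα : Set G := {d | IsConj z d ∧ d • α = α}
  have hVβ : ∀ v ∈ V, v • β = α := fun v hv => by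
    rw [← hv.2, ← mul_smul, sq v hv.1, one_smul]
  have hsurj : ∀ d ∈ Dα, ∃ v ∈ V, v * u * v⁻¹ = d := by
    intro d hd
    obtain ⟨k, hk⟩ := exists_invol_conj_of_odd_mul (sq u hu) (sq d hd.1)
      (hA1 u d hu hd.1 β α huβ hd.2 hαβ.symm)
    have hv := isConj_mul_zpow hz hu hd.1 k
    set v := u * (u * d) ^ k
    have : v • β = α := by
      refine h1 d hd.1 _ _ ?_ hd.2
      rw [← hk, mul_smul, inv_smul_smul, mul_smul, huβ]
    exact ⟨v, ⟨hv, by rw [← this, ← mul_smul, sq v hv, one_smul]⟩, hk⟩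
  have hbij : Set.BijOn (fun v => v * u * v⁻¹) V Dα := by
    refine ⟨fun v hv => ⟨hu.trans (isConj_conj v u), ?_⟩, fun v hv v' hv' h => ?_,
      fun d hd => hsurj d hd⟩
    · change (v * u * v⁻¹) • α = α
      rw [inv v hv.1, mul_smul, mul_smul, hv.2, huβ, hVβ v hv]
    · have h : v * u * v⁻¹ = v' * u * v'⁻¹ := h
      have hr : Odd (orderOf (v' * v)) := hA2 v' v hv'.1 hv.1 α β
        (by rw [mul_smul, hv.2, hVβ v' hv']) (by rw [mul_smul, hVβ v hv, hv'.2]) hαβ
      obtain ⟨γ, hγ⟩ := h1' v' hv'.1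
      have hx : Odd (orderOf (u * v')) := hA1 u v' hu hv'.1 β γ huβ hγ (by
        rintro rfl
        exact hαβ ((hVβ v' hv').symm.trans hγ))
      have h3 : v * v' * u = u * (v * v') := by
        calc v * v' * u = v * (v' * u * v'⁻¹) * v' := by group
          _ = (v * v) * u * v⁻¹ * v' := by rw [← h]; group
          _ = u * (v * v') := by rw [sq v hv.1, inv v hv.1]; group
      have h4 : v' * v = 1 := by
        refine eq_one_of_inverted_by_odd hx hr ?_
        calc u * v' * (v' * v) * (u * v')⁻¹ = u * (v' * v') * v * v'⁻¹ * u⁻¹ := by group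
          _ = u * (v * v') * u⁻¹ := by rw [sq v' hv'.1, inv v' hv'.1]; group
          _ = v * v' := by rw [← h3]; group
          _ = (v' * v)⁻¹ := by rw [mul_inv_rev, inv v hv.1, inv v' hv'.1]
      rw [← inv v' hv'.1]
      exact (inv_eq_of_mul_eq_one_right h4).symm
  obtain ⟨v₀, hv₀, -⟩ := hsurj z ⟨IsConj.refl z, hzα⟩
  have conj2 : ∀ d, IsConj z d → ∀ x : G, d * (d * x * d⁻¹) * d⁻¹ = x := by
    intro d hd x
    calc d * (d * x * d⁻¹) * d⁻¹ = (d * d) * x * (d * d)⁻¹ := by group
      _ = x := by rw [sq d hd]; group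
  have comm : ∀ d x : G, d * x * d⁻¹ = x → d * x = x * d := fun d x h => by
    rw [mul_inv_eq_iff_eq_mul] at h; exact h
  have hV : Odd V.ncard := by
    refine odd_ncard_of_involutive (Set.toFinite V) (fun v => v₀ * v * v₀⁻¹)
      (fun v hv => ⟨hv.1.trans (isConj_conj _ _), ?_⟩) (fun v _ => conj2 v₀ hv₀.1 v) hv₀
      (by group) (fun v hv h => ?_)
    · rw [inv v₀ hv₀.1, mul_smul, mul_smul, hv₀.2, hVβ v hv, hv₀.2]
    · by_contra hne
      exact hαβ (h2 v₀ v hv₀.1 hv.1 (Ne.symm hne) (comm _ _ h) α β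
        (by rw [mul_smul, hv.2, hVβ v₀ hv₀]) (by rw [mul_smul, hVβ v hv, hv₀.2]))
  rw [hbij.ncard_eq] at hV
  have hD := ncard_modEq_of_involutive (Set.toFinite {d | IsConj z d}) (fun d => z * d * z⁻¹)
    (fun d hd => IsConj.trans hd (isConj_conj _ _)) (fun d _ => conj2 z (IsConj.refl z) d)
  have hDα := ncard_modEq_of_involutive (Set.toFinite Dα) (fun d => z * d * z⁻¹)
    (fun d hd => ⟨IsConj.trans hd.1 (isConj_conj _ _), by
      rw [inv z (IsConj.refl z), mul_smul, mul_smul, hzα, hd.2, hzα]⟩)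
    (fun d _ => conj2 z (IsConj.refl z) d)
  have heq : {x | x ∈ {d | IsConj z d} ∧ z * x * z⁻¹ = x} = {x | x ∈ Dα ∧ z * x * z⁻¹ = x} := by
    ext x
    exact ⟨fun h => ⟨⟨h.1, fixc z (IsConj.refl z) α x hzα (comm _ _ h.2)⟩, h.2⟩,
      fun h => ⟨h.1.1, h.2⟩⟩
  rw [heq] at hD
  rw [← Cfsg.Lib.Local.card_isConj_eq_index]
  have : Nat.card {y : G // IsConj z y} = {d | IsConj z d}.ncard := Nat.card_coe_set_eq _
  rw [this, Nat.odd_iff, hD.trans hDα.symm]
  exact Nat.odd_iff.1 hV

end

/-- Let z be an involution of a finite group G and H a proper subgroup such that z lies in gHg⁻¹ exactly when g ∈ H. Then the following are equivalent: (1) for every conjugate t ≠ z of z commuting with z, the product zt lies in gHg⁻¹ exactly when g ∈ H; (2) z lies in the centre of some Sylow 2-subgroup of G, and for every conjugate t ≠ z of z commuting with z, the centralizer of zt is contained in H. -/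
theorem result {G : Type*} [Group G] [Finite G] (z : G) (hz : orderOf z = 2) (H : Subgroup G) (hH : H ≠ ⊤)
    (h0 : ∀ g : G, z ∈ H.map (MulAut.conj g).toMonoidHom ↔ g ∈ H) :
    (∀ t : G, IsConj z t → t ≠ z → t * z = z * t → ∀ g : G, z * t ∈ H.map (MulAut.conj g).toMonoidHom ↔ g ∈ H) ↔
      ((∃ P : Sylow 2 G, z ∈ (Subgroup.center ↥(P : Subgroup G)).map (P : Subgroup G).subtype) ∧
        ∀ t : G, IsConj z t → t ≠ z → t * z = z * t → Subgroup.centralizer ({z * t} : Set G) ≤ H) := by
  have : Fact (Nat.Prime 2) := ⟨Nat.prime_two⟩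
  have hz2 : z * z = 1 := Cfsg.Lib.Local.invol_mul_self hz
  have h0' : ∀ g : G, g⁻¹ * z * g ∈ H ↔ g ∈ H := fun g => mem_cj.symm.trans (h0 g)
  have hzH : z ∈ H := by simpa using (h0' 1).2 H.one_mem
  have hCH : centralizer ({z} : Set G) ≤ H := by
    intro c hc
    rw [mem_centralizer_singleton_iff] at hc
    refine (h0' c).1 ?_
    rw [mul_assoc, ← hc, inv_mul_cancel_left]; exact hzH
  have hfix : ∀ x g : G, x • (g : G ⧸ H) = g ↔ g⁻¹ * x * g ∈ H := by
    intro x g
    rw [MulAction.Quotient.smul_mk, smul_eq_mul, eq_comm, QuotientGroup.eq, mul_assoc]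
  constructor
  · intro h1
    refine ⟨?_, fun t ht htz hc c hcc => ?_⟩
    · obtain ⟨g, hg⟩ : ∃ g, g ∉ H := by
        by_contra hcon
        push Not at hcon
        exact hH (eq_top_iff.2 fun g _ => hcon g)
      have hodd : Odd (centralizer ({z} : Set G)).index := by
        refine odd_index (Ω := G ⧸ H) hz2 ?_ ?_ ?_ (α := ((1 : G) : G ⧸ H)) (β := g) ?_ ?_
          (isConj_conj g z) ?_
        · intro d hd a b ha hb
          obtain ⟨c, rfl⟩ := isConj_iff.1 hd
          induction a using QuotientGroup.induction_on with | H a => ?_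
          induction b using QuotientGroup.induction_on with | H b => ?_
          rw [hfix] at ha hb
          have ha' : c⁻¹ * a ∈ H := (h0' _).1 (by convert ha using 1; group)
          have hb' : c⁻¹ * b ∈ H := (h0' _).1 (by convert hb using 1; group)
          rw [QuotientGroup.eq]
          convert H.mul_mem (H.inv_mem ha') hb' using 1
          group
        · intro d hd
          obtain ⟨c, rfl⟩ := isConj_iff.1 hd
          exact ⟨c, by rw [hfix]; convert hzH using 1; group⟩
        · intro d e hd he hde hc a b ha hb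
          obtain ⟨c, rfl⟩ := isConj_iff.1 hd
          induction a using QuotientGroup.induction_on with | H a => ?_
          induction b using QuotientGroup.induction_on with | H b => ?_
          rw [hfix] at ha hb
          have key := h1 (c⁻¹ * e * c) (he.trans (by simpa using isConj_conj c⁻¹ e))
            (fun h => hde (by rw [← h]; group)) (by
              calc c⁻¹ * e * c * z = c⁻¹ * (e * (c * z * c⁻¹)) * c := by group
                _ = _ := by rw [← hc]; group)
          have ha' : c⁻¹ * a ∈ H := (key _).1 (mem_cj.2 (by convert ha using 1; group))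
          have hb' : c⁻¹ * b ∈ H := (key _).1 (mem_cj.2 (by convert hb using 1; group))
          rw [QuotientGroup.eq]
          convert H.mul_mem (H.inv_mem ha') hb' using 1
          group
        · intro h
          rw [QuotientGroup.eq] at h
          exact hg (by simpa using h)
        · rw [hfix]; simpa using hzH
        · rw [hfix]; convert hzH using 1; group
      have hzp : IsPGroup 2 (zpowers z) :=
        IsPGroup.of_card (n := 1) (by rw [Nat.card_zpowers, hz]; rfl)
      obtain ⟨T, hT, hzT⟩ := exists_isSylowIn_ge hzp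
        (H := centralizer ({z} : Set G)) (by
          rw [zpowers_le, mem_centralizer_singleton_iff])
      obtain ⟨P, hP⟩ := (hT.trans le_top (by
        rw [relIndex_top_right]; exact hodd.not_two_dvd_nat)).exists_sylow_eq
      have hzP : z ∈ (P : Subgroup G) := hP ▸ hzT (mem_zpowers z)
      refine ⟨P, ⟨z, hzP⟩, ?_, rfl⟩
      rw [SetLike.mem_coe, mem_center_iff]
      intro x
      have : (x : G) ∈ centralizer ({z} : Set G) := hT.le (hP ▸ x.2)
      exact Subtype.ext (mem_centralizer_singleton_iff.1 this)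
    · rw [mem_centralizer_singleton_iff] at hcc
      refine (h1 t ht htz hc c).1 (mem_cj.2 ?_)
      rw [mul_assoc, ← hcc, inv_mul_cancel_left]
      exact H.mul_mem hzH (hCH (mem_centralizer_singleton_iff.2 hc))
  · rintro ⟨⟨P, hP⟩, h2⟩ t ht htz hc g
    have htH : t ∈ H := hCH (mem_centralizer_singleton_iff.2 hc)
    refine ⟨fun hg => ?_, fun hg => mem_cj.2 ?_⟩
    · obtain ⟨⟨z', hzP⟩, hzc, rfl⟩ := hP
      rw [SetLike.mem_coe, mem_center_iff] at hzc
      change z' ∈ _ at hzH
      have hPC : (P : Subgroup G) ≤ centralizer ({z'} : Set G) := fun x hx =>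
        mem_centralizer_singleton_iff.2 (congrArg Subtype.val (hzc ⟨x, hx⟩))
      have hw : g⁻¹ * (z' * t) * g ∈ H := mem_cj.1 hg
      have ht2 : t * t = 1 := mul_self_of_isConj hz2 ht
      change z' * z' = 1 at hz2
      change t * z' = z' * t at hc
      have hwp : IsPGroup 2 (zpowers (g⁻¹ * (z' * t) * g)) := by
        have hsq : (g⁻¹ * (z' * t) * g) ^ 2 = 1 := by
          calc (g⁻¹ * (z' * t) * g) ^ 2 = g⁻¹ * (z' * (t * z') * t) * g := by rw [pow_two]; group
            _ = g⁻¹ * ((z' * z') * (t * t)) * g := by rw [hc]; group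
            _ = 1 := by rw [hz2, ht2]; group
        rintro ⟨_, k, rfl⟩
        refine ⟨1, Subtype.ext ?_⟩
        change ((g⁻¹ * (z' * t) * g) ^ k) ^ (2 ^ 1) = 1
        rw [pow_one, ← zpow_natCast, ← zpow_mul, mul_comm, zpow_mul, zpow_natCast, hsq, one_zpow]
      obtain ⟨x, hx, hle⟩ := (isSylowIn_of_le P (hPC.trans hCH)).exists_cj_le hwp
        (zpowers_le.2 hw)
      have h3 := mem_centralizer_singleton_iff.1 (hPC (cj_le_iff.1 hle _ (mem_zpowers _)))
      have h4 : g * x⁻¹ * z' * (g * x⁻¹)⁻¹ ∈ H := by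
        refine h2 t ht htz hc (mem_centralizer_singleton_iff.2 ?_)
        change _ * (z' * t) = (z' * t) * _
        calc g * x⁻¹ * z' * (g * x⁻¹)⁻¹ * (z' * t)
            = g * x⁻¹ * (z' * (x * (g⁻¹ * (z' * t) * g) * x⁻¹)) * x * g⁻¹ := by group
          _ = _ := by rw [← h3]; group
      have h5 : (g * x⁻¹)⁻¹ ∈ H := (h0' _).1 (by rw [inv_inv]; exact h4)
      simpa using H.mul_mem (H.inv_mem h5) hx
    · exact H.mul_mem (H.mul_mem (H.inv_mem hg) (H.mul_mem hzH htH)) hg

end Cfsg.Agent.S1922
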