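import Cfsg.Statements.S1930
import Cfsg.Agent.Flav.Final

set_option autoImplicit false
open Cfsg

namespace Cfsg.Agent.S1930

/-- Inside a finite group let G be a nontrivial subgroup and R an r-subgroup (r a prime) normalizing G, with the order of G prime to r. Let p > 3 be a prime with F*(G) = O_p(G), and let P be the intersection of all R-invariant Sylow p-subgroups of G. Then P has a nontrivial characteristic subgroup that is normalized by G. -/
theorem result {X : Type*} [Group X] [Finite X] (G R : Subgroup X) (r : ℕ) [Fact r.Prime] (hR : IsPGroup r ↥R) (hcop : (Nat.card ↥G).Coprime r) (hnorm : R ≤ Subgroup.normalizer (G : Set X)) (hG : G ≠ ⊥) (p : ℕ) [Fact p.Prime] (hp : 3 < p) (hF : Cfsg.generalizedFittingSubgroup ↥G = Cfsg.pCore p ↥G) (P : Subgroup X) (hP : P = ⨅ S : {S : Sylow p ↥G // ∀ a ∈ R, ((S : Subgroup ↥G).map G.subtype).map (MulAut.conj a).toMonoidHom = (S : Subgroup ↥G).map G.subtype}, ((S : Sylow p ↥G) : Subgroup ↥G).map G.subtype) : ∃ C : Subgroup ↥P,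 C.Characteristic ∧ C ≠ ⊥ ∧ G ≤ Subgroup.normalizer ((C.map P.subtype : Subgroup X) : Set X) := by
  have : Fact (3 < p) := ⟨hp⟩
  have hc : Lib.Local.CharP p G := Lib.Local.charP_iff_genFitting.2 hF
  have hcop' : (Nat.card R).Coprime (Nat.card G) := by
    obtain ⟨n, hn⟩ := hR.exists_card_eq
    rw [hn]; exact hcop.symm.pow_left n
  have hsolv : Group.IsSolvable R := by have := hR.isNilpotent; infer_instance
  obtain ⟨S₀, hS₀⟩ := Lib.Solv.Coprime.exists_invariant_sylow hnorm hcop' (Or.inl hsolv) p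
  have hmem : ∀ x, x ∈ P ↔ ∀ S : Sylow p G,
      R ≤ Subgroup.normalizer (((S : Subgroup G).map G.subtype : Subgroup X) : Set X) →
        x ∈ (S : Subgroup G).map G.subtype := by
    intro x
    rw [hP, Subgroup.mem_iInf, Subtype.forall]
    exact forall_congr' fun S =>
      ⟨fun h h' => h fun a ha => Subgroup.mem_normalizer_iff_map_conj_eq.1 (h' ha),
        fun h h' => h fun a ha => Subgroup.mem_normalizer_iff_map_conj_eq.2 (h' a ha)⟩
  have hPS : P ≤ (S₀ : Subgroup G).map G.subtype := fun x hx => (hmem x).1 hx S₀ hS₀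
  have hnC : ∀ c ∈ G ⊓ Subgroup.centralizer (R : Set X), ∀ x ∈ P, c * x * c⁻¹ ∈ P := by
    rintro c ⟨hcG, hcR⟩ x hx
    refine (hmem _).2 fun S hS => ?_
    have key : ∀ y, y ∈ (((⟨c, hcG⟩ : G)⁻¹ • S : Sylow p G) : Subgroup G).map G.subtype ↔
        c * y * c⁻¹ ∈ (S : Subgroup G).map G.subtype := by
      intro y
      rw [Sylow.coe_subgroup_smul]
      constructor
      · rintro ⟨y, hy, rfl⟩
        refine ⟨_, Subgroup.mem_pointwise_smul_iff_inv_smul_mem.1 hy, ?_⟩
        simp
      · rintro ⟨z, hz, e⟩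
        refine ⟨_, Subgroup.smul_mem_pointwise_smul z _ _ hz, ?_⟩
        simp only [Subgroup.coe_subtype] at e
        simp [e, mul_assoc]
    refine (key x).1 ((hmem x).1 hx _ fun a ha => Subgroup.mem_normalizer_iff.2 fun y => ?_)
    have e : c * (a * y * a⁻¹) * c⁻¹ = a * (c * y * c⁻¹) * a⁻¹ := by
      have h1 := hcR a ha
      calc c * (a * y * a⁻¹) * c⁻¹ = (c * a) * y * (c * a)⁻¹ := by group
        _ = _ := by rw [← h1]; group
    rw [key, key, e]
    exact Subgroup.mem_normalizer_iff.1 (hS ha) _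
  have hH : Lib.Flav.Hyp p G R P := by
    refine ⟨hnorm, hcop', hsolv, hPS.trans (Subgroup.map_subtype_le _),
      (S₀.isPGroup'.map _).to_le hPS, fun a ha => Subgroup.mem_normalizer_iff.2 fun y => ?_,
      fun c hc => Subgroup.mem_normalizer_iff.2 fun y => ⟨hnC c hc y, fun h => ?_⟩⟩
    · rw [hmem, hmem]
      exact forall₂_congr fun S hS => Subgroup.mem_normalizer_iff.1 (hS ha) _
    · simpa [mul_assoc] using hnC _ (Subgroup.inv_mem _ hc) _ h
  have hT : pCoreOf p G ≤ P := fun x hx => (hmem x).2 fun S _ =>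
    Subgroup.map_mono ((Lib.Solv.pCore_isPGroup p G).le_sylow_of_normal S) hx
  have hf := Subgroup.subtype_injective P
  have e : (Lib.Trans.kLowerIn (⊤ : Subgroup P)).map P.subtype = Lib.Trans.kLowerIn P := by
    rw [Lib.Trans.map_kLowerIn hf, ← MonoidHom.range_eq_map, Subgroup.range_subtype]
  refine ⟨Lib.Trans.kLowerIn ⊤, Subgroup.characteristic_iff_map_eq.2 fun φ => ?_, fun h => ?_, ?_⟩
  · rw [Lib.Trans.map_kLowerIn φ.injective, Subgroup.map_top_of_surjective _ φ.surjective]
  · rw [h, Subgroup.map_bot] at e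
    refine Lib.Solv.PG.inf_centralizer_ne_bot hH.pg hH.pg Subgroup.le_normalizer
      (fun h0 => hc.pCoreOf_ne_bot hG (le_bot_iff.1 (h0 ▸ hT))) (le_bot_iff.1 ?_)
    rw [e]
    exact Lib.Trans.center_le_kLowerIn P
  · rw [e]
    exact Subgroup.le_normalizer.trans (hH.le_normalizer_kLowerIn hT hc)

end Cfsg.Agent.S1930
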