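import Cfsg.Statements.S1957
import Cfsg.Agent.GCT.M22A
import Cfsg.Agent.GCT.Two0
import Cfsg.Agent.CycZ.Basic

set_option autoImplicit false
open Cfsg

namespace Cfsg.Agent.S1957

open Subgroup Cfsg.Lib Cfsg.Lib.Trans Cfsg.Lib.Gold Cfsg.Lib.Gomi
open scoped commutatorElement

theorem idx {G : Type*} [Group G] [Finite G] {P U : Subgroup G} (hP : IsPGroup 2 P) (hn : P ≤ Ns U)
    (h4 : Nat.card U = 4) (sq : ∀ u ∈ U, u * u = 1) : Local.IdxLeTwo (Cs U) P := by
  obtain ⟨z, hz, h, -, e⟩ := Solv.PG.exists_mem_centralizer_orderOf_eq hP (Gomi.isPGroup_of_sq sq) hn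
    fun e => by simp [e] at h4
  have z1 : z ≠ 1 := by rintro rfl; simp at e
  have key : ∀ x ∈ P, ∀ w ∈ U, x * w * x⁻¹ = w ∨ (x * w * x⁻¹ = z * w ∧ w ≠ 1 ∧ w ≠ z) :=
    fun x hx w hw => by
      have h1 : x * z * x⁻¹ = z := by rw [h x hx, mul_inv_cancel_right]
      by_cases w1 : w = 1
      · simp [w1]
      by_cases w2 : w = z
      · exact .inl (w2 ▸ h1)
      rcases L34.four_cases h4 sq hz z1 hw w1 w2 (mem_normalizer_conj (hn hx) hw) with k | k | k | k
      · exact absurd (by simpa using k) w1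
      · exact absurd (by simpa using k.trans h1.symm) w2
      exacts [.inl k, .inr ⟨k, w1, w2⟩]
  have k2 : ∀ x ∈ P, x ∉ Cs U → ∀ w ∈ U, w ≠ 1 → w ≠ z → x * w * x⁻¹ = z * w := by
    intro x hx nx w hw w1 w2
    refine ((key x hx w hw).resolve_left fun k => nx (mem_Cs.2 fun v hv => ?_)).1
    rw [mul_inv_eq_iff_eq_mul] at k
    rcases L34.four_cases h4 sq hz z1 hw w1 w2 hv with rfl | rfl | rfl | rfl
    · simp
    · exact (h x hx).symm
    · exact k.symm
    · rw [mul_assoc, ← k, ← mul_assoc, ← h x hx, mul_assoc]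
  intro x hx y hy nx ny
  refine mem_Cs.2 fun w hw => (mul_inv_eq_iff_eq_mul.1 ?_).symm
  have hxy := h _ (mul_mem hx hy)
  by_cases w1 : w = 1
  · simp [w1]
  by_cases w2 : w = z
  · rw [w2, hxy, mul_inv_cancel_right]
  rw [conj_mul_eq, k2 y hy ny w hw w1 w2, show x * (z * w) * x⁻¹ = x * z * x⁻¹ * (x * w * x⁻¹) by
    group, k2 x hx nx w hw w1 w2, h x hx, mul_inv_cancel_right, ← mul_assoc, sq z hz, one_mul]

/-- Let `G` be a finite non-abelian simple group in which every local subgroup is solvable and which is of characteristic 2 type. Let `P` be a Sylow 2-subgroup of `G` and `U` a normal subgroup of `P` that is a four-group, with `U` central in `P` if the centre of `P` is not cyclic. Then `U` centralizes every subgroup of odd order of `G` that it normalizes. -/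
theorem result {G : Type*} [Group G] [Finite G]
    [IsSimpleGroup G] (hna : ¬ IsMulCommutative G) (hN : Cfsg.IsNGroup G) (h2 : Cfsg.IsCharacteristicTwoType G)
    (P : Sylow 2 G) (U : Subgroup G) (hUP : U ≤ (P : Subgroup G)) (hUn : (P : Subgroup G) ≤ Subgroup.normalizer (U : Set G))
    (hU4 : IsKleinFour ↥U)
    (hUZ : ¬ IsCyclic ↥((P : Subgroup G) ⊓ Subgroup.centralizer ((P : Subgroup G) : Set G)) →
      U ≤ Subgroup.centralizer ((P : Subgroup G) : Set G))
    (K : Subgroup G) (hK : Odd (Nat.card K)) (hUK : U ≤ Subgroup.normalizer (K : Set G)) :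
    U ≤ Subgroup.centralizer (K : Set G) := by
  have sq : ∀ u ∈ U, u * u = 1 := fun u hu => congrArg Subtype.val (IsKleinFour.mul_self (⟨u, hu⟩ : U))
  have hP := isSylowIn_top P
  have i1 := card_le_of_idx (idx hP.isPGroup hUn hU4.card_four sq)
  have U0 : U ≤ Cs U ⊓ P := le_inf (le_Cs_of_sq sq le_rfl) hUP
  have : IsMulCommutative U := ⟨⟨fun a b => Subtype.ext (comm_of_sq sq a a.2 b b.2)⟩⟩
  refine le_Cs_comm.1 (Solv.Coprime.le_of_forall_centralizer_singleton
    (IsKleinFour.not_isCyclic) hUK (by rw [hU4.card_four]; exact (Nat.coprime_two_left.2 hK).pow_left 2)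
    fun u hu u1 => ?_)
  obtain ⟨Q, hQ, h1⟩ := exists_isSylowIn_ge (hP.isPGroup.to_le (inf_le_right (a := Cs U)))
    (inf_le_left.trans (Cs_le_C1 hu))
  have h3 : U ≤ pCoreOf 2 (C1 u) := by
    refine GCT.le_core (W := zpowers u) (charP_C1 h2 (sq u hu) u1) (Cs_zpowers u ▸ Cs_le_Ns)
      (AB.le_C1 sq hu) (Cs_zpowers u ▸ AB.le_C1 sq hu) fun w hw y hy => ?_
    replace hy := hQ.le_of_normal (Local.isPGroup_pCoreOf _) (Local.pCoreOf_le _)
      (Local.le_normalizer_pCoreOf _) hy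
    by_cases h0 : y ∈ Cs U ⊓ P
    · rw [commutatorElement_eq_one_iff_mul_comm.2 (h0.1 w hw)]; exact one_mem _
    have i2 := GCT.Tw.two_mul_le (h1.lt_of_ne fun e => h0 (e ▸ hy))
    have i3 := hP.card_le hQ.isPGroup le_top
    have i4 : Local.IdxLeTwo (Cs U ⊓ P) Q := idx_of_card_le (by rw [inf_eq_left.2 h1]; omega)
    obtain ⟨g, -, e⟩ := (hP.of_card_ge hQ.isPGroup le_top (by omega)).exists_cj_eq hP
    have cy : IsCyclic ↥(Q ⊓ Cs Q) := by
      have : IsCyclic ↥((P : Subgroup G) ⊓ Cs P) := by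
        by_contra k
        rw [inf_eq_right.2 (le_Cs_comm.1 (hUZ k))] at i2
        have := Nat.card_pos (α := (P : Subgroup G))
        omega
      rw [← e, ← cj_Cs, ← cj_inf]
      exact isCyclic_of_surjective _ (cjEquiv g _).surjective
    have c1 : ∀ p ∈ Cs U ⊓ P, y * w * y⁻¹ * p = p * (y * w * y⁻¹) := fun p hp => by
      have := (i4.conj_mem (inv_mem hy) (h1 hp) hp).1 w hw
      calc _ = y * (w * (y⁻¹ * p * y⁻¹⁻¹)) * y⁻¹ := by group
        _ = _ := by rw [this]; group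
    have c2 := c1 w (U0 hw)
    have e1 : ⁅w, y⁆ = w * (y * w * y⁻¹) := by
      rw [commutatorElement_def, inv_eq_of_sq (sq w hw)]; group
    have c3 : ∀ p ∈ Cs U ⊓ P, p * ⁅w, y⁆ = ⁅w, y⁆ * p := fun p hp => by
      rw [e1, ← mul_assoc, ← hp.1 w hw, mul_assoc, ← c1 p hp, ← mul_assoc]
    have c4 : y * ⁅w, y⁆ = ⁅w, y⁆ * y := by
      rw [← mul_inv_eq_iff_eq_mul, e1]
      calc _ = y * w * y⁻¹ * (y * y * w * (y * y)⁻¹) := by group
        _ = _ := by rw [← (i4.mul_self_mem hy).1 w hw, mul_inv_cancel_right, c2]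
    have m1 : ⁅w, y⁆ ∈ Q ⊓ Cs Q := ⟨e1 ▸ Q.mul_mem (h1 (U0 hw)) (Q.mul_mem (Q.mul_mem hy (h1 (U0 hw)))
      (Q.inv_mem hy)), mem_Cs.2 fun x hx => by
        by_cases k : x ∈ Cs U ⊓ P
        · exact c3 x k
        · have := c3 _ (i4 x hx y hy k h0)
          rw [mul_assoc, c4, ← mul_assoc, ← mul_assoc] at this
          exact mul_right_cancel this⟩
    by_cases k : ⁅w, y⁆ = 1
    · rw [k]; exact one_mem _
    have := CycZ.inv_eq_of_isCyclic (Q := ↥(Q ⊓ Cs Q)) (s := ⟨_, m1⟩)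
      (t := ⟨u, h1 (U0 hu), mem_Cs.2 fun x hx => mem_C1.1 (hQ.le hx)⟩) (Subtype.ext (by
        change ⁅w, y⁆ * ⁅w, y⁆ = 1
        rw [e1, mul_assoc, ← mul_assoc (y * w * y⁻¹), c2, mul_assoc, ← mul_assoc, sq w hw,
          show y * w * y⁻¹ * (y * w * y⁻¹) = y * (w * w) * y⁻¹ by group, sq w hw]
        group)) (Subtype.ext (sq u hu)) (fun a => k (congrArg Subtype.val a))
      fun a => u1 (congrArg Subtype.val a)
    rw [show ⁅w, y⁆ = u from congrArg Subtype.val this]; exact mem_zpowers u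
  refine fun k hk => mem_Cs.2 fun w hw => commutatorElement_eq_one_iff_mul_comm.1 (mem_bot.1
    ((inf_eq_bot_of_odd (Local.isPGroup_pCoreOf (C1 u)) hK).le ⟨?_, Par.comm_mem_N (hUK hw) hk.1⟩))
  exact commutatorElement_inv k w ▸ (pCoreOf 2 (C1 u)).inv_mem (Par.comm_mem_N (Local.le_normalizer_pCoreOf _ hk.2)
    (h3 hw))

end Cfsg.Agent.S1957
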