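import Cfsg.Statements.S2029
import Cfsg.Agent.Char.KM5

set_option autoImplicit false
open Cfsg

namespace Cfsg.Agent.S2029

open Cfsg.Lib.Char

open Subgroup Cfsg.Lib.Solv Cfsg.Lib.Solv.Coprime Cfsg.Lib.Char.KM in
theorem aux {G : Type*} [Group G] [Finite G] (p : ℕ) [hp : Fact p.Prime] (hp2 : p ≠ 2)
    (hG : LocChar p G) (hG2 : LocChar 2 G) {T B : Subgroup G} (hT : IsPGroup 2 T) (hT1 : T ≠ ⊥)
    (hB : IsMulCommutative B) (hBp : ∀ b ∈ B, b ^ p = 1) (hBT : B ≤ normalizer (T : Set G))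
    (hc : p ^ 3 ≤ Nat.card B) : False := by
  have : Fact (Nat.Prime 2) := ⟨Nat.prime_two⟩
  have h1 := hp.out.one_lt
  have hB1 : B ≠ ⊥ := by
    rintro rfl
    rw [card_bot] at hc
    exact absurd hc (not_le.mpr (Nat.one_lt_pow (by norm_num) h1))
  have hex : ∃ E : Subgroup G, E ≤ B ∧ E.relIndex B = p ∧ ¬ (T ⊓ centralizer (E : Set G) ≤ ⊥) := by
    by_contra! hn
    exact hT1 (eq_bot_iff.mpr (le_of_forall_hyperplane hBp hB1 hBT
      (coprime_of_pgroups hp2 hT (isPGroup_of_pow hBp)).symm hn))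
  obtain ⟨E, hE, hEi, hn⟩ := hex
  have hcard := card_of_relIndex hE
  rw [hEi] at hcard
  set Y := T ⊓ centralizer (E : Set G) with hY
  have hYp : IsPGroup 2 Y := hT.to_le inf_le_left
  obtain ⟨z, hz, hzc, -, hzo⟩ := PG.exists_mem_centralizer_orderOf_eq hYp hYp le_normalizer
    fun e => hn e.le
  have hz2 : z * z = 1 := by rw [← sq, ← hzo, pow_orderOf_eq_one]
  have hz1 : z ≠ 1 := fun e => by rw [e, orderOf_one] at hzo; omega
  have hP : Pair p E z := ⟨isMulCommutative_of fun s hs t ht => comm_of_mem hB (hE hs) (hE ht),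
    fun s hs => hBp s (hE hs), hz2, hz1, mem_centralizer_iff.mp hz.2⟩
  have big : ∃ (D : Subgroup G) (u : G), Pair p D u ∧ p ^ 3 ≤ Nat.card D := by
    by_cases hb : ∀ b ∈ B, b * z = z * b
    · exact ⟨B, z, ⟨hB, hBp, hz2, hz1, hb⟩, hc⟩
    push Not at hb
    obtain ⟨b, hb, hbz⟩ := hb
    have hb' : b ∈ centralizer (E : Set G) :=
      mem_centralizer_iff.mpr fun e he => comm_of_mem hB (hE he) hb
    have hm : b * z * b⁻¹ ∈ Y := ⟨(mem_normalizer_iff.mp (hBT hb) z).mp hz.1,
      (centralizer (E : Set G)).mul_mem ((centralizer (E : Set G)).mul_mem hb' hz.2)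
        ((centralizer (E : Set G)).inv_mem hb')⟩
    obtain ⟨D, a, h2, h3⟩ := pair_of_four hp2 hG (w := b * z * b⁻¹) (by
      rintro rfl
      rw [card_bot, mul_one] at hcard
      rw [hcard] at hc
      exact absurd hc (not_le.mpr (by
        calc p = p ^ 1 := (pow_one p).symm
          _ < p ^ 3 := Nat.pow_lt_pow_right h1 (by norm_num)))) hP
      (by rw [conj_mul, hz2]; group) (by simpa using hz1)
      (fun e => hbz (by nth_rewrite 2 [← e]; group)) (mem_centralizer_iff.mp hzc _ hm).symm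
      (mem_centralizer_iff.mp hm.2)
    exact ⟨D, a, h2, by rw [h3, ← hcard]; exact hc⟩
  obtain ⟨D0, u0, h2, h3⟩ := big
  obtain ⟨⟨D, u⟩, h4, h5⟩ := (Set.toFinite {x : Subgroup G × G | Pair p x.1 x.2}).exists_maximalFor
    (fun x => Nat.card x.1) _ ⟨(D0, u0), h2⟩
  have hmax : ∀ (E : Subgroup G) (a : G), Pair p E a → Nat.card E ≤ Nat.card D := fun E a h =>
    (le_total _ _).elim id fun h' => h5 (j := (E, a)) h h'
  exact MaxP.false hp2 hG ⟨h4, hmax, h3.trans (hmax _ _ h2)⟩ hG2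

/-- Let p be an odd prime and G a finite group that is both of local characteristic p (p divides its order and every p-local subgroup N satisfies C_N(O_p(N)) ≤ O_p(N)) and of characteristic 2 type (even order and every 2-local subgroup M satisfies C_M(O_2(M)) ≤ O_2(M)). Then every 2-local subgroup of G has p-rank at most 2. -/
theorem result {G : Type*} [Group G] [Finite G] (p : ℕ) [Fact p.Prime] (hp : p ≠ 2) (hGp : Cfsg.IsOfLocalCharacteristic p G) (hG2 : Cfsg.IsCharacteristicTwoType G) : Cfsg.TwoLocalPRankLE p 2 G := by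
  rintro H ⟨T, hT, hT1, rfl⟩ A hA hAp
  by_contra hn
  have hp' : p.Prime := Fact.out
  obtain ⟨k, hk⟩ := IsPGroup.iff_card.mp (Cfsg.Lib.Char.KM.isPGroup_of_pow hAp)
  refine aux p hp hGp.2 hG2.2 hT hT1 (B := A.map (Subgroup.subtype _)) inferInstance ?_
    (Subgroup.map_subtype_le _) ?_
  · rintro _ ⟨a, ha, rfl⟩
    exact congrArg Subtype.val (hAp a ha)
  · rw [Subgroup.card_map_of_injective (Subgroup.subtype_injective _), hk]
    rw [hk, not_le, Nat.pow_lt_pow_iff_right hp'.one_lt] at hn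
    exact Nat.pow_le_pow_right hp'.pos hn

end Cfsg.Agent.S2029
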