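import Cfsg.Statements.S2207
import Cfsg.Agent.LG4.R3Five
import Cfsg.Agent.S0547
import Cfsg.Agent.S3378
import Cfsg.Agent.Solv.MinNormal
import Cfsg.Agent.Char.Burnside

set_option autoImplicit false
open Cfsg

namespace Cfsg.Agent.S2207

/-- Primitive rank 3 groups whose point stabilizer acts as a Frobenius group on one of its two non-trivial orbits. Let a finite group G of even order act faithfully and primitively on a finite set X so that the stabilizer of a point A has exactly three orbits, and suppose that on one of its non-trivial orbits I the stabilizer of A acts faithfully as a Frobenius group: transitively, some non-identity element fixing a point of I, and no non-identity element fixing two points of I. Then either G ≅ A₅ and X has 10 points (the action on unordered pairs), or G is solvable and has a normal subgroup of order 16 acting regularly on X. -/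
theorem result {G X : Type*} [Group G] [Finite G] [Fintype X] [MulAction G X] [FaithfulSMul G X] (heven : Even (Nat.card G)) (hprim : MulAction.IsPreprimitive G X) (A : X)
    (h3 : Nat.card (MulAction.orbitRel.Quotient ↥(MulAction.stabilizer G A) X) = 3) (B : X) (hBA : B ≠ A)
    (hfaith : ∀ g ∈ MulAction.stabilizer G A, (∀ h ∈ MulAction.stabilizer G A, g • (h • B) = h • B) → g = 1)
    (hfix : ∃ g ∈ MulAction.stabilizer G A, g ≠ 1 ∧ g • B = B)
    (hfrob : ∀ g ∈ MulAction.stabilizer G A, ∀ h ∈ MulAction.stabilizer G A, g • B = B → g • (h • B) = h • B → h • B ≠ B → g = 1) :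
    (Nonempty (G ≃* ↥(alternatingGroup (Fin 5))) ∧ Fintype.card X = 10) ∨
    (IsSolvable G ∧ ∃ N : Subgroup G, N.Normal ∧ Nat.card N = 16 ∧ ∀ x y : X, ∃! n : ↥N, (n : G) • x = y) := by
  obtain ⟨adj, K, k, l, c, e, lam, mu, h⟩ :=
    Lib.LG4.exists_R3 heven hprim A h3 B hBA hfaith hfix hfrob
  have : Nonempty X := ⟨A⟩
  have hreg : Group.IsSolvable G → ∃ N : Subgroup G, N.Normal ∧ Nat.card N = Nat.card X ∧
      IsPrimePow (Nat.card X) ∧ ∀ x y : X, ∃! n : ↥N, (n : G) • x = y := fun hs => by
    obtain ⟨g, -, g1, -⟩ := hfix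
    obtain ⟨N, ⟨hN, h0, hmin⟩, -⟩ := Lib.Solv.exists_isMinNormal_le (⊤ : Subgroup G) fun e =>
      g1 (Subgroup.mem_bot.mp (e ▸ Subgroup.mem_top g))
    obtain ⟨h1, h2, p, d, hp, hd, h4, h5⟩ := S0547.result hprim N h0 hmin
    refine ⟨N, hN, h5.trans h4.symm, ⟨p, d, hp.prime, hd, h4.symm⟩, fun x y => ?_⟩
    obtain ⟨n, hn⟩ := h1.exists_smul_eq x y
    refine ⟨n, hn, fun n' hn' => ?_⟩
    have h6 : n⁻¹ * n' ∈ MulAction.stabilizer N x := by
      rw [MulAction.mem_stabilizer_iff, mul_smul, inv_smul_eq_iff, hn]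
      exact hn'
    rw [h2, Subgroup.mem_bot, inv_mul_eq_one] at h6
    exact h6.symm
  have h16 : ∀ q a b, q.Prime → Nat.card X = 16 → Nat.card G = 2 ^ a * q ^ b → IsSolvable G ∧
      ∃ N : Subgroup G, N.Normal ∧ Nat.card N = 16 ∧ ∀ x y : X, ∃! n : ↥N, (n : G) • x = y :=
    fun q a b hq h1 h2 =>
      have hs := Lib.Char.isSolvable_of_card_dvd Nat.prime_two hq G h2.dvd
      let ⟨N, h4, h5, _, h6⟩ := hreg hs
      ⟨hs, N, h4, h5.trans h1, h6⟩
  have hk : k % 2 = 1 := by
    by_contra hk
    exact h.false_of_even (Nat.even_iff.mpr (by omega))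
  have hc : 2 ∣ c := by
    by_contra hc
    have h1 : Odd (k * c) := (Nat.odd_iff.mpr hk).mul (Nat.odd_iff.mpr (by omega))
    have h2 := Nat.odd_iff.mp (Nat.odd_mul.mp (h.kc_eq ▸ h1)).1
    rw [h.card_G] at heven
    exact Nat.not_even_iff_odd.mpr ((Nat.odd_iff.mpr (by omega)).mul h1) heven
  obtain ⟨D, hD⟩ := h.ex_na A
  by_cases h0 : Lib.LG4.E0 K A D = ⊥
  swap
  · obtain ⟨h1, h2⟩ := h.case_three hk hc hD h0
    exact Or.inr (h16 3 6 2 Nat.prime_three h1 h2)
  have hf : ∀ {x y : X}, x ≠ y → ∀ u ∈ K x, u • y = y → u = 1 := fun {x y} hxy u hu hy => by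
    by_cases h1 : adj x y
    · exact h.freeK hu h1 hy
    · have := h.card_E0 hD ⟨hxy, h1⟩
      rw [h0, Subgroup.card_bot, Subgroup.card_eq_one] at this
      exact Subgroup.mem_bot.mp (this ▸ (⟨hu, hy⟩ : u ∈ Lib.LG4.E0 K x y))
  by_cases he : 2 ∣ e
  · obtain ⟨h1, h2⟩ := h.case_five hf hk hc he
    exact Or.inr (h16 5 6 1 Nat.prime_five h1 h2)
  obtain ⟨h1, h2⟩ := h.case_four hf hk hc (by omega)
  refine Or.inl ⟨?_, by rw [← Nat.card_eq_fintype_card, h1]⟩
  have : Nontrivial G := Finite.one_lt_card_iff_nontrivial.mp (by omega)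
  have : IsSimpleGroup G := ⟨fun N hN => by
    by_contra hcon
    push Not at hcon
    have h4 := N.card_mul_index
    have h5 := (Subgroup.one_lt_card_iff_ne_bot N).mpr hcon.1
    have h6 := Subgroup.one_lt_index_of_ne_top hcon.2
    rw [h2] at h4
    have := S3378.isSolvable_of_lt (G := N) ((Dvd.intro _ h4).trans (by norm_num)) (by nlinarith)
    have := S3378.isSolvable_of_lt (G := G ⧸ N) ((Dvd.intro_left _ h4).trans (by norm_num))
      (by change N.index < 60; nlinarith)
    obtain ⟨-, -, -, h7, -⟩ := hreg (Group.isSolvable_of_ker_le_range N.subtype (QuotientGroup.mk' N)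
      (by simp))
    rw [h1] at h7
    exact absurd h7 (by decide)⟩
  exact Lib.Class.nonempty_mulEquiv_A5_of_isSimpleGroup h2

end Cfsg.Agent.S2207
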