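import Cfsg.Statements.S2227
import Cfsg.Agent.Chev.CentTwo
import Cfsg.Agent.Chev.TwistE6
import Cfsg.Agent.Chev.AutTw
import Cfsg.Agent.Known.PresStA
import Cfsg.Agent.S1066
import Cfsg.Agent.S0256

set_option autoImplicit false
open Cfsg

namespace Cfsg.Agent.S2227

open Cfsg.Lib Cfsg.Lib.Chev Cfsg.Lib.Chev.Core Cfsg.Lie

set_option maxRecDepth 100000
set_option synthInstance.maxSize 4096

theorem cent_equiv {G A : Type*} [Group G] [Group A] {x : G} (hx : orderOf x = 5) (ψ : A →* G)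
    (hψ : Function.Injective ψ) (hA : Subgroup.center A = ⊥) (hc : ∀ a, Commute x (ψ a))
    (h : ∀ g, Commute x g → ∃ a, ∃ n : ℤ, g = x ^ n * ψ a) :
    Nonempty (Subgroup.centralizer ({x} : Set G) ≃* Multiplicative (ZMod 5) × A) := by
  let E : Multiplicative (ZMod 5) ≃* Subgroup.zpowers x := zmodMulEquivOfGenerator
    (g := ⟨x, Subgroup.mem_zpowers x⟩) (fun ⟨_, n, e⟩ => ⟨n, Subtype.ext (by simpa using e)⟩)
    ((Nat.card_zpowers x).trans hx)
  let χ := (Subgroup.zpowers x).subtype.comp E.toMonoidHom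
  have h1 : Function.Injective χ := Subtype.val_injective.comp E.injective
  have h2 : ∀ i, ∃ n : ℤ, x ^ n = χ i := fun i => (E i).2
  have h3 : ∀ n : ℤ, ∃ i, χ i = x ^ n := fun n =>
    ⟨E.symm ⟨x ^ n, n, rfl⟩, congrArg Subtype.val (E.apply_symm_apply _)⟩
  have h4 : ∀ i a, Commute (χ i) (ψ a) := fun i a => by
    obtain ⟨n, e⟩ := h2 i
    exact e ▸ (hc a).zpow_left n
  refine ⟨(MulEquiv.ofBijective ((χ.noncommCoprod ψ h4).codRestrict _ fun p => ?_)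
    ⟨(injective_iff_map_eq_one _).2 fun p hp => ?_, fun g => ?_⟩).symm⟩
  · obtain ⟨n, e⟩ := h2 p.1
    rw [Subgroup.mem_centralizer_singleton_iff, MonoidHom.noncommCoprod_apply, ← e]
    exact (((Commute.refl x).zpow_right n).mul_right (hc _)).symm
  · replace hp : χ p.1 * ψ p.2 = 1 := congrArg Subtype.val hp
    have : p.2 = 1 := hA.le (Subgroup.mem_center_iff.2 fun a => hψ (by
      rw [map_mul, map_mul, eq_inv_of_mul_eq_one_right hp, (h4 _ a).inv_left.eq]))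
    rw [this, map_one, mul_one] at hp
    exact Prod.ext (h1 (hp.trans (map_one χ).symm)) this
  · obtain ⟨a, n, e⟩ := h g (Subgroup.mem_centralizer_singleton_iff.1 g.2).symm
    obtain ⟨i, hi⟩ := h3 n
    exact ⟨(i, a), Subtype.ext (by rw [e, ← hi]; rfl)⟩

def w1 : List (Fin 6) := [0, 1, 2, 0, 3, 1, 2, 0, 4, 3, 1, 2, 0, 5, 4, 3, 2, 0]
def w2 : List (Fin 6) := [1, 3, 2, 0, 4, 3, 1, 2, 3, 4, 5, 4, 3, 2, 0]
def mu (a b : ℕ) : Fin 6 → ℤ := ![4 * a, 4 * a + 3 * b, 4 * b, 4 * a + 3 * b, a, b]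
def wd (a b : ℕ) : List (Fin 6) := (([[[], [0, 2, 3, 2, 4, 5, 4, 3, 1, 2, 0], [1, 2, 4, 3, 2, 0, 5, 4, 3, 2, 0], [2, 4, 3, 1, 2, 3, 5, 4, 3, 1, 2, 0, 3, 2, 4], [0, 2, 0, 3, 2, 4, 3, 1, 2, 5, 4]], [[], [0, 1, 3, 1, 2, 5, 4, 3, 1, 2, 0, 3, 2], [0, 2, 0, 3, 2, 0, 4, 3, 1, 2, 0, 3, 4, 5, 4, 3, 1], [2, 3, 4, 3, 1, 2, 0, 3, 5, 4, 3, 1, 2, 0, 3, 4, 5], [0, 1, 3, 1, 4, 3, 1, 5, 4, 3, 1, 2, 0, 3, 2, 4, 3]], [[1, 5, 4, 3, 2, 0], [0, 3, 2, 4, 3, 5, 4, 3, 1, 2, 0, 3, 2, 4, 3, 5, 4], [0, 1, 2, 0, 3, 1, 2, 0, 3, 4, 3, 1, 5], [0, 1, 2, 3, 1, 2, 4], [3, 4, 3, 1, 5, 4, 3, 1, 2, 0, 3]], [[0, 2, 3, 1, 4, 5], [1, 2, 4, 3, 1, 2, 0], [3, 2, 0, 4, 3, 1, 2, 0, 5, 4, 3, 1, 2, 3, 4], [0, 1, 3, 1, 2, 3, 4, 5, 4, 3, 1, 2, 0, 3], [0, 2, 0, 3, 1, 2, 3, 4, 3, 1, 2, 3, 4, 5, 4]], [[0, 1, 2, 3, 1, 2, 4, 3, 5, 4, 3, 2], [1, 2, 3, 4, 3, 1, 2, 0, 3, 2, 4, 3, 5, 4, 3], [0, 1, 2, 3, 2, 4, 5, 4, 3, 2, 0], [0, 2, 3, 1, 2, 3, 4, 3,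 5, 4, 3], [1, 2, 0, 3, 2, 0, 4, 3, 1, 2]]] : List (List (List (Fin 6)))).getD a []).getD b []
def nu : Fin 6 → ℤ := ![11, 6, 0, 0, 0, 1]
def rt (a b : Fin 4) : ℕ := ![![0, 42, 43, 44], ![29, 0, 39, 40], ![28, 32, 0, 37], ![27, 31, 34, 0]] a b

noncomputable def rc6 (r : ℕ) : Fin 6 → ℤ := rootE6.rc r

theorem w1_eq_1' : type_of% @w1.eq_1 := @w1.eq_1
theorem w2_eq_1' : type_of% @w2.eq_1 := @w2.eq_1
theorem mu_eq_1' : type_of% @mu.eq_1 := @mu.eq_1
theorem wd_eq_1' : type_of% @wd.eq_1 := @wd.eq_1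
theorem nu_eq_1' : type_of% @nu.eq_1 := @nu.eq_1
theorem rt_eq_1' : type_of% @rt.eq_1 := @rt.eq_1

theorem chk1 : ∀ a < 5, ∀ b < 5, ∀ i : Fin 6,
    (5 : ℤ) ∣ mu a b i * 2 - evL (actL cartanE6 w1 (List.ofFn (mu a b))) (piE6 i) := by
  decide +kernel

theorem chk2 : ∀ a < 5, ∀ b < 5, a = 0 ∧ b = 0 ∨
    actL cartanE6 ((wd a b).map piE6 ++ w1) (rhoL 6) = actL cartanE6 (w1 ++ wd a b) (rhoL 6) ∧
    ∀ i : Fin 6, (5 : ℤ) ∣ mu a b i -
      evL (actL cartanE6 (wd a b ++ wd a b ++ wd a b) (List.ofFn (mu 1 0))) i := by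
  decide +kernel

theorem chk3 : ∀ i : Fin 6,
    (5 : ℤ) ∣ nu i * 2 - evL (actL cartanE6 w2 (List.ofFn nu)) (piE6 i) := by
  decide +kernel

theorem chk4 : ∀ r < 72, ((5 : ℤ) ∣ ∑ i : Fin 6, nu i * rc6 r i ↔
    ∃ a b, a ≠ b ∧ r = rt a b) ∧ ((∀ i : Fin 6, i ∉ ({2, 3, 4} : Finset (Fin 6)) → rc6 r i = 0) ↔
    ∃ a b, a ≠ b ∧ r = rt a b) := by
  decide +kernel

theorem chk5 : ∀ a b : Fin 4, a ≠ b → rt a b < chevE6.nroots ∧ (∀ j : Fin 6,
    evL (w2.foldr (rreflL cartanE6) (List.ofFn (rc6 (rt a b)))) (piE6 j) =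
      rc6 (rt a b) j) ∧
    (∀ c : Fin 4, b ≠ c → a ≠ c → rt a b ≠ rt b c ∧ rt a b ≠ chevE6.neg (rt b c) ∧
      ∃ ε ∈ [(1 : ℤ), -1], chevE6.commTerms (rt b c) (rt a b) = [(rt a c, ε, 1, 1)]) ∧
    ∀ c d : Fin 4, c ≠ d → b ≠ c → a ≠ d → rt c d ≠ chevE6.neg (rt a b) ∧
      chevE6.chainRoot (rt a b) (rt c d) 1 = none := by
  decide +kernel

theorem chk6 : ∀ i : Fin 6, evL (w2.reverse.foldr (rreflL cartanE6) (omegaL (piE6 i))) =
    (![![0, 1, 0, 1, 1, 1], ![-1, -1, -2, -3, -2, -1], ![0, 0, 1, 0, 0, 0], ![0, 0, 0, 1, 0, 0],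
      ![0, 0, 0, 0, 1, 0], ![1, 1, 1, 1, 0, 0]] i : Fin 6 → ℤ) := by
  decide +kernel

theorem pi_eq (i : Fin 6) : gE6.π i = piE6 i := subE6_π (RingHom.id ℚ) i

section

variable {X : Type} [DecidableEq X] {R : WeylData (Fin 6) X} (h : R.HasC cartanE6) {M : Type*}
  [CommGroup M]
include h

theorem lin_eq (ω : List (Fin 6)) (v : Fin 6 → ℤ) :
    R.lin (wprod R.s ω) v = evL (ω.foldr (rreflL cartanE6) (List.ofFn v)) := by
  rw [← h.ofFn_lin_wprod, evL_ofFn]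

theorem tor_eq {z : M} (hz : z ^ 5 = 1) {ω : List (Fin 6)} {μ : Fin 6 → ℤ} {i : Fin 6} {n : ℤ}
    (e : (5 : ℤ) ∣ n - evL (actL cartanE6 ω (List.ofFn μ)) i) :
    R.tor M (wprod R.s ω) (fun j => z ^ μ j) i = z ^ n := by
  obtain ⟨c, e⟩ := e
  rw [R.tor_zpow_co, h.co_wprod, eq_add_of_sub_eq e, zpow_add, zpow_mul, zpow_ofNat, hz, one_zpow,
    one_mul]

theorem solve {s : Fin 6 → M} (b2 : s 2 = 1) (b3 : s 3 = 1) (b4 : s 4 = 1)
    (h2 : ∀ i, R.tor M (wprod R.s w2) s (piE6 i) = s i ^ 2) :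
    s 5 ^ 15 = 1 ∧ s = fun i => s 5 ^ nu i := by
  have h3 : ∀ i : Fin 6, chr s (evL (w2.reverse.foldr (rreflL cartanE6) (omegaL (piE6 i)))) =
      s i ^ 2 := fun i => by
    rw [← h2 i, R.tor_apply, R.rc_smul _ (R.simple_mem _), ← R.wprod_reverse, lin_eq h,
      R.rc_simple, ← omegaL_eq]
  have a0 := h3 0
  have a1 := h3 1
  have a5 := h3 5
  rw [chk6] at a0 a1 a5
  simp only [chr, Fin.prod_univ_six, b2, b3, b4] at a0 a1 a5
  simp at a0 a1 a5
  have e0 := congrArg Additive.ofMul a0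
  have e1 := congrArg Additive.ofMul a1
  have e5 := congrArg Additive.ofMul a5
  simp only [ofMul_mul, ofMul_pow, ofMul_inv] at e0 e1 e5
  refine ⟨Additive.ofMul.injective ?_, funext (forall_fin6 (Additive.ofMul.injective ?_)
    (Additive.ofMul.injective ?_) (b2.trans (zpow_zero _).symm) (b3.trans (zpow_zero _).symm)
    (b4.trans (zpow_zero _).symm) (zpow_one _).symm)⟩
  · rw [ofMul_pow, ofMul_one]
    linear_combination (norm := module) (-2 : ℤ) • e0 - (3 : ℤ) • e1 - (7 : ℤ) • e5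
  · rw [ofMul_zpow, show nu 0 = 11 from rfl]
    linear_combination (norm := module) e0 + (2 : ℤ) • e1 + (5 : ℤ) • e5
  · rw [ofMul_zpow, show nu 1 = 6 from rfl]
    linear_combination (norm := module) e0 + e1 + (3 : ℤ) • e5

end

/-- The nodes of the Levi subgroup. -/
abbrev J : Set (Fin chevE6.rank) := {i : Fin 6 | i ∈ ({2, 3, 4} : Finset (Fin 6))}

theorem inJ_iff {r : ℕ} : rootE6.weyl.InJ J r ↔ ∃ a b, a ≠ b ∧ r = rt a b :=
  ⟨fun h => (chk4 r (rootE6.weyl_mem.1 h.1)).2.1 h.2, fun ⟨a, b, h, e⟩ =>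
    have := e ▸ (chk5 a b h).1
    ⟨rootE6.weyl_mem.2 this, (chk4 r this).2.2 ⟨a, b, h, e⟩⟩⟩

theorem rho_eq (r : ℕ) (h : rootE6.weyl.InJ J r) : gE6.σ r = wprod rootE6.weyl.s w2 • r := by
  obtain ⟨a, b, hab, rfl⟩ := inJ_iff.1 h
  have h1 := (chk5 a b hab).1
  refine rootE6.weyl.rc_inj _ (rootE6.weyl_mem.2 (gE6.ok.lt _ h1)) _
    (rootE6.weyl.smul_mem _ h.1) (funext fun j => ?_)
  obtain ⟨j, rfl⟩ := gE6.π.surjective j
  rw [rootE6.weyl.rc_smul _ h.1]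
  exact (gE6.rc_σ rootE6 h1 j).trans (((chk5 a b hab).2.1 j).symm.trans
    ((congrArg _ (pi_eq j).symm).trans (congrFun (lin_eq (hasC_E6 rootE6) w2 _).symm _)))

/-- The twisted group inside the fixed points of the Steinberg endomorphism. -/
structure Emb {k G : Type*} [Field k] [Group G] (φ : k →+* k) (e : G →* GL chevE6.Idx k) : Prop where
  inj : Function.Injective e
  mem : ∀ g, e g ∈ chevE6.group k
  fix : ∀ g, gE6.gσ φ (e g) = e g
  norm : ∀ g ∈ chevE6.group k, gE6.gσ φ g = g → g ^ 3 ∈ e.range ∧ ∀ x, g * e x * g⁻¹ ∈ e.range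
  out : ∃ g ∈ chevE6.group k, gE6.gσ φ g = g ∧ g ∉ e.range

theorem exists_emb {K : Type*} [Field K] [Fintype K] (hK : Fintype.card K = 2 ^ 2) :
    ∃ (φ : AlgebraicClosure K →+* AlgebraicClosure K) (e : twistedE6 K 2 →* _),
      (∀ t, φ t = t ^ 2) ∧ Emb φ e := by
  obtain ⟨f, hf, hq, hG⟩ := exists_twE6 hK
  let ι := algebraMap K (AlgebraicClosure K)
  obtain ⟨p, n, φ, -, -, -, -, h0, h1, h2⟩ := GraphAut.exists_frob_ext certE6 rootE6 ι
    Nat.prime_two.isPrimePow hq hK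
  have hs := snf_of_mem (D := chevE6) (by simp)
  have hn : gE6.π ^ 2 = 1 := Equiv.ext fun i => by
    rw [pow_two, Equiv.Perm.mul_apply]
    exact (pi_eq _).trans ((congrArg piE6 (pi_eq i)).trans
      ((by decide : ∀ i : Fin 6, piE6 (piE6 i) = i) i))
  have h3 : ∀ c : Fin chevE6.rank → Kˣ, c ^ 3 = 1 := fun c => funext fun i => by
    have := pow_card_eq_one' (x := c i)
    rwa [Nat.card_units, Nat.card_eq_fintype_card, hK] at this
  have h4 : ∀ c ∈ (subE6 f).fixT, ∀ x ∈ twistedE6 K 2,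
      torGL rootE6 K c * x * (torGL rootE6 K c)⁻¹ ∈ twistedE6 K 2 := fun c hc x hx =>
    (certE6.twAut (endE6 f hf) (clE6 f hf _) hG ⟨c, hc⟩ (RingEquiv.refl K) ⟨x, hx⟩).2
  have h5 : ∀ x ∈ twistedE6 K 2, mapGL chevE6 ι x ∈
      ((mapGL chevE6 ι).comp (twistedE6 K 2).subtype).range := fun x hx => ⟨⟨x, hx⟩, rfl⟩
  refine ⟨φ, (mapGL chevE6 ι).comp (twistedE6 K 2).subtype, h0,
    (mapGL_injective ι).comp Subtype.val_injective,
    fun g => mapGL_mem_group ι (certE6.tw_le (endE6 f hf) (clE6 f hf _) hG g.2), fun g => ?_,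
    fun g hg h => ?_, by_contra fun h => ?_⟩
  · exact (gE6.mapGL_gσ ι h1 _).symm.trans (congrArg _ (gE6.gσ_of_mem_G1 certE6 rootE6
      (endE6 f hf) (clE6 f hf _) (hG.ge g.2)))
  · obtain ⟨a, ha, c, hc, rfl⟩ := gE6.exists_of_fixed certE6 rootE6 (endE6 f hf) (clE6 f hf _) ι h1
      hn h2 (certE6.hSub_eq_range rootE6 hs) hg h
    replace ha := hG.le ha
    refine ⟨?_, fun x => ?_⟩
    · have : torGL rootE6 K c ^ 3 = 1 := by rw [← map_pow, h3, map_one]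
      have := h5 _ (mul_mem (mul_mem ha (mul_mem (h4 c hc _ (mul_mem ha (h4 c hc a ha)))
        (this ▸ one_mem _ : torGL rootE6 K c ^ 3 ∈ _))) (one_mem _))
      rw [← map_pow]
      convert this using 2
      rw [pow_three, pow_three]
      group
    · have := h5 _ (mul_mem (mul_mem ha (h4 c hc _ x.2)) (inv_mem ha))
      rw [MonoidHom.comp_apply, ← map_inv, ← map_mul, ← map_mul]
      convert this using 2
      rw [Subgroup.subtype_apply]
      group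
  · have h6 : ∀ c : (subE6 f).fixT, torGL rootE6 K c ∈ (certE6.Y K rootE6).H ⊓ (twE6 f hf).G1 := by
      intro c
      have : torGL rootE6 K c ∈ twistedE6 K 2 := by_contra fun n => h ⟨mapGL chevE6 ι
        (torGL rootE6 K c), by
          rw [mapGL_torGL, ← certE6.Yhat_G0_eq rootE6 hs]
          exact (certE6.Yhat _ rootE6).H_le_G0 ⟨_, rfl⟩,
        (gE6.mapGL_gσ ι h1 _).symm.trans (congrArg _ ((gE6.gσ_torGL certE6 rootE6 f c).trans
          (congrArg _ c.2))), fun ⟨x, e⟩ => n (mapGL_injective ι e ▸ x.2)⟩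
      exact ⟨certE6.mem_hSub_of_mem_range rootE6 (certE6.tw_le (endE6 f hf) (clE6 f hf _) hG this)
        ⟨_, rfl⟩, hG.ge this⟩
    have h7 := Nat.card_le_card_of_injective (fun c => (⟨_, h6 c⟩ :
      ((certE6.Y K rootE6).H ⊓ (twE6 f hf).G1 : Subgroup _))) fun c c' e =>
      Subtype.ext (torGL_injective rootE6 (congrArg Subtype.val e))
    have h8 := card_H_twE6 f hf hK hq
    have : Nonempty {t : Kˣ // f t = t} := ⟨1, map_one f⟩
    have h9 := Nat.card_pos (α := {t : Kˣ // f t = t})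
    rw [card_fixT_E6 f hf, Nat.card_units, Nat.card_eq_fintype_card, hK] at h7
    norm_num at h8 h7
    nlinarith

section

variable {k G : Type*} [Field k] [IsAlgClosed k] [Group G] [Finite G] {φ : k →+* k}
  {e : G →* GL chevE6.Idx k}

variable (k) in
/-- The canonical representatives of the Weyl group. -/
noncomputable def nW (ω : List (Fin 6)) : GL chevE6.Idx k := wprod (certE6.Yhat k rootE6).n ω

variable (k) in
/-- The torus. -/
noncomputable def T6 : (Fin 6 → kˣ) →* GL chevE6.Idx k := torGL rootE6 k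

/-- The Weyl data. -/
noncomputable def W6 : WeylData (Fin 6) ℕ := rootE6.weyl

theorem hC : W6.HasC cartanE6 := hasC_E6 rootE6

theorem hk : hSub chevE6 (xGL chevE6 k) = (torGL rootE6 k).range :=
  certE6.hSub_eq_range rootE6 (snf_of_mem (by simp))

theorem hG : (certE6.Yhat k rootE6).G0 = chevE6.group k :=
  certE6.Yhat_G0_eq rootE6 (snf_of_mem (by simp))

theorem T6_mem (c : Fin 6 → kˣ) : T6 k c ∈ chevE6.group k :=
  hG.le ((certE6.Yhat _ rootE6).H_le_G0 ⟨_, rfl⟩)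

theorem T6_inj : Function.Injective (T6 k) := torGL_injective rootE6

theorem nW_mem (ω : List (Fin 6)) : nW k ω ∈ chevE6.group k :=
  hG.le ((certE6.Yhat _ rootE6).N_le_G0 ((certE6.Yhat _ rootE6).wprod_mem_N ω))

theorem nW_append (ω ω' : List (Fin 6)) : nW k (ω ++ ω') = nW k ω * nW k ω' := wprod_append _ _ _

theorem nW_conj (ω : List (Fin 6)) (c : Fin 6 → kˣ) :
    nW k ω * T6 k c * (nW k ω)⁻¹ = T6 k (W6.tor kˣ (wprod W6.s ω) c) :=
  certE6.lifts_conj_torGL rootE6 ((certE6.Yhat k rootE6).lifts_wprod ω) c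

theorem gσ_nW (ω : List (Fin 6)) : gE6.gσ φ (nW k ω) = nW k (ω.map piE6) :=
  (gE6.gσ_wprod certE6 rootE6 φ ω).trans (congrArg (fun f => nW k (ω.map f)) (funext pi_eq))

omit [IsAlgClosed k] in
theorem zpow_five {z : kˣ} (hz : z ^ 5 = 1) (μ : Fin 6 → ℤ) : (fun i => z ^ μ i) ^ 5 = 1 :=
  funext fun i => by
    rw [Pi.pow_apply, ← zpow_natCast, zpow_comm, zpow_natCast, hz, one_zpow, Pi.one_apply]

theorem Emb.mem_five (E : Emb φ e) {g : GL chevE6.Idx k} (hg : g ∈ chevE6.group k)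
    (h : gE6.gσ φ g = g) (h5 : g ^ 5 = 1) : ∃ x, e x = g := by
  have := pow_mem (E.norm g hg h).1 2
  rwa [← pow_mul, pow_succ, h5, one_mul] at this

variable (hφ : ∀ t, φ t = t ^ 2)
include hφ

theorem exists_y (ω : List (Fin 6)) : ∃ y ∈ chevE6.group k, ∀ g,
    gE6.gσ φ (y * g * y⁻¹) = y * g * y⁻¹ ↔ gE6.gσ φ g = nW k ω * g * (nW k ω)⁻¹ := by
  have : CharP k 2 := CharTwo.of_one_ne_zero_of_two_eq_zero one_ne_zero (Cert.two_eq_zero_of_sq hφ)
  obtain ⟨y, hy, h⟩ := Lang.Coord.lang (certE6.conn_group rootE6 (snf_of_mem (by simp)))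
    (gE6.steinberg_gσ 2 one_pos φ hφ) (fun _ h => gE6.gσ_mem_group certE6 rootE6 φ h)
    (inv_mem (nW_mem ω))
  refine ⟨y, hy, fun g => ?_⟩
  rw [map_mul, map_mul, map_inv, show gE6.gσ φ y = y * (nW k ω)⁻¹ by rw [h]; group]
  generalize nW k ω = m
  generalize gE6.gσ φ g = a
  constructor
  · intro h
    calc _ = m * y⁻¹ * (y * m⁻¹ * a * (y * m⁻¹)⁻¹) * y * m⁻¹ := by group
      _ = _ := by rw [h]; group
  · rintro rfl; group

theorem tor_fix {ω : List (Fin 6)} {c : Fin 6 → kˣ}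
    (h : ∀ i, W6.tor kˣ (wprod W6.s ω) c (piE6 i) = c i ^ 2) :
    gE6.gσ φ (T6 k c) = nW k ω * T6 k c * (nW k ω)⁻¹ :=
  (gE6.gσ_torGL certE6 rootE6 φ c).trans ((congrArg (T6 k)
    ((gE6.subst certE6 rootE6 φ).torMap_eq_iff.2 fun i => (congrArg Units.val
      ((congrArg _ (pi_eq i)).trans (h i))).trans (hφ _).symm)).trans (nW_conj ω c).symm)

theorem tz_fix {z : kˣ} (hz : z ^ 5 = 1) {ω : List (Fin 6)} {μ : Fin 6 → ℤ} (h : ∀ i : Fin 6,
    (5 : ℤ) ∣ μ i * 2 - evL (actL cartanE6 ω (List.ofFn μ)) (piE6 i)) :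
    gE6.gσ φ (T6 k fun i => z ^ μ i) = nW k ω * T6 k (fun i => z ^ μ i) * (nW k ω)⁻¹ :=
  tor_fix hφ fun i => (tor_eq hC hz (h i)).trans (by rw [zpow_mul, zpow_two, pow_two])

theorem exists_root : ∃ z : kˣ, orderOf z = 5 ∧ ∀ t : kˣ, t ^ (5 : ℤ) = 1 → t ∈ Subgroup.zpowers z :=
  exists_unit_order k (n := 5) fun h => one_ne_zero (α := k) (by
    push_cast at h; linear_combination h - 2 * Cert.two_eq_zero_of_sq hφ)

theorem Emb.isConj (E : Emb φ e) (hc : (Nat.card G).factorization 5 = 2) {x x' : G}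
    (hx : orderOf x = 5) (hx' : orderOf x' = 5) : IsConj x x' := by
  have : Fact (Nat.Prime 5) := ⟨by norm_num⟩
  obtain ⟨z, hz, -⟩ := exists_root hφ
  have z5 : z ^ 5 = 1 := hz ▸ pow_orderOf_eq_one z
  obtain ⟨y, hy, h⟩ := exists_y hφ w1
  have h1 : ∀ a : Fin 5 × Fin 5, ∃ x, e x = y * T6 k (fun i => z ^ mu a.1 a.2 i) * y⁻¹ := fun a =>
    E.mem_five (mul_mem (mul_mem hy (T6_mem _)) (inv_mem hy)) ((h _).2 (tz_fix hφ z5
      (chk1 _ a.1.2 _ a.2.2))) (by rw [conj_pow, ← map_pow, zpow_five z5]; simp)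
  choose X hX using h1
  have h2 : ∀ a, X a = 1 ∨ IsConj (X (1, 0)) (X a) := fun a => by
    rcases chk2 _ a.1.2 _ a.2.2 with ⟨a1, a2⟩ | ⟨a1, a2⟩
    · refine Or.inl (E.inj ?_)
      rw [hX, a1, a2, show (fun i => z ^ mu 0 0 i) = 1 from funext fun i =>
        (congrArg (z ^ ·) ((by decide : ∀ i, mu 0 0 i = 0) i)).trans (zpow_zero z)]
      simp
    have b1 : nW k _ = nW k _ := certE6.wprod_n_eq rootE6 hφ (hC.wprod_eq a1)
    obtain ⟨g, hg⟩ := (E.norm _ (mul_mem (mul_mem hy (nW_mem (wd a.1 a.2))) (inv_mem hy)) ((h _).2 (by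
      rw [gσ_nW, eq_mul_inv_iff_mul_eq, ← nW_append, b1, nW_append]))).1
    refine Or.inr (isConj_iff.2 ⟨g, E.inj ?_⟩)
    rw [map_mul, map_mul, map_inv, hg, hX, hX, conj_pow, conj_mul, conj_inv, conj_mul, pow_three',
      ← nW_append, ← nW_append, nW_conj]
    congr 3
    exact funext fun i => tor_eq hC z5 (a2 i)
  let Q := (((powMonoidHom 5).ker.map (T6 k)).map (MulAut.conj y).toMonoidHom).comap e
  obtain ⟨S, hS⟩ := IsPGroup.exists_le_sylow (p := 5) (P := Q) fun ⟨g, _, ⟨c, hc, rfl⟩, hg⟩ =>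
    ⟨1, Subtype.ext (E.inj (by
      rw [pow_one, SubgroupClass.coe_pow, map_pow, ← hg, ← map_pow, ← map_pow,
        show c ^ 5 = 1 from hc]
      simp))⟩
  have h3 : Function.Bijective fun a =>
      (⟨X a, hS ⟨_, ⟨_, zpow_five z5 _, rfl⟩, (hX a).symm⟩⟩ : (S : Subgroup G)) := by
    refine (Nat.bijective_iff_injective_and_card _).2 ⟨fun a b hab => ?_, by
      rw [S.card_eq_multiplicity, hc]; simp⟩
    have := congrArg e (congrArg Subtype.val hab)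
    rw [hX, hX] at this
    have := T6_inj (mul_left_cancel (mul_right_cancel this))
    have h4 : ∀ a b : Fin 5, z ^ ((a : ℕ) : ℤ) = z ^ ((b : ℕ) : ℤ) → a = b := fun a b h => Fin.ext
      (pow_injOn_Iio_orderOf (a.2.trans_eq hz.symm) (b.2.trans_eq hz.symm) (by simpa using h))
    exact Prod.ext (h4 _ _ (congrFun this 4)) (h4 _ _ (congrFun this 5))
  have h4 : ∀ x : G, orderOf x = 5 → IsConj (X (1, 0)) x := fun x hx => by
    obtain ⟨T, hT⟩ := IsPGroup.exists_le_sylow (p := 5) (P := Subgroup.zpowers x)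
      (IsPGroup.of_card (n := 1) (by rw [Nat.card_zpowers, hx, pow_one]))
    obtain ⟨g, rfl⟩ := MulAction.exists_smul_eq G S T
    obtain ⟨s, hs, rfl⟩ := hT (Subgroup.mem_zpowers x)
    obtain ⟨a, ha⟩ := h3.2 ⟨s, hs⟩
    obtain rfl : X a = s := congrArg Subtype.val ha
    rcases h2 a with h | h
    · simp [h] at hx
    · exact h.trans (isConj_iff.2 ⟨g, rfl⟩)
  exact (h4 x hx).symm.trans (h4 x' hx')

theorem exists_psi : ∃ ψ : alternatingGroup (Fin 8) →* GL chevE6.Idx k,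
    Function.Injective ψ ∧ ψ.range = levTwo k rootE6 J := by
  have h2 := Cert.two_eq_zero_of_sq hφ
  have : CharP k 2 := CharTwo.of_one_ne_zero_of_two_eq_zero one_ne_zero h2
  let ι := ZMod.castHom (dvd_refl 2) k
  have h := (certE6.stRelN k rootE6).toStRelW.toStRel
  have h0 : ∀ a b c d : Fin 4, a ≠ b → c ≠ d → b ≠ c → a ≠ d → ∀ t u,
      Commute (xGL chevE6 k (rt a b) t) (xGL chevE6 k (rt c d) u) := fun a b c d h1 h2 h3 h4 =>
    h.commute rootE6 (chk5 a b h1).1 (chk5 c d h2).1 ((chk5 a b h1).2.2.2 c d h2 h3 h4).1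
      ((chk5 a b h1).2.2.2 c d h2 h3 h4).2
  obtain ⟨ψ, hψ⟩ := Known.stA_exists_hom (e := fun a b t => xGL chevE6 k (rt a b) (ι t))
    ⟨fun a b hab t u => by rw [h.add _ (chk5 a b hab).1, map_add], fun a b c h1 h2' h3 t u => by
      obtain ⟨a1, a2, ε, hε, a3⟩ := (chk5 a b h1).2.2.1 c h2' h3
      rw [h.comm _ _ (chk5 b c h2').1 (chk5 a b h1).1 a1 a2, ChevalleyDatum.commWord, a3,
        (h0 a c b c h3 h2' h2'.symm h3 _ _).eq, mul_assoc (xGL _ _ _ _), mul_assoc (xGL _ _ _ _),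
        (h0 a c a b h3 h1 h3.symm h1 _ _).eq]
      simp only [List.map_cons, List.map_nil, word_cons, word_nil, mul_one, map_mul]
      congr 3
      simp only [List.mem_cons, List.not_mem_nil, or_false] at hε
      rcases hε with rfl | rfl
      · push_cast; linear_combination -ι t * ι u * h2
      · push_cast; ring, fun a b c d h1 h2 h3 h4 t u => h0 a b c d h1 h2 h3 h4 _ _⟩ (by simp)
  obtain ⟨e1⟩ := S0256.result (F := ZMod 2) rfl
  let e2 := e1.symm.trans (Class.quotCenterEquivOfEqBot (G := Matrix.SpecialLinearGroup (Fin 4)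
    (ZMod 2)) (eq_bot_iff.2 fun g hg => by
      obtain ⟨r, h1, h2⟩ := Matrix.SpecialLinearGroup.mem_center_iff.1 hg
      rw [(by decide : ∀ r : ZMod 2, r ^ Fintype.card (Fin 4) = 1 → r = 1) r h1, map_one] at h2
      exact Subtype.ext h2.symm))
  have := alternatingGroup.isSimpleGroup (α := Fin 8) (by simp)
  refine ⟨ψ.comp e2.toMonoidHom, (MonoidHom.ker_eq_bot_iff _).1
    ((Subgroup.Normal.eq_bot_or_eq_top inferInstance).resolve_right fun e => ?_), ?_⟩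
  · have : ψ (e2 (e2.symm (slE 0 1 1))) = 1 := e.ge (Subgroup.mem_top _)
    rw [e2.apply_symm_apply, hψ _ _ _ (by decide), map_one,
      certE6.xGL_eq_one_iff rootE6 (chk5 0 1 (by decide)).1] at this
    exact one_ne_zero this
  · rw [MonoidHom.range_comp, MonoidHom.range_eq_top.2 e2.surjective, ← MonoidHom.range_eq_map]
    refine le_antisymm ?_ (levTwo_le fun r hr => ?_)
    · rw [MonoidHom.range_eq_map, Subgroup.map_le_iff_le_comap, top_le_iff]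
      refine closure_slE _ fun a b hab t => ?_
      rw [Subgroup.mem_comap, hψ _ _ _ hab]
      rcases (by decide : ∀ t : ZMod 2, t = 0 ∨ t = 1) t with rfl | rfl
      · rw [map_zero, h.zero (chk5 a b hab).1]
        exact one_mem _
      · rw [map_one]
        exact mem_levTwo_of (inJ_iff.2 ⟨a, b, hab, rfl⟩)
    · obtain ⟨a, b, hab, rfl⟩ := inJ_iff.1 hr
      exact ⟨_, (hψ a b 1 hab).trans (by rw [map_one])⟩

omit hφ [IsAlgClosed k] in
theorem psi_eq {z : kˣ} (hz : orderOf z = 5) :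
    rootE6.weyl.psi {fun i => z ^ nu i} = {r | rootE6.weyl.InJ J r} := Set.ext fun r => by
  have h : chr (fun i => z ^ nu i) (rc6 r) = 1 ↔ (5 : ℤ) ∣ ∑ i, nu i * rc6 r i := by
    rw [chr_zpow, ← orderOf_dvd_iff_zpow_eq_one, hz]; rfl
  exact ⟨fun ⟨h1, h2⟩ => inJ_iff.2 ((chk4 r (rootE6.weyl_mem.1 h1)).1.1 (h.1 (h2 _ rfl))), fun h1 =>
    ⟨h1.1, by rintro _ rfl; exact h.2 ((chk4 r (rootE6.weyl_mem.1 h1.1)).1.2 (inJ_iff.1 h1))⟩⟩

theorem Emb.cent (E : Emb φ e) (hc : (Nat.card G).factorization 5 = 2) :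
    ∃ x : G, orderOf x = 5 ∧ ∃ ψ : alternatingGroup (Fin 8) →* G, Function.Injective ψ ∧
      (∀ a, Commute x (ψ a)) ∧ ∀ g, Commute x g → ∃ a, ∃ n : ℤ, g = x ^ n * ψ a := by
  have : Fact (Nat.Prime 5) := ⟨by norm_num⟩
  obtain ⟨z, hz, hz'⟩ := exists_root hφ
  have z5 : z ^ 5 = 1 := hz ▸ pow_orderOf_eq_one z
  obtain ⟨y, hy, h⟩ := exists_y hφ w2
  let τ : kˣ →* GL chevE6.Idx k := (MulAut.conj y).toMonoidHom.comp ((T6 k).comp
    (Pi.monoidHom fun i => zpowGroupHom (nu i)))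
  have hτ : ∀ d, τ d = y * T6 k (fun i => d ^ nu i) * y⁻¹ := fun _ => rfl
  obtain ⟨x, hx⟩ : ∃ x, e x = τ z := E.mem_five (mul_mem (mul_mem hy (T6_mem _)) (inv_mem hy))
    ((h _).2 (tz_fix hφ z5 chk3)) (by rw [← map_pow, z5, map_one])
  have h1 : orderOf x = 5 := orderOf_eq_prime (E.inj (by rw [map_pow, hx, ← map_pow, z5]; simp))
    fun n => by
      rw [n, map_one, hτ, eq_comm, conj_eq_one_iff, ← map_one (T6 k)] at hx
      have : z ^ (1 : ℤ) = 1 := congrFun (T6_inj hx) 5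
      simp [show z = 1 by simpa using this] at hz
  obtain ⟨ψ₀, h2, h3⟩ := exists_psi hφ
  have hL : levTwo k rootE6 J ≤ chevE6.group k := levTwo_le fun r _ => certE6.xGL_mem_group rootE6 r 1
  have h4 : levTwo k rootE6 J ≤ e.range.comap (MulAut.conj y).toMonoidHom := levTwo_le fun r hr => by
    have := (E.norm _ (mul_mem (mul_mem hy (hL (mem_levTwo_of hr))) (inv_mem hy))
      ((h _).2 (gE6.gσ_levTwo certE6 rootE6 hφ rho_eq (mem_levTwo_of hr)))).1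
    rwa [conj_pow, pow_three, (certE6.stRelN k rootE6).add _ (rootE6.weyl_mem.1 hr.1),
      one_add_one_eq_two, Cert.two_eq_zero_of_sq hφ,
      (certE6.stRelN k rootE6).zero (rootE6.weyl_mem.1 hr.1), mul_one] at this
  let ψ := (MonoidHom.ofInjective E.inj).symm.toMonoidHom.comp (((MulAut.conj y).toMonoidHom.comp
    ψ₀).codRestrict e.range fun a => h4 (h3.le ⟨a, rfl⟩))
  have hψ : ∀ a, e (ψ a) = y * ψ₀ a * y⁻¹ := fun a => MonoidHom.apply_ofInjective_symm E.inj _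
  have h5 : cent0 k rootE6 {fun i => z ^ nu i} = (certE6.Yhat k rootE6).LJ J := by
    rw [cent0, psi_eq hz, sup_comm]; rfl
  have h6 : ∀ a, Commute x (ψ a) := fun a => E.inj (by
    rw [map_mul, map_mul, hx, hψ, hτ, conj_mul, conj_mul]
    congr 2
    exact certE6.commute_of_mem_cent0 rootE6 (h5.ge (Subgroup.mem_sup_right
      (levTwo_le_spanX (h3.le ⟨a, rfl⟩)))) rfl)
  have h7 : ∀ g ∈ chevE6.group k, gE6.gσ φ g = g → e x * g = g * e x →
      ∃ a d, d ^ 15 = 1 ∧ g = e (ψ a) * τ d := fun g hg h1 h2 => by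
    obtain ⟨g, rfl⟩ := (MulAut.conj y).surjective g
    rw [MulAut.conj_apply] at hg h1 h2 ⊢
    rw [hx, hτ, conj_mul, conj_mul] at h2
    obtain ⟨l, hl, s, s1, s2, rfl⟩ := gE6.exists_levTwo_mul certE6 rootE6 hφ rho_eq hk
      (h5.le (certE6.mem_cent0_of_commute rootE6 hk (m := 3) (n := 5) (by norm_num) (by norm_num)
        (fun a ha => by
          obtain ⟨a1, a2⟩ := mem_ker_E6.1 ha
          have a3 := (pow_right_comm _ 2 3).trans ((congrArg (· ^ 2) a1).trans (one_pow 2))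
          rw [a2]
          exact funext (forall_fin6 a1 (one_pow _) a3 (one_pow _) a1 a3))
        (zpow_five z5 nu) (hG.ge (by simpa [mul_assoc] using mul_mem (mul_mem (inv_mem hy) hg) hy))
        (mul_left_cancel (mul_right_cancel h2)))) ((h g).1 h1)
    obtain ⟨a, rfl⟩ := h3.ge hl
    have s0 : ∀ j ∈ ({2, 3, 4} : Finset (Fin 6)), s j = 1 := s1
    obtain ⟨s3, s4⟩ := solve hC (s0 2 (by decide)) (s0 3 (by decide)) (s0 4 (by decide))
      fun i => (congrArg _ (pi_eq i).symm).trans (s2 i)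
    exact ⟨a, _, s3, by rw [hψ, hτ, conj_mul]; exact congrArg (fun s => y * (ψ₀ a * T6 k s) * y⁻¹) s4⟩
  refine ⟨x, h1, ψ, fun a b e => h2 (mul_left_cancel (mul_right_cancel
    ((hψ a).symm.trans ((congrArg _ e).trans (hψ b))))), h6, fun g hg => ?_⟩
  obtain ⟨a, d, hd, e1⟩ := h7 _ (E.mem g) (E.fix g) (by rw [← map_mul, hg.eq, map_mul])
  have h8 : ∀ d : kˣ, d ^ 5 = 1 → ∃ n : ℤ, τ d = e (x ^ n) := fun d hd => by
    obtain ⟨n, rfl⟩ := hz' d (by exact_mod_cast hd)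
    exact ⟨n, by rw [map_zpow, map_zpow, hx]⟩
  by_cases h9 : d ^ 5 = 1
  · obtain ⟨n, hn⟩ := h8 d h9
    exact ⟨a, n, E.inj (by rw [((h6 a).zpow_left n).eq, e1, hn, map_mul])⟩
  exfalso
  obtain ⟨γ, g1, g2, g3⟩ := E.out
  obtain ⟨x', hx'⟩ := (E.norm γ g1 g2).2 x
  obtain ⟨u, hu⟩ := isConj_iff.1 (E.isConj hφ hc (x := x') (by
    rw [← orderOf_injective e E.inj, hx', ← MulAut.conj_apply, MulEquiv.orderOf_eq,
      orderOf_injective e E.inj, h1]) h1)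
  obtain ⟨a', d', hd', e2⟩ := h7 (e u * γ) (mul_mem (E.mem u) g1) (by rw [map_mul, E.fix, g2]) (by
    nth_rw 1 [← hu]
    rw [map_mul, map_mul, map_inv, hx']; group)
  have : Fact (Nat.Prime 3) := ⟨by norm_num⟩
  obtain ⟨i, -, hi⟩ := (IsPrimitiveRoot.iff_orderOf.2 (orderOf_eq_prime (p := 3)
    (x := ((d ^ 5 : kˣ) : k)) (by rw [← Units.val_pow_eq_pow_val, ← pow_mul, hd]; rfl)
    fun e => h9 (Units.ext e))).eq_pow_of_pow_eq_one (ξ := ((d' ^ 5 : kˣ) : k))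
    (by rw [← Units.val_pow_eq_pow_val, ← pow_mul, hd']; rfl)
  obtain ⟨n, hn⟩ := h8 (d' ^ 6) (by rw [← pow_mul, show 6 * 5 = 15 * 2 from rfl, pow_mul, hd', one_pow])
  have m1 : τ d ∈ e.range := by
    rw [eq_inv_mul_of_mul_eq e1.symm]
    exact mul_mem (inv_mem ⟨_, rfl⟩) ⟨_, rfl⟩
  have m2 : d' = ((d ^ 5) ^ i) ^ 2 * d' ^ 6 := by
    rw [show (d ^ 5) ^ i = d' ^ 5 from Units.ext hi, ← pow_mul, ← pow_add, pow_succ', hd', mul_one]
  refine g3 ?_
  rw [eq_inv_mul_of_mul_eq e2, m2, map_mul, hn, map_pow, map_pow, map_pow]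
  exact mul_mem (inv_mem ⟨_, rfl⟩) (mul_mem ⟨_, rfl⟩
    (mul_mem (pow_mem (pow_mem (pow_mem m1 _) _) _) ⟨_, rfl⟩))

end

/-- In the twisted group ²E₆(2) all elements of order 5 are conjugate, and the centralizer of an element of order 5 is isomorphic to the direct product of a cyclic group of order 5 with the alternating group of degree 8. -/
theorem result {K : Type*} [Field K] [Fintype K] (hK : Fintype.card K = 4) :
    (∀ x y : ↥(Cfsg.Lie.twistedE6 K 2), orderOf x = 5 → orderOf y = 5 → IsConj x y) ∧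
      ∀ x : ↥(Cfsg.Lie.twistedE6 K 2), orderOf x = 5 →
        Nonempty (↥(Subgroup.centralizer ({x} : Set ↥(Cfsg.Lie.twistedE6 K 2))) ≃* (Multiplicative (ZMod 5) × ↥(alternatingGroup (Fin 8)))) := by
  obtain ⟨φ, e, hφ, E⟩ := exists_emb (K := K) hK
  have hc : (Nat.card (twistedE6 K 2)).factorization 5 = 2 := by
    have := S1066.result (K := K) Nat.prime_two.isPrimePow hK
    rw [show Nat.card (twistedE6 K 2) = 5 ^ 2 * 3061299187350994157568 by
      norm_num at this; omega]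
    exact Nat.factorization_eq_of_coprime_left (by norm_num) (by simp) |>.trans (by
      rw [Nat.Prime.factorization_pow (by norm_num)]; simp)
  refine ⟨fun x y => E.isConj hφ hc, fun x hx => ?_⟩
  obtain ⟨x₀, h0, ψ, h1, h2, h3⟩ := E.cent hφ hc
  obtain ⟨g, rfl⟩ := isConj_iff.1 (E.isConj hφ hc h0 hx)
  refine cent_equiv hx ((MulAut.conj g).toMonoidHom.comp ψ) ((MulAut.conj g).injective.comp h1)
    (alternatingGroup.center_eq_bot (by simp)) (fun a => (h2 a).map (MulAut.conj g)) fun u hu => ?_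
  obtain ⟨u, rfl⟩ := (MulAut.conj g).surjective u
  obtain ⟨a, n, rfl⟩ := h3 u (Commute.of_map (MulAut.conj g).injective hu)
  exact ⟨a, n, by rw [map_mul, map_zpow]; rfl⟩

end Cfsg.Agent.S2227
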