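import Cfsg.Statements.S2271

set_option autoImplicit false
open Cfsg

namespace Cfsg.Agent.S2271

open Equiv Equiv.Perm Finset

section

variable {α : Type*} [Fintype α] [DecidableEq α]

set_option linter.unusedSectionVars false

theorem inv_apply_self (g : Perm α) (x : α) : g⁻¹ (g x) = x := g.symm_apply_apply x

theorem apply_inv_self (g : Perm α) (x : α) : g (g⁻¹ x) = x := g.apply_symm_apply x

theorem exists_even {ι : Type*} [Fintype ι] (f g : ι → α) (hf : Function.Injective f)
    (hg : Function.Injective g) (h : Fintype.card ι + 2 ≤ Fintype.card α) :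
    ∃ σ : Perm α, sign σ = 1 ∧ ∀ i, σ (f i) = g i := by
  obtain ⟨σ, hσ⟩ := Perm.exists_extending_pair f g hf hg
  rcases Int.units_eq_one_or (sign σ) with h1 | h1
  · exact ⟨σ, h1, hσ⟩
  have h2 : 1 < #(univ.image g)ᶜ := by
    rw [card_compl, card_image_of_injective _ hg, card_univ]; omega
  obtain ⟨x, hx, y, hy, hxy⟩ := one_lt_card.mp h2
  simp only [mem_compl, mem_image, mem_univ, true_and, not_exists] at hx hy
  refine ⟨swap x y * σ, by rw [Perm.sign_mul, sign_swap hxy, h1]; rfl, fun i => ?_⟩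
  rw [mul_apply, hσ, swap_apply_of_ne_of_ne (hx i) (hy i)]

/-- The number of agreements. -/
def ag (a b : Perm α) : ℕ := #{x | a x = b x}

theorem ag_comm (a b : Perm α) : ag a b = ag b a := by simp only [ag, eq_comm]

theorem ag_conj (a b g : Perm α) : ag a (g * b * g⁻¹) = ag b (g⁻¹ * a * g⁻¹⁻¹) := by
  unfold ag
  refine card_bij' (fun x _ => g⁻¹ x) (fun x _ => g x) ?_ ?_ (by simp) (by simp)
  · intro x hx
    simp only [mem_filter, mem_univ, true_and, mul_apply, inv_inv, apply_inv_self] at hx ⊢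
    rw [hx, inv_apply_self]
  · intro x hx
    simp only [mem_filter, mem_univ, true_and, mul_apply, inv_inv, inv_apply_self] at hx ⊢
    rw [hx, apply_inv_self]

/-- Even permutations with two prescribed values. -/
def T (y y' x x' : α) : ℕ := #{g : Perm α | sign g = 1 ∧ g y = x ∧ g y' = x'}

theorem T_congr {k l : Perm α} (hk : sign k = 1) (hl : sign l = 1) (y y' x x' : α) :
    T (k y) (k y') (l x) (l x') = T y y' x x' := by
  unfold T
  refine card_bij' (fun g _ => l⁻¹ * g * k) (fun g _ => l * g * k⁻¹) ?_ ?_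
    (fun g _ => by group) (fun g _ => by group)
  · intro g hg
    simp only [mem_filter, mem_univ, true_and] at hg
    simp [hg, hk, hl]
  · intro g hg
    simp only [mem_filter, mem_univ, true_and] at hg
    simp [hg, hk, hl]

theorem exists_two (h : 4 ≤ Fintype.card α) {x y x' y' : α} (h1 : x ≠ y) (h2 : x' ≠ y') :
    ∃ σ : Perm α, sign σ = 1 ∧ σ x = x' ∧ σ y = y' := by
  obtain ⟨σ, h3, h4⟩ := exists_even ![x, y] ![x', y']
    (by intro i j; fin_cases i <;> fin_cases j <;> simp [h1, h1.symm])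
    (by intro i j; fin_cases i <;> fin_cases j <;> simp [h2, h2.symm]) (by simpa using h)
  exact ⟨σ, h3, h4 0, h4 1⟩

theorem count (h : 4 ≤ Fintype.card α) {a b : Perm α} {c : ℕ}
    (H : ∀ g : Perm α, sign g = 1 → ag a (g * b * g⁻¹) = c) :
    ((c : ℤ) - 1) * (Fintype.card α - 1) =
      ((#{x | a x = x} : ℕ) - 1) * ((#{x | b x = x} : ℕ) - 1) := by
  obtain ⟨p, q, hpq⟩ := Fintype.exists_pair_of_one_lt_card (α := α) (by omega)
  have h2 : ∀ {y y' x x' : α}, y ≠ y' → x ≠ x' → T y y' x x' = T p q p q := fun hy hx => by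
    obtain ⟨k, hk, rfl, rfl⟩ := exists_two h hpq hy
    obtain ⟨l, hl, rfl, rfl⟩ := exists_two h hpq hx
    exact T_congr hk hl ..
  have h0 : ∀ {y y' x : α}, y ≠ y' → T y y' x x = 0 := fun hy => by
    simp only [T, card_eq_zero, filter_eq_empty_iff]
    rintro g - ⟨-, h1, h2⟩
    exact hy (g.injective (h1.trans h2.symm))
  have h0' : ∀ {y x x' : α}, x ≠ x' → T y y x x' = 0 := fun hx => by
    simp only [T, card_eq_zero, filter_eq_empty_iff]
    rintro g - ⟨-, h1, h2⟩
    exact hx (h1.symm.trans h2)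
  have h1 : ∀ y x : α, (T y y x x : ℤ) = (Fintype.card α - 1) * T p q p q := fun y x => by
    obtain ⟨y', hy⟩ := Fintype.exists_ne_of_one_lt_card (by omega) y
    have : T y y x x = ∑ x', T y y' x x' := by
      unfold T
      rw [card_eq_sum_card_fiberwise (f := fun g : Perm α => g y') (t := univ) (by simp)]
      simp only [filter_filter, and_self, and_assoc]
    rw [this, ← add_sum_erase _ _ (mem_univ x), h0 hy.symm, zero_add,
      sum_congr rfl fun x' hx' => h2 hy.symm (ne_of_mem_erase hx').symm]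
    rw [sum_const, card_erase_of_mem (mem_univ _), card_univ, smul_eq_mul, Nat.cast_mul,
      Nat.cast_sub (by omega), Nat.cast_one]
  have hG : (#{g : Perm α | sign g = 1} : ℤ) =
      Fintype.card α * ((Fintype.card α - 1) * T p q p q) := by
    rw [card_eq_sum_card_fiberwise (f := fun g : Perm α => g p) (t := univ) (by simp),
      Nat.cast_sum, sum_congr rfl (g := fun _ => (Fintype.card α - 1 : ℤ) * T p q p q)]
    · simp
    · intro x _
      rw [← h1 p x]
      simp only [T, filter_filter, and_self]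
  have hs : (c : ℤ) * #{g : Perm α | sign g = 1} = ∑ x, ∑ y, (T y (b y) x (a x) : ℤ) := by
    have : ∑ g : Perm α with sign g = 1, ag a (g * b * g⁻¹) = ∑ x, ∑ y, T y (b y) x (a x) := by
      simp only [ag, card_filter]
      rw [sum_comm]
      refine sum_congr rfl fun x _ => ?_
      rw [← card_filter, filter_filter,
        card_eq_sum_card_fiberwise (f := fun g : Perm α => g⁻¹ x) (t := univ) (by simp)]
      refine sum_congr rfl fun y _ => ?_
      rw [T, filter_filter]
      refine congrArg _ (filter_congr fun g _ => ?_)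
      rw [and_assoc, Perm.inv_eq_iff_eq, and_comm (b := x = g y), eq_comm (a := x)]
      refine and_congr_right fun _ => and_congr_right fun h => ?_
      rw [← h, mul_apply, mul_apply, inv_apply_self, eq_comm]
    rw [sum_congr rfl fun g hg => H g (mem_filter.mp hg).2, sum_const, smul_eq_mul] at this
    rw [mul_comm]
    exact_mod_cast this
  have hpos : (T p q p q : ℤ) ≠ 0 := by
    rw [Nat.cast_ne_zero, T, card_ne_zero]
    exact ⟨1, by simp⟩
  have h3 : ∀ x y, (T y (b y) x (a x) : ℤ) = if a x = x then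
      (if b y = y then (Fintype.card α - 1 : ℤ) * T p q p q else 0) else
      (if b y = y then 0 else (T p q p q : ℤ)) := fun x y => by
    split_ifs with hx hy hy
    · rw [hx, hy, h1]
    · rw [hx, h0 (Ne.symm hy), Nat.cast_zero]
    · rw [hy, h0' (Ne.symm hx), Nat.cast_zero]
    · rw [h2 (Ne.symm hy) (Ne.symm hx)]
  have h4 : ∀ a : Perm α, (#{x | ¬ a x = x} : ℤ) = Fintype.card α - (#{x | a x = x} : ℕ) :=
    fun a => by
      rw [← card_univ, ← card_filter_add_card_filter_not (s := univ) (fun x => a x = x)]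
      push_cast; ring
  simp only [h3, sum_ite_irrel, sum_ite, sum_const, smul_zero, add_zero, zero_add, nsmul_eq_mul,
    h4, hG] at hs
  have hn : (Fintype.card α : ℤ) ≠ 0 := by omega
  refine mul_left_cancel₀ hn (mul_left_cancel₀ hpos ?_)
  linear_combination hs

theorem symm_H {a b : Perm α} {c : ℕ} (H : ∀ g : Perm α, sign g = 1 → ag a (g * b * g⁻¹) = c) :
    ∀ g : Perm α, sign g = 1 → ag b (g * a * g⁻¹) = c := fun g hg => by
  rw [ag_conj, H _ (by simp [hg])]

theorem all_of_comm {a b t : Perm α} {c : ℕ}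
    (H : ∀ g : Perm α, sign g = 1 → ag a (g * b * g⁻¹) = c) (ht : sign t = -1)
    (htb : t * b = b * t) (g : Perm α) : ag a (g * b * g⁻¹) = c := by
  rcases Int.units_eq_one_or (sign g) with h1 | h1
  · exact H g h1
  rw [← H (g * t) (by rw [Perm.sign_mul, h1, ht]; rfl), mul_assoc g t, htb, mul_inv_rev]
  simp only [mul_assoc, mul_inv_cancel_left]

theorem two_le_ag {a b g : Perm α} {x₁ x₂ y₁ y₂ : α} (hx : x₁ ≠ x₂) (h1 : g y₁ = x₁)
    (h2 : g (b y₁) = a x₁) (h3 : g y₂ = x₂) (h4 : g (b y₂) = a x₂) : 2 ≤ ag a (g * b * g⁻¹) := by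
  refine one_lt_card.mpr ⟨x₁, ?_, x₂, ?_, hx⟩
  · rw [mem_filter, ← h2, ← h1, mul_apply, mul_apply, inv_apply_self]
    exact ⟨mem_univ _, rfl⟩
  · rw [mem_filter, ← h4, ← h3, mul_apply, mul_apply, inv_apply_self]
    exact ⟨mem_univ _, rfl⟩

theorem exists_moved {a : Perm α} (ha : a ≠ 1) : ∃ x, a x ≠ x := by
  by_contra h
  push Not at h
  exact ha (Equiv.ext h)

theorem two_arcs (hn : 5 ≤ Fintype.card α) {a : Perm α} (ha : a ≠ 1) (h : #{x | a x = x} ≤ 1) :
    ∃ x y, Function.Injective ![x, a x, y, a y] := by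
  obtain ⟨x, hx⟩ := exists_moved ha
  obtain ⟨y, hy⟩ : ∃ y, y ∉ ({x | a x = x} : Finset α) ∪ {x, a x, a⁻¹ x} := by
    refine exists_mem_notMem_of_card_lt_card (t := univ) ((card_union_le _ _).trans_lt ?_)
      |>.imp fun _ h => h.2
    have := card_le_three (a := x) (b := a x) (c := a⁻¹ x)
    rw [card_univ]; omega
  simp only [mem_union, mem_filter, mem_univ, true_and, mem_insert, mem_singleton, not_or] at hy
  obtain ⟨h1, h2, h3, h4⟩ := hy
  have h5 : a y ≠ x := fun h => h4 (by rw [← h, inv_apply_self])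
  refine ⟨x, y, ?_⟩
  intro i j
  fin_cases i <;> fin_cases j <;>
    simp [h1, h2, h3, h5, hx, Ne.symm h1, Ne.symm h2, Ne.symm h3, h5.symm, hx.symm]

theorem swap_comm_of_sq {a : Perm α} (h : a * a = 1) (x : α) :
    swap x (a x) * a = a * swap x (a x) := by
  rw [mul_swap_eq_swap_mul, ← mul_apply a a, h, one_apply, swap_comm]

theorem inj_three {a : Perm α} {x : α} (h : a (a x) ≠ x) :
    Function.Injective ![x, a x, a (a x)] := by
  have h1 : a x ≠ x := fun h1 => h (by rw [h1, h1])
  intro i j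
  fin_cases i <;> fin_cases j <;> simp [h, h1, h.symm, h1.symm]

theorem not_one (hn : 5 ≤ Fintype.card α) {a b : Perm α} (ha : a ≠ 1) (hb : b ≠ 1)
    (H : ∀ g : Perm α, sign g = 1 → ag a (g * b * g⁻¹) = 1) (hr : #{x | a x = x} = 1) : False := by
  obtain ⟨x, hx⟩ := exists_moved ha
  obtain ⟨y, hy⟩ := exists_moved hb
  by_cases hs : ∃ q, b q = q
  · obtain ⟨q, hq⟩ := hs
    obtain ⟨p, hp⟩ := card_pos.mp (hr ▸ one_pos)
    replace hp := (mem_filter.mp hp).2
    have key : ∀ {a : Perm α} {p x : α}, a p = p → a x ≠ x → Function.Injective ![p, x, a x] :=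
      fun {a p x} hp hx => by
        have h1 : p ≠ x := by rintro rfl; exact hx hp
        have h2 : p ≠ a x := fun h => h1 (a.injective (hp.trans h))
        intro i j
        fin_cases i <;> fin_cases j <;> simp [h1, h2, hx, h1.symm, h2.symm, hx.symm]
    obtain ⟨g, hg, h⟩ := exists_even _ _ (key hq hy) (key hp hx) (by simpa using hn)
    have := two_le_ag (a := a) (b := b) (g := g) (x₁ := p) (x₂ := x) (y₁ := q) (y₂ := y)
      (by rintro rfl; exact hx hp) (h 0) (by rw [hp, hq]; exact h 0) (h 1) (h 2)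
    rw [H g hg] at this
    omega
  push Not at hs
  by_cases h2 : a * a = 1 ∨ b * b = 1
  · have H' : ∀ g : Perm α, ag a (g * b * g⁻¹) = 1 := fun g => by
      rcases h2 with h2 | h2
      · rw [ag_conj]
        exact all_of_comm (symm_H H) (sign_swap hx.symm) (swap_comm_of_sq h2 x) _
      · exact all_of_comm H (sign_swap hy.symm) (swap_comm_of_sq h2 y) _
    obtain ⟨x₁, x₂, h3⟩ := two_arcs hn ha hr.le
    obtain ⟨y₁, y₂, h4⟩ := two_arcs hn hb (by simp [filter_false_of_mem, hs])
    obtain ⟨g, h⟩ := Perm.exists_extending_pair _ _ h4 h3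
    have := two_le_ag (a := a) (b := b) (g := g) (x₁ := x₁) (x₂ := x₂) (y₁ := y₁) (y₂ := y₂)
      (fun h => by simpa using @h3 0 2 h) (h 0) (h 1) (h 2) (h 3)
    rw [H' g] at this
    omega
  push Not at h2
  obtain ⟨x, hx⟩ := exists_moved h2.1
  obtain ⟨y, hy⟩ := exists_moved h2.2
  obtain ⟨g, hg, h⟩ := exists_even _ _ (inj_three hy) (inj_three hx) (by simpa using hn)
  have := two_le_ag (a := a) (b := b) (g := g) (x₁ := x) (x₂ := a x) (y₁ := y) (y₂ := b y)
    (fun h => hx (by rw [mul_apply, ← h, ← h])) (h 0) (h 1) (h 1) (h 2)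
  rw [H g hg] at this
  omega

theorem fix_le {a : Perm α} (ha : a ≠ 1) : #{x | a x = x} + 2 ≤ Fintype.card α := by
  have h1 := two_le_card_support_of_ne_one ha
  have h2 := card_filter_add_card_filter_not (s := univ) (fun x => a x = x)
  rw [card_univ] at h2
  rw [← h2]
  exact Nat.add_le_add_left h1 _

theorem not_big (hn : 5 ≤ Fintype.card α) {a b : Perm α} (hb : b ≠ 1) {c : ℕ}
    (H : ∀ g : Perm α, sign g = 1 → ag a (g * b * g⁻¹) = c) (hr : 2 ≤ #{x | a x = x})
    (hrs : #{x | a x = x} ≤ #{x | b x = x}) : False := by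
  obtain ⟨p, hp, q, hq, hpq⟩ := one_lt_card.mp (hr.trans hrs)
  rw [mem_filter] at hp hq
  obtain ⟨S, hS1, hS2⟩ := exists_subset_card_eq hrs
  obtain ⟨g, hg⟩ := Perm.exists_map_finset_eq _ _ hS2
  have h1 : #{x | a x = x} ≤ c := by
    rw [← all_of_comm H (sign_swap hpq) (by rw [mul_swap_eq_swap_mul, hp.2, hq.2]) g]
    refine card_le_card fun x hx => ?_
    have hx' := hx
    rw [← hg] at hx'
    obtain ⟨y, hy, rfl⟩ := mem_map.mp hx'
    have := (mem_filter.mp (hS1 hy)).2
    simp only [mem_filter, mem_univ, true_and, Equiv.coe_toEmbedding] at hx ⊢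
    simp [hx, this]
  have h2 := count (by omega) H
  have h3 := fix_le hb
  have h4 : ((#{x | a x = x} : ℕ) - 1 : ℤ) * (Fintype.card α - 1) ≤
      ((c : ℤ) - 1) * (Fintype.card α - 1) := mul_le_mul_of_nonneg_right (by omega) (by omega)
  have h5 : ((#{x | a x = x} : ℕ) - 1 : ℤ) * ((#{x | b x = x} : ℕ) - 1) <
      ((#{x | a x = x} : ℕ) - 1 : ℤ) * (Fintype.card α - 1) :=
    mul_lt_mul_of_pos_left (by omega) (by omega)
  omega

theorem not_small (hn : 5 ≤ Fintype.card α) {a b : Perm α} (ha : a ≠ 1) (hb : b ≠ 1) {c : ℕ}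
    (H : ∀ g : Perm α, sign g = 1 → ag a (g * b * g⁻¹) = c) (hr : #{x | a x = x} ≤ 1) :
    False := by
  have h2 := count (by omega) H
  have h3 := fix_le hb
  rcases Nat.le_one_iff_eq_zero_or_eq_one.mp hr with hr | hr
  · rw [hr] at h2
    obtain rfl : c = 1 := by
      rcases Nat.lt_trichotomy c 1 with h | h | h
      · obtain rfl : c = 0 := by omega
        omega
      · exact h
      · have : (1 : ℤ) * (Fintype.card α - 1) ≤ ((c : ℤ) - 1) * (Fintype.card α - 1) :=
          mul_le_mul_of_nonneg_right (by omega) (by omega)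
        omega
    exact not_one hn hb ha (symm_H H) (by omega)
  · rw [hr, Nat.cast_one, sub_self, zero_mul, mul_eq_zero] at h2
    obtain rfl : c = 1 := by omega
    exact not_one hn ha hb H hr

theorem main (hn : 5 ≤ Fintype.card α) {a b : Perm α} (ha : a ≠ 1) (hb : b ≠ 1) {c : ℕ}
    (H : ∀ g : Perm α, sign g = 1 → ag a (g * b * g⁻¹) = c) : False := by
  by_cases hr : #{x | a x = x} ≤ 1
  · exact not_small hn ha hb H hr
  by_cases hs : #{x | b x = x} ≤ 1
  · exact not_small hn hb ha (symm_H H) hs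
  rcases le_total #{x | a x = x} #{x | b x = x} with h | h
  · exact not_big hn hb H (by omega) h
  · exact not_big hn ha (symm_H H) (by omega) h

theorem card_fixed (a b : Perm α) : Nat.card (Function.fixedPoints ⇑(a * b)) = ag a⁻¹ b := by
  rw [ag, Nat.card_coe_set_eq, ← Set.ncard_coe_finset]
  congr 1
  ext x
  rw [Function.mem_fixedPoints_iff, mem_coe, mem_filter, Perm.inv_eq_iff_eq, eq_comm]
  simp

end


/-- Let n ≥ 5 and let a, b be non-identity permutations in the symmetric group S_n. Then the number of fixed points is not constant on the set of products a′b′ with a′ conjugate to a and b′ conjugate to b under the alternating group: there are even permutations g₁, h₁, g₂, h₂ such that (g₁ a g₁⁻¹)(h₁ b h₁⁻¹) and (g₂ a g₂⁻¹)(h₂ b h₂⁻¹) have different numbers of fixed points. -/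
theorem result (n : ℕ) (hn : 5 ≤ n) (a b : Equiv.Perm (Fin n)) (ha : a ≠ 1) (hb : b ≠ 1) :
    ∃ g₁ h₁ g₂ h₂ : Equiv.Perm (Fin n), g₁ ∈ alternatingGroup (Fin n) ∧ h₁ ∈ alternatingGroup (Fin n) ∧ g₂ ∈ alternatingGroup (Fin n) ∧ h₂ ∈ alternatingGroup (Fin n) ∧
      Nat.card (Function.fixedPoints ⇑(g₁ * a * g₁⁻¹ * (h₁ * b * h₁⁻¹))) ≠
        Nat.card (Function.fixedPoints ⇑(g₂ * a * g₂⁻¹ * (h₂ * b * h₂⁻¹))) := by
  by_contra h
  push Not at h
  refine main (by simpa using hn) (inv_ne_one.mpr ha) hb (c := ag a⁻¹ b) fun g hg => ?_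
  have := h 1 g 1 1 (one_mem _) (mem_alternatingGroup.mpr hg) (one_mem _) (one_mem _)
  simpa only [one_mul, inv_one, mul_one, card_fixed] using this

end Cfsg.Agent.S2271
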