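import Cfsg.Statements.S2272
import Cfsg.Agent.Class.TvConj

set_option autoImplicit false
open Cfsg

namespace Cfsg.Agent.S2272

open Matrix Cfsg.Lib.Class

section

variable {ι : Type*} [Fintype ι] [DecidableEq ι] {F : Type*} [Field F]

theorem trace_conj_tvS (A B : SpecialLinearGroup ι F) {u φ : ι → F} (h : φ ⬝ᵥ u = 0)
    (hA : φ ⬝ᵥ ((A : Matrix ι ι F) *ᵥ u) = 0) :
    trace ((A * (tvS u φ * B * (tvS u φ)⁻¹) : SpecialLinearGroup ι F) : Matrix ι ι F) =
      trace ((A * B : SpecialLinearGroup ι F) : Matrix ι ι F) + (φ ⬝ᵥ ((B : Matrix ι ι F) *ᵥ ((A : Matrix ι ι F) *ᵥ u)) - φ ⬝ᵥ ((A : Matrix ι ι F) *ᵥ ((B : Matrix ι ι F) *ᵥ u))) := by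
  have h1 : ∀ (M : Matrix ι ι F) (v : ι → F), trace (M * vecMulVec v φ) = φ ⬝ᵥ (M *ᵥ v) :=
    fun M v => by rw [mul_vecMulVec, trace_vecMulVec, dotProduct_comm]
  have hm : ∀ X Y : SpecialLinearGroup ι F, ((X * Y : SpecialLinearGroup ι F) : Matrix ι ι F) =
      (X : Matrix ι ι F) * (Y : Matrix ι ι F) := fun _ _ => rfl
  rw [tvS_inv h, hm, hm, hm, hm]
  rw [tvS_coe h, tvS_coe (by simp [h]), neg_vecMulVec]
  simp only [mul_add, add_mul, mul_one, one_mul, mul_neg, trace_add, trace_neg, ← mul_assoc]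
  rw [h1, h1, trace_mul_comm ((A : Matrix ι ι F) * vecMulVec u φ), ← mul_assoc, h1, ← mulVec_mulVec,
    ← mulVec_mulVec, ← mulVec_mulVec, ← mulVec_mulVec, vecMulVec_mulVec, mulVec_smul,
    dotProduct_smul, hA]
  simp
  ring

theorem false_of_ne (A B : SpecialLinearGroup ι F) {P : Prop}
    (hP : ∀ g : SpecialLinearGroup ι F, trace ((A * (g * B * g⁻¹) : SpecialLinearGroup ι F) : Matrix ι ι F) = 0 ↔ P) {u φ : ι → F}
    (h : φ ⬝ᵥ u = 0) (hA : φ ⬝ᵥ ((A : Matrix ι ι F) *ᵥ u) = 0) :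
    φ ⬝ᵥ ((B : Matrix ι ι F) *ᵥ ((A : Matrix ι ι F) *ᵥ u)) - φ ⬝ᵥ ((A : Matrix ι ι F) *ᵥ ((B : Matrix ι ι F) *ᵥ u)) = 0 := by
  by_contra hz
  have h1 : ∀ t : F, trace ((A * B : SpecialLinearGroup ι F) : Matrix ι ι F) +
      t * (φ ⬝ᵥ ((B : Matrix ι ι F) *ᵥ ((A : Matrix ι ι F) *ᵥ u)) - φ ⬝ᵥ ((A : Matrix ι ι F) *ᵥ ((B : Matrix ι ι F) *ᵥ u))) = 0 ↔ P := fun t => by
    rw [← hP (tvS (t • u) φ), trace_conj_tvS A B (by simp [h]) (by simp [mulVec_smul, hA])]
    simp [mulVec_smul, mul_sub]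
  generalize φ ⬝ᵥ ((B : Matrix ι ι F) *ᵥ ((A : Matrix ι ι F) *ᵥ u)) - φ ⬝ᵥ ((A : Matrix ι ι F) *ᵥ ((B : Matrix ι ι F) *ᵥ u)) = z at hz h1
  have h2 := (h1 ((1 - trace ((A * B : SpecialLinearGroup ι F) : Matrix ι ι F)) / z)).mpr ((h1 (-trace ((A * B : SpecialLinearGroup ι F) : Matrix ι ι F) / z)).mp (by
    rw [div_mul_cancel₀ _ hz, add_neg_cancel]))
  rw [div_mul_cancel₀ _ hz] at h2
  simp at h2

theorem exists_not_eigen {A : SpecialLinearGroup ι F} (hA : A ∉ Subgroup.center _) :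
    ∃ u : ι → F, u ≠ 0 ∧ ∀ c : F, (A : Matrix ι ι F) *ᵥ u ≠ c • u := by
  by_contra h
  push Not at h
  refine hA (Subgroup.mem_center_iff.mpr fun g => ?_)
  refine (SL_eq_top_of_tvS (Subgroup.centralizer {A}) fun v f hf =>
    Subgroup.mem_centralizer_singleton_iff.mpr (SL_ext_mulVec fun x => ?_)).ge (Subgroup.mem_top g)
    A rfl |>.symm
  have key : ∀ x y : ι → F, ∃ c : F, (A : Matrix ι ι F) *ᵥ x = c • x ∧ (A : Matrix ι ι F) *ᵥ y = c • y := fun x y => by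
    by_cases hx : x = 0
    · by_cases hy : y = 0
      · exact ⟨0, by simp [hx], by simp [hy]⟩
      · obtain ⟨c, hc⟩ := h y hy
        exact ⟨c, by simp [hx], hc⟩
    obtain ⟨c, hc⟩ := h x hx
    refine ⟨c, hc, ?_⟩
    by_cases hy : ∃ t : F, y = t • x
    · obtain ⟨t, rfl⟩ := hy
      rw [mulVec_smul, hc, smul_comm]
    push Not at hy
    obtain ⟨d, hd⟩ := h y (by simpa using hy 0)
    obtain ⟨e, he⟩ := h (x + y) fun h1 => hy (-1) (by simpa [eq_neg_iff_add_eq_zero, add_comm] using h1)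
    obtain ⟨f, hf1, hf2⟩ := exists_dot_of_notMem_span hy
    rw [mulVec_add, hc, hd] at he
    have h1 := congrArg (f ⬝ᵥ ·) he
    simp only [dotProduct_add, dotProduct_smul, hf1, hf2, smul_eq_mul, mul_zero, mul_one,
      zero_add] at h1
    rw [h1, smul_add, add_left_inj] at he
    rw [hd, h1, smul_left_injective F hx he]
  obtain ⟨c, h1, h2⟩ := key x v
  rw [SL_mul_mulVec, SL_mul_mulVec, tvS_mulVec hf, tvS_mulVec hf, mulVec_add, mulVec_smul, h1, h2,
    dotProduct_smul, smul_eq_mul, mul_comm, mul_smul]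

theorem main (h3 : 3 ≤ Fintype.card ι) {A B : SpecialLinearGroup ι F}
    (hA : A ∉ Subgroup.center _) (hB : B ∉ Subgroup.center _) {P : Prop}
    (hP : ∀ g : SpecialLinearGroup ι F, trace ((A * (g * B * g⁻¹) : SpecialLinearGroup ι F) : Matrix ι ι F) = 0 ↔ P) : False := by
  obtain ⟨u, hu, hAu⟩ := exists_not_eigen hA
  obtain ⟨x, hx, hBx⟩ := exists_not_eigen hB
  obtain ⟨χ, hχ1, hχ2⟩ := exists_dot_of_notMem_span hBx
  obtain ⟨y₀, hy₀⟩ := exists_notMem_of_finrank_lt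
    ((finrank_span_pair_le u ((A : Matrix ι ι F) *ᵥ u)).trans_lt h3)
  obtain ⟨φ, hφ1, hφ2⟩ := exists_dot_of_notMem hy₀
  have h1 := hφ1 u (Submodule.subset_span (by simp))
  have h2 := hφ1 ((A : Matrix ι ι F) *ᵥ u) (Submodule.subset_span (by simp))
  obtain ⟨g', hg1, hg2, hg3⟩ := exists_SL_pair h3 hx (f := χ) (by rintro rfl; simp at hχ2) hu
    (f' := φ) (by rintro rfl; simp at hφ2) (hχ1.trans h1.symm)
  let g := toSL g' hg1
  have h4 : φ ⬝ᵥ (((g * B * g⁻¹ : SpecialLinearGroup ι F) : Matrix ι ι F) *ᵥ u) = 1 := by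
    have : u = (g : Matrix ι ι F) *ᵥ x := hg2.symm
    rw [this, ← SL_mul_mulVec, inv_mul_cancel_right, SL_mul_mulVec, dotProduct_mulVec]
    exact hg3 ▸ hχ2
  have hP' : ∀ k : SpecialLinearGroup ι F, trace ((A * (k * (g * B * g⁻¹) * k⁻¹) : SpecialLinearGroup ι F) : Matrix ι ι F) = 0 ↔ P :=
    fun k => by rw [← hP (k * g)]; simp only [_root_.mul_inv_rev, mul_assoc]
  generalize g * B * g⁻¹ = C at h4 hP'
  obtain ⟨ψ, hψ1, hψ2⟩ := exists_dot_of_notMem (W := Submodule.span F {u, (C : Matrix ι ι F) *ᵥ u})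
    (u := (A : Matrix ι ι F) *ᵥ u) fun h => by
      obtain ⟨s, t, h⟩ := Submodule.mem_span_pair.mp h
      have h5 := congrArg (φ ⬝ᵥ ·) h
      simp only [dotProduct_add, dotProduct_smul, h1, h2, h4, smul_eq_mul, mul_zero, mul_one,
        zero_add] at h5
      exact hAu s (by rw [← h, h5, zero_smul, add_zero])
  have h5 := hψ1 u (Submodule.subset_span (by simp))
  have h6 := hψ1 ((C : Matrix ι ι F) *ᵥ u) (Submodule.subset_span (by simp))
  have h7 := false_of_ne A C hP' h1 h2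
  have h8 := false_of_ne A (tvS u ψ * C * (tvS u ψ)⁻¹) (P := P)
    (fun k => by rw [← hP' (k * tvS u ψ)]; simp only [_root_.mul_inv_rev, mul_assoc]) h1 h2
  have h9 : ψ ⬝ᵥ (-u) = 0 := by simp [h5]
  simp only [SL_mul_mulVec, tvS_inv h5, tvS_mulVec h5, tvS_mulVec h9, h5, h6, hψ2, zero_smul,
    add_zero, one_smul, dotProduct_add, dotProduct_smul, h1, smul_zero, mulVec_add, mulVec_neg,
    dotProduct_neg, h4] at h8
  exact one_ne_zero (α := F) (by linear_combination h7 - h8)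

end


/-- Let F be a finite field and d ≥ 3, and let a, b be non-identity elements of PSL_d(F). Then the product of the conjugacy classes of a and b is not a single conjugacy class: there are conjugates a′ of a and b′ of b such that a′b′ is not conjugate to ab. -/
theorem result {F : Type*} [Field F] [Fintype F] (d : ℕ) (hd : 3 ≤ d)
    (a b : Matrix.ProjectiveSpecialLinearGroup (Fin d) F) (ha : a ≠ 1) (hb : b ≠ 1) :
    ∃ g h : Matrix.ProjectiveSpecialLinearGroup (Fin d) F, ¬ IsConj (a * b) (g * a * g⁻¹ * (h * b * h⁻¹)) := by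
  obtain ⟨A, rfl⟩ := QuotientGroup.mk_surjective a
  obtain ⟨B, rfl⟩ := QuotientGroup.mk_surjective b
  by_contra h
  push Not at h
  refine main (by simpa using hd) (mt (QuotientGroup.eq_one_iff A).mpr ha)
    (mt (QuotientGroup.eq_one_iff B).mpr hb) (P := Matrix.trace ((A * B : Matrix.SpecialLinearGroup (Fin d) F) : Matrix (Fin d) (Fin d) F) = 0) fun g => ?_
  obtain ⟨k, hk⟩ := isConj_iff.mp (h 1 (QuotientGroup.mk g))
  obtain ⟨k, rfl⟩ := QuotientGroup.mk_surjective k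
  rw [one_mul, inv_one, mul_one] at hk
  have hk' : (QuotientGroup.mk (k * (A * B) * k⁻¹) : _ ⧸ Subgroup.center
      (Matrix.SpecialLinearGroup (Fin d) F)) = QuotientGroup.mk (A * (g * B * g⁻¹)) := hk
  obtain ⟨r, hr1, hr2⟩ := Matrix.SpecialLinearGroup.mem_center_iff.mp 
    ((QuotientGroup.eq (s := Subgroup.center (Matrix.SpecialLinearGroup (Fin d) F))
      (a := k * (A * B) * k⁻¹) (b := A * (g * B * g⁻¹))).mp hk')
  have hr : r ≠ 0 := by
    rintro rfl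
    rw [Fintype.card_fin, zero_pow (by omega)] at hr1
    exact zero_ne_one hr1
  rw [← mul_inv_cancel_left (k * (A * B) * k⁻¹) (A * (g * B * g⁻¹)), Matrix.SpecialLinearGroup.coe_mul,
    ← hr2, Matrix.scalar_apply, ← Matrix.smul_eq_mul_diagonal, Matrix.trace_smul, Matrix.SpecialLinearGroup.coe_mul,
    Matrix.trace_mul_comm, ← Matrix.SpecialLinearGroup.coe_mul, inv_mul_cancel_left, smul_eq_mul,
    mul_eq_zero, or_iff_right hr]

end Cfsg.Agent.S2272
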