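import Cfsg.Statements.S2276
import Cfsg.Agent.Known.AltPD

set_option autoImplicit false
open Cfsg

namespace Cfsg.Agent.S2276


/-- Let n ≥ 5, p ≥ 3 a prime, and u, w non-identity elements of p-power order in the alternating group A_n. Then there is g ∈ A_n such that u·(g w g⁻¹) does not have p-power order and ⟨u, g w g⁻¹⟩ is not solvable. -/
theorem result (n : ℕ) (hn : 5 ≤ n) (p : ℕ) (hp : p.Prime) (hp3 : 3 ≤ p) (u w : alternatingGroup (Fin n)) (hu : u ≠ 1) (hw : w ≠ 1)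
    (hu' : ∃ k : ℕ, orderOf u = p ^ k) (hw' : ∃ k : ℕ, orderOf w = p ^ k) :
    ∃ g : alternatingGroup (Fin n), (¬ ∃ k : ℕ, orderOf (u * (g * w * g⁻¹)) = p ^ k) ∧
      ¬ Group.IsSolvable ↥(Subgroup.closure ({u, g * w * g⁻¹} : Set (alternatingGroup (Fin n)))) := by
  have ho : ∀ x : alternatingGroup (Fin n), orderOf (x : Equiv.Perm (Fin n)) = orderOf x :=
    fun x => Subgroup.orderOf_coe x
  obtain ⟨g, hg, h⟩ := Cfsg.Lib.Known.AltP.main (α := Fin n) (by simpa using hn) hp hp3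
    (σ := u) (τ := w) (fun e => hu (Subtype.ext e)) (fun e => hw (Subtype.ext e))
    (by rwa [ho]) (by rwa [ho])
  let g' : alternatingGroup (Fin n) := ⟨g, Equiv.Perm.mem_alternatingGroup.2 hg⟩
  have e : (alternatingGroup (Fin n)).subtype (g' * w * g'⁻¹) = g * w * g⁻¹ := by
    rw [map_mul, map_mul, map_inv]; rfl
  have h2 : Cfsg.Lib.Known.AltP.Good p u (g' * w * g'⁻¹) := by
    refine Cfsg.Lib.Known.AltP.Good.of_map hp (alternatingGroup (Fin n)).subtype ?_
    rw [e]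
    exact h
  exact ⟨g', h2.1, h2.2⟩

end Cfsg.Agent.S2276
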