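import Cfsg.Statements.S2277
import Cfsg.Agent.Solv.SectionAut
import Cfsg.Agent.Solv.CoprimeGen
import Cfsg.Agent.Solv.CoprimeSylow
import Cfsg.Agent.Solv.Conj

set_option autoImplicit false
open Cfsg

namespace Cfsg.Agent.S2277

open Subgroup Cfsg.Lib.Solv Cfsg.Lib.Solv.Coprime
open scoped commutatorElement Pointwise IsMulCommutative

theorem faithful {A V : Type*} [Group A] [Finite A] [Nontrivial A] {p : ℕ} [hp : Fact p.Prime]
    (hp3 : 3 ≤ p) (hA : IsPGroup p A) [CommGroup V] [Finite V] (φ : A →* MulAut V)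
    (hφ : Function.Injective φ)
    (hirr : ∀ H : Subgroup V, (∀ a, ∀ x ∈ H, φ a x ∈ H) → H = ⊥ ∨ H = ⊤) {C : Set A}
    (hC : closure C = ⊤) : ∃ c ∈ C, Nat.card {v // φ c v = v} ^ 3 ≤ Nat.card V := by
  have hz : ∀ z ∈ center A, z ≠ 1 → ∀ v, φ z v = v → v = 1 := fun z hz h1 v hv => by
    rcases hirr ((φ z).toMonoidHom.eqLocus (MonoidHom.id V)) (fun a x hx => by
      change φ z (φ a x) = φ a x
      rw [← MulAut.mul_apply, ← map_mul, ← mem_center_iff.1 hz, map_mul, MulAut.mul_apply]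
      exact congrArg _ hx) with h | h
    · exact mem_bot.1 (h ▸ hv)
    · exact (h1 (hφ (by rw [map_one]; ext x; exact (h ▸ mem_top x :)))).elim
  by_cases hZ : center A = ⊤
  · obtain ⟨c, hc, h1⟩ : ∃ c ∈ C, c ≠ 1 := by
      by_contra! h
      exact bot_ne_top (top_unique (hC.ge.trans ((closure_le ⊥).2 h)))
    refine ⟨c, hc, ?_⟩
    have : Nat.card {v // φ c v = v} = 1 := Nat.card_eq_one_iff_exists.2
      ⟨⟨1, map_one _⟩, fun v => Subtype.ext (hz c (hZ ▸ mem_top c) h1 v.1 v.2)⟩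
    rw [this, one_pow]; exact Nat.card_pos
  have := QuotientGroup.nontrivial_iff.2 hZ
  have := IsPGroup.center_nontrivial (hA.to_quotient (center A))
  obtain ⟨⟨e, he⟩, h1⟩ := exists_ne (1 : center (A ⧸ center A))
  obtain ⟨e, rfl⟩ := QuotientGroup.mk_surjective e
  obtain ⟨c, hc, h2⟩ : ∃ c ∈ C, ⁅c, e⁆ ≠ 1 := by
    by_contra! h
    refine h1 (Subtype.ext ((QuotientGroup.eq_one_iff e).2 (mem_center_iff.2 fun g => ?_)))
    exact mem_centralizer_singleton_iff.1 ((hC.ge.trans ((closure_le _).2 fun c hc =>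
      mem_centralizer_singleton_iff.2 (commutatorElement_eq_one_iff_mul_comm.1 (h c hc)))) (mem_top g))
  have h3 : ⁅c, e⁆ ∈ center A := by
    rw [← QuotientGroup.eq_one_iff, ← QuotientGroup.mk'_apply, map_commutatorElement,
      commutatorElement_eq_one_iff_mul_comm]
    exact mem_center_iff.1 he _
  set z := ⁅c, e⁆ with hzdef
  have h4 : z * z ≠ 1 := fun h => by
    obtain ⟨k, hk⟩ := IsPGroup.iff_orderOf.1 hA z
    have h5 : orderOf z = 2 := orderOf_eq_prime (by rwa [sq]) h2
    have := (Nat.prime_dvd_prime_iff_eq Nat.prime_two hp.out).1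
      (Nat.prime_two.dvd_of_dvd_pow (hk ▸ h5 ▸ dvd_rfl : 2 ∣ p ^ k))
    omega
  have h5 : ∀ v, φ c (φ e v) = φ z (φ e (φ c v)) := fun v => by
    simp only [← MulAut.mul_apply, ← map_mul, hzdef, commutatorElement_def]
    congr 2; group
  have h6 : ∀ g v, φ g (φ z v) = φ z (φ g v) := fun g v => by
    simp only [← MulAut.mul_apply, ← map_mul, mem_center_iff.1 h3 g]
  refine ⟨c, hc, ?_⟩
  let F := (φ c).toMonoidHom.eqLocus (MonoidHom.id V)
  let f : F × F × F →* V := F.subtype.coprod (((φ e).toMonoidHom.comp F.subtype).coprod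
    ((φ e).toMonoidHom.comp ((φ e).toMonoidHom.comp F.subtype)))
  have h7 : Function.Injective f := by
    rw [injective_iff_map_eq_one]
    rintro ⟨⟨a, ha⟩, ⟨b, hb⟩, d, hd⟩ h
    change φ c a = a at ha
    change φ c b = b at hb
    change φ c d = d at hd
    change a * (φ e b * φ e (φ e d)) = 1 at h
    have e1 : φ c (φ e b) = φ z (φ e b) := by rw [h5, hb]
    have e2 : φ c (φ e (φ e d)) = φ z (φ z (φ e (φ e d))) := by rw [h5, h5, hd, h6]
    have e3 : φ e (φ e d) = 1 → φ e b = 1 → ((⟨a, ha⟩, ⟨b, hb⟩, ⟨d, hd⟩) : F × F × F) = 1 := by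
      intro u v
      rw [u, v, mul_one, mul_one] at h
      simp only [map_eq_one_iff _ (φ e).injective] at u v
      subst h u v; rfl
    generalize φ e b = w1 at *
    generalize φ e (φ e d) = w2 at *
    have e4 := congrArg (φ c) h
    rw [map_mul, map_mul, ha, e1, e2, map_one, ← h, mul_right_inj] at e4
    have e5 := hz z h3 h2 (w1 * w2 * φ z w2) (by
      rw [map_mul, map_mul, mul_right_comm, e4])
    have e6 := congrArg (φ c) e5
    rw [map_mul, map_mul, h6, e1, e2, ← map_mul, ← map_mul, map_one,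
      map_eq_one_iff _ (φ z).injective, ← e5, mul_right_comm w1 w2, mul_right_inj] at e6
    have e7 := hz _ (mul_mem h3 h3) h4 w2 (by rw [map_mul]; exact e6)
    exact e3 e7 (by simpa [e7] using e5)
  have h8 := Nat.card_le_card_of_injective f h7
  rwa [Nat.card_prod, Nat.card_prod, ← mul_assoc, ← pow_three'] at h8

theorem irr {A V : Type*} [Group A] [Finite A] {p : ℕ} [hp : Fact p.Prime]
    (hp3 : 3 ≤ p) (hA : IsPGroup p A) [CommGroup V] [Finite V] (φ : A →* MulAut V)
    (hφ : φ.ker ≠ ⊤)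
    (hirr : ∀ H : Subgroup V, (∀ a, ∀ x ∈ H, φ a x ∈ H) → H = ⊥ ∨ H = ⊤) {C : Set A}
    (hC : closure C = ⊤) : ∃ c ∈ C, Nat.card {v // φ c v = v} ^ 3 ≤ Nat.card V := by
  have : Nontrivial φ.range := (nontrivial_iff_ne_bot _).2 fun h => hφ (by
    rwa [MonoidHom.range_eq_bot_iff, ← MonoidHom.ker_eq_top_iff] at h)
  obtain ⟨_, ⟨c, hc, rfl⟩, h⟩ := faithful hp3 (hA.of_surjective _ φ.rangeRestrict_surjective)
    φ.range.subtype (subtype_injective _) (fun H h => hirr H fun a => h (φ.rangeRestrict a))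
    (C := φ.rangeRestrict '' C) (by
      rw [← MonoidHom.map_closure, hC, map_top_of_surjective _ φ.rangeRestrict_surjective])
  exact ⟨c, hc, h⟩

/-- Let p ≥ 3 be prime and G a finite group with a Sylow p-subgroup P and a normal p-complement N (N normal, of order prime to p, with NP = G). Suppose P is generated by a subset C and also by a subset D, and that ⟨x c x⁻¹, d⟩ is a p-group for all x ∈ N, c ∈ C, d ∈ D. Then P centralizes N, so that G = N × P. -/
theorem result {G : Type*} [Group G] [Finite G] (p : ℕ) [Fact p.Prime] (hp3 : 3 ≤ p) (P : Sylow p G)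
    (N : Subgroup G) [N.Normal] (hN : (Nat.card N).Coprime p) (hNP : N ⊔ (P : Subgroup G) = ⊤)
    (C D : Set G) (hC : Subgroup.closure C = (P : Subgroup G)) (hD : Subgroup.closure D = (P : Subgroup G))
    (h : ∀ x ∈ N, ∀ c ∈ C, ∀ d ∈ D, IsPGroup p ↥(Subgroup.closure ({x * c * x⁻¹, d} : Set G))) :
    ⁅(P : Subgroup G), N⁆ = ⊥ := by
  have hP := P.isPGroup'
  have hs := isSolvable_of_isPGroup hP
  have hcop : (Nat.card (P : Subgroup G)).Coprime (Nat.card N) := by
    obtain ⟨k, hk⟩ := IsPGroup.iff_card.1 hP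
    exact hk ▸ hN.symm.pow_left k
  refine commutator_eq_bot_iff_le_centralizer.2 (le_centralizer_iff.1
    (le_of_forall_invariant_pgroup_le le_normalizer_of_normal hcop (Or.inl hs) fun q _ R hRN hR hn => ?_))
  have hc := hcop_mono hcop le_rfl hRN
  by_contra hne
  obtain ⟨M, h1, h2, h3, h4, h5⟩ := exists_maximal_invariant hR.isNilpotent hn
    (H := R ⊓ centralizer (P : Subgroup G)) (inf_lt_left.2 hne) (le_normalizer_inf_centralizer hn le_normalizer)
  have := (normal_subgroupOf_iff_le_normalizer h2.le).2 (le_normalizer_of_commutator_le h2.le h4)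
  have := isMulCommutative_section h4
  have hk : (sectionAut hn h3).ker ≠ ⊤ := fun e => by
    have h6 := commutator_map_ker_sectionAut_le hn h3
    rw [e, ← MonoidHom.range_eq_map, range_subtype] at h6
    exact h2.not_ge ((commutator_sup_centralizer hn hc (Or.inl hs)).ge.trans (sup_le h6 h1))
  have hcl : ∀ C : Set G, closure C = P → closure ((P : Subgroup G).subtype ⁻¹' C) = ⊤ := fun C e => by
    apply map_injective (P : Subgroup G).subtype_injective
    rw [MonoidHom.map_closure, Set.image_preimage_eq_of_subset, e, ← MonoidHom.range_eq_map,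
      range_subtype]
    exact fun x hx => ⟨⟨x, e ▸ subset_closure hx⟩, rfl⟩
  obtain ⟨c, hc1, hc2⟩ := irr hp3 hP (sectionAut hn h3) hk (sectionAut_irreducible hn h3 h2.le h5) (hcl C hC)
  obtain ⟨d, hd1, hd2⟩ := irr hp3 hP (sectionAut hn h3) hk (sectionAut_irreducible hn h3 h2.le h5) (hcl D hD)
  have hfix : ∀ (c : (P : Subgroup G)) (k : R), k * (c : G) * (k : G)⁻¹ ∈ (P : Subgroup G) →
      sectionAut hn h3 c (QuotientGroup.mk k) = QuotientGroup.mk k := fun c k hk => by
    have h6 : (k : G) * c * (k : G)⁻¹ * (c : G)⁻¹ ∈ (P : Subgroup G) ⊓ R := mem_inf.2 ⟨mul_mem hk (inv_mem c.2), by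
      simpa [mul_assoc] using mul_mem k.2 (conj_mem hn c.2 (inv_mem k.2))⟩
    rw [(disjoint_of_coprime_natCard hc).eq_bot, mem_bot] at h6
    rw [sectionAut_mk]
    congr 1
    ext
    rw [coe_conjAutOf_apply, ← one_mul (_ * _ * _), ← h6]; group
  have hsurj : Function.Surjective fun x : {v // sectionAut hn h3 d v = v} ×
      {v // sectionAut hn h3 c v = v} => x.1.1⁻¹ * x.2.1 := fun x => by
    obtain ⟨x, rfl⟩ := QuotientGroup.mk_surjective x
    have h6 := h x (hRN x.2) c hc1 d hd1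
    have h7 : closure ({(x : G) * c * (x : G)⁻¹, (d : G)} : Set G) ≤ R ⊔ P := (closure_le _).2 (by
      rintro _ (rfl | rfl)
      · exact mul_mem (mul_mem (mem_sup_left x.2) (mem_sup_right c.2)) (inv_mem (mem_sup_left x.2))
      · exact mem_sup_right d.2)
    obtain ⟨k, hk, h8⟩ := exists_conj_le (L := P) (h7.trans (sup_le le_normalizer hn)) (by
      obtain ⟨k, hk⟩ := IsPGroup.iff_card.1 h6
      exact hk ▸ (hN.symm.pow_left k).coprime_dvd_right (card_dvd_of_le hRN))
      (Or.inl (isSolvable_of_isPGroup h6)) fun a ha => by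
        obtain ⟨k, hk, b, hb, rfl⟩ := (mem_sup_iff hn).1 (h7 ha)
        exact ⟨k⁻¹, inv_mem hk, by simpa using hb⟩
    refine ⟨⟨⟨_, hfix d ⟨k, hk⟩ (h8 (Coprime.conj_mem_conj_smul k (subset_closure (by simp))))⟩,
      ⟨_, hfix c (⟨k, hk⟩ * x) ?_⟩⟩, by simp⟩
    have := h8 (Coprime.conj_mem_conj_smul k (subset_closure (Set.mem_insert _ _)))
    simpa [mul_assoc] using this
  have h6 := Nat.pow_le_pow_left (Nat.card_le_card_of_surjective _ hsurj) 3
  rw [Nat.card_prod, mul_pow] at h6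
  have h7 := h6.trans (Nat.mul_le_mul hd2 hc2)
  have : Nontrivial (R ⧸ M.subgroupOf R) := QuotientGroup.nontrivial_iff.2 fun e =>
    h2.not_ge (subgroupOf_eq_top.1 e)
  have h8 := Finite.one_lt_card (α := R ⧸ M.subgroupOf R)
  rw [← sq] at h7
  exact absurd h7 (Nat.pow_lt_pow_right h8 (by norm_num)).not_ge

end Cfsg.Agent.S2277
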