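import Cfsg.Statements.S2339
import Cfsg.Agent.Char.MDBnd
import Cfsg.Agent.Char.MDTabE8

set_option autoImplicit false
open Cfsg

universe u

namespace Cfsg.Agent.S2339

open Cfsg.Lie Cfsg.Lib.Chev Cfsg.Lib.Char.MD

set_option maxRecDepth 100000

instance : NeZero chevE8.nroots := ⟨by decide⟩

/-- the roots of type `E₈` -/
noncomputable abbrev R : RS (Fin chevE8.nroots) := tabE8.rs rootE8

/-- the subsystem of type `E₇` -/
abbrev E7 : Set (Fin chevE8.nroots) := {r | r ∈ Set.univ ∧ R.p 239 r = 0}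

/-- the subsystem of type `E₆` -/
abbrev E6 : Set (Fin chevE8.nroots) := {r | r ∈ E7 ∧ R.p 238 r = 0}

theorem cl7 : R.Cl E7 := RS.Cl.lev (Ψ := Set.univ) (fun _ _ _ _ => trivial) (R.add_p _)

variable (F : Type*) [Field F] [Fintype F] {q : ℕ} (hq : Fintype.card F = q)

include hq

theorem b5 : Bnd.{u} R {r | r ∈ E6 ∧ R.p 204 r = 0} F (q ^ 5) (q * (q ^ 4 + q ^ 3 + q ^ 2 + q + 1)) := by
  have h : 1 < q := hq ▸ Fintype.one_lt_card
  subst hq
  refine Bnd.base (κ := Fin 6) (by decide)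
    ![![0, 123, 127, 132, 138, 166], ![116, 0, 126, 131, 137, 165], ![112, 113, 0, 130, 136, 164], ![107, 108, 109, 0, 135, 163], ![101, 102, 103, 104, 0, 162], ![73, 74, 75, 76, 77, 0]]
    ![![1, 1, 1, 1, 1, 1], ![1, 1, 1, 1, 1, 1], ![1, 1, 1, 1, 1, 1], ![1, 1, 1, 1, 1, 1], ![1, 1, 1, 1, 1, 1], ![1, 1, 1, 1, 1, 1]]
    (by decide +kernel) (by decide +kernel) (by decide +kernel)
    (a := 0) (b := 1) (by decide) rfl (by positivity) ?_
  zify [h.le]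
  simp only [Fintype.card_fin]
  ring

theorem b6 : Bnd.{u} R E6 F (q ^ 11) (q ^ 11 + q ^ 8 + q ^ 7 + q ^ 5 + q ^ 4 + q - 1) := by
  have h : 1 < q := hq ▸ Fintype.one_lt_card
  refine (Bnd.heis (cl7.lev (R.add_p _)) (tabE8.add_code rootE8) (code_injective rootE8) (code_lt rootE8)
    (α := 204) (β := 144) (δ := 166) (by decide +kernel) (by decide +kernel) (by decide +kernel)
    (a := 9) (by decide +kernel) (by decide +kernel) (by decide +kernel) (by decide +kernel)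
    (b := 7) (b5 F hq) (L := [0, 1, 2, 3, 2, 3, 4, 4, 5, 6, 3, 4, 5, 5, 6, 7, 6, 7, 8, 9])
    (L' := [5, 6, 7, 7, 8, 9]) (by decide +kernel) (by decide +kernel) (by decide +kernel) hq
    (by zify [h.le]; simp; ring)).mono (Nat.sub_le_of_le_add (le_of_eq ?_))
  zify [h.le]
  simp
  ring

theorem b7 : Bnd.{u} R E7 F (q ^ 17) (q ^ 17 + q ^ 13 + q ^ 11 + q ^ 9 + q ^ 7 + q ^ 5 + q - 2) := by
  have h : 1 < q := hq ▸ Fintype.one_lt_card
  refine (Bnd.step' cl7 (R.add_p 238) (by decide +kernel) (tabE8.add_code rootE8) (code_injective rootE8)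
    (code_lt rootE8) (δ := 204) (a := 16) (by decide +kernel) (b6 F hq)
    (L := [0, 1, 2, 3, 4, 4, 5, 6, 7, 8, 5, 6, 7, 8, 9, 8, 9, 10, 10, 11, 12, 11, 12, 13, 14, 15, 16])
    (L' := [11, 12, 13, 14, 15, 16]) (by decide +kernel) (by decide +kernel) hq
    (by zify [h.le]; simp; ring)).mono (Nat.sub_le_of_le_add (le_of_eq ?_))
  zify [h.le, show 1 ≤ q ^ 11 + q ^ 8 + q ^ 7 + q ^ 5 + q ^ 4 + q by omega]
  simp
  ring

omit hq

theorem small : ∀ q < 700, 2 ≤ q → ∀ j < 4, 0 < j →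
    ¬ q * ((q ^ 12 + 1) * (q ^ 10 + 1) * (q ^ 6 + 1)) - j ∣
      q * ((q ^ 12 + 1) * (q ^ 10 + 1) * (q ^ 6 + 1)) * ((q ^ 30 - 1) * q ^ 28) := by decide +kernel

theorem big {q j : ℕ} (h : 700 ≤ q) (hj : j < 4) : j ^ (28 + 1) * (q ^ 24 + q ^ 20 + q ^ 18 + q ^ 14 +
    q ^ 12 + q ^ 8 + q ^ 2 + 1) + j < q * ((q ^ 12 + 1) * (q ^ 10 + 1) * (q ^ 6 + 1)) := by
  have h1 : j ^ (28 + 1) ≤ 3 ^ 29 := Nat.pow_le_pow_left (by omega) _
  have h2 : ∀ k ≤ 23, q ^ k ≤ q ^ 23 := fun k hk => Nat.pow_le_pow_right (by omega) hk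
  have h3 : 700 * q ^ 23 ≤ q ^ 24 := by rw [pow_succ' q 23]; gcongr
  have h4 : 700 ^ 5 * q ^ 24 ≤ q ^ 29 := by rw [show q ^ 29 = q ^ 5 * q ^ 24 by ring]; gcongr
  have := h2 20 (by omega)
  have := h2 18 (by omega)
  have := h2 14 (by omega)
  have := h2 12 (by omega)
  have := h2 8 (by omega)
  have := h2 2 (by omega)
  have := Nat.one_le_pow 23 q (by omega)
  refine lt_of_le_of_lt (Nat.add_le_add_right (Nat.mul_le_mul_right _ h1) _) ?_
  rw [show q * ((q ^ 12 + 1) * (q ^ 10 + 1) * (q ^ 6 + 1)) =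
    q ^ 29 + q ^ 23 + q ^ 19 + q ^ 17 + q ^ 13 + q ^ 11 + q ^ 7 + q by ring]
  omega

/-- For the Chevalley group of type E₈ over a finite field with q elements, every irreducible complex representation of degree at least 2 has degree at least q(q¹² + 1)(q¹⁰ + 1)(q⁶ + 1). -/
theorem result {F : Type*} [Field F] [Fintype F] (k : ℕ) (ρ : Representation ℂ (Cfsg.Lie.chevE8.group F) (Fin k → ℂ)) (hρ : ρ.IsIrreducible) (hk : 2 ≤ k) :
    Fintype.card F * (Fintype.card F ^ 12 + 1) * (Fintype.card F ^ 10 + 1) * (Fintype.card F ^ 6 + 1) ≤ k := by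
  obtain ⟨C, -⟩ := (Core.cert_root_of_mem (D := chevE8) (by simp)).some
  have hq : 1 < Fintype.card F := Fintype.one_lt_card
  have := tabE8.top rootE8 C (α := 239) (β := 168) (δ := 226) (j := (7 : Fin 8)) (by decide +kernel)
    (J := ([6, 5, 0, 4, 1, 2, 3] : List (Fin 8))) (by decide) (by decide) (hasC_E8 rootE8)
    (by decide +kernel) (by decide +kernel) (a := 27) (by decide +kernel)
    (by decide +kernel) (by decide +kernel) (by decide +kernel) (b := 22)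
    (b7 F rfl) (L := [0, 1, 2, 3, 4, 5, 5, 6, 7, 8, 9, 10, 6, 7, 8, 9, 10, 11, 9, 10, 11, 12, 11, 12, 13, 13, 14, 15, 12, 13, 14, 14, 15, 16, 15, 16, 17, 18, 16, 17, 18, 19, 20, 21, 17, 18, 19, 20, 21, 22, 22, 23, 24, 25, 26, 27])
    (L' := [17, 18, 19, 20, 21, 22, 22, 23, 24, 25, 26, 27]) (by decide +kernel) (by decide +kernel)
    (by decide +kernel) rfl (by zify [hq.le]; simp; ring) ρ hρ hk
  rw [show polyOf _ = [1, 1, 1, 1, 1, 1, 2, 2, 2, 2, 3, 3, 4, 4, 4, 4, 5, 5, 6, 6, 6, 6, 7, 7, 7, 7, 7, 7, 8, 8, 7, 7, 7, 7, 7, 7, 6, 6, 6, 6, 5, 5, 4, 4, 4, 4, 3, 3, 2, 2, 2, 2, 1, 1, 1, 1, 1, 1] by decide +kernel] at this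
  generalize Fintype.card F = q at *
  by_contra h
  rw [mul_assoc, mul_assoc, ← mul_assoc (q ^ 12 + 1), not_le] at h
  rcases this with h1 | ⟨h1, h2⟩
  · obtain ⟨r, rfl⟩ : ∃ r, q = r + 2 := ⟨q - 2, by omega⟩
    rw [show r + 2 - 1 = r + 1 from rfl] at h1
    ring_nf at h h1
    omega
  have h3 : q * ((q ^ 12 + 1) * (q ^ 10 + 1) * (q ^ 6 + 1)) ≤ k + 3 := by
    refine le_trans (le_of_eq ?_) (Nat.add_le_add_right h1 3)
    zify [hq.le, show 2 ≤ q ^ 17 + q ^ 13 + q ^ 11 + q ^ 9 + q ^ 7 + q ^ 5 + q by omega]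
    simp
    ring
  replace h2 : k ∣ q * ((q ^ 12 + 1) * (q ^ 10 + 1) * (q ^ 6 + 1)) * ((q ^ 30 - 1) * q ^ 28) := by
    refine h2.trans (dvd_of_eq ?_)
    simp only [evalP_cons, evalP_nil]
    zify [hq.le, Nat.one_le_pow 30 q (by omega)]
    ring
  clear h1
  obtain ⟨j, hj⟩ := Nat.exists_eq_add_of_le h.le
  rcases Nat.lt_or_ge q 700 with h4 | h4
  · exact small q h4 hq j (by omega) (by omega) (by rwa [Nat.sub_eq_of_eq_add hj])
  · refine not_dvd_of' hj.symm (by omega) (by ring) ?_ (big h4 (by omega)) h2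
    have : q * j ≤ q ^ 2 := by rw [sq]; exact Nat.mul_le_mul_left _ (by omega)
    omega

end Cfsg.Agent.S2339
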