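import Cfsg.Statements.S2362
import Cfsg.Agent.Known.SpecO
import Cfsg.Agent.Class.Zsigmondy

set_option autoImplicit false
open Cfsg

namespace Cfsg.Agent.S2362

open Cfsg.Lib.Known Cfsg.Lib.Class Polynomial

section Aux

variable {F : Type*} [Field F] [Fintype F]

/-- Half the order of the cyclic torus of rank `k` whose order is divisible by `r`. -/
def halfT (q k r : ℕ) : ℕ := if r ∣ q ^ k - 1 then (q ^ k - 1) / 2 else (q ^ k + 1) / 2

theorem halfT_spec (hodd : Odd (Fintype.card F)) {θ : Ec F} (hθ : θ ≠ 0) {r k : ℕ} (hr : r.Prime)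
    (hr2 : r ≠ 2) (h : r ∣ orderOf θ) (hk : pdeg (RingHom.id F) θ = 2 * k) :
    θ ^ (2 * halfT (Fintype.card F) k r) = 1 ∧ (tEv (-1) (piece (RingHom.id F) θ 1) = 1 ↔
      θ ^ halfT (Fintype.card F) k r = 1) := by
  have h20 := two_ne_zero_of_odd_card hodd
  have h2 := sq_ne_one_of_prime_dvd hθ hr hr2 h
  obtain ⟨M, hM⟩ := hodd.pow (n := k)
  unfold halfT
  rcases (pdeg_id_dvd_iff hθ h2 k).mp (hk ▸ dvd_rfl) with h1 | h1
  · have h3 : θ ^ (2 * M) = 1 := mul_right_cancel₀ hθ (by rw [← pow_succ, ← hM, h1, one_mul])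
    rw [if_pos (h.trans (orderOf_dvd_of_pow_eq_one (by rw [hM]; exact h3))),
      show (Fintype.card F ^ k - 1) / 2 = M by omega]
    exact ⟨h3, tEv_neg_one_piece_plus h20 hθ h2 hk hM h1⟩
  · have h3 : θ ^ (Fintype.card F ^ k + 1) = 1 := by rw [pow_succ, h1, inv_mul_cancel₀ hθ]
    rw [if_neg fun h4 => not_dvd_sub_and_add hr hr2 (by omega) h4
      (h.trans (orderOf_dvd_of_pow_eq_one h3)), show (Fintype.card F ^ k + 1) / 2 = M + 1 by omega]
    exact ⟨by rw [← h3, hM]; rfl, tEv_neg_one_piece_minus h20 hθ h2 hk hM h1⟩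

theorem two_mul_le_elDeg {t : Multiset (F[X] × ℕ)} (ht : NoPM t) {x : F[X] × ℕ} (hx : x ∈ t) :
    2 * x.2 ≤ elDeg t := by
  obtain ⟨θ, u, h0, h2, -, h⟩ := ht.exists_piece_add_of_mem hx
  rw [h, elDeg_add, elDeg_piece h0]
  exact (Nat.mul_le_mul_right _ (two_le_pdeg_id h0 h2)).trans (Nat.le_add_right _ _)

theorem prime_dvd_gOrd {p r a c : ℕ} (hp : p.Prime) (hr : r.Prime) (hr2 : r ≠ 2) (hrp : r ≠ p)
    (h : r ∣ a * p ^ c * 2) : r ∣ a := by
  rcases hr.dvd_mul.mp h with h | h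
  · exact (hr.dvd_mul.mp h).resolve_right fun h =>
      hrp ((Nat.prime_dvd_prime_iff_eq hr hp).mp (hr.dvd_of_dvd_pow h))
  · exact absurd ((Nat.prime_dvd_prime_iff_eq hr Nat.prime_two).mp h) hr2

theorem exists_prime (p : ℕ) [Fact p.Prime] [CharP F p] (hodd : Odd (Fintype.card F)) {k : ℕ}
    (hk : 2 ≤ k) : ∃ r : ℕ, r.Prime ∧ r ≠ 2 ∧ r ≠ p ∧
      etaO (orderOf (Fintype.card F : ZMod r)) = k ∧ Odd (halfT (Fintype.card F) k r) := by
  have key : ∀ m, 3 ≤ m → ∃ r : ℕ, r.Prime ∧ r ≠ 2 ∧ r ≠ p ∧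
      orderOf (Fintype.card F : ZMod r) = m := fun m hm => by
    obtain ⟨r, hr, h⟩ := zsigmondy (Fintype.one_lt_card (α := F)) (n := m) (by omega)
      (fun h => by rw [h.1] at hodd; exact absurd hodd (by decide)) (by omega)
    refine ⟨r, hr, ?_, ?_, h⟩
    · rintro rfl
      rw [(ZMod.natCast_eq_one_iff_odd).mpr hodd, orderOf_one] at h
      omega
    · rintro rfl
      obtain ⟨n, -, hn⟩ := FiniteField.card F r
      rw [hn, Nat.cast_pow, ZMod.natCast_self, zero_pow n.ne_zero, orderOf_zero] at h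
      omega
  obtain ⟨M, hM⟩ := hodd.pow (n := k)
  unfold halfT etaO
  rcases Nat.even_or_odd M with h | h
  · obtain ⟨r, h1, h2, h3, h4⟩ := key (2 * k) (by omega)
    refine ⟨r, h1, h2, h3, by rw [h4, if_neg (by simp)]; omega, ?_⟩
    rw [if_neg fun h5 => by
      have := Nat.le_of_dvd (by omega) (h4 ▸ (dvd_pow_sub_one_iff Fintype.card_ne_zero r k).mp h5)
      omega, show (Fintype.card F ^ k + 1) / 2 = M + 1 by omega]
    exact h.add_one
  · have hko : Odd k := by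
      refine Nat.not_even_iff_odd.mp fun ⟨j, hj⟩ => ?_
      obtain ⟨a, ha⟩ := hodd.pow (n := j)
      obtain ⟨b, rfl⟩ := h
      rw [hj, pow_add, ha] at hM
      have : 2 * (a * a + a) = 2 * b + 1 := by nlinarith
      omega
    obtain ⟨r, h1, h2, h3, h4⟩ := key k (by obtain ⟨j, hj⟩ := hko; omega)
    refine ⟨r, h1, h2, h3, by rw [h4, if_pos hko], ?_⟩
    rwa [if_pos ((dvd_pow_sub_one_iff Fintype.card_ne_zero r k).mpr (h4 ▸ dvd_rfl)),
      show (Fintype.card F ^ k - 1) / 2 = M by omega]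

end Aux

/-- Let F be a finite field of odd order and n ≥ 3. The simple orthogonal group PΩ(2n+1, F) (type B_n) and the projective symplectic group PSp(2n, F) (type C_n), which have the same order, do not have the same set of element orders. -/
theorem result {F : Type*} [Field F] [Fintype F] (hodd : Odd (Fintype.card F)) (n : ℕ) (hn : 3 ≤ n) :
    Set.range (orderOf : Cfsg.POmega F (Cfsg.quadFormOdd n F) → ℕ) ≠ Set.range (orderOf : Cfsg.PSp n F → ℕ) := by
  obtain ⟨p, hc⟩ := CharP.exists F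
  have hp := CharP.char_is_prime F p
  have : Fact p.Prime := ⟨hp⟩
  have h20 := two_ne_zero_of_odd_card hodd
  have hpo := odd_char p h20
  obtain ⟨k, rfl⟩ : ∃ k, n = k + 1 := ⟨n - 1, by omega⟩
  obtain ⟨r, hr, hr2, hrp, hη, hT⟩ := exists_prime p hodd (k := k) (by omega)
  have h1 : r * p * 2 ∈ Set.range (orderOf : PSp (k + 1) F → ℕ) := by
    obtain ⟨θ, h0, h2, hθ, hd⟩ := exists_piece_prime (K := F) p hr hr2 hrp
    have hs := (spReal_piece h0 h2 one_pos).add (spReal_X_sub_one (F := F) one_pos)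
    have ho := (hr.odd_of_ne_two hr2).mul hpo
    refine mul_mem_spec_PSp_of_add h20 (spReal_piece h0 h2 one_pos) (spReal_X_sub_one one_pos)
      (piece_ne_zero _ _) (by simp) ?_ (hs.dvd_tOrd_of_odd ho
        (((Nat.coprime_primes hr hp).mpr hrp).mul_dvd_of_dvd_of_dvd
          (hθ ▸ hs.isGLType.orderOf_dvd_gOrd (eig_add.mpr (Or.inl (eig_piece_self _ _)))) ?_))
      ho.not_two_dvd_nat
    · rw [elDeg_piece h0, hd, hη, elDeg_singleton, natDegree_X_sub_one]
      ring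
    · simpa using hs.isGLType.pow_succ_dvd_gOrd p (x := (X - 1, 2 * 1)) (a := 0) (by simp) (by simp)
  intro h
  rw [← h, mem_spec_POmega_odd_iff p hodd (by omega)] at h1
  obtain ⟨s, n₁, n₂, c, hs, hN, he, h3, -, h4, h5⟩ := h1
  have h6 := h5 (gOrd s * p ^ c * 2) (Dvd.intro _ (mul_assoc _ _ _).symm)
    ((dvd_mul_left _ _).mul_right _) fun _ => dvd_mul_left _ _
  obtain ⟨θ, h7, h8⟩ := hs.1.exists_eig_of_prime_dvd p hr hrp
    (prime_dvd_gOrd hp hr hr2 hrp (((dvd_mul_right _ _).mul_right _).trans h6))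
  have h0 := h7.ne_zero hs.1
  obtain ⟨e, t, he0, ht, rfl⟩ := hs.exists_piece_add h7
  obtain ⟨a, ha0, ha⟩ := exists_pdeg_eq h0 (hs.sq_ne_one h7)
  obtain ⟨u, hu⟩ := hη ▸ eta_dvd_of_pdeg h0 (hs.sq_ne_one h7) hr h8 ha
  rw [elDeg_add, elDeg_piece h0, ha, hu] at hN
  obtain ⟨rfl, rfl⟩ : u = 1 ∧ e = 1 := by
    have h9 : u * e ≤ 1 := by
      by_contra h9
      have : k * 2 ≤ k * (u * e) := Nat.mul_le_mul_left _ (by omega)
      nlinarith
    have : u ≠ 0 := by rintro rfl; omega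
    exact mul_eq_one.mp (le_antisymm h9 (Nat.mul_pos (by omega) he0))
  have h9 : c ≠ 0 := by
    rintro rfl
    obtain ⟨x, hx, h9⟩ := hs.1.exists_two_le_of_char_dvd p
      ((Nat.coprime_two_right.mpr hpo).dvd_of_dvd_mul_right
        (by simpa using ((dvd_mul_left _ _).mul_right _).trans h6))
    rcases Multiset.mem_add.mp hx with hx | hx
    · rw [snd_of_mem_piece hx] at h9
      omega
    · have := two_mul_le_elDeg ht hx
      omega
  have h10 := pow_pos hp.pos (c - 1)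
  rw [Nat.even_iff] at he
  obtain rfl := ht.eq_zero_of_elDeg (by omega)
  obtain rfl : n₂ = 0 := by omega
  rw [add_zero] at h3 h5
  have h11 := (halfT_spec hodd h0 hr hr2 h8 (k := k) (by omega)).2.mp (h3 rfl)
  exact (hT.mul hpo.pow).not_two_dvd_nat ((dvd_mul_left _ _).trans (h5 _ (gOrd_piece_one h0 ▸
    (orderOf_dvd_of_pow_eq_one h11).mul_right _) (dvd_mul_left _ _) fun h => absurd rfl h))

end Cfsg.Agent.S2362
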