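import Cfsg.Statements.S2364
import Mathlib
import Cfsg.Agent.S2470

set_option autoImplicit false
open Cfsg

namespace Cfsg.Agent.S2364

open Polynomial Cfsg.Lib.Known

/-- Let F be a finite field of characteristic p, n ≥ 4, and let a, b be commuting elements of PSL(n, F) with a of order p. Then every prime divisor of the order of b divides the order of SL(n − 2, F). -/
theorem result {F : Type*} [Field F] [Fintype F] (p : ℕ) [Fact p.Prime] [CharP F p] (n : ℕ) (hn : 4 ≤ n)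
    (a b : Matrix.ProjectiveSpecialLinearGroup (Fin n) F) (ha : orderOf a = p) (hab : Commute a b) :
    (orderOf b).primeFactors ⊆ (Nat.card (Matrix.SpecialLinearGroup (Fin (n - 2)) F)).primeFactors := by
  have hp : p.Prime := Fact.out
  intro r hr
  obtain ⟨hr, hrb, -⟩ := Nat.mem_primeFactors.mp hr
  refine Nat.mem_primeFactors.mpr ⟨hr, ?_, Nat.card_pos.ne'⟩
  have hPSL : ∀ m, m ∈ Set.range (orderOf : Matrix.ProjectiveSpecialLinearGroup (Fin (n - 2)) F → ℕ) →
      m ∣ Nat.card (Matrix.SpecialLinearGroup (Fin (n - 2)) F) := by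
    rintro _ ⟨x, rfl⟩
    exact (orderOf_dvd_natCard x).trans (Subgroup.card_quotient_dvd_card _)
  by_cases hrp : r = p
  · subst hrp
    have ht := isGLType_X_sub_one (K := F) Nat.zero_lt_two
    refine hPSL _ (mem_spec_PSL_of_type_le ht (tDet_X_sub_one 2) (by omega) ?_)
    simpa using ht.pow_succ_dvd_tOrd r (x := (X - 1, 2)) (a := 0) (by simp) (by simp)
  by_cases hrq : r ∣ Fintype.card F - 1
  · obtain ⟨c, hc0, hc⟩ := exists_orderOf_eq_of_dvd_card_sub_one hrq
    have ht := isGLType_add_ones (isGLType_add (isGLType_X_sub_C hc0 Nat.one_pos)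
      (isGLType_X_sub_C (inv_ne_zero hc0) Nat.one_pos)) (show 1 + 1 ≤ n - 2 by omega)
    obtain ⟨g, hg⟩ := exists_SL_elDivM_eq' (n := Fin (n - 2)) (by rw [Fintype.card_fin]; exact ht) (by
      rw [tDet_add_ones, tDet_add, tDet_X_sub_C, tDet_X_sub_C]; simp [hc0])
    refine Dvd.dvd.trans ?_ (orderOf_dvd_natCard g)
    have h1 : (g : Matrix (Fin (n - 2)) (Fin (n - 2)) F) ^ orderOf g = (1 : F) • 1 := by
      rw [← Matrix.SpecialLinearGroup.coe_pow, pow_orderOf_eq_one, one_smul]; rfl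
    have h2 := (pow_eq_smul_one_iff _ _ _).mp h1 (X - C c, 1) (by rw [hg]; simp)
    rw [pow_one, dvd_iff_isRoot] at h2
    rw [← hc, orderOf_dvd_iff_pow_eq_one]
    simpa [sub_eq_zero] using h2
  have hr2 : r ≠ 2 := by
    rintro rfl
    obtain ⟨f, -, hf⟩ := FiniteField.card F p
    have := (hp.odd_of_ne_two (Ne.symm hrp)).pow (n := f)
    rw [← hf] at this
    exact hrq (Nat.Odd.sub_odd this odd_one).two_dvd
  obtain ⟨b', hb'⟩ : ∃ b', orderOf b' = r ∧ Commute a b' :=
    ⟨b ^ (orderOf b / r), orderOf_pow_orderOf_div (orderOf_pos b).ne' hrb, hab.pow_right _⟩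
  have hc : r.Coprime p := (Nat.coprime_primes hr hp).mpr hrp
  have h1 : orderOf (b' * a) = r * p := by
    rw [hb'.2.symm.orderOf_mul_eq_mul_orderOf_of_coprime (by rwa [hb'.1, ha]), hb'.1, ha]
  have h2 := (Cfsg.Agent.S2470.result p n (by omega) (by omega) r hr hr2 hrp
    (hb'.1 ▸ orderOf_dvd_natCard b') _ rfl).not.mp (not_not.mpr ⟨_, h1⟩)
  have h3 : orderOf (Fintype.card F : ZMod r) ≤ n - 2 := by
    by_contra h
    exact h2 (Or.inl (by omega))
  have hcast : (r : F) ≠ 0 := fun h =>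
    hrp ((Nat.prime_dvd_prime_iff_eq hp hr).mp ((CharP.cast_eq_zero_iff F p r).mp h)).symm
  obtain ⟨ζ, hζ⟩ := exists_orderOf_eq_ec (K := F) hcast
  have hζ0 : ζ ≠ 0 := ne_zero_of_orderOf_pos (hζ ▸ hr.pos)
  have h4 := orderOf_zmod_dvd_natDegree hζ0 (hζ ▸ dvd_rfl : r ∣ orderOf ζ)
  have h5 : orderOf (Fintype.card F : ZMod r) ≠ 0 := fun h => by
    have := natDegree_minpoly_ec_pos ζ
    rw [h, zero_dvd_iff] at h4
    omega
  have h6 : (minpoly F ζ).natDegree ∣ orderOf (Fintype.card F : ZMod r) :=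
    natDegree_minpoly_dvd_of_orderOf_dvd (hζ ▸
      (Cfsg.Agent.S2468.dvd_pow_sub_one_iff Fintype.card_pos).mpr dvd_rfl)
  have hrc := (Nat.Prime.coprime_iff_not_dvd hr).mpr hrq
  have ht := isGLType_minpoly hζ0 Nat.one_pos
  refine hPSL _ (mem_spec_PSL_of_type_le ht
    (Cfsg.Agent.S2468.tDet_eq_one_of_coprime hζ0 (hζ ▸ hrc)) (by
      have := Nat.le_of_dvd (by omega) h6
      omega) ?_)
  exact hrc.dvd_of_dvd_mul_right (hζ ▸ ht.orderOf_dvd_tOrd_mul (eig_of_mem (e := 1) (by simp)))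

end Cfsg.Agent.S2364
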