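import Cfsg.Statements.S2469
import Cfsg.Agent.Known.GOrd

set_option autoImplicit false
open Cfsg

namespace Cfsg.Agent.S2469

open Cfsg.Lib.Known

/-- Adjacency of two odd primes in the prime graph of PSp(2n,q): let F be a finite field of characteristic p with q elements, n ≥ 2 with PSp(2n,F) simple, and let r ≠ s be odd primes different from p dividing the order of PSp(2n,F). Let k, l be the multiplicative orders of q modulo r and s, put η(m) = m for odd m and η(m) = m/2 for even m, and suppose η(k) ≤ η(l). Then PSp(2n,F) has NO element of order r·s if and only if η(k) + η(l) > n and l/k is not an odd integer. -/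
theorem result {F : Type*} [Field F] [Fintype F] (p : ℕ) [Fact p.Prime] [CharP F p] (n : ℕ) (hn : 2 ≤ n) (hsmall : n = 2 → 3 ≤ Fintype.card F)
    (r s : ℕ) (hr : r.Prime) (hs : s.Prime) (hr2 : r ≠ 2) (hs2 : s ≠ 2) (hrp : r ≠ p) (hsp : s ≠ p) (hrs : r ≠ s)
    (hrG : r ∣ Nat.card (Cfsg.PSp n F)) (hsG : s ∣ Nat.card (Cfsg.PSp n F))
    (k l ηk ηl : ℕ) (hk : k = orderOf ((Fintype.card F : ℕ) : ZMod r)) (hl : l = orderOf ((Fintype.card F : ℕ) : ZMod s))
    (hηk : (Odd k ∧ ηk = k) ∨ (Even k ∧ 2 * ηk = k)) (hηl : (Odd l ∧ ηl = l) ∨ (Even l ∧ 2 * ηl = l)) (hkl : ηk ≤ ηl) :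
    (r * s ∉ Set.range (orderOf : Cfsg.PSp n F → ℕ)) ↔ (n < ηk + ηl ∧ ¬ ∃ t : ℕ, Odd t ∧ l = k * t) := by
  have hq : Fintype.card F ≠ 0 := Fintype.card_ne_zero
  have hco := (Nat.coprime_primes hr hs).mpr hrs
  have hodd : Odd (r * s) := (hr.odd_of_ne_two hr2).mul (hs.odd_of_ne_two hs2)
  have ek := eq_eta hηk
  have el := eq_eta hηl
  have hln : ηl ≤ n := by
    have : Fact s.Prime := ⟨hs⟩
    obtain ⟨x, hx⟩ := exists_prime_orderOf_dvd_card' s hsG
    rw [el, hl]
    exact eta_le_of_mem_spec_PSp p hs hs2 hsp dvd_rfl ⟨x, hx⟩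
  have hr1 := dvd_pow_sub_one_iff hq r
  have hs1 := dvd_pow_sub_one_iff hq s
  have hr3 := prime_dvd_sub_or_add_iff hq hr
  have hs3 := prime_dvd_sub_or_add_iff hq hs
  have hr4 := fun m => not_dvd_sub_and_add hr hr2 (pow_ne_zero m hq)
  have hs4 := fun m => not_dvd_sub_and_add hs hs2 (pow_ne_zero m hq)
  obtain ⟨θ, h0, h2, hθ, hd⟩ := exists_piece_prime (K := F) p hr hr2 hrp
  obtain ⟨θ', h0', h2', hθ', hd'⟩ := exists_piece_prime (K := F) p hs hs2 hsp
  rw [← hk] at hr1 hr3 hd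
  rw [← hl] at hs1 hs3 hd'
  rw [← ek] at hr3 hd
  rw [← el] at hs3 hd'
  have hl0 : 0 < ηl := by have := two_le_pdeg_id h0' h2'; omega
  constructor
  · intro h
    by_contra hc
    rw [not_and_or, not_lt, not_not] at hc
    rcases hc with hc | ⟨t, ht, hc⟩
    · have h3 := (spReal_piece h0 h2 one_pos).add (spReal_piece h0' h2' one_pos)
      refine h (h3.mem_spec_of_odd ?_ hodd (hco.mul_dvd_of_dvd_of_dvd
        (hθ ▸ h3.isGLType.orderOf_dvd_gOrd (eig_add.mpr (Or.inl (eig_piece_self _ _))))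
        (hθ' ▸ h3.isGLType.orderOf_dvd_gOrd (eig_add.mpr (Or.inr (eig_piece_self _ _))))))
      rw [elDeg_add, elDeg_piece h0, elDeg_piece h0']
      omega
    · have h3 : r * s ∣ Fintype.card F ^ ηl - 1 ∨ r * s ∣ Fintype.card F ^ ηl + 1 := by
        rcases hηl with ⟨h4, h5⟩ | ⟨h4, h5⟩
        · exact Or.inl (hco.mul_dvd_of_dvd_of_dvd ((hr1 _).mpr ⟨t, h5.trans hc⟩)
            ((hs1 _).mpr (h5 ▸ dvd_rfl)))
        · have h6 : Even k := by
            rw [hc, Nat.even_mul] at h4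
            exact h4.resolve_right (Nat.not_even_iff_odd.mpr ht)
          have h7 : 2 * ηk = k := (hηk.resolve_left fun h => Nat.not_even_iff_odd.mpr h.1 h6).2
          have h8 : ηl = ηk * t := by rw [hc, ← h7, mul_assoc] at h5; omega
          refine Or.inr (hco.mul_dvd_of_dvd_of_dvd (((hr3 _).mpr ⟨t, h8⟩).resolve_left fun h9 => ?_)
            (((hs3 _).mpr dvd_rfl).resolve_left fun h9 => ?_))
          · rw [hr1, h8, ← h7, mul_comm 2] at h9
            have h10 : 0 < ηk := Nat.pos_of_mul_pos_right (h8 ▸ hl0)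
            exact Nat.not_even_iff_odd.mpr ht
              (even_iff_two_dvd.mpr (Nat.dvd_of_mul_dvd_mul_left h10 h9))
          · have := Nat.le_of_dvd hl0 ((hs1 _).mp h9)
            omega
      obtain ⟨ζ, a, h4, h5, h6, h7, h8⟩ := exists_spReal_torus
        (by nlinarith [hr.two_le, hs.two_le]) h3 hl0.ne'
      have h9 := (spReal_piece h4 h5 one_pos).nsmul a
      exact h (h9.mem_spec_of_odd (by omega) hodd
        (h6 ▸ h9.isGLType.orderOf_dvd_gOrd ((eig_nsmul h7).mpr (eig_piece_self _ _))))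
  · rintro ⟨h1, h3⟩ h
    obtain ⟨σ, hσ, hdeg, h4⟩ := mem_spec_PSp_iff.mp h
    have h5 := h4 ▸ hσ.isGLType.tOrd_dvd_gOrd
    obtain ⟨ζ, h6, h7⟩ := hσ.isGLType.exists_eig_of_prime_dvd p hr hrp
      ((dvd_mul_right _ _).trans h5)
    obtain ⟨ζ', e, t, h8, h9, h10, he, ht, rfl⟩ := hσ.exists_piece_of_prime_dvd p hs hs2 hsp
      ((dvd_mul_left _ _).trans h5)
    have h11 := two_mul_eta_le_pdeg h8 hs hs2 h10
    rw [← hl, ← el] at h11
    rw [elDeg_add, elDeg_piece h8] at hdeg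
    have h12 : pdeg (RingHom.id F) ζ' ≤ pdeg (RingHom.id F) ζ' * e := Nat.le_mul_of_pos_right _ he
    rcases eig_add.mp h6 with h6 | h6
    · rw [orderOf_eq_of_eig_piece h8 h6] at h7
      obtain ⟨a, ha0, ha⟩ := exists_pdeg_eq h8 h9
      have h13 := (pdeg_id_dvd_iff' h8 h9 a).mp (ha ▸ dvd_rfl)
      obtain ⟨c, hc⟩ := (hs3 a).mp (h13.imp h10.trans h10.trans)
      obtain rfl : c = 1 := by
        rcases c with _ | _ | c
        · omega
        · rfl
        · nlinarith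
      rw [mul_one] at hc
      subst hc
      rcases h13 with h13 | h13
      · have h14 := (hr1 _).mp (h7.trans h13)
        have h15 := Nat.le_of_dvd hl0 ((hs1 _).mp (h10.trans h13))
        obtain ⟨h16, h17⟩ := hηl.resolve_right fun h => by omega
        obtain ⟨u, hu⟩ := h14
        exact h3 ⟨u, (Nat.odd_mul.mp (hu ▸ h17 ▸ h16)).2, h17 ▸ hu⟩
      · obtain ⟨u, hu⟩ := (hr3 _).mp (Or.inr (h7.trans h13))
        have h14 : ¬ k ∣ a := fun h => hr4 _ ((hr1 _).mpr h) (h7.trans h13)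
        have h15 : ¬ l ∣ a := fun h => hs4 _ ((hs1 _).mpr h) (h10.trans h13)
        obtain ⟨-, h16⟩ := hηk.resolve_left fun h => h14 ⟨u, h.2 ▸ hu⟩
        obtain ⟨-, h17⟩ := hηl.resolve_left fun h => h15 (h.2 ▸ dvd_rfl)
        refine h3 ⟨u, Nat.not_even_iff_odd.mp fun ⟨v, hv⟩ => h14 ⟨v, ?_⟩, ?_⟩
        · rw [hu, hv, ← h16]; ring
        · rw [← h17, ← h16, hu]; ring
    · have h13 := h6.ne_zero ht.isGLType
      have h14 := two_mul_eta_le_pdeg h13 hr hr2 h7
      rw [← hk, ← ek] at h14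
      obtain ⟨e', he'⟩ := h6.exists_mem ht.isGLType.1
      obtain ⟨t', -, rfl⟩ := ht.exists_piece_add he' (sq_ne_one_of_prime_dvd h13 hr hr2 h7)
      have h15 := Nat.le_mul_of_pos_right (pdeg (RingHom.id F) ζ) (ht.isGLType.1 _ he').2.2
      rw [elDeg_add, elDeg_piece h13] at hdeg
      simp only at h15
      omega

end Cfsg.Agent.S2469
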