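import Cfsg.Statements.S2474
import Cfsg.Agent.S2362

set_option autoImplicit false
open Cfsg

namespace Cfsg.Agent.S2474

open Cfsg.Lib.Known Cfsg.Lib.Class Polynomial Cfsg.Agent.S2362

section Aux

variable {F : Type*} [Field F] [Fintype F] (p : ℕ) [Fact p.Prime] [CharP F p] {n : ℕ}

theorem exists_piece {r o : ℕ} (hr : r.Prime) (hr2 : r ≠ 2) (hrp : r ≠ p) (h : r ∣ o)
    {s : Multiset (F[X] × ℕ)} (hs : NoPM s) {n₂ c : ℕ}
    (h5 : ∀ k, gOrd s ∣ k → p ^ c ∣ k → (n₂ ≠ 0 → 2 ∣ k) → o ∣ k) :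
    ∃ θ e t, θ ≠ 0 ∧ r ∣ orderOf θ ∧ 0 < e ∧ NoPM t ∧ s = piece (RingHom.id F) θ e + t := by
  have h6 := h5 (gOrd s * p ^ c * 2) (Dvd.intro _ (mul_assoc _ _ _).symm)
    ((dvd_mul_left _ _).mul_right _) fun _ => dvd_mul_left _ _
  obtain ⟨θ, h7, h8⟩ := hs.1.exists_eig_of_prime_dvd p hr hrp
    (prime_dvd_gOrd Fact.out hr hr2 hrp (h.trans h6))
  obtain ⟨e, t, he0, ht, h9⟩ := hs.exists_piece_add h7
  exact ⟨θ, e, t, h7.ne_zero hs.1, h8, he0, ht, h9⟩

/-- Odd orders prime to the characteristic. -/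
theorem odd_iff (hodd : Odd (Fintype.card F)) {o : ℕ} (ho : Odd o) (hop : o.Coprime p) :
    OSpec F p (2 * n + 1) 2 1 o ↔ o ∈ Set.range (orderOf : PSp n F → ℕ) := by
  classical
  constructor
  · rintro ⟨s, n₁, n₂, c, hs, hN, he, -, -, -, h5⟩
    have h6 := h5 (gOrd s * p ^ c * 2) (Dvd.intro _ (mul_assoc _ _ _).symm)
      ((dvd_mul_left _ _).mul_right _) fun _ => dvd_mul_left _ _
    have := hs.even_elDeg
    rw [Nat.even_iff] at this
    exact hs.spReal.mem_spec_of_odd (by omega) ho ((hop.pow_right c).dvd_of_dvd_mul_right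
      ((Nat.coprime_two_right.mpr ho).dvd_of_dvd_mul_right h6))
  · intro h
    obtain ⟨σ, hσ, hd, h1, h2⟩ := exists_spReal_of_odd ho h
    have h0 := spec_pos h
    have hT := hσ.isGLType
    have h3 := ((hT.gOrd_dvd_iff' p h0.ne').mpr ⟨h2, fun x hx => h1 ▸ hT.snd_le_ordProj_tOrd p hx⟩)
    have hs := noPM_filter hT hσ.dual
    obtain ⟨t, ht⟩ := Multiset.le_iff_exists_add.mp
      (Multiset.filter_le (fun x : F[X] × ℕ => x.1 ≠ X - 1 ∧ x.1 ≠ X + 1) σ)
    have h4 : ∀ x ∈ σ, x.1 ≠ X - 1 → x ∈ σ.filter fun x => x.1 ≠ X - 1 ∧ x.1 ≠ X + 1 :=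
      fun x hx h => Multiset.mem_filter.mpr ⟨hx, h, fun h' => by
        have := h2 (-1) ⟨x, hx, by simp [h']⟩
        rw [ho.neg_one_pow] at this
        exact two_ne_zero_ec (two_ne_zero_of_odd_card hodd) (by linear_combination -this)⟩
    generalize (σ.filter fun x => x.1 ≠ X - 1 ∧ x.1 ≠ X + 1) = s at hs ht h4
    have h5 : gOrd s ∣ o := (hs.1.gOrd_dvd_of_subset hT
      (ht ▸ Multiset.subset_of_le (Multiset.le_add_right _ _))).trans h3
    refine ⟨s, 2 * n + 1 - elDeg s, 0, 0, hs, by rw [ht, elDeg_add] at hd; omega, Even.zero,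
      fun _ => hs.tEv_neg_one_of_odd (two_ne_zero_of_odd_card hodd) (ho.of_dvd_nat h5),
      fun h => by rw [ht, elDeg_add] at hd; omega, Or.inl rfl, fun k h6 _ _ => ?_⟩
    refine h1 ▸ hT.tOrd_dvd_gOrd.trans (hT.gOrd_dvd_of_semisimple ?_ fun x hx => ?_)
    · rintro θ ⟨x, hx, hθ⟩
      by_cases h7 : x.1 = X - 1
      · rw [h7, aeval_X_sub_one_eq_zero] at hθ
        rw [hθ, one_pow]
      · exact orderOf_dvd_iff_pow_eq_one.mp ((hs.1.orderOf_dvd_gOrd ⟨x, h4 x hx h7, hθ⟩).trans h6)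
    · have := ((hT.gOrd_dvd_iff' p h0.ne').mp h3).2 x hx
      rwa [Nat.factorization_eq_zero_of_not_dvd
        ((Nat.Prime.coprime_iff_not_dvd Fact.out).mp hop.symm), pow_zero] at this

theorem char_iff (hodd : Odd (Fintype.card F)) {r : ℕ} (hr : r.Prime) (hr2 : r ≠ 2) (hrp : r ≠ p) :
    OSpec F p (2 * n + 1) 2 1 (r * p) ↔ r * p ∈ Set.range (orderOf : PSp n F → ℕ) := by
  have hp : p.Prime := Fact.out
  have h20 := two_ne_zero_of_odd_card hodd
  rw [mul_char_mem_spec_PSp_iff p hr hr2 hrp]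
  constructor
  · rintro ⟨s, n₁, n₂, c, hs, hN, he, -, -, h4, h5⟩
    obtain ⟨θ, e, t, h0, h8, he0, ht, rfl⟩ := exists_piece p hr hr2 hrp (dvd_mul_right _ _) hs h5
    have h9 := two_mul_eta_le_pdeg h0 hr hr2 h8
    have h10 := Nat.le_mul_of_pos_right (pdeg (RingHom.id F) θ) he0
    rw [elDeg_add, elDeg_piece h0] at hN
    rcases eq_or_ne c 0 with rfl | hc
    · obtain ⟨x, hx, h11⟩ := hs.1.exists_two_le_of_char_dvd p
        ((Nat.coprime_two_right.mpr (odd_char p h20)).dvd_of_dvd_mul_right ((dvd_mul_left _ _).trans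
          (h5 _ (dvd_mul_right _ _) (one_dvd _) fun _ => dvd_mul_left _ _)))
      rcases Multiset.mem_add.mp hx with hx | hx
      · rw [snd_of_mem_piece hx] at h11
        have := two_le_pdeg_id h0 (sq_ne_one_of_prime_dvd h0 hr hr2 h8)
        nlinarith
      · have := two_mul_le_elDeg ht hx
        omega
    · have := pow_pos hp.pos (c - 1)
      omega
  · intro h
    obtain ⟨θ, h0, h2, hθ, hd⟩ := exists_piece_prime (K := F) p hr hr2 hrp
    have hs := noPM_piece h0 h2 one_pos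
    have h3 : gOrd (piece (RingHom.id F) θ 1) = r := (gOrd_piece_one h0).trans hθ
    exact ⟨_, 2 * n + 1 - pdeg (RingHom.id F) θ, 0, 1, hs, by rw [elDeg_piece h0]; omega, Even.zero,
      fun _ => hs.tEv_neg_one_of_odd h20 (h3 ▸ hr.odd_of_ne_two hr2), fun h => by omega,
      Or.inr (Or.inl (by simp; omega)), fun k h4 h5 _ =>
        ((Nat.coprime_primes hr hp).mpr hrp).mul_dvd_of_dvd_of_dvd (h3 ▸ h4) (by simpa using h5)⟩

theorem two_char (hodd : Odd (Fintype.card F)) (hn : 2 ≤ n) :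
    OSpec F p (2 * n + 1) 2 1 (p * 2) ∧ p * 2 ∈ Set.range (orderOf : PSp n F → ℕ) := by
  have h20 := two_ne_zero_of_odd_card hodd
  have hpo := odd_char p h20
  refine ⟨⟨0, 2 * n - 1, 2, 1, noPM_zero, by simp; omega, even_two, fun h => by omega,
    fun h => by omega, Or.inr (Or.inl (by simp; omega)), fun k _ h1 h2 =>
      (Nat.coprime_two_right.mpr hpo).mul_dvd_of_dvd_of_dvd (by simpa using h1) (h2 two_ne_zero)⟩,
    ?_⟩
  have h1 := spReal_X_sub_one (F := F) one_pos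
  have h2 := spReal_X_sub_one (F := F) (k := n - 1) (by omega)
  refine mul_mem_spec_PSp_of_add h20 h1 h2 (by simp) (by simp)
    (by simp [natDegree_X_sub_one]; omega) ?_ hpo.not_two_dvd_nat
  simpa using (h1.add h2).isGLType.pow_succ_dvd_tOrd p (x := (X - 1, 2 * 1)) (a := 0) (by simp)
    (by simp)

omit [Field F] in
theorem halfT_dvd (hodd : Odd (Fintype.card F)) (k r : ℕ) :
    halfT (Fintype.card F) k r * 2 ∣ Fintype.card F ^ k - 1 ∨
      halfT (Fintype.card F) k r * 2 ∣ Fintype.card F ^ k + 1 := by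
  obtain ⟨M, hM⟩ := hodd.pow (n := k)
  unfold halfT
  split_ifs
  · exact Or.inl (dvd_of_eq (by omega))
  · exact Or.inr (dvd_of_eq (by omega))

theorem dvd_halfT (hodd : Odd (Fintype.card F)) {k r : ℕ} (hr : r.Prime) (hr2 : r ≠ 2)
    (h : etaO (orderOf (Fintype.card F : ZMod r)) ∣ k) : r ∣ halfT (Fintype.card F) k r := by
  obtain ⟨M, hM⟩ := hodd.pow (n := k)
  refine (Nat.coprime_two_right.mpr (hr.odd_of_ne_two hr2)).dvd_of_dvd_mul_right ?_
  unfold halfT
  split_ifs with h1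
  · exact h1.trans (dvd_of_eq (by omega))
  · exact (((prime_dvd_sub_or_add_iff Fintype.card_ne_zero hr k).mpr h).resolve_left h1).trans
      (dvd_of_eq (by omega))

theorem two_iff (hodd : Odd (Fintype.card F)) (hn : 1 ≤ n) {r : ℕ} (hr : r.Prime) (hr2 : r ≠ 2)
    (hrp : r ≠ p) :
    OSpec F p (2 * n + 1) 2 1 (r * 2) ↔ r * 2 ∈ Set.range (orderOf : PSp n F → ℕ) := by
  have hp : p.Prime := Fact.out
  have h20 := two_ne_zero_of_odd_card hodd
  have hro := hr.odd_of_ne_two hr2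
  have hco := Nat.coprime_two_right.mpr hro
  by_cases h : etaO (orderOf (Fintype.card F : ZMod r)) < n
  · obtain ⟨θ, h0, h2, hθ, hd⟩ := exists_piece_prime (K := F) p hr hr2 hrp
    have hs := noPM_piece h0 h2 one_pos
    have h3 : gOrd (piece (RingHom.id F) θ 1) = r := (gOrd_piece_one h0).trans hθ
    have h4 := spReal_X_sub_one (F := F) (Nat.sub_pos_of_lt h)
    refine iff_of_true ⟨_, 2 * n - 1 - pdeg (RingHom.id F) θ, 2, 0, hs,
      by rw [elDeg_piece h0]; omega, even_two, fun h => by omega, fun h => by omega, Or.inl rfl,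
      fun k h4 _ h5 => hco.mul_dvd_of_dvd_of_dvd (h3 ▸ h4) (h5 two_ne_zero)⟩
      (mul_mem_spec_PSp_of_add h20 hs.spReal h4 (piece_ne_zero _ _) (by simp) ?_
        ((hs.spReal.add h4).dvd_tOrd_of_odd hro (hθ ▸ (hs.spReal.add h4).isGLType.orderOf_dvd_gOrd
          (eig_add.mpr (Or.inl (eig_piece_self _ _))))) hro.not_two_dvd_nat)
    rw [elDeg_piece h0, elDeg_singleton, natDegree_X_sub_one]
    omega
  have key : ∀ {θ : Ec F} {e m : ℕ}, θ ≠ 0 → r ∣ orderOf θ → 0 < e →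
      pdeg (RingHom.id F) θ * e + m ≤ 2 * n + 1 → e = 1 ∧ m ≤ 1 ∧ pdeg (RingHom.id F) θ = 2 * n ∧
        etaO (orderOf (Fintype.card F : ZMod r)) = n := fun {θ e m} h0 h1 he h2 => by
    have h3 := two_mul_eta_le_pdeg h0 hr hr2 h1
    have h4 := Nat.even_iff.mp (even_pdeg_id h0 (sq_ne_one_of_prime_dvd h0 hr hr2 h1))
    obtain rfl : e = 1 := by
      by_contra h5
      have := Nat.mul_le_mul_left (pdeg (RingHom.id F) θ) (show 2 ≤ e by omega)
      omega
    omega
  constructor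
  · rintro ⟨s, n₁, n₂, c, hs, hN, he, h3, -, h4, h5⟩
    obtain ⟨θ, e, t, h0, h8, he0, ht, rfl⟩ := exists_piece p hr hr2 hrp (dvd_mul_right _ _) hs h5
    rw [elDeg_add, elDeg_piece h0, add_assoc, add_assoc] at hN
    obtain ⟨rfl, h6, h7, -⟩ := key h0 h8 he0 hN.le
    have h9 := Nat.even_iff.mp ht.even_elDeg
    rw [Nat.even_iff] at he
    obtain rfl := ht.eq_zero_of_elDeg (by omega)
    obtain rfl : n₂ = 0 := by omega
    obtain rfl : c = 0 := by have := pow_pos hp.pos (c - 1); omega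
    rw [add_zero] at h3 h5
    have h10 := Nat.mul_dvd_mul_right (h5 _ (gOrd_piece_one h0 ▸ orderOf_dvd_of_pow_eq_one
      ((halfT_spec hodd h0 hr hr2 h8 h7).2.mp (h3 rfl))) (one_dvd _) fun h => absurd rfl h) 2
    exact torus_mem_spec_PSp (by have := hr.two_le; omega)
      ((halfT_dvd hodd n r).imp h10.trans h10.trans) (by omega)
  · intro h1
    obtain ⟨σ, hσ, hd, h2⟩ := mem_spec_PSp_iff.mp h1
    obtain ⟨θ, e, t, h0, -, h8, he0, ht, rfl⟩ := hσ.exists_piece_of_prime_dvd p hr hr2 hrp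
      ((dvd_mul_right _ _).trans (h2 ▸ hσ.isGLType.tOrd_dvd_gOrd))
    rw [elDeg_add, elDeg_piece h0] at hd
    obtain ⟨rfl, -, h7, hη⟩ := key h0 h8 he0 (hd.le.trans (Nat.le_succ _))
    obtain rfl : t = 0 := by
      by_contra h
      have := ht.isGLType.1.elDeg_pos h
      omega
    rw [add_zero] at h2 hσ
    have h3 := dvd_halfT hodd hr hr2 (dvd_of_eq hη)
    have h4 := (halfT_spec hodd h0 hr hr2 h8 h7).1
    have h9 := halfT_dvd hodd n r
    have h5 : 2 ∣ halfT (Fintype.card F) n r := by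
      by_contra h5
      have h6 : Odd (halfT (Fintype.card F) n r) := Nat.odd_iff.mpr (by omega)
      refine h5 ((dvd_mul_left _ _).trans (h2 ▸ (hσ.isGLType.tOrd_dvd_iff' p h6.pos.ne').mpr
        ⟨?_, fun x hx => ?_⟩))
      · suffices ∀ θ', Eig (piece (RingHom.id F) θ 1) θ' →
            θ' ^ halfT (Fintype.card F) n r = θ ^ halfT (Fintype.card F) n r from
          fun _ _ h h' => (this _ h).trans (this _ h').symm
        intro θ' h
        rw [pow_mul', pow_two, mul_self_eq_one_iff] at h4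
        obtain ⟨j, rfl | rfl⟩ := (eig_piece_id h0).mp h <;> rcases h4 with h4 | h4 <;>
          simp [pow_right_comm θ _ (halfT _ _ _), h4, hodd.pow.neg_one_pow]
      · rw [snd_of_mem_piece hx]
        exact Nat.ordProj_pos _ _
    have h6 := hco.mul_dvd_of_dvd_of_dvd h3 h5
    have h10 := h6.trans (dvd_mul_right _ 2)
    obtain ⟨ζ, hζ⟩ := exists_orderOf_eq_ec (K := F) (N := r * 2) (by
      rw [Nat.cast_mul]
      refine mul_ne_zero ?_ h20
      rw [Ne, CharP.cast_eq_zero_iff F p]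
      exact fun h => hrp ((Nat.prime_dvd_prime_iff_eq hp hr).mp h).symm)
    have a0 := ec_ne_zero_of_orderOf_pos (hζ ▸ Nat.mul_pos hr.pos two_pos)
    have a1 : r ∣ orderOf ζ := hζ ▸ dvd_mul_right _ _
    have a2 := pdeg_eq_two_mul_eta a0 hr hr2 a1 (by rw [hζ, hη]; exact h9.imp h10.trans h10.trans)
    rw [hη] at a2
    exact ⟨_, 1, 0, 0, noPM_piece a0 (sq_ne_one_of_prime_dvd a0 hr hr2 a1) one_pos,
      by rw [elDeg_piece a0, a2]; omega, Even.zero, fun _ => (halfT_spec hodd a0 hr hr2 a1 a2).2.mpr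
        (orderOf_dvd_iff_pow_eq_one.mp (hζ ▸ h6)), fun h => by omega, Or.inl rfl,
      fun k h _ _ => by rwa [gOrd_piece_one a0, hζ] at h⟩

end Aux

/-- For q odd and n ≥ 3 the simple groups PΩ(2n+1,q) and PSp(2n,q) (which have the same order but different sets of element orders) have the same prime graph: for all distinct primes r, s, one of them has an element of order r·s if and only if the other does. -/
theorem result {F : Type*} [Field F] [Fintype F] (hodd : Odd (Fintype.card F)) (n : ℕ) (hn : 3 ≤ n) (r s : ℕ) (hr : r.Prime) (hs : s.Prime) (hrs : r ≠ s) :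
    (r * s ∈ Set.range (orderOf : Cfsg.POmega F (Cfsg.quadFormOdd n F) → ℕ)) ↔ (r * s ∈ Set.range (orderOf : Cfsg.PSp n F → ℕ)) := by
  obtain ⟨p, hc⟩ := CharP.exists F
  have hp := CharP.char_is_prime F p
  have : Fact p.Prime := ⟨hp⟩
  rw [mem_spec_POmega_odd_iff p hodd (by omega)]
  have two : ∀ r : ℕ, r.Prime → r ≠ 2 →
      (OSpec F p (2 * n + 1) 2 1 (r * 2) ↔ r * 2 ∈ Set.range (orderOf : PSp n F → ℕ)) :=
    fun r hr hr2 => by
      rcases eq_or_ne r p with rfl | hrp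
      · exact iff_of_true (two_char r hodd (by omega)).1 (two_char r hodd (by omega)).2
      · exact two_iff p hodd (by omega) hr hr2 hrp
  rcases eq_or_ne s 2 with rfl | hs2
  · exact two r hr hrs
  rcases eq_or_ne r 2 with rfl | hr2
  · rw [mul_comm 2 s]
    exact two s hs hs2
  rcases eq_or_ne s p with rfl | hsp
  · exact char_iff s hodd hr hr2 hrs
  rcases eq_or_ne r p with rfl | hrp
  · rw [mul_comm r s]
    exact char_iff r hodd hs hs2 hsp
  exact odd_iff p hodd ((hr.odd_of_ne_two hr2).mul (hs.odd_of_ne_two hs2))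
    (Nat.Coprime.mul_left ((Nat.coprime_primes hr hp).mpr hrp) ((Nat.coprime_primes hs hp).mpr hsp))

end Cfsg.Agent.S2474
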