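import Cfsg.Statements.S2476
import Mathlib
import Cfsg.Agent.Known.TOrdSmall

set_option autoImplicit false
open Cfsg

namespace Cfsg.Agent.S2476

open Polynomial Cfsg.Lib.Known

theorem singOrd_three {q : ℕ} (hq : 1 ≤ q) :
    Cfsg.Agent.S2510.singOrd q 3 = (q ^ 2 + q + 1) / Nat.gcd 3 (q - 1) := by
  obtain ⟨a, rfl⟩ := Nat.exists_eq_add_of_le' hq
  have h1 : ∑ i ∈ Finset.range 3, (a + 1) ^ i = (a + 1) ^ 2 + (a + 1) + 1 := by
    simp [Finset.sum_range_succ]; ring
  rw [Cfsg.Agent.S2510.singOrd, h1, Nat.add_sub_cancel,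
    show (a + 1) ^ 2 + (a + 1) + 1 = 3 + (a + 3) * a by ring, Nat.gcd_add_mul_right_left]

/-- The set of element orders of PSL(3,q): let F be a finite field of characteristic p with q elements and d = gcd(3, q − 1). The orders of elements of PSL(3,F) are exactly the divisors of (q² + q + 1)/d, of (q² − 1)/d, of q − 1, of p(q − 1)/d, and, when p = 2, of 4. -/
theorem result {F : Type*} [Field F] [Fintype F] (p : ℕ) [Fact p.Prime] [CharP F p] :
    Set.range (orderOf : Matrix.ProjectiveSpecialLinearGroup (Fin 3) F → ℕ) =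
      {m : ℕ | m ∣ (Fintype.card F ^ 2 + Fintype.card F + 1) / Nat.gcd 3 (Fintype.card F - 1) ∨
        m ∣ (Fintype.card F ^ 2 - 1) / Nat.gcd 3 (Fintype.card F - 1) ∨ m ∣ Fintype.card F - 1 ∨
        m ∣ p * (Fintype.card F - 1) / Nat.gcd 3 (Fintype.card F - 1) ∨ (p = 2 ∧ m ∣ 4)} := by
  have hp : p.Prime := Fact.out
  have hq0 := Fintype.card_pos (α := F)
  have hq1 := Fintype.one_lt_card (α := F)
  set q := Fintype.card F with hq
  set d := Nat.gcd 3 (q - 1) with hd
  have hd3 : d ∣ 3 := Nat.gcd_dvd_left _ _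
  have hdq : d ∣ q - 1 := Nat.gcd_dvd_right _ _
  have hd0 : 0 < d := Nat.gcd_pos_of_pos_left _ (by norm_num)
  have hsq : q ^ 2 - 1 = (q + 1) * (q - 1) := by rw [← Nat.pow_two_sub_pow_two, one_pow]
  have hsq0 : 0 < q ^ 2 - 1 := by rw [hsq]; exact Nat.mul_pos (by omega) (by omega)
  have hpq : (q - 1).Coprime p := by
    obtain ⟨f, -, hf⟩ := FiniteField.card F p
    refine ((Nat.Prime.coprime_iff_not_dvd hp).mpr fun h => hp.one_lt.ne' ?_).symm
    have h1 : p ∣ q := by rw [hq, hf]; exact dvd_pow_self _ f.ne_zero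
    exact Nat.dvd_one.mp ((Nat.dvd_sub_iff_right hq0 h1).mp h)
  apply Set.Subset.antisymm
  · intro o ho
    obtain ⟨t, ht, hdet, rfl⟩ := mem_spec_PSL_iff.mp ho
    rw [Fintype.card_fin] at ht
    simp only [Set.mem_ofPred_eq]
    by_cases h2 : ∃ x ∈ t, 2 ≤ x.2
    · obtain ⟨x, hx, h2⟩ := h2
      rcases ht.three_of_two_le hx h2 with ⟨a, ha, rfl⟩ | ⟨a, b, ha, hb, rfl⟩
      · by_cases hp2 : p = 2
        · subst hp2
          exact Or.inr (Or.inr (Or.inr (Or.inr ⟨rfl,
            tOrd_X_sub_C_dvd 2 (j := 2) ha (by norm_num) (by norm_num)⟩)))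
        · refine Or.inr (Or.inr (Or.inr (Or.inl ?_)))
          have := tOrd_X_sub_C_dvd p (j := 1) (e := 3) ha (by norm_num) (by
            have := hp.two_le
            rw [pow_one]; omega)
          rw [Nat.mul_div_assoc _ hdq]
          exact (pow_one p ▸ this).trans (dvd_mul_right _ _)
      · refine Or.inr (Or.inr (Or.inr (Or.inl ?_)))
        have hab : a ^ 2 * b = 1 := by
          rw [← hdet, Multiset.insert_eq_cons, tDet_cons, tDet_X_sub_C, tDet_X_sub_C, pow_one]
        have h1 := tOrd_pair_dvd p ha hb Nat.zero_lt_two Nat.one_pos (j := 1) (k := (q - 1) / d)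
          (by simpa using hp.two_le) (by simpa using hp.one_le)
          (Nat.div_pos (Nat.le_of_dvd (by omega) hdq) hd0).ne' (by
            have h2 := FiniteField.pow_card_sub_one_eq_one a ha
            apply mul_left_cancel₀ (pow_ne_zero ((q - 1) / d) (pow_ne_zero 2 ha))
            obtain ⟨c, hc⟩ := hd3
            rw [← mul_pow, ← mul_pow, hab, one_pow, ← pow_succ, ← pow_mul,
              show (2 + 1) * ((q - 1) / d) = (q - 1) * c by
                rw [show 2 + 1 = 3 from rfl, hc, mul_right_comm, Nat.mul_div_cancel' hdq],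
              pow_mul, h2, one_pow])
        rwa [Nat.mul_div_assoc _ hdq, mul_comm, ← pow_one p]
    push Not at h2
    have hb : ∀ x ∈ t, x.2 ≤ p ^ 0 := fun x hx => by have := h2 x hx; rw [pow_zero]; omega
    by_cases h3 : ∃ x ∈ t, 2 ≤ x.1.natDegree
    · obtain ⟨x, hx, h3⟩ := h3
      have hx1 : x.2 = 1 := by have := h2 x hx; have := (ht.1 x hx).2.2; omega
      have h4 := ht.1.natDegree_le_elDeg hx
      rw [ht.2.1] at h4
      obtain ⟨u, rfl⟩ := Multiset.exists_cons_of_mem hx
      have h5 := ht.of_cons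
      rw [hx1, mul_one] at h5
      rcases h3.eq_or_lt with h3 | h3
      · refine Or.inr (Or.inl ?_)
        rw [← h3] at h5
        obtain ⟨b, hb0, rfl⟩ := h5.eq_of_one
        obtain ⟨θ, h0, hθ⟩ := ht.exists_minpoly hx
        have hdeg : (minpoly F θ).natDegree = 2 := by rw [h3, hθ]
        have h6 := congrArg (algebraMap F (Ec F)) hdet
        rw [tDet_cons, map_mul, hθ, algebraMap_tDet_minpoly, hdeg, hx1, tDet_X_sub_C, map_one,
          pow_one] at h6
        simp only [mul_one, Finset.sum_range_succ, Finset.range_zero, Finset.sum_empty, pow_zero,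
          zero_add, pow_one] at h6
        have h7 : θ ^ (q ^ 2 - 1) = 1 := Cfsg.Agent.S2468.pow_pred_eq_one h0 (hdeg ▸ dvd_rfl)
        have hdq2 : d ∣ q ^ 2 - 1 := hsq ▸ hdq.mul_left _
        have h8 : θ ^ ((q ^ 2 - 1) / d) = algebraMap F _ b ^ ((q ^ 2 - 1) / d) := by
          apply mul_left_cancel₀ (pow_ne_zero ((q ^ 2 - 1) / d) (pow_ne_zero (1 + q) h0))
          obtain ⟨c, hc⟩ : d ∣ 1 + q + 1 := by
            rw [show 1 + q + 1 = 3 + (q - 1) by omega]
            exact dvd_add hd3 hdq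
          rw [← mul_pow, ← mul_pow, h6, one_pow, ← pow_succ, ← pow_mul, hc, mul_right_comm,
            Nat.mul_div_cancel' hdq2, pow_mul, h7, one_pow]
        have key : ∀ y, Eig (x ::ₘ {(X - C b, 1)}) y →
            y ^ ((q ^ 2 - 1) / d) = algebraMap F _ (b ^ ((q ^ 2 - 1) / d)) := by
          intro y hy
          rw [eig_cons, eig_singleton, aeval_X_sub_C_eq_zero, hθ, aeval_minpoly_eq_zero_iff] at hy
          rcases hy with ⟨j, rfl⟩ | rfl
          · rw [← pow_mul, mul_comm, pow_mul, h8, ← map_pow, algebraMap_pow_card_pow]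
          · rw [map_pow]
        simpa using ht.tOrd_dvd_mul_pow p (k := (q ^ 2 - 1) / d)
          (Nat.div_pos (Nat.le_of_dvd hsq0 hdq2) hd0).ne'
          (fun a b ha hb => by rw [key a ha, key b hb]) hb
      · left
        rw [show 3 - x.1.natDegree = 0 by omega] at h5
        have h6 := h5.eq_zero
        subst h6
        have h7 := Cfsg.Agent.S2510.tOrd_singleton_dvd p (by norm_num) ht hdet
        rw [singOrd_three hq0] at h7
        refine (((Nat.Prime.coprime_iff_not_dvd hp).mpr fun h => ?_).symm.pow_right _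
          ).dvd_of_dvd_mul_right h7
        obtain ⟨y, hy, h8⟩ := ht.exists_two_le p h
        exact absurd (h2 y hy) (by omega)
    · push Not at h3
      refine Or.inr (Or.inr (Or.inl ?_))
      have key : ∀ y, Eig t y → y ^ (q - 1) = 1 := by
        intro y hy
        obtain ⟨e, he⟩ := hy.exists_mem ht.1
        have h4 := h3 _ he
        have h5 := natDegree_minpoly_ec_pos y
        simpa using Cfsg.Agent.S2468.pow_pred_eq_one (hy.ne_zero ht) (d := 1)
          (by simp only at h4; rw [Nat.dvd_one]; omega)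
      simpa using ht.tOrd_dvd_mul_pow p (k := q - 1) (by omega)
        (fun a b ha hb => by rw [key a ha, key b hb]) hb
  · obtain ⟨ω, hω0, hω⟩ := exists_orderOf_eq_of_dvd_card_sub_one (K := F) dvd_rfl
    rintro m (hm | hm | hm | hm | ⟨rfl, hm⟩)
    · exact mem_spec_of_dvd' (Cfsg.Agent.S2510.singOrd_mem p (by norm_num))
        (singOrd_three hq0 ▸ hm)
    · obtain ⟨θ, hθ⟩ := exists_orderOf_eq_ec (K := F) (N := q ^ 2 - 1) (by
        rw [Nat.cast_sub (Nat.one_le_pow _ _ hq0)]
        simp [hq])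
      have h0 : θ ≠ 0 := ne_zero_of_orderOf_pos (hθ ▸ hsq0)
      have hdeg : (minpoly F θ).natDegree = 2 := by
        have h1 := natDegree_minpoly_dvd_of_orderOf_dvd (θ := θ) (d := 2) (hθ ▸ dvd_rfl)
        refine ((Nat.dvd_prime Nat.prime_two).mp h1).resolve_left fun h2 => ?_
        have h3 := orderOf_dvd_card_pow_sub_one h0 (d := 1) (h2 ▸ dvd_rfl)
        rw [hθ, pow_one, hsq] at h3
        have := Nat.le_of_dvd (by omega) h3
        have : 2 * (q - 1) ≤ (q + 1) * (q - 1) := Nat.mul_le_mul_right _ (by omega)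
        omega
      have h1 := algebraMap_tDet_minpoly θ 1
      rw [hdeg] at h1
      simp only [mul_one, Finset.sum_range_succ, Finset.range_zero, Finset.sum_empty, pow_zero,
        zero_add, pow_one] at h1
      set b := tDet {(minpoly F θ, 1)}
      have hb : b ≠ 0 := fun h => by
        rw [h, map_zero] at h1
        exact pow_ne_zero _ h0 h1.symm
      have ht := isGLType_add (isGLType_minpoly h0 Nat.one_pos)
        (isGLType_X_sub_C (inv_ne_zero hb) Nat.one_pos)
      rw [hdeg] at ht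
      refine mem_spec_PSL_of_type ht (by
        rw [tDet_add, tDet_X_sub_C, pow_one, mul_inv_cancel₀ hb]) (hm.trans ?_)
      have he : Eig (({(minpoly F θ, 1)} : Multiset (F[X] × ℕ)) + {(X - C b⁻¹, 1)}) θ :=
        eig_of_mem (e := 1) (by simp)
      have h2 := ht.orderOf_dvd_tOrd_mul he
      have h3 := ht.pow_tOrd_eq he (eig_of_mem_X_sub_C (a := b⁻¹) (e := 1) (by simp))
      set o := tOrd (({(minpoly F θ, 1)} : Multiset (F[X] × ℕ)) + {(X - C b⁻¹, 1)})
      have h4 : orderOf θ ∣ o * (3 + (q - 1)) := by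
        rw [orderOf_dvd_iff_pow_eq_one, show 3 + (q - 1) = 1 + (1 + q) by omega, mul_add, pow_add,
          mul_one, h3, mul_comm o, pow_mul, ← h1, ← mul_pow, ← map_mul, inv_mul_cancel₀ hb, map_one,
          one_pow]
      have h5 := Nat.dvd_gcd h4 h2
      rw [Nat.gcd_mul_left, Nat.gcd_add_self_left, hθ, mul_comm] at h5
      exact (Nat.div_dvd_iff_dvd_mul (hsq ▸ hdq.mul_left _) hd0).mpr h5
    · have ht := isGLType_add (isGLType_X_sub_C hω0 Nat.one_pos) (isGLType_add
        (isGLType_X_sub_C (inv_ne_zero hω0) Nat.one_pos) (isGLType_X_sub_one (K := F) Nat.one_pos))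
      refine mem_spec_PSL_of_type ht (by
        rw [tDet_add, tDet_add, tDet_X_sub_one, tDet_X_sub_C, tDet_X_sub_C]; simp [hω0])
        (hm.trans ?_)
      have := ht.orderOf_div_dvd_of_mem (a := ω) (b := 1) (e := 1) (f := 1) (by simp) (by simp)
      rwa [div_one, hω] at this
    · have ht := isGLType_add (isGLType_X_sub_C hω0 Nat.zero_lt_two)
        (isGLType_X_sub_C (inv_ne_zero (pow_ne_zero 2 hω0)) Nat.one_pos)
      refine mem_spec_PSL_of_type ht (by
        rw [tDet_add, tDet_X_sub_C, tDet_X_sub_C]; simp [hω0]) (hm.trans ?_)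
      rw [Nat.mul_div_assoc _ hdq]
      refine (Nat.Coprime.coprime_dvd_left (Nat.div_dvd_of_dvd hdq) hpq).symm.mul_dvd_of_dvd_of_dvd
        ?_ ?_
      · simpa using ht.pow_succ_dvd_tOrd p (x := (X - C ω, 2)) (a := 0) (by simp) (by simp)
      · have := ht.orderOf_div_dvd_of_mem (a := ω) (b := (ω ^ 2)⁻¹) (e := 2) (f := 1)
          (by simp) (by simp)
        rwa [div_inv_eq_mul, ← pow_succ', orderOf_pow' _ (by norm_num), hω, Nat.gcd_comm] at this
    · have ht := isGLType_X_sub_one (K := F) (e := 3) (by norm_num)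
      exact mem_spec_PSL_of_type ht (tDet_X_sub_one 3) (hm.trans
        (ht.pow_succ_dvd_tOrd 2 (x := (X - 1, 3)) (a := 1) (by simp) (by norm_num)))

end Cfsg.Agent.S2476
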