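import Cfsg.Statements.S2477
import Cfsg.Agent.Known.SymOrder

set_option autoImplicit false
open Cfsg

namespace Cfsg.Agent.S2477

/-- The set of element orders of the alternating group of degree 10 is {1, 2, 3, 4, 5, 6, 7, 8, 9, 10, 12, 15, 21}. -/
theorem result : Set.range (orderOf : alternatingGroup (Fin 10) → ℕ) = {1, 2, 3, 4, 5, 6, 7, 8, 9, 10, 12, 15, 21} := by
  ext m
  rw [Cfsg.Lib.Known.mem_range_orderOf_alt_iff, Fintype.card_fin]
  constructor
  · rintro ⟨s, h1, h2, h3, rfl⟩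
    have key := Cfsg.Lib.Known.forall_multiset_of_comps (n := 10) (P := fun s =>
      Even (s.sum + s.card) → s.lcm ∈ ({1, 2, 3, 4, 5, 6, 7, 8, 9, 10, 12, 15, 21} : Finset ℕ))
      (by decide +kernel) s h1 h2 h3
    simpa using key
  · intro hm
    simp only [Set.mem_insert_iff, Set.mem_singleton_iff] at hm
    rcases hm with rfl | rfl | rfl | rfl | rfl | rfl | rfl | rfl | rfl | rfl | rfl | rfl | rfl
    · exact ⟨0, by decide +kernel⟩
    · exact ⟨{2, 2}, by decide +kernel⟩
    · exact ⟨{3}, by decide +kernel⟩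
    · exact ⟨{4, 2}, by decide +kernel⟩
    · exact ⟨{5}, by decide +kernel⟩
    · exact ⟨{6, 2}, by decide +kernel⟩
    · exact ⟨{7}, by decide +kernel⟩
    · exact ⟨{8, 2}, by decide +kernel⟩
    · exact ⟨{9}, by decide +kernel⟩
    · exact ⟨{5, 2, 2}, by decide +kernel⟩
    · exact ⟨{4, 3, 2}, by decide +kernel⟩
    · exact ⟨{5, 3}, by decide +kernel⟩
    · exact ⟨{7, 3}, by decide +kernel⟩

end Cfsg.Agent.S2477
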