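import Cfsg.Statements.S2495
import Mathlib
import Cfsg.Agent.Known.TOrdSmall
import Cfsg.Agent.Class.Zsigmondy

set_option autoImplicit false
open Cfsg

namespace Cfsg.Agent.S2495

open Polynomial Cfsg.Lib.Known Cfsg.Agent.S2510

theorem gcd_geom (a n : ℕ) :
    Nat.gcd (∑ i ∈ Finset.range n, (a + 1) ^ i) a = Nat.gcd n a := by
  apply Nat.ModEq.gcd_eq
  induction n with
  | zero => rfl
  | succ n ih =>
    rw [Finset.sum_range_succ]
    refine ih.add ?_
    simpa using (Nat.ModEq.pow n (show a + 1 ≡ 1 [MOD a] by simp [Nat.ModEq]))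

theorem gcd_two_mul_dvd_iff {m a : ℕ} (hm : m ≠ 0) (ha : a ≠ 0) :
    Nat.gcd (2 * m) a ∣ m ↔ padicValNat 2 a < padicValNat 2 (2 * m) := by
  have : Fact (Nat.Prime 2) := ⟨Nat.prime_two⟩
  have h2m : 2 * m ≠ 0 := by omega
  rw [padicValNat.mul two_ne_zero hm, padicValNat_self]
  constructor
  · intro h
    by_contra hc
    have h1 : 2 ^ (padicValNat 2 m + 1) ∣ a :=
      (padicValNat_dvd_iff_le ha).mpr (by omega)
    have h2 : 2 ^ (padicValNat 2 m + 1) ∣ 2 * m := by
      rw [pow_succ']; exact Nat.mul_dvd_mul_left _ pow_padicValNat_dvd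
    have := (padicValNat_dvd_iff_le hm).mp ((Nat.dvd_gcd h2 h1).trans h)
    omega
  · intro h
    have hg : Nat.gcd (2 * m) a ≠ 0 := Nat.gcd_ne_zero_left h2m
    rw [← Nat.factorization_le_iff_dvd hg hm, Nat.factorization_gcd h2m ha]
    intro r
    by_cases hr : r = 2
    · subst hr
      refine inf_le_right.trans ?_
      rw [Nat.factorization_def _ Nat.prime_two, Nat.factorization_def _ Nat.prime_two]
      omega
    · refine inf_le_left.trans ?_
      rw [Nat.factorization_mul two_ne_zero hm, Nat.prime_two.factorization]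
      simp [hr]

/-- Let q be an odd prime power, n ≥ 4 even, and L = PSL(n,q). Then L has an element of order q^(n/2) + 1 if and only if the 2-part of n exceeds the 2-part of q − 1. -/
theorem result {F : Type*} [Field F] [Fintype F] {q : ℕ} (hF : Fintype.card F = q) (hodd : Odd q)
    {n : ℕ} (hn : 4 ≤ n) (heven : Even n) :
    (∃ g : Matrix.ProjectiveSpecialLinearGroup (Fin n) F, orderOf g = q ^ (n / 2) + 1) ↔
      padicValNat 2 (q - 1) < padicValNat 2 n := by
  subst hF
  obtain ⟨p, hchar⟩ := CharP.exists F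
  have : Fact p.Prime := ⟨CharP.char_is_prime F p⟩
  have hp : p.Prime := Fact.out
  obtain ⟨m, rfl⟩ := heven.two_dvd
  rw [Nat.mul_div_cancel_left _ Nat.zero_lt_two]
  have hq1 := Fintype.one_lt_card (α := F)
  obtain ⟨a, ha⟩ : ∃ a, Fintype.card F = a + 1 := ⟨Fintype.card F - 1, by omega⟩
  have ha0 : a ≠ 0 := by omega
  have hm : m ≠ 0 := by omega
  have hM : ∑ i ∈ Finset.range (2 * m), (a + 1) ^ i =
      ((a + 1) ^ m + 1) * ∑ i ∈ Finset.range m, (a + 1) ^ i := by
    rw [two_mul, Finset.sum_range_add]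
    simp_rw [pow_add]
    rw [← Finset.mul_sum]
    ring
  have key : Fintype.card F ^ m + 1 ∣ singOrd (Fintype.card F) (2 * m) ↔
      padicValNat 2 (Fintype.card F - 1) < padicValNat 2 (2 * m) := by
    rw [singOrd, Nat.dvd_div_iff_mul_dvd (Nat.gcd_dvd_left _ _), ha, Nat.add_sub_cancel,
      gcd_geom, hM, mul_comm (Nat.gcd _ _), Nat.mul_dvd_mul_iff_left (Nat.succ_pos _),
      ← gcd_two_mul_dvd_iff hm ha0]
    constructor
    · intro h
      exact (Nat.dvd_gcd h (Nat.gcd_dvd_right _ _)).trans (gcd_geom a m ▸ Nat.gcd_dvd_left _ _)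
    · intro h
      exact (Nat.dvd_gcd h (Nat.gcd_dvd_right _ _)).trans
        ((gcd_geom a m).symm ▸ Nat.gcd_dvd_left _ _)
  rw [← key]
  constructor
  · intro h
    obtain ⟨t, ht, hd, h⟩ := mem_spec_PSL_iff.mp h
    rw [Fintype.card_fin] at ht
    have hpq : p ∣ Fintype.card F := by
      obtain ⟨f, -, hf⟩ := FiniteField.card F p
      rw [hf]; exact dvd_pow_self _ f.ne_zero
    have hpo : ¬ p ∣ Fintype.card F ^ m + 1 := fun h =>
      hp.one_lt.ne' (Nat.dvd_one.mp ((Nat.dvd_add_right (hpq.trans (dvd_pow_self _ hm))).mp h))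
    obtain ⟨r, hr, hro⟩ := Cfsg.Lib.Class.zsigmondy hq1 (show 1 < 2 * m by omega)
      (by rintro ⟨h, -⟩; rw [h] at hodd; exact absurd hodd (by decide)) (by omega)
    have h1 : ∀ k, r ∣ Fintype.card F ^ k - 1 ↔ 2 * m ∣ k := fun k => by
      rw [Cfsg.Agent.S2468.dvd_pow_sub_one_iff (by omega), hro]
    have h2 : r ∣ Fintype.card F ^ m + 1 := by
      have := (h1 (m * 2)).mpr (by rw [mul_comm])
      rw [pow_mul, ← one_pow 2, Nat.pow_two_sub_pow_two] at this
      refine (hr.dvd_mul.mp this).resolve_right fun h3 => ?_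
      have := Nat.le_of_dvd (by omega) ((h1 m).mp h3)
      omega
    obtain ⟨θ, hθ, h3⟩ := ht.exists_eig_dvd p hr (by rintro rfl; exact hpo h2) (fun h3 => by
      have := Nat.le_of_dvd Nat.one_pos ((h1 1).mp (by rwa [pow_one]))
      omega) (h ▸ h2)
    have h4 := Nat.le_of_dvd (natDegree_minpoly_ec_pos θ)
      (hro ▸ orderOf_zmod_dvd_natDegree (hθ.ne_zero ht) h3)
    obtain ⟨e, he⟩ := hθ.exists_mem ht.1
    obtain ⟨u, rfl⟩ := Multiset.exists_cons_of_mem he
    have h5 := ht.of_cons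
    have h6 := Nat.le_mul_of_pos_right (minpoly F θ).natDegree (ht.1 _ he).2.2
    rw [show 2 * m - (minpoly F θ).natDegree * e = 0 by simp only at h6; omega] at h5
    have h7 := h5.eq_zero
    subst h7
    have h8 := tOrd_singleton_dvd p (by omega) ht hd
    rw [Multiset.cons_zero] at h
    rw [h] at h8
    exact (((Nat.Prime.coprime_iff_not_dvd hp).mpr hpo).symm.pow_right _).dvd_of_dvd_mul_right h8
  · intro h
    exact mem_spec_of_dvd' (singOrd_mem p (by omega)) h

end Cfsg.Agent.S2495
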