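import Cfsg.Statements.S2496
import Mathlib
import Cfsg.Agent.Known.UOrd
import Cfsg.Agent.S2495

set_option autoImplicit false
open Cfsg

namespace Cfsg.Agent.S2496

open Cfsg.Lib.Known Cfsg.Lib.Class Polynomial

theorem gcd_coxU (q n : ℕ) : (coxU q n).gcd (q + 1) = n.gcd (q + 1) := by
  have h : ∑ i ∈ Finset.range n, (-q : ℤ) ^ i ≡ n [ZMOD (q + 1 : ℕ)] := by
    induction n with
    | zero => rfl
    | succ n ih =>
      rw [Finset.sum_range_succ, Nat.cast_succ n]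
      simpa using ih.add ((show (-q : ℤ) ≡ 1 [ZMOD (q + 1 : ℕ)] from
        Int.modEq_iff_dvd.mpr ⟨1, by push_cast; ring⟩).pow n)
  rw [coxU, ← Int.natAbs_natCast (q + 1), ← Int.gcd_eq_natAbs, Int.natAbs_natCast, ← Int.gcd_natCast_natCast,
    ← Int.gcd_emod, h, Int.gcd_emod]

theorem coxU_two_mul {q : ℕ} (hq : 1 ≤ q) (m : ℕ) :
    coxU q (2 * m) = (if Even m then q ^ m + 1 else q ^ m - 1) * coxU q m := by
  have h : (if Even m then q ^ m + 1 else q ^ m - 1) = ((-q : ℤ) ^ m + 1).natAbs := by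
    have := Nat.one_le_pow m q hq
    split_ifs with h
    · rw [h.neg_pow]; norm_cast
    · rw [(Nat.not_even_iff_odd.mp h).neg_pow, ← Nat.cast_pow]; omega
  rw [h, coxU, coxU, ← Int.natAbs_mul, two_mul, Finset.sum_range_add]
  simp_rw [pow_add]
  rw [← Finset.mul_sum]
  ring_nf

theorem exists_prime {q m : ℕ} (hq : 1 < q) (hodd : Odd q) (hm : 2 ≤ m) : ∃ r, r.Prime ∧
    r ∣ (if Even m then q ^ m + 1 else q ^ m - 1) ∧ ∀ d, r ∣ uN q d → 2 * m ∣ d := by
  have h2 : q ≠ 2 := by rintro rfl; exact absurd hodd (by decide)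
  have h0 : q ≠ 0 := by omega
  split_ifs with h
  · obtain ⟨r, hr, h1⟩ := zsigmondy hq (show 1 < 2 * m by omega) (by tauto) (by omega)
    refine ⟨r, hr, ?_, fun d hd => ?_⟩
    · refine ((prime_dvd_sub_or_add_iff h0 hr m).mpr ((eta_dvd_iff _ _).mpr (h1 ▸ dvd_rfl))).resolve_left fun h3 => ?_
      have := Nat.le_of_dvd (by omega) (h1 ▸ (dvd_pow_sub_one_iff h0 r m).mp h3)
      omega
    · rw [dvd_uN_iff] at hd
      have h3 : 2 * m ∣ 2 * d := h1 ▸ orderOf_dvd_of_pow_eq_one (by rw [pow_mul, ← neg_sq, ← pow_mul, pow_mul', hd, one_pow])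
      rw [(even_iff_two_dvd.mpr (h.two_dvd.trans (Nat.dvd_of_mul_dvd_mul_left two_pos h3))).neg_pow] at hd
      exact h1 ▸ orderOf_dvd_of_pow_eq_one hd
  · rw [Nat.not_even_iff_odd] at h
    obtain ⟨r, hr, h1⟩ := zsigmondy hq (show 1 < m by omega) (by tauto)
      (by rintro ⟨rfl, -⟩; exact absurd h (by decide))
    refine ⟨r, hr, (dvd_pow_sub_one_iff h0 r m).mpr (h1 ▸ dvd_rfl), fun d hd => ?_⟩
    rw [dvd_uN_iff] at hd
    have h3 : m ∣ d := (Nat.coprime_two_right.mpr h).dvd_of_dvd_mul_left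
      (h1 ▸ orderOf_dvd_of_pow_eq_one (by rw [pow_mul, ← neg_sq, ← pow_mul, pow_mul', hd, one_pow]))
    refine (Nat.coprime_two_left.mpr h).mul_dvd_of_dvd_of_dvd (even_iff_two_dvd.mp
      (Nat.not_odd_iff_even.mp fun h4 => ?_)) h3
    rw [h4.neg_pow, orderOf_dvd_iff_pow_eq_one.mp (h1 ▸ h3)] at hd
    obtain rfl : r = 2 := (Nat.prime_dvd_prime_iff_eq hr Nat.prime_two).mp
      ((ZMod.natCast_eq_zero_iff 2 r).mp (by push_cast; linear_combination -hd))
    rw [(ZMod.natCast_eq_one_iff_odd).mpr hodd, orderOf_one] at h1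
    omega

/-- Let q be an odd prime power, n ≥ 4 even, and U = PSU(n,q) (realised over the field with q² elements). Then U has an element of order q^(n/2) + (−1)^(n/2) — that is, q^(n/2) + 1 when n/2 is even and q^(n/2) − 1 when n/2 is odd — if and only if the 2-part of n exceeds the 2-part of q + 1. -/
theorem result {F : Type*} [Field F] [Fintype F] {q : ℕ} (hF : Fintype.card F = q ^ 2) (hodd : Odd q)
    {n : ℕ} (hn : 4 ≤ n) (heven : Even n) :
    (∃ g : Cfsg.PSU n F q, orderOf g = if Even (n / 2) then q ^ (n / 2) + 1 else q ^ (n / 2) - 1) ↔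
      padicValNat 2 (q + 1) < padicValNat 2 n := by
  obtain ⟨p, hchar⟩ := CharP.exists F
  have hp := CharP.char_is_prime F p
  have : Fact p.Prime := ⟨hp⟩
  obtain ⟨m, rfl⟩ := heven.two_dvd
  rw [Nat.mul_div_cancel_left _ Nat.zero_lt_two]
  have hq := two_le_of_card_sq hF
  have hpq := char_dvd_of_card_sq p hF
  have h1 := coxU_two_mul (show 1 ≤ q by omega) m
  obtain ⟨r, hr, h2, h3⟩ := exists_prime hq hodd (show 2 ≤ m by omega)
  generalize (if Even m then q ^ m + 1 else q ^ m - 1) = o at *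
  have h4 := not_dvd_coxU hp hpq (show 2 * m ≠ 0 by omega)
  have h5 : ¬ p ∣ o := fun h => h4 (h1 ▸ h.mul_right _)
  have key : o ∣ coxU q (2 * m) / (coxU q (2 * m)).gcd (q + 1) ↔
      padicValNat 2 (q + 1) < padicValNat 2 (2 * m) := by
    rw [Nat.dvd_div_iff_mul_dvd (Nat.gcd_dvd_left _ _), gcd_coxU, h1, mul_comm (Nat.gcd _ _),
      Nat.mul_dvd_mul_iff_left (Nat.pos_of_ne_zero fun h => h5 (by rw [h]; exact dvd_zero p)),
      ← S2495.gcd_two_mul_dvd_iff (by omega) q.succ_ne_zero]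
    exact ⟨fun h => (Nat.dvd_gcd h (Nat.gcd_dvd_right _ _)).trans (gcd_coxU q m ▸ Nat.gcd_dvd_left _ _),
      fun h => (Nat.dvd_gcd h (Nat.gcd_dvd_right _ _)).trans ((gcd_coxU q m).symm ▸ Nat.gcd_dvd_left _ _)⟩
  rw [← key]
  refine ⟨fun h => ?_, mem_spec_of_dvd' (coxU_div_mem_spec hF (by omega))⟩
  obtain ⟨s, hs, h6, rfl⟩ := (mem_spec_PSU_iff hF (by omega)).mp h
  obtain ⟨θ, h7, h8⟩ := hs.1.exists_eig_of_prime_dvd p hr (by rintro rfl; exact h5 h2)
    (h2.trans hs.1.tOrd_dvd_gOrd)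
  have h9 := h7.ne_zero hs.1
  have h10 := Nat.le_of_dvd (pdeg_pos h9) (h3 _ (h8.trans (orderOf_dvd_of_pow_eq_one
    ((pdeg_frobq_dvd_iff' hF h9 _).mp dvd_rfl))))
  obtain ⟨e, he⟩ := h7.exists_mem hs.1.1
  obtain ⟨t, -, rfl⟩ := exists_piece_add (frobq_frobq hF) hs.1 hs.2 he
  have h11 := hs.1.2.1
  rw [elDeg_add, elDeg_piece h9] at h11
  obtain ⟨e, rfl⟩ := Nat.exists_eq_add_of_le' (show 1 ≤ e from (hs.1.1 _ he).2.2)
  rw [mul_add, mul_one] at h11
  obtain rfl : t = 0 := by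
    by_contra h
    have := hs.1.of_add_right.1.elDeg_pos h
    omega
  obtain rfl : e = 0 := (mul_eq_zero.mp (show pdeg (frobq hF) θ * e = 0 by omega)).resolve_left (by omega)
  rw [add_zero] at h6 ⊢
  exact (show pdeg (frobq hF) θ = 2 * m by omega) ▸ tOrd_piece_dvd_coxU hF h9 h6

end Cfsg.Agent.S2496
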