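import Cfsg.Statements.S2649
import Cfsg.Agent.Spor.XtM23
import Cfsg.Agent.S0362

set_option autoImplicit false
set_option linter.unusedVariables false
set_option maxRecDepth 100000
open Cfsg

namespace Cfsg.Agent.S2649

open Cfsg.Lib.Spor Cfsg.Lib.Spor.XT

theorem chkA : datA.chk asA bsA ts = true := by decide +kernel

theorem dot_unit (p : GolayPt) (a : Wd) : maskWord (2 ^ ptIdx p) ⬝ᵥ a = a p := by
  rw [show maskWord (2 ^ ptIdx p) = Pi.single p 1 by revert p; decide +kernel, single_one_dotProduct]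

/-- Extensions of the Mathieu group M₂₃ by its code module split. Let E be a finite group with a normal subgroup N, an isomorphism φ from E/N onto M₂₃ = `Spor.M23` (the stabiliser of the extra point `none` in M₂₄ acting on the 24 points `GolayPt`), and an injective additive homomorphism ψ from N onto the set of words of the binary Golay code `golayCode` that vanish at `none` (an 11-dimensional space over the field with two elements), such that conjugation by g ∈ E on N corresponds under ψ to the coordinate permutation w ↦ w ∘ σ⁻¹, σ the permutation φ(gN). Then N has a complement in E: some subgroup H meets N trivially and generates E together with N. (Equivalently, the second cohomology group of M₂₃ with coefficients in this module vanishes.) -/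
theorem result
    {E : Type*} [Group E] [Finite E] (N : Subgroup E) [hN : N.Normal]
    (φ : E ⧸ N ≃* ↥Cfsg.Spor.M23)
    (ψ : Additive ↥N →+ (Cfsg.GolayPt → ZMod 2)) (hinj : Function.Injective ψ)
    (hrange : ∀ w : Cfsg.GolayPt → ZMod 2, w ∈ Set.range ψ ↔ (w ∈ Cfsg.golayCode ∧ w none = 0))
    (hψ : ∀ (g : E) (n : ↥N),
      ψ (Additive.ofMul ⟨g * n * g⁻¹, hN.conj_mem n n.2 g⟩)
        = ψ (Additive.ofMul n) ∘ ⇑(((φ (QuotientGroup.mk g) : ↥Cfsg.Spor.M23) : Equiv.Perm Cfsg.GolayPt)⁻¹)) :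
    ∃ H : Subgroup E, H ⊓ N = ⊥ ∧ H ⊔ N = ⊤ := by
  let π : E →* Spor.M23 := φ.toMonoidHom.comp (QuotientGroup.mk' N)
  have hs : Function.Surjective π := φ.surjective.comp (QuotientGroup.mk'_surjective N)
  have hk : π.ker = N := by
    ext g; simp [π]
  let θ : Wd → E := fun w => (Function.invFun ψ w).toMul
  have h1 : ∀ n, θ (ψ n) = n.toMul := fun n => by simp only [θ, Function.leftInverse_invFun hinj n]
  have h2 : ∀ (g : E) n, ψ n ∘ ⇑((Spor.M23.subtype.comp π) g)⁻¹ =
      ψ (Additive.ofMul ⟨g * n.toMul * g⁻¹, hN.conj_mem _ n.toMul.2 g⟩) := fun g n => (hψ g n.toMul).symm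
  have hM : Md datA (Spor.M23.subtype.comp π) θ ψ.range := by
    refine ⟨?_, ?_, ?_, ?_, fun a ha c hc => ?_, ?_, fun g hg => ?_⟩
    · rintro _ ⟨a, rfl⟩ _ ⟨b, rfl⟩
      rw [← map_add, h1, h1, h1]; rfl
    · rintro g _ ⟨a, rfl⟩
      exact ⟨_, (h2 g a).symm⟩
    · rintro g _ ⟨a, rfl⟩
      rw [h2, h1, h1]; rfl
    · rintro _ ⟨a, rfl⟩
      rw [h1, OneMemClass.coe_eq_one, toMul_eq_one, ← hinj.eq_iff, map_zero]
      refine ⟨fun e c _ => by rw [e, dotProduct_zero], fun e => funext fun p => ?_⟩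
      exact (dot_unit p _).symm.trans (e _ (by revert p; decide +kernel))
    · obtain ⟨h3, h4⟩ := (hrange a).1 ha
      rcases (by decide +kernel : ∀ c ∈ datA.hs, isGolay c = true ∨ c = 2 ^ ptIdx none) c hc with e | rfl
      · exact S0362.result _ _ (mem_golayCode_iff.2 ⟨c, e, rfl⟩) h3
      · rw [dot_unit, h4]
    · rintro _ ⟨a, rfl⟩
      rw [h1, MonoidHom.comp_apply, show π a.toMul = 1 from hk.ge a.toMul.2, map_one]
    · have : g ∈ N := hk.le (Subtype.ext hg)
      exact ⟨_, ⟨Additive.ofMul ⟨g, this⟩, rfl⟩, h1 _⟩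
  obtain ⟨y, f, h3, h4⟩ := tails hs hM rfl rfl (fun L hL a ha => by
    have := (by decide +kernel : ∀ L ∈ datA.ext, ∀ a ∈ L, isGolay a.2 = true ∧ maskWord a.2 none = 0) L hL a ha
    exact (hrange _).2 ⟨mem_golayCode_iff.2 ⟨_, this.1, rfl⟩, this.2⟩) chkA
  have h5 : ∀ a ∈ π.ker, ∃ w ∈ ψ.range, θ w = a := fun a ha => hM.onto a (congrArg Subtype.val ha)
  rw [← hk]
  refine split hs (fun a ha b hb => ?_) (fun a ha => ?_) h3 fun t ht => ?_
  · obtain ⟨v, hv, rfl⟩ := h5 a ha
    obtain ⟨w, hw, rfl⟩ := h5 b hb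
    rw [← hM.add _ hv _ hw, add_comm, hM.add _ hw _ hv]
  · obtain ⟨v, hv, rfl⟩ := h5 a ha
    exact hM.sq hv
  · rw [h4 t ht, show datA.ext.getD 7 [] = [] from rfl, List.map_nil, List.sum_nil, hM.zero, one_pow, one_mul]

end Cfsg.Agent.S2649
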