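import Cfsg.Statements.S2650
import Cfsg.Agent.Spor.XtCo

set_option autoImplicit false
set_option linter.unusedVariables false
set_option maxRecDepth 100000
open Cfsg

namespace Cfsg.Agent.S2650

open Cfsg.Lib.Spor Cfsg.Lib.Spor.XT Cfsg.Lib.Spor.MP

/-- the cocode valued map underlying the Parker loop -/
def thL (L : List (ℕ × ℕ)) : ℕ → ℕ :=
  List.rec (fun _ => 0) (fun a L ih k => ((a.1 &&& xorComb (L.map Prod.fst) (k / 2)) ^^^ a.2) * (k % 2) ^^^ ih (k / 2)) L

theorem mask_and (a b : ℕ) : maskWord (a &&& b) = maskWord a * maskWord b := funext fun p => by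
  rw [Pi.mul_apply, maskWord, maskWord, maskWord, Nat.testBit_and]
  cases a.testBit (ptIdx p) <;> cases b.testBit (ptIdx p) <;> simp

theorem two_zero (w : Wd) : 2 * w = 0 := funext fun p => by
  rw [Pi.mul_apply, show (2 : Wd) p = 0 from rfl, zero_mul]; rfl

theorem thL_xor (L : List (ℕ × ℕ)) (k l : ℕ) : maskWord (thL L (k ^^^ l)) = maskWord (thL L k) + maskWord (thL L l) +
    maskWord (xorComb (L.map Prod.fst) k) * maskWord (xorComb (L.map Prod.fst) l) +
    maskWord (xorComb (L.map Prod.fst) (k &&& l)) := by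
  induction L generalizing k l with
  | nil => simp [xorComb_nil, show ∀ k, thL [] k = 0 from fun _ => rfl, maskWord_zero]
  | cons a L ih =>
    have e : ∀ k, thL (a :: L) k = (if k.testBit 0 then (a.1 &&& xorComb (L.map Prod.fst) (k / 2)) ^^^ a.2 else 0) ^^^
        thL L (k / 2) := fun k => by
      change _ * (k % 2) ^^^ _ = _
      rcases Nat.mod_two_eq_zero_or_one k with h | h <;> simp [h] <;> rfl
    have h2 : maskWord a.1 * maskWord a.1 = maskWord a.1 := by rw [← mask_and, Nat.and_self]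
    simp only [e, List.map_cons, xorComb_cons, Nat.testBit_xor, Nat.testBit_and, Nat.xor_div_two, Nat.and_div_two,
      maskWord_xor, ih, xorComb_xor]
    cases k.testBit 0 <;> cases l.testBit 0 <;>
      simp only [Bool.xor_false, Bool.xor_true, Bool.not_true, Bool.not_false, Bool.and_false, Bool.and_true,
        Bool.false_eq_true, if_true, if_false, maskWord_xor, mask_and, maskWord_zero]
    · ring
    · linear_combination -two_zero 0
    · linear_combination -two_zero 0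
    · linear_combination -h2 - two_zero (maskWord a.1 + maskWord a.2 + maskWord a.1 *
        (maskWord (xorComb (L.map Prod.fst) (k / 2)) + maskWord (xorComb (L.map Prod.fst) (l / 2))))

def th (k : ℕ) : ℕ := thL (golayGens.zip [256, 32, 512, 1024, 64, 0, 0, 2048, 0, 0, 0, 0]) k

noncomputable def key (a : Wd) : ℕ := setMask (support₂ a) &&& 4095

theorem key_mask {m : ℕ} (h : isGolay m = true) : key (maskWord m) = m &&& 4095 := by
  rw [key, support_maskWord, setMask_maskSet (isGolay_lt h)]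

theorem code_enc {a : Wd} (h : a ∈ golayCode) : ∃ k < 4096, maskWord (enc k) = a ∧ key a = k := by
  obtain ⟨m, hm, rfl⟩ := mem_golayCode_iff.1 h
  obtain ⟨k, hk, rfl⟩ := isGolay_iff.1 hm
  exact ⟨k, hk, rfl, by rw [key_mask hm, enc_and hk]⟩

theorem key_add {a b : Wd} (ha : a ∈ golayCode) (hb : b ∈ golayCode) : key (a + b) = key a ^^^ key b := by
  obtain ⟨m, hm, rfl⟩ := mem_golayCode_iff.1 ha
  obtain ⟨n, hn, rfl⟩ := mem_golayCode_iff.1 hb
  rw [← maskWord_xor, key_mask hm, key_mask hn, key_mask (isGolay_xor hm hn), Nat.and_xor_distrib_right]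

/-- the cocycle of the Parker loop -/
noncomputable def cc (a b : Wd) : ZMod 2 := maskWord (th (key a)) ⬝ᵥ b

theorem cc_add {a a' b : Wd} (ha : a ∈ golayCode) (ha' : a' ∈ golayCode) (hb : b ∈ golayCode) :
    cc (a + a') b = cc a b + cc a' b + (a * a') ⬝ᵥ b := by
  rw [cc, key_add ha ha']
  obtain ⟨k, -, rfl, h1⟩ := code_enc ha
  obtain ⟨l, -, rfl, h2⟩ := code_enc ha'
  rw [cc, cc, h1, h2, th, thL_xor, add_dotProduct, add_dotProduct, add_dotProduct]
  exact add_eq_left.2 (dot_code (maskWord_enc_mem (k &&& l)) hb)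

theorem cc_self {a : Wd} (ha : a ∈ golayCode) : cc a a = ((support₂ a).card / 4 : ℕ) := by
  obtain ⟨k, hk, rfl, h1⟩ := code_enc ha
  have h : allLT 4096 (fun k => Nat.beq (popc (th k &&& enc k) % 2) (popc (enc k) / 4 % 2)) = true := by
    decide +kernel
  rw [cc, h1, dot_mask, support_maskWord, card_maskSet, ZMod.natCast_eq_natCast_iff']
  exact Nat.eq_of_beq_eq_true (allLT_iff.1 h k hk)

noncomputable def be (σ : Equiv.Perm GolayPt) (a b : Wd) : ZMod 2 := cc (a ∘ ⇑σ⁻¹) (b ∘ ⇑σ⁻¹) + cc a b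

theorem dot_comp (σ : Equiv.Perm GolayPt) (a b : Wd) : (a ∘ ⇑σ) ⬝ᵥ (b ∘ ⇑σ) = a ⬝ᵥ b :=
  Equiv.sum_comp σ fun p => a p * b p

theorem exq {σ : Equiv.Perm GolayPt} (hσ : σ ∈ M24) :
    ∃ q : Wd → ZMod 2, ∀ a ∈ golayCode, ∀ b ∈ golayCode, q (a + b) + q a + q b = be σ a b := by
  have m : ∀ a ∈ golayCode, a ∘ ⇑σ⁻¹ ∈ golayCode := fun a => comp_symm_mem_golayCode hσ
  have h1 : ∀ a b b', be σ a (b + b') = be σ a b + be σ a b' := fun a b b' => by
    simp only [be, cc, Pi.add_comp, dotProduct_add]; ring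
  have h2 : ∀ a ∈ golayCode, ∀ a' ∈ golayCode, ∀ b ∈ golayCode, be σ (a + a') b = be σ a b + be σ a' b :=
    fun a ha a' ha' b hb => by
    rw [be, be, be, Pi.add_comp, cc_add (m a ha) (m a' ha') (m b hb), cc_add ha ha' hb, ← Pi.mul_comp, dot_comp]
    linear_combination CharTwo.add_self_eq_zero ((a * a') ⬝ᵥ b)
  have h3 : ∀ a ∈ golayCode, be σ a a = 0 := fun a ha => by
    rw [be, cc_self ha, cc_self (m a ha), show support₂ (a ∘ ⇑σ⁻¹) = _ from support₂_comp_symm σ a,
      card_perm_smul_finset, CharTwo.add_self_eq_zero]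
  have h4 : ∀ a ∈ golayCode, ∀ b ∈ golayCode, be σ a b = be σ b a := fun a ha b hb => by
    have := h3 _ (add_mem ha hb)
    rw [h2 a ha b hb _ (add_mem ha hb), h1, h1, h3 a ha, h3 b hb, zero_add, add_zero] at this
    linear_combination this - CharTwo.add_self_eq_zero (be σ b a)
  have k : ∀ gs : List ℕ, (∀ g ∈ gs, maskWord g ∈ golayCode) → ∃ q : ℕ → ZMod 2, ∀ k l,
      q (k ^^^ l) + q k + q l = be σ (maskWord (xorComb gs k)) (maskWord (xorComb gs l)) := fun gs hg => by
    induction gs with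
    | nil => exact ⟨0, fun k l => by simp [xorComb_nil, maskWord_zero, h3 0 (zero_mem _)]⟩
    | cons g gs ih =>
      have h5 := fun x hx => hg x (List.mem_cons_of_mem _ hx)
      have h6 := hg g List.mem_cons_self
      obtain ⟨q, hq⟩ := ih h5
      refine ⟨fun k => (if k.testBit 0 then be σ (maskWord g) (maskWord (xorComb gs (k / 2))) else 0) + q (k / 2),
        fun k l => ?_⟩
      have h7 := maskWord_xorComb_mem _ gs h5 (k / 2)
      have h8 := maskWord_xorComb_mem _ gs h5 (l / 2)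
      have h9 := hq (k / 2) (l / 2)
      simp only [xorComb_cons, Nat.testBit_xor, Nat.xor_div_two, xorComb_xor]
      cases k.testBit 0 <;> cases l.testBit 0 <;>
        simp only [Bool.xor_false, Bool.xor_true, Bool.not_true, Bool.not_false, Bool.false_eq_true, if_true, if_false,
          maskWord_xor, Nat.zero_xor, h1, h2 _ h6 _ h7 _ h8, h2 _ h6 _ h7 _ h6, h3 _ h6, h4 _ h7 _ h6]
      · linear_combination h9
      · linear_combination h9 + CharTwo.add_self_eq_zero (be σ (maskWord g) (maskWord (xorComb gs (l / 2))))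
      · linear_combination h9 + CharTwo.add_self_eq_zero (be σ (maskWord g) (maskWord (xorComb gs (k / 2))))
      · linear_combination h9
  obtain ⟨q, hq⟩ := k golayGens fun g hg => mask_mem (isGolay_of_mem_golayGens g hg).1
  refine ⟨fun a => q (key a), fun a ha b hb => ?_⟩
  beta_reduce
  rw [key_add ha hb, hq]
  obtain ⟨k, -, rfl, h5⟩ := code_enc ha
  obtain ⟨l, -, rfl, h6⟩ := code_enc hb
  rw [h5, h6]; rfl

/-- the code words vanishing at the extra point -/
def V : Submodule (ZMod 2) Wd := golayCode ⊓ LinearMap.ker (LinearMap.proj none)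

def act (σ : Spor.M23) (a : V) : V :=
  ⟨a.1 ∘ ⇑σ.1⁻¹, comp_symm_mem_golayCode σ.2.1 a.2.1,
    (congrArg a.1 (show σ.1⁻¹ none = none from σ⁻¹.2.2)).trans a.2.2⟩

/-- automorphisms of the part of the Parker loop above `V` -/
@[ext] structure El where
  σ : Spor.M23
  q : V → ZMod 2
  h : ∀ a b : V, q (a + b) + q a + q b = be σ a b

instance elMul : Mul El := ⟨fun x y => ⟨x.σ * y.σ, fun a => x.q (act y.σ a) + y.q a, fun a b => by
  have h1 : x.q (act y.σ (a + b)) + _ + _ = cc (a.1 ∘ ⇑(x.σ * y.σ).1⁻¹) (b.1 ∘ ⇑(x.σ * y.σ).1⁻¹) +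
    cc (a.1 ∘ ⇑y.σ.1⁻¹) (b.1 ∘ ⇑y.σ.1⁻¹) := x.h (act y.σ a) (act y.σ b)
  have h2 := y.h a b
  rw [be] at h2 ⊢
  linear_combination h1 + h2 + CharTwo.add_self_eq_zero (cc (a.1 ∘ ⇑y.σ.1⁻¹) (b.1 ∘ ⇑y.σ.1⁻¹))⟩⟩

instance elOne : One El := ⟨⟨1, 0, fun a b => by
  rw [Pi.zero_apply, Pi.zero_apply, Pi.zero_apply, add_zero, add_zero]; exact (CharTwo.add_self_eq_zero _).symm⟩⟩

theorem act_inv (σ : Spor.M23) (a : V) : act σ⁻¹ (act σ a) = a := Subtype.ext (funext fun p => by simp [act])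

instance elInv : Inv El := ⟨fun x => ⟨x.σ⁻¹, fun a => x.q (act x.σ⁻¹ a), fun a b => by
  have h1 : x.q (act x.σ⁻¹ (a + b)) + _ + _ = cc (act x.σ⁻¹⁻¹ (act x.σ⁻¹ a)) (act x.σ⁻¹⁻¹ (act x.σ⁻¹ b)) + _ :=
    x.h (act x.σ⁻¹ a) (act x.σ⁻¹ b)
  rw [h1, act_inv, act_inv, add_comm]; rfl⟩⟩

instance elGroup : Group El := Group.ofLeftAxioms
  (fun x y z => El.ext (mul_assoc _ _ _) (funext fun a => add_assoc _ _ _))
  (fun x => El.ext (one_mul _) (funext fun a => zero_add _))
  fun x => El.ext (inv_mul_cancel _) (funext fun a =>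
    (congrArg (fun b => x.q b + x.q a) (act_inv x.σ a)).trans (CharTwo.add_self_eq_zero _))

instance elFinite : Finite El := Finite.of_injective (fun x : El => (x.σ, x.q))
  fun _ _ h => El.ext (congrArg Prod.fst h) (congrArg Prod.snd h)

def π : El →* Spor.M23 := ⟨⟨El.σ, rfl⟩, fun _ _ => rfl⟩

theorem π_surj : Function.Surjective π := fun σ => by
  obtain ⟨q, hq⟩ := exq σ.2.1
  exact ⟨⟨σ, fun a => q a, fun a b => hq _ a.2.1 _ b.2.1⟩, rfl⟩

def lin (w : Wd) : El := ⟨1, fun a => a.1 ⬝ᵥ w, fun a b => by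
  rw [Submodule.coe_add, add_dotProduct, show be (1 : Spor.M23) a b = 0 from CharTwo.add_self_eq_zero _]
  linear_combination CharTwo.add_self_eq_zero (a.1 ⬝ᵥ w + b.1 ⬝ᵥ w)⟩

theorem lin_add (v w : Wd) : lin (v + w) = lin v * lin w :=
  El.ext (one_mul (1 : Spor.M23)).symm (funext fun a => dotProduct_add a.1 v w)

theorem lin_mem (w : Wd) : lin w ∈ π.ker := MonoidHom.mem_ker.2 rfl

def θ : Wd →+ Additive π.ker := AddMonoidHom.mk' (fun w => Additive.ofMul ⟨lin w, lin_mem w⟩) fun v w => by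
  rw [← ofMul_mul]; exact congrArg _ (Subtype.ext (lin_add v w))

theorem θ_val (w : Wd) : ((θ w).toMul : El) = lin w := rfl

def xr (O : List (ℕ × ℕ)) (l : ℕ) : ℕ := List.rec 0 (fun o _ ih => if o.1 = l then o.2 ^^^ ih else ih) O

def beM (p a b : ℕ) : ℕ := popc (th (apM p a &&& 4095) &&& apM p b) + popc (th (a &&& 4095) &&& b)

def bt (O : List (ℕ × ℕ)) : ℕ := List.rec 0 (fun o O ih => beM (datB.g o.1) o.2 (xr O o.1) + ih) O

def occ (m : ℕ) (w : List ℕ) : List (ℕ × ℕ) := List.rec [] (fun l w ih => (l, apM (datB.pw w) m) :: ih) w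

def Gd (m : ℕ) : Prop := isGolay m = true ∧ m.testBit 23 = false

theorem Gd.mem {m : ℕ} (h : Gd m) : maskWord m ∈ V := ⟨mask_mem h.1, if_neg (Bool.eq_false_iff.1 h.2)⟩

theorem comp_mask {σ : Equiv.Perm GolayPt} {p : ℕ} (h : Rep σ p) (m : ℕ) : maskWord m ∘ ⇑σ⁻¹ = maskWord (apM p m) :=
  support₂_injective (by
    rw [support_maskWord, ← h.smul_maskSet, ← support_maskWord]; exact support₂_comp_symm σ _)

theorem Gd.ap {σ : Spor.M23} {p m : ℕ} (h : Rep σ p) (hm : Gd m) : Gd (apM p m) := by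
  have h1 := (act σ ⟨_, hm.mem⟩).2
  change maskWord m ∘ _ ∈ _ at h1
  rw [comp_mask h] at h1
  refine ⟨(maskSet_mem_golaySets_iff (h.apM_lt m)).1 (support_maskWord _ ▸ support_mem_golaySets_iff.2 h1.1), ?_⟩
  have h2 : maskWord (apM p m) none = 0 := h1.2
  exact Bool.eq_false_iff.2 fun e => by simp [maskWord, ptIdx_none, e] at h2

theorem nonsplit (H : Subgroup El) (h1 : H ⊓ π.ker = ⊥) (h2 : H ⊔ π.ker = ⊤) : False := by
  classical
  have : ∀ l, ∃ x ∈ H, Rep (π x) (datB.g l) := fun l => by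
    obtain ⟨g, hg⟩ := gp_mem l
    obtain ⟨x, rfl⟩ := π_surj g
    obtain ⟨a, ha, b, hb, rfl⟩ := Subgroup.mem_sup_of_normal_right.1 (h2.ge (Subgroup.mem_top x))
    exact ⟨a, ha, by rwa [map_mul, show π b = 1 from hb, mul_one] at hg⟩
  choose y h3 h4 using this
  have h5 := rep_ev (D := datB) (ρ := Spor.M23.subtype.comp π) h4
  have h6 : ∀ w, ev y w ∈ H := fun w => H.list_prod_mem fun a ha => by
    obtain ⟨b, -, rfl⟩ := List.mem_map.1 ha
    exact h3 b
  have h7 : ∀ v w, datB.pw v = datB.pw w → ev y v = ev y w := fun v w e => mul_inv_eq_one.1 (h1.le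
    ⟨H.mul_mem (h6 v) (H.inv_mem (h6 w)), MonoidHom.mem_ker.2 (by
      rw [map_mul, map_inv, mul_inv_eq_one]
      exact Subtype.ext ((h5 v).unique (e ▸ h5 w)))⟩)
  let Q : ℕ × ℕ → ZMod 2 := fun o => if h : Gd o.2 then (y o.1).q ⟨_, h.mem⟩ else 0
  have k1 : ∀ m (hm : Gd m) w, (ev y w).q ⟨_, hm.mem⟩ = ((occ m w).map Q).sum := fun m hm w => by
    induction w with
    | nil => rfl
    | cons l w ih =>
      change (y l).q (act _ _) + _ = Q (l, apM (datB.pw w) m) + ((occ m w).map Q).sum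
      rw [← ih]
      simp only [Q, dif_pos (hm.ap (h5 w))]
      congr 2
      exact Subtype.ext (comp_mask (h5 w) m)
  have k2 : ∀ l a b, Gd a → Gd b → Gd (a ^^^ b) ∧ Q (l, a ^^^ b) = Q (l, b) + (Q (l, a) + beM (datB.g l) a b) :=
    fun l a b ha hb => by
    have hc : Gd (a ^^^ b) := ⟨isGolay_xor ha.1 hb.1, by rw [Nat.testBit_xor, ha.2, hb.2]; rfl⟩
    have : _ = be (π (y l)) (maskWord a) (maskWord b) := (y l).h ⟨_, ha.mem⟩ ⟨_, hb.mem⟩
    rw [be, comp_mask (h4 l), comp_mask (h4 l), cc, cc, key_mask ha.1, key_mask (ha.ap (h4 l)).1, dot_mask, dot_mask,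
      show (⟨_, ha.mem⟩ : V) + ⟨_, hb.mem⟩ = ⟨_, hc.mem⟩ from Subtype.ext (maskWord_xor a b).symm] at this
    refine ⟨hc, ?_⟩
    simp only [Q, dif_pos ha, dif_pos hb, dif_pos hc, beM, Nat.cast_add]
    linear_combination this - CharTwo.add_self_eq_zero ((y l).q ⟨_, ha.mem⟩ + (y l).q ⟨_, hb.mem⟩)
  have g0 : Gd 0 := ⟨by decide +kernel, rfl⟩
  have k0 : ∀ l, Q (l, 0) = 0 := fun l => by
    have := (k2 l 0 0 g0 g0).2
    rw [Nat.xor_self, beM, Nat.and_zero, show apM (datB.g l) 0 = 0 from by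
      have := (h4 l).smul_maskSet 0
      exact maskSet_injOn ((h4 l).apM_lt 0) (by norm_num) (by rw [← this, maskSet_zero]; rfl), Nat.and_zero] at this
    simpa [show popc 0 = 0 from rfl] using this
  have k3 : ∀ O : List (ℕ × ℕ), (∀ o ∈ O, o.1 < 7 ∧ Gd o.2) → (∀ l, Gd (xr O l)) ∧
      (O.map Q).sum = ∑ l ∈ Finset.range 7, Q (l, xr O l) + bt O := fun O hO => by
    induction O with
    | nil => exact ⟨fun _ => g0, by simp [show ∀ l, xr [] l = 0 from fun _ => rfl, k0, show bt [] = 0 from rfl]⟩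
    | cons o O ih =>
      obtain ⟨i1, i2⟩ := ih fun x hx => hO x (List.mem_cons_of_mem _ hx)
      obtain ⟨i3, i4⟩ := hO o List.mem_cons_self
      have e : ∀ l, Gd (xr (o :: O) l) ∧ Q (l, xr (o :: O) l) = Q (l, xr O l) +
          if o.1 = l then Q o + beM (datB.g o.1) o.2 (xr O o.1) else 0 := fun l => by
        rw [show xr (o :: O) l = if o.1 = l then o.2 ^^^ xr O l else xr O l from rfl]
        split_ifs with c
        · subst c; exact k2 _ _ _ i4 (i1 _)
        · exact ⟨i1 l, (add_zero _).symm⟩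
      refine ⟨fun l => (e l).1, ?_⟩
      simp only [(e _).2, Finset.sum_add_distrib, Finset.sum_ite_eq, Finset.mem_range, i3, if_true, List.map_cons,
        List.sum_cons, i2, show bt (o :: O) = beM (datB.g o.1) o.2 (xr O o.1) + bt O from rfl, Nat.cast_add]
      linear_combination -CharTwo.add_self_eq_zero (beM (datB.g o.1) o.2 (xr O o.1) : ZMod 2)
  have k4 : ∀ m v w, Gd m → datB.pw v = datB.pw w → ((occ m v ++ occ m w).map Q).sum = 0 := fun m v w hm e => by
    rw [List.map_append, List.sum_append, ← k1 m hm, ← k1 m hm, h7 v w e, CharTwo.add_self_eq_zero]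
  obtain ⟨O, hO⟩ : ∃ O, O = (occ 3601676 [0, 1] ++ occ 3601676 [1, 5, 6, 0]) ++ ((occ 4865677 [1, 3] ++
    occ 4865677 [3, 5, 1]) ++ ((occ 2207772 [2, 3] ++ occ 2207772 [3, 2]) ++ (occ 6959589 [2, 5] ++
    occ 6959589 [5, 6, 2]))) := ⟨_, rfl⟩
  have k5 : (∀ o ∈ O, o.1 < 7 ∧ isGolay o.2 = true ∧ o.2.testBit 23 = false) ∧ (∀ l ∈ Finset.range 7, xr O l = 0) ∧
    bt O % 2 = 1 := by rw [hO]; decide +kernel
  have k6 := (k3 O k5.1).2
  rw [Finset.sum_eq_zero fun l hl => by rw [k5.2.1 l hl, k0], (ZMod.natCast_eq_natCast_iff' _ 1 2).2 k5.2.2, hO,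
    List.map_append, List.sum_append, k4 _ _ _ ⟨by decide +kernel, rfl⟩ (by decide +kernel),
    List.map_append, List.sum_append, k4 _ _ _ ⟨by decide +kernel, rfl⟩ (by decide +kernel),
    List.map_append, List.sum_append, k4 _ _ _ ⟨by decide +kernel, rfl⟩ (by decide +kernel),
    k4 _ _ _ ⟨by decide +kernel, rfl⟩ (by decide +kernel)] at k6
  exact absurd k6 (by decide)

/-- A non-split extension of the Mathieu group M₂₃ by its cocode module exists. There is a finite group E with a normal subgroup N, an isomorphism φ from E/N onto M₂₃ = `Spor.M23` (the stabiliser of the extra point `none` in M₂₄ acting on the 24 points `GolayPt`), and a surjective additive homomorphism θ from the binary words on `GolayPt` onto N whose kernel consists of the words of the Golay code `golayCode` and their translates by the unit vector at `none` (so N is elementary abelian of order 2¹¹), such that θ carries the coordinate permutation w ↦ w ∘ σ⁻¹, σ = φ(gN), to conjugation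 by g on N — and such that N has no complement in E. -/
theorem result :
    ∃ (E : Type) (_ : Group E) (_ : Finite E) (N : Subgroup E) (_ : N.Normal)
      (φ : E ⧸ N ≃* ↥Cfsg.Spor.M23) (θ : (Cfsg.GolayPt → ZMod 2) →+ Additive ↥N),
      Function.Surjective θ ∧
      (∀ w : Cfsg.GolayPt → ZMod 2, θ w = 0 ↔ (w ∈ Cfsg.golayCode ∨ w + Pi.single none 1 ∈ Cfsg.golayCode)) ∧
      (∀ (g : E) (w : Cfsg.GolayPt → ZMod 2),
        ((θ (w ∘ ⇑(((φ (QuotientGroup.mk g) : ↥Cfsg.Spor.M23) : Equiv.Perm Cfsg.GolayPt)⁻¹))).toMul : E)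
          = g * ((θ w).toMul : E) * g⁻¹) ∧
      ∀ H : Subgroup E, H ⊓ N = ⊥ → H ⊔ N ≠ ⊤ := by
  refine ⟨El, inferInstance, inferInstance, π.ker, inferInstance, QuotientGroup.quotientKerEquivOfSurjective π π_surj,
    θ, fun x => ?_, fun w => ?_, fun g w => ?_, nonsplit⟩
  · obtain ⟨⟨σ, q, h⟩, rfl : σ = 1⟩ := x
    have h1 : ∀ a b, q (a + b) = q a + q b := fun a b => by
      have h0 : be (1 : Spor.M23) a b = 0 := CharTwo.add_self_eq_zero _
      linear_combination h a b + h0 - CharTwo.add_self_eq_zero (q a + q b)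
    obtain ⟨g, hg⟩ := LinearMap.exists_extend ((AddMonoidHom.mk' q h1).toZModLinearMap 2)
    refine ⟨fun p => g (Pi.single p 1), Additive.toMul.injective (Subtype.ext ((θ_val _).trans
      (El.ext rfl (funext fun a => ?_))))⟩
    refine Eq.trans ?_ (LinearMap.congr_fun hg a)
    change ∑ p, a.1 p * g (Pi.single p 1) = g a.1
    rw [LinearMap.pi_apply_eq_sum_univ]
    exact Finset.sum_congr rfl fun p _ => by congr 2; funext j; simp [Pi.single_apply, eq_comm]
  · refine ⟨fun e => cocode_iff.2 fun c hc => ?_, fun e => Additive.toMul.injective (Subtype.ext ((θ_val _).trans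
      (El.ext rfl (funext fun a => dot_zero_of e a.2.1 a.2.2))))⟩
    exact congrFun (congrArg (fun x : Additive π.ker => x.toMul.1.q) e) ⟨_, mask_mem (cs_spec c hc).1, (cs_spec c hc).2⟩
  · rw [θ_val, θ_val]
    refine eq_mul_inv_of_mul_eq (El.ext ((one_mul g.σ).trans (mul_one g.σ).symm) (funext fun a => ?_))
    change (a.1 ∘ ⇑g.σ.1⁻¹) ⬝ᵥ (w ∘ ⇑g.σ.1⁻¹) + g.q a = g.q a + a.1 ⬝ᵥ w
    rw [dot_comp, add_comm]

end Cfsg.Agent.S2650
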