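import Cfsg.Statements.S2651
import Cfsg.Agent.Spor.XtCo

set_option autoImplicit false
set_option linter.unusedVariables false
set_option maxRecDepth 100000
open Cfsg

namespace Cfsg.Agent.S2651

open Cfsg.Lib.Spor Cfsg.Lib.Spor.XT Cfsg.Lib.Spor.MP

theorem map_ev {G X : Type*} [Group G] [Group X] (q : G →* X) (y : ℕ → G) (w : List ℕ) :
    q (ev y w) = ev (fun l => q (y l)) w := by
  induction w with
  | nil => exact map_one q
  | cons l w ih => rw [ev_cons, map_mul, ih, ev_cons]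

theorem bij {D X M : Type*} [Group D] [Group X] [Group M] {Δ H : Subgroup D} {p : D →* M} (q : D →* X)
    (π : X →* M) (hq : ∀ d, π (q d) = p d) (h1 : ∀ d ∈ H, p d = 1 → d ∈ Δ) (h2 : ∀ m, ∃ d ∈ H, p d = m)
    (h3 : Δ ≤ H) (h4 : ∀ d ∈ Δ, q d = 1 → d = 1) (h5 : ∀ x, π x = 1 → ∃ d ∈ Δ, q d = x) :
    Function.Bijective (q.comp H.subtype) := by
  refine ⟨(injective_iff_map_eq_one _).2 fun d (e : q d = 1) => Subtype.ext
    (h4 _ (h1 _ d.2 (by rw [← hq, e, map_one])) e), fun x => ?_⟩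
  obtain ⟨d, hd, e⟩ := h2 (π x)
  obtain ⟨c, hc, e1⟩ := h5 (x * (q d)⁻¹) (by rw [map_mul, map_inv, hq, e, mul_inv_cancel])
  exact ⟨⟨c * d, mul_mem (h3 hc) hd⟩, by simp [e1]⟩

theorem iso_of {E E' : Type*} [Group E] [Group E'] [Finite E] [Finite E'] {π : E →* Spor.M23} {π' : E' →* Spor.M23}
    (hs : Function.Surjective π) (hs' : Function.Surjective π') {θ : Wd → E} {θ' : Wd → E'}
    (h : Md datB (Spor.M23.subtype.comp π) θ ⊤) (h' : Md datB (Spor.M23.subtype.comp π') θ' ⊤)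
    {y : ℕ → E} {y' : ℕ → E'} (hy : ∀ l, Rep (π (y l)) (gp.getD l pid)) (hy' : ∀ l, Rep (π' (y' l)) (gp.getD l pid))
    {e : Wd} (hr : ∀ t ∈ tg, ev y t.2.1 = θ e ^ t.1 * ev y t.2.2)
    (hr' : ∀ t ∈ tg, ev y' t.2.1 = θ' e ^ t.1 * ev y' t.2.2) : Nonempty (E ≃* E') := by
  have t1 : ∀ w, π (θ w) = 1 := fun w => Subtype.ext (h.triv w trivial)
  have t2 : ∀ w, π' (θ' w) = 1 := fun w => Subtype.ext (h'.triv w trivial)
  have o1 : ∀ x, π x = 1 → ∃ w, θ w = x := fun x e => (h.onto x (congrArg Subtype.val e)).imp fun _ => And.right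
  have o2 : ∀ x, π' x = 1 → ∃ w, θ' w = x := fun x e => (h'.onto x (congrArg Subtype.val e)).imp fun _ => And.right
  have kk : ∀ w, θ w = 1 ↔ θ' w = 1 := fun w => (h.ker w trivial).trans (h'.ker w trivial).symm
  let D := (π.comp (MonoidHom.fst E E')).eqLocus (π'.comp (MonoidHom.snd E E'))
  let δ : Wd → D := fun w => ⟨(θ w, θ' w), (t1 w).trans (t2 w).symm⟩
  let Δ : Subgroup D :=
    { carrier := Set.range δ
      mul_mem' := by
        rintro _ _ ⟨v, rfl⟩ ⟨w, rfl⟩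
        exact ⟨v + w, Subtype.ext (Prod.ext (h.add _ trivial _ trivial) (h'.add _ trivial _ trivial))⟩
      one_mem' := ⟨0, Subtype.ext (Prod.ext h.zero h'.zero)⟩
      inv_mem' := by
        rintro _ ⟨v, rfl⟩
        exact ⟨v, eq_inv_of_mul_eq_one_left (Subtype.ext (Prod.ext (h.sq trivial) (h'.sq trivial)))⟩ }
  have : Δ.Normal := ⟨by
    rintro _ ⟨v, rfl⟩ g
    refine ⟨v ∘ ⇑((Spor.M23.subtype.comp π) g.1.1)⁻¹, Subtype.ext (Prod.ext (h.conj _ _ trivial) ?_)⟩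
    rw [show (Spor.M23.subtype.comp π) g.1.1 = (Spor.M23.subtype.comp π') g.1.2 from congrArg Subtype.val g.2]
    exact h'.conj _ _ trivial⟩
  let q : D →* E := (MonoidHom.fst E E').comp D.subtype
  let q' : D →* E' := (MonoidHom.snd E E').comp D.subtype
  let P := QuotientGroup.lift Δ (π.comp q) (by rintro _ ⟨v, rfl⟩; exact t1 v)
  have hP : Function.Surjective P := fun m => by
    obtain ⟨x, hx⟩ := hs m
    obtain ⟨x', hx'⟩ := hs' m
    exact ⟨QuotientGroup.mk ⟨(x, x'), hx.trans hx'.symm⟩, hx⟩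
  have k : ∀ a ∈ P.ker, ∃ v w, a = QuotientGroup.mk ⟨(θ v, θ' w), (t1 v).trans (t2 w).symm⟩ := fun a ha => by
    obtain ⟨⟨⟨x, x'⟩, d⟩, rfl⟩ := QuotientGroup.mk_surjective a
    obtain ⟨v, rfl⟩ := o1 x ha
    obtain ⟨w, rfl⟩ := o2 x' (d.symm.trans ha)
    exact ⟨v, w, rfl⟩
  let Y : ℕ → D := fun l => ⟨(y l, y' l), Subtype.ext ((hy l).unique (hy' l))⟩
  obtain ⟨H, h1, h2⟩ := split hP (fun a ha b hb => by
    obtain ⟨v, w, rfl⟩ := k a ha
    obtain ⟨v', w', rfl⟩ := k b hb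
    refine congrArg QuotientGroup.mk (Subtype.ext (Prod.ext ?_ ?_))
    · exact ((h.add _ trivial _ trivial).symm.trans (by rw [add_comm])).trans (h.add _ trivial _ trivial)
    · exact ((h'.add _ trivial _ trivial).symm.trans (by rw [add_comm])).trans (h'.add _ trivial _ trivial))
    (fun a ha => by
      obtain ⟨v, w, rfl⟩ := k a ha
      exact congrArg QuotientGroup.mk (Subtype.ext (Prod.ext (h.sq trivial) (h'.sq trivial))))
    (y := fun l => QuotientGroup.mk' Δ (Y l)) hy fun t ht => by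
      have : ev Y t.2.1 = δ e ^ t.1 * ev Y t.2.2 := Subtype.ext (Prod.ext
        (show q (ev Y _) = q (δ e ^ t.1 * ev Y _) by rw [map_mul, map_pow, map_ev, map_ev]; exact hr t ht)
        (show q' (ev Y _) = q' (δ e ^ t.1 * ev Y _) by rw [map_mul, map_pow, map_ev, map_ev]; exact hr' t ht))
      rw [← map_ev, ← map_ev, this, map_mul, map_pow, show QuotientGroup.mk' Δ (δ e) = 1 from
        (QuotientGroup.eq_one_iff _).2 ⟨e, rfl⟩, one_pow, one_mul]
  have a1 : ∀ d ∈ H.comap (QuotientGroup.mk' Δ), (π.comp q) d = 1 → d ∈ Δ := fun d hd e =>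
    (QuotientGroup.eq_one_iff _).1 (h1.le ⟨hd, e⟩)
  have a2 : ∀ m, ∃ d ∈ H.comap (QuotientGroup.mk' Δ), (π.comp q) d = m := fun m => by
    obtain ⟨x, rfl⟩ := hP m
    obtain ⟨a, ha, b, hb, rfl⟩ := Subgroup.mem_sup_of_normal_right.1 (h2.ge (Subgroup.mem_top x))
    obtain ⟨d, rfl⟩ := QuotientGroup.mk_surjective a
    exact ⟨d, ha, by rw [map_mul, show P b = 1 from hb, mul_one]; rfl⟩
  have a3 : Δ ≤ H.comap (QuotientGroup.mk' Δ) := fun d hd => by
    rw [Subgroup.mem_comap, show QuotientGroup.mk' Δ d = 1 from (QuotientGroup.eq_one_iff _).2 hd]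
    exact one_mem _
  exact ⟨(MulEquiv.ofBijective _ (bij q π (fun _ => rfl) a1 a2 a3
      (by rintro _ ⟨v, rfl⟩ e; exact Subtype.ext (Prod.ext e ((kk v).1 e)))
      fun x e => (o1 x e).elim fun v hv => ⟨_, ⟨v, rfl⟩, hv⟩)).symm.trans
    (MulEquiv.ofBijective _ (bij (p := π.comp q) q' π' (fun d => d.2.symm) a1 a2 a3
      (by rintro _ ⟨v, rfl⟩ e; exact Subtype.ext (Prod.ext ((kk v).2 e) e))
      fun x e => (o2 x e).elim fun v hv => ⟨_, ⟨v, rfl⟩, hv⟩))⟩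

theorem data {E : Type*} [Group E] [Finite E] (N : Subgroup E) [hN : N.Normal]
    (φ : E ⧸ N ≃* ↥Cfsg.Spor.M23) (θ : (Cfsg.GolayPt → ZMod 2) →+ Additive ↥N)
    (hsurj : Function.Surjective θ)
    (hker : ∀ w : Cfsg.GolayPt → ZMod 2, θ w = 0 ↔ (w ∈ Cfsg.golayCode ∨ w + Pi.single none 1 ∈ Cfsg.golayCode))
    (hθ : ∀ (g : E) (w : Cfsg.GolayPt → ZMod 2),
      ((θ (w ∘ ⇑(((φ (QuotientGroup.mk g) : ↥Cfsg.Spor.M23) : Equiv.Perm Cfsg.GolayPt)⁻¹))).toMul : E)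
        = g * ((θ w).toMul : E) * g⁻¹)
    (hns : ∀ H : Subgroup E, H ⊓ N = ⊥ → H ⊔ N ≠ ⊤) :
    ∃ (π : E →* Spor.M23) (θ : Wd → E) (y : ℕ → E), Function.Surjective π ∧
      Md datB (Spor.M23.subtype.comp π) θ ⊤ ∧ (∀ l, Rep (π (y l)) (gp.getD l pid)) ∧
      ∀ t ∈ tg, ev y t.2.1 = θ (maskWord 131072) ^ t.1 * ev y t.2.2 := by
  let π : E →* Spor.M23 := φ.toMonoidHom.comp (QuotientGroup.mk' N)
  have hs : Function.Surjective π := φ.surjective.comp (QuotientGroup.mk'_surjective N)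
  have hk : π.ker = N := by
    ext g; simp [π]
  have hM : Md datB (Spor.M23.subtype.comp π) (fun w => (θ w).toMul) ⊤ :=
    ⟨fun a _ b _ => by rw [map_add]; rfl, fun _ _ _ => trivial, fun g a _ => hθ g a,
      fun a _ => by rw [OneMemClass.coe_eq_one, toMul_eq_one, hker, cocode_iff], fun _ _ _ h => (List.not_mem_nil h).elim,
      fun a _ => by rw [MonoidHom.comp_apply, show π (θ a).toMul = 1 from hk.ge (θ a).toMul.2, map_one],
      fun g hg => by
        obtain ⟨w, hw⟩ := hsurj (Additive.ofMul ⟨g, hk.le (Subtype.ext hg)⟩)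
        exact ⟨w, trivial, by rw [hw]; rfl⟩⟩
  obtain ⟨y, h1, h2 | h2⟩ := tailsB hs hM
  · have h5 : ∀ a ∈ π.ker, ∃ w ∈ ⊤, _ = a := fun a ha => hM.onto a (congrArg Subtype.val ha)
    obtain ⟨H, h3, h4⟩ := split hs (fun a ha b hb => by
      obtain ⟨v, hv, rfl⟩ := h5 a ha
      obtain ⟨w, hw, rfl⟩ := h5 b hb
      rw [← hM.add _ hv _ hw, add_comm, hM.add _ hw _ hv]) (fun a ha => by
      obtain ⟨v, hv, rfl⟩ := h5 a ha
      exact hM.sq hv) h1 h2
    exact absurd (hk ▸ h4) (hns H (hk ▸ h3))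
  · exact ⟨π, _, y, hs, hM, h1, h2⟩

/-- The non-split extension of the Mathieu group M₂₃ by its cocode module is unique. Suppose E and E' are finite groups, each with a normal subgroup (N, N'), an isomorphism of the quotient onto M₂₃ = `Spor.M23`, and a surjective additive homomorphism from the binary words on the 24 points `GolayPt` onto the normal subgroup with kernel the Golay code `golayCode` together with its translate by the unit vector at the extra point `none`, intertwining the coordinate permutation w ↦ w ∘ σ⁻¹ (σ the image of gN) with conjugation by g; and suppose that in each group the normal subgroup has no complement. Then E and E' are isomorphic. -/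
theorem result
    {E : Type*} [Group E] [Finite E] (N : Subgroup E) [hN : N.Normal]
    (φ : E ⧸ N ≃* ↥Cfsg.Spor.M23) (θ : (Cfsg.GolayPt → ZMod 2) →+ Additive ↥N)
    (hsurj : Function.Surjective θ)
    (hker : ∀ w : Cfsg.GolayPt → ZMod 2, θ w = 0 ↔ (w ∈ Cfsg.golayCode ∨ w + Pi.single none 1 ∈ Cfsg.golayCode))
    (hθ : ∀ (g : E) (w : Cfsg.GolayPt → ZMod 2),
      ((θ (w ∘ ⇑(((φ (QuotientGroup.mk g) : ↥Cfsg.Spor.M23) : Equiv.Perm Cfsg.GolayPt)⁻¹))).toMul : E)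
        = g * ((θ w).toMul : E) * g⁻¹)
    (hns : ∀ H : Subgroup E, H ⊓ N = ⊥ → H ⊔ N ≠ ⊤)
    {E' : Type*} [Group E'] [Finite E'] (N' : Subgroup E') [hN' : N'.Normal]
    (φ' : E' ⧸ N' ≃* ↥Cfsg.Spor.M23) (θ' : (Cfsg.GolayPt → ZMod 2) →+ Additive ↥N')
    (hsurj' : Function.Surjective θ')
    (hker' : ∀ w : Cfsg.GolayPt → ZMod 2, θ' w = 0 ↔ (w ∈ Cfsg.golayCode ∨ w + Pi.single none 1 ∈ Cfsg.golayCode))
    (hθ' : ∀ (g : E') (w : Cfsg.GolayPt → ZMod 2),
      ((θ' (w ∘ ⇑(((φ' (QuotientGroup.mk g) : ↥Cfsg.Spor.M23) : Equiv.Perm Cfsg.GolayPt)⁻¹))).toMul : E')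
        = g * ((θ' w).toMul : E') * g⁻¹)
    (hns' : ∀ H : Subgroup E', H ⊓ N' = ⊥ → H ⊔ N' ≠ ⊤) :
    Nonempty (E ≃* E') := by
  obtain ⟨π, τ, y, h1, h2, h3, h4⟩ := data N φ θ hsurj hker hθ hns
  obtain ⟨π', τ', y', k1, k2, k3, k4⟩ := data N' φ' θ' hsurj' hker' hθ' hns'
  exact iso_of h1 k1 h2 k2 h3 k3 h4 k4

end Cfsg.Agent.S2651
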