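import Cfsg.Statements.S2787
import Cfsg.Agent.Trans.DicksonFree
import Cfsg.Agent.Bender.TwoRank
import Cfsg.Agent.S1157

set_option autoImplicit false
open Cfsg

open Subgroup Cfsg.Lib Cfsg.Lib.Solv Cfsg.Lib.Trans Cfsg.Lib.Trans.Quad

namespace Cfsg.Agent.S2787

theorem free_of {p : ℕ} [Fact p.Prime] (hp : p ≠ 2) {X : Type*} [Group X] [Finite X]
    (h : ∀ T : Subgroup X, IsPGroup 2 T → ∀ a ∈ T, ∀ b ∈ T, a ^ 2 ≠ 1 → b ^ 2 ≠ 1 → a * b = b * a) :
    TransvFree p X := fun n _ l hl hi => by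
  have : Finite (transvPair l) := inferInstance
  obtain ⟨K, f, hf⟩ := involves_iff_exists_surjective.mp hi
  let R : Sylow 2 K := default
  refine sylow_two_transvPair_not_comm hp hl (R.mapSurjective hf) ⟨⟨?_⟩⟩
  rintro ⟨_, x, hx, rfl⟩ ⟨_, y, hy, rfl⟩
  apply Subtype.ext
  show f x * f y = f y * f x
  have key : ∀ x y : K, x.1 ^ 2 = 1 → f x * f y = f y * f x := fun x y e => by
    have h1 : (f x).1 ^ 2 = 1 := by
      rw [← coe_pow, ← map_pow, show x ^ 2 = 1 from Subtype.ext e, map_one, coe_one]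
    apply Subtype.ext
    rcases SL_two_eq_of_sq_eq_one (two_ne_zero_of_charP hp) h1 with e | e <;> simp [e]
  by_cases h1 : x.1 ^ 2 = 1
  · exact key x y h1
  by_cases h2 : y.1 ^ 2 = 1
  · exact (key y x h2).symm
  rw [← map_mul, ← map_mul]
  exact congrArg f (Subtype.ext (h _ (R.isPGroup'.map K.subtype) _ ⟨x, hx, rfl⟩ _ ⟨y, hy, rfl⟩ h1 h2))

theorem free_psl {p : ℕ} [Fact p.Prime] (hp : p ≠ 2) {F : Type*} [Field F] [Finite F]
    (h2 : (2 : F) ≠ 0) : TransvFree p (Matrix.ProjectiveSpecialLinearGroup (Fin 2) F) := by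
  refine free_of hp fun T hT a ha b hb h1 h3 => ?_
  obtain ⟨a, rfl⟩ := QuotientGroup.mk'_surjective _ a
  obtain ⟨b, rfl⟩ := QuotientGroup.mk'_surjective _ b
  have hz : ∀ x ∈ center (Matrix.SpecialLinearGroup (Fin 2) F), x ^ 2 = 1 := fun x hx => by
    obtain ⟨r, hr, e⟩ := Matrix.SpecialLinearGroup.mem_center_iff.1 hx
    apply Subtype.ext
    rw [Matrix.SpecialLinearGroup.coe_pow, ← e, ← map_pow]
    simp only [Fintype.card_fin] at hr
    rw [hr, map_one]; rfl
  have hT' : IsPGroup 2 (T.comap (QuotientGroup.mk' _)) := hT.comap_of_ker_isPGroup _ (by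
    rw [QuotientGroup.ker_mk']
    exact fun x => ⟨1, Subtype.ext (by simpa using hz x x.2)⟩)
  have h4 : ∀ x : Matrix.SpecialLinearGroup (Fin 2) F,
      QuotientGroup.mk' (center _) x ^ 2 ≠ 1 → x ^ 4 ≠ 1 := fun x hx e => hx (by
    rw [← map_pow, ← MonoidHom.mem_ker, QuotientGroup.ker_mk', mem_center_iff]
    rcases SL_two_eq_of_sq_eq_one h2 (g := x ^ 2) (by rw [← pow_mul]; exact e) with e | e <;> simp [e])
  rw [← map_mul, ← map_mul]
  congr 1
  rcases Bender.cyclic_or_quaternion (G := Matrix.SpecialLinearGroup (Fin 2) F) (by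
    rintro ⟨x, y, hx, hy, hne, h5, h6, -⟩
    exact hne (((SL_two_eq_of_sq_eq_one h2 (pow_two x ▸ h5)).resolve_left hx).trans
      ((SL_two_eq_of_sq_eq_one h2 (pow_two y ▸ h6)).resolve_left hy).symm)) hT' with h | ⟨m, -, ⟨e⟩⟩
  · exact congrArg Subtype.val (h.commGroup.mul_comm ⟨a, ha⟩ ⟨b, hb⟩)
  · have k : ∀ x : T.comap (QuotientGroup.mk' _), x.1 ^ 4 ≠ 1 → ∃ i, e x = .a i := fun x hx => by
      cases hi : e x with
      | a i => exact ⟨i, rfl⟩
      | xa i =>
        refine absurd (congrArg Subtype.val (e.injective (a₁ := x ^ 4) (a₂ := 1) ?_)) hx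
        rw [map_pow, hi, QuaternionGroup.xa_pow_four, map_one]
    obtain ⟨i, hi⟩ := k ⟨a, ha⟩ (h4 a h1)
    obtain ⟨j, hj⟩ := k ⟨b, hb⟩ (h4 b h3)
    refine congrArg Subtype.val (e.injective (a₁ := ⟨a, ha⟩ * ⟨b, hb⟩) (a₂ := ⟨b, hb⟩ * ⟨a, ha⟩) ?_)
    rw [map_mul, map_mul, hi, hj, QuaternionGroup.a_mul_a, QuaternionGroup.a_mul_a, add_comm]

/-- Let p be a prime and let H act by conjugation on the elementary abelian p-subgroup V of a finite group, irreducibly (no H-invariant subgroups of V other than 1 and V) and nontrivially, and suppose H/C_H(V) is isomorphic to PSL₂(F) for a field F with p^n elements, p^n odd, or p = 3 and H/C_H(V) is isomorphic to a Ree group ²G₂(3^(2m+1)), m ≥ 1. Then no subgroup A of H acting nontrivially on V acts quadratically: [V, A, A] = 1 forces [V, A] = 1. -/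
theorem result {G : Type*} [Group G] [Finite G] {p : ℕ} [Fact p.Prime] (V H : Subgroup G) (hV : Cfsg.IsElementaryAbelian p V) (hHV : H ≤ Subgroup.normalizer (V : Set G)) (hirr : ∀ U : Subgroup G, U ≤ V → H ≤ Subgroup.normalizer (U : Set G) → U = ⊥ ∨ U = V) (hnt : ¬ H ≤ Subgroup.centralizer (V : Set G)) [hn : ((Subgroup.centralizer (V : Set G)).subgroupOf H).Normal] (hq : (∃ (F : Type) (_ : Field F) (_ : Fintype F) (n : ℕ), Fintype.card F = p ^ n ∧ Odd (Fintype.card F) ∧ Nonempty (↥H ⧸ (Subgroup.centralizer (V : Set G)).subgroupOf H ≃* Matrix.ProjectiveSpecialLinearGroup (Fin 2) F)) ∨ (p = 3 ∧ Cfsg.Lie.IsoRee (↥H ⧸ (Subgroup.centralizer (V : Set G)).subgroupOf H))) (A : Subgroup G) (hA : A ≤ H) (hquad : ⁅⁅V, A⁆, A⁆ = ⊥) : ⁅V, A⁆ = ⊥ := by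
  have hp := (Fact.out : p.Prime)
  have hVp : IsPGroup p V := fun x => ⟨1, Subtype.ext (by simpa using hV.2 x x.2)⟩
  have hT : TransvFree p (↥H ⧸ (Subgroup.centralizer (V : Set G)).subgroupOf H) := by
    rcases hq with ⟨F, _, _, n, h1, h2, ⟨e⟩⟩ | ⟨rfl, K, _, _, m, h1, h2, ⟨e⟩⟩
    · have h3 : p ≠ 2 := by
        rintro rfl
        have := Fintype.one_lt_card (α := F)
        rw [h1] at h2 this
        rcases n with _ | n
        · simp at this
        · exact absurd h2 (by simp [Nat.odd_pow_iff])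
      exact (free_psl h3 (Ring.two_ne_zero fun h => by
        have := FiniteField.even_card_iff_char_two.1 h
        rw [Nat.odd_iff] at h2
        omega)).of_involves (involves_of_equiv e)
    · have S : Sylow 2 (Lie.twistedG2 K (3 ^ m)) := default
      exact (transvFree_of_abelian_sylow_two (by norm_num) S ⟨⟨fun a b => Subtype.ext
        (((Cfsg.Agent.S1157.result h1 h2 S).1.ge b.2) a a.2)⟩⟩).of_involves (involves_of_equiv e)
  let θ := QuotientGroup.lift _ (conjAutOf V H hHV) (ker_conjAutOf hHV).ge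
  have hθ : Function.Injective θ :=
    (QuotientGroup.injective_lift_iff _ _ _).2 (ker_conjAutOf hHV).symm
  let O := pCore p (↥H ⧸ (Subgroup.centralizer (V : Set G)).subgroupOf H)
  let R := (O.comap (QuotientGroup.mk' _)).map H.subtype
  have hU : V ⊓ centralizer (R : Set G) = V := by
    refine (hirr _ inf_le_left fun h hh => ?_).resolve_left fun h0 => ?_
    · refine mem_normalizer_of_conj_mem fun v hv => ⟨(mem_normalizer_iff.1 (hHV hh) v).1 hv.1, ?_⟩
      rintro _ ⟨r, hr, rfl⟩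
      have := hv.2 _ ⟨_, (Normal.comap inferInstance _).conj_mem' r hr ⟨h, hh⟩, rfl⟩
      simp only [coe_subtype, coe_mul, coe_inv] at this ⊢
      calc (r : G) * (h * v * h⁻¹) = h * (h⁻¹ * r * h * v) * h⁻¹ := by group
        _ = _ := by rw [this]; group
    · let : MulAction O V := MulAction.compHom V (θ.comp O.subtype)
      have : Nontrivial V := (nontrivial_iff_ne_bot V).2 (by rintro rfl; exact hnt fun _ _ => by simp [mem_centralizer_iff])
      obtain ⟨b, hb, hne⟩ := (pCore_isPGroup p _).exists_fixed_point_of_prime_dvd_card_of_fixed_point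
        V (hVp.card_eq_or_dvd.resolve_left Finite.one_lt_card.ne') (a := 1)
        (fun g => map_one (θ g.1))
      refine hne (Subtype.ext (mem_bot.1 (h0 ▸ ⟨b.2, ?_⟩)).symm)
      rintro _ ⟨r, hr, rfl⟩
      exact mul_inv_eq_iff_eq_mul.1 (congrArg Subtype.val (hb ⟨_, hr⟩))
  rw [commutator_eq_bot_iff_le_centralizer]
  intro v hv a ha
  refine (hU.ge hv).2 a ⟨⟨a, hA ha⟩, hT.mem_pCore_of_isPGroup hVp θ hθ
    (conjAutOf_quadratic hHV (a := ⟨a, hA ha⟩) (eq_bot_iff.2 (hquad.le.trans' ?_))), rfl⟩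
  exact commutator_mono (commutator_mono le_rfl (zpowers_le.2 ha)) (zpowers_le.2 ha)

end Cfsg.Agent.S2787
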