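import Cfsg.Statements.S2794
import Cfsg.Agent.Trans.QdFusion

set_option autoImplicit false
open Cfsg

namespace Cfsg.Agent.S2794

open Cfsg.Lib Cfsg.Lib.Trans

/-- For an odd prime p and a finite group G, the group Qd(p) is not involved in G if and only if in every section K/R of G, for every Sylow p-subgroup S* of K/R, the centre of J(S*) (J generated by the abelian subgroups of largest order) controls strong fusion in K/R. -/
theorem result {G : Type*} [Group G] [Finite G] {p : ℕ} [Fact p.Prime] (hp : p ≠ 2) : ¬ Cfsg.Involves ↥(Cfsg.qd p) G ↔ ∀ (K R : Subgroup G) [hR : (R.subgroupOf K).Normal], ∀ T : Sylow p (K ⧸ R.subgroupOf K), Cfsg.ControlsStrongFusion p (Cfsg.centerThompsonAOf (T : Subgroup (K ⧸ R.subgroupOf K))) := by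
  simp only [← centerThompsonOf_zero]
  constructor
  · intro h K R hR T
    exact zj_controlsStrongFusion hp (Or.inl rfl) (fun Y _ _ hY =>
      stableOnNormal_of_qdFree hp h Y (involves_trans hY (involves_section K R))) T
  · intro h
    refine not_involves_qd_of_controls (isCharPFunctor_zjFunctor (Or.inl rfl)) fun K R _ T => ?_
    rw [inducedFunctor_zjFunctor]
    exact h K R T

end Cfsg.Agent.S2794
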