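import Cfsg.Statements.S2803
import Cfsg.Agent.Local.PReduced

set_option autoImplicit false
open Cfsg

namespace Cfsg.Agent.S2803

open Cfsg.Lib.Local (resOf CharP charP_iff charP_top_iff)
open Cfsg.Lib.Local.MSS Cfsg.Lib.Solv Cfsg.Lib.Trans Cfsg.Lib.Trans.TJ Subgroup

/-- Let L be a finite group and p a prime with C_L(O_p(L)) ≤ O_p(L), T a Sylow p-subgroup, and Y the largest p-reduced normal subgroup of L. Put T_L = C_T(Y) and L_T = N_L(T_L). Then L = L_T · C_L(Y) (elementwise), T_L = O_p(L_T), and Y = Ω₁(Z(T_L)). -/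
theorem result {L : Type*} [Group L] [Finite L] {p : ℕ} [Fact p.Prime] (hchar : Subgroup.centralizer (Cfsg.pCore p L : Set L) ≤ Cfsg.pCore p L) (T : Sylow p L) (Y : Subgroup L) (hY : (Cfsg.IsPReducedNormal p Y ∧ ∀ V : Subgroup L, Cfsg.IsPReducedNormal p V → V ≤ Y)) (TL : Subgroup L) (hTL : TL = (T : Subgroup L) ⊓ Subgroup.centralizer (Y : Set L)) : (∀ g : L, ∃ a ∈ Subgroup.normalizer (TL : Set L), ∃ c ∈ Subgroup.centralizer (Y : Set L), g = a * c) ∧ (Cfsg.pCore p ↥(Subgroup.normalizer (TL : Set L))).map (Subgroup.normalizer (TL : Set L)).subtype = TL ∧ Y = Cfsg.omegaOne p (TL ⊓ Subgroup.centralizer (TL : Set L)) := by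
  have hY' : Y = largestPReducedOf p ⊤ := by
    rw [yOf_top]
    exact le_antisymm (le_largestPReduced hY.1) (hY.2 _ (isPReducedNormal_largestPReduced p L))
  subst hTL
  have hred : PRed p Y ⊤ := (isPReducedNormal_iff.1 hY.1).2
  refine ⟨fun g => ?_, ?_, ?_⟩
  · obtain ⟨n, hn, k, hk, rfl⟩ := (isSylowIn_inf_centralizer (isSylowIn_top T) hred.1).frattini'
      (g := g) (le_normalizer_inf_centralizer le_normalizer hred.1 (mem_top g))
    exact ⟨n, hn, k, hk.2, rfl⟩
  · have := hred.pCoreOf_inf_normalizer (isSylowIn_top T)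
    rwa [top_inf_eq] at this
  · rw [hY']
    exact yOf_eq_omega (charP_top_iff.2 hchar) (isSylowIn_top T)

end Cfsg.Agent.S2803
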