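import Cfsg.Statements.S2804
import Cfsg.Agent.Local.PReduced

set_option autoImplicit false
open Cfsg

namespace Cfsg.Agent.S2804

open Cfsg.Lib.Local (resOf CharP charP_iff charP_top_iff)
open Cfsg.Lib.Local.MSS Cfsg.Lib.Solv Cfsg.Lib.Trans Cfsg.Lib.Trans.TJ Subgroup

/-- Let L be a finite group and p a prime with C_L(O_p(L)) ≤ O_p(L), V a p-reduced normal subgroup of L and K a subnormal subgroup of L. Then [V, O^p(K)] is contained in K and is a p-reduced normal subgroup of K, where O^p(K) is the subgroup of K generated by its elements of order prime to p. -/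
theorem result {L : Type*} [Group L] [Finite L] {p : ℕ} [Fact p.Prime] (hchar : Subgroup.centralizer (Cfsg.pCore p L : Set L) ≤ Cfsg.pCore p L) (V : Subgroup L) (hV : Cfsg.IsPReducedNormal p V) (K : Subgroup L) (hK : K.IsSubnormal) : ⁅V, (Cfsg.pResidual p ↥K).map K.subtype⁆ ≤ K ∧ Cfsg.IsPReducedNormal p ((⁅V, (Cfsg.pResidual p ↥K).map K.subtype⁆).subgroupOf K) := by
  obtain ⟨h1, h2⟩ := isPReducedNormal_iff.1 hV
  have hK' := SubnormalIn.top_iff.2 hK
  have hVn : V ≤ normalizer (resOf p K : Set L) :=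
    le_normalizer_resOf_of_subnormalIn hK' le_top h2.1 (ea_isPGroup h1)
  have h3 : ⁅V, resOf p K⁆ ≤ K :=
    (commutator_le_right_of_le_normalizer hVn).trans (resOf_le K)
  have h4 : ⁅V, resOf p K⁆ ≤ V := commutator_le_left_of_le_normalizer (le_top.trans h2.1)
  refine ⟨h3, (isPReducedNormal_subgroupOf_iff h3).2 ⟨ea_mono h1 h4, ?_, ?_⟩⟩
  · exact le_normalizer_commutator (le_top.trans h2.1) (self_le_normalizer_resOf K)
  · intro D hD hn h5
    refine le_trans ?_ (centralizer_le h4)
    refine (h2.of_subnormalIn hK').2 D hD hn ?_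
    exact resOf_le_centralizer_of_commutator_le ((ea_isPGroup h1).to_le h4)
      (commutator_mono le_rfl (resOf_mono hD)) h5

end Cfsg.Agent.S2804
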