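import Cfsg.Statements.S2810
import Cfsg.Agent.Local.PCoreOf

set_option autoImplicit false
open Cfsg

namespace Cfsg.Agent.S2810

open Cfsg.Lib.Local (resOf CharP)
open Cfsg.Lib.Local.MSS Cfsg.Lib.Solv Cfsg.Lib.Trans Subgroup
open scoped commutatorElement

/-- Let H be a finite group of characteristic p and L a subgroup of H centralizing every factor of some H-invariant chain 1 = A₀ ≤ A₁ ≤ … ≤ Aₙ = O_p(H) of normal subgroups (that is, [A_{i+1}, L] ≤ Aᵢ for each i). Then L ≤ O_p(H). -/
theorem result {H : Type*} [Group H] [Finite H] {p : ℕ} [Fact p.Prime] (hchar : Subgroup.centralizer (Cfsg.pCore p H : Set H) ≤ Cfsg.pCore p H) (L : Subgroup H) (n : ℕ) (A : Fin (n + 1) → Subgroup H) (h0 : A 0 = ⊥) (hn : A (Fin.last n) = Cfsg.pCore p H) (hmono : Monotone A) (hnorm : ∀ i, (A i).Normal) (hcent : ∀ i : Fin n, ⁅A i.succ, L⁆ ≤ A i.castSucc) : L ≤ Cfsg.pCore p H := by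
  have hK : ∀ i : Fin n, ⁅A i.succ, normalClosure (L : Set H)⁆ ≤ A i.castSucc := by
    intro i
    have := hnorm i.succ
    have := hnorm i.castSucc
    apply commutator_closure_le le_normalizer_of_normal
    intro x hx v hv
    obtain ⟨a, ha, hax⟩ := Group.mem_conjugatesOfSet_iff.1 hx
    obtain ⟨g, rfl⟩ := isConj_iff.1 hax
    have h1 : ⁅v, g * a * g⁻¹⁆ = g * ⁅g⁻¹ * v * g⁻¹⁻¹, a⁆ * g⁻¹ := by
      simp only [commutatorElement_def]; group
    rw [h1]
    exact (hnorm _).conj_mem _
      (hcent i (commutator_mem_commutator ((hnorm _).conj_mem _ hv _) ha)) _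
  have hp : ∀ i, IsPGroup p (A i) := fun i =>
    (pCore_isPGroup p H).to_le (hn ▸ hmono (Fin.le_last i))
  have key : ∀ i, resOf p (normalClosure (L : Set H)) ≤ centralizer (A i : Set H) := by
    intro i
    induction i using Fin.induction with
    | zero => rw [h0]; exact le_centralizer_bot _
    | succ i ih =>
      exact resOf_le_centralizer_of_commutator_le (hp _)
        ((commutator_mono le_rfl (resOf_le _)).trans (hK i)) ih
  have h2 := key (Fin.last n)
  rw [hn] at h2
  exact le_normalClosure.trans (le_pCore inferInstance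
    (isPGroup_of_resOf_le (pCore_isPGroup p H) (h2.trans hchar)))

end Cfsg.Agent.S2810
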