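import Cfsg.Statements.S2813
import Cfsg.Agent.Local.PCoreOf

set_option autoImplicit false
open Cfsg

namespace Cfsg.Agent.S2813

open Cfsg.Lib.Local (resOf CharP)
open Cfsg.Lib.Local.MSS Cfsg.Lib.Solv Cfsg.Lib.Trans Subgroup
open scoped commutatorElement

/-- Let K be a subgroup of the finite group H with O_p(K) = 1 and Y a p-subgroup of N_H(K) with [K, Y, Y] = 1. Then [K, Y] = 1. -/
theorem result {H : Type*} [Group H] [Finite H] {p : ℕ} [Fact p.Prime] (K : Subgroup H) (hO : Cfsg.pCore p ↥K = ⊥) (Y : Subgroup H) (hY : IsPGroup p ↥Y) (hYK : Y ≤ Subgroup.normalizer (K : Set H)) (hq : ⁅⁅K, Y⁆, Y⁆ = ⊥) : ⁅K, Y⁆ = ⊥ := by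
  have hc : Y ≤ centralizer ((⁅K, Y⁆ : Subgroup H) : Set H) :=
    commutator_eq_bot_iff_le_centralizer'.1 hq
  have hKn : K ≤ normalizer ((centralizer ((⁅K, Y⁆ : Subgroup H) : Set H) : Subgroup H) : Set H) :=
    le_normalizer_centralizer (left_le_normalizer_commutator K Y)
  have hab : ⁅K, Y⁆ ≤ centralizer ((⁅K, Y⁆ : Subgroup H) : Set H) := by
    rw [commutator_le]
    intro k hk y hy
    exact mul_mem (conj_mem_of_mem_normalizer (hKn hk) (hc hy)) (inv_mem (hc hy))
  have hpg : IsPGroup p (⁅K, Y⁆ : Subgroup H) := by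
    apply PG.isPGroup_of_forall_mem
    intro x hx
    rw [Subgroup.commutator_def] at hx
    induction hx using closure_induction with
    | mem x hx =>
      obtain ⟨k, hk, y, hy, rfl⟩ := hx
      obtain ⟨n, hn⟩ := PG.exists_pow_prime_pow_eq_one hY hy
      refine ⟨n, ?_⟩
      have hm : y * k * y⁻¹ * k⁻¹ ∈ ⁅K, Y⁆ := by
        rw [commutator_comm]; exact commutator_mem_commutator hy hk
      have h1 := Coprime.pow_conj_eq_of_commute (a := y) (k := k)
        ((mem_centralizer_iff.1 (hc hy)) _ hm).symm (p ^ n)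
      rw [hn, one_mul, inv_one, mul_one] at h1
      have h2 : (y * k * y⁻¹ * k⁻¹) ^ p ^ n = 1 := by simpa using h1.symm
      rw [← commutatorElement_inv, inv_pow, commutatorElement_def, h2, inv_one]
    | one => exact ⟨0, by simp⟩
    | mul a b ha hb iha ihb =>
      obtain ⟨m, hm⟩ := iha
      obtain ⟨n, hn⟩ := ihb
      refine ⟨m + n, ?_⟩
      have hcomm : Commute a b := (mem_centralizer_iff.1 (hab hb)) _ ha
      rw [hcomm.mul_pow, pow_add, pow_mul, hm, one_pow, mul_comm (p ^ m), pow_mul, hn, one_pow,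
        one_mul]
    | inv a ha iha =>
      obtain ⟨m, hm⟩ := iha
      exact ⟨m, by rw [inv_pow, hm, inv_one]⟩
  rw [eq_bot_iff, ← pCoreOf_eq_bot_iff.2 hO]
  exact le_pCoreOf (commutator_le_left_of_le_normalizer hYK) (left_le_normalizer_commutator K Y) hpg

end Cfsg.Agent.S2813
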