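import Cfsg.Statements.S2814
import Cfsg.Agent.Local.PMinimal

set_option autoImplicit false
open Cfsg

namespace Cfsg.Agent.S2814

open Cfsg.Lib.Local (resOf CharP charP_iff charP_top_iff)
open Cfsg.Lib.Local.MSS Cfsg.Lib.Solv Cfsg.Lib.Trans Cfsg.Lib.Trans.TJ Subgroup
open scoped commutatorElement

/-- Let A be a subgroup of the finite group H and K the subnormal closure of A (intersection of the subnormal subgroups containing A). Then K is the normal closure of A inside K and N_H(A) ≤ N_H(K); K = A·O^p(K), O^p(K) being generated by the elements of K of order prime to p; and if A is a p-group, O^p(K) = [O^p(K), A]. -/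
theorem result {H : Type*} [Group H] [Finite H] {p : ℕ} [Fact p.Prime] (A : Subgroup H) (K : Subgroup H) (hK : K = Cfsg.subnormalClosure A) : (Subgroup.normalClosure ((A.subgroupOf K : Subgroup ↥K) : Set ↥K)).map K.subtype = K ∧ Subgroup.normalizer (A : Set H) ≤ Subgroup.normalizer (K : Set H) ∧ A ⊔ (Cfsg.pResidual p ↥K).map K.subtype = K ∧ (IsPGroup p ↥A → ⁅(Cfsg.pResidual p ↥K).map K.subtype, A⁆ = (Cfsg.pResidual p ↥K).map K.subtype) := by
  have hAK : A ≤ K := hK ▸ le_sInf fun X hX => hX.1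
  have hmin : ∀ X : Subgroup H, A ≤ X → X.IsSubnormal → K ≤ X := fun X h1 h2 =>
    hK ▸ sInf_le ⟨h1, h2⟩
  have hKs : K.IsSubnormal := by
    obtain ⟨X, hX⟩ := (Set.toFinite {K : Subgroup H | A ≤ K ∧ K.IsSubnormal}).exists_minimal
      ⟨⊤, le_top, Normal.isSubnormal inferInstance⟩
    have e : K = X := by
      refine le_antisymm (hmin X hX.1.1 hX.1.2) (hK ▸ le_sInf fun Y hY => ?_)
      exact (hX.2 ⟨le_inf hX.1.1 hY.1, hX.1.2.inf hY.2⟩ inf_le_left).trans inf_le_right
    exact e ▸ hX.1.2
  have hmin' : ∀ X : Subgroup H, A ≤ X → SubnormalIn X K → K ≤ X := fun X h1 h2 =>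
    hmin X h1 (h2.isSubnormal hKs)
  have h3 : A ⊔ resOf p K = K :=
    le_antisymm (sup_le hAK (resOf_le K))
      (hmin' _ le_sup_left (subnormalIn_of_resOf_le le_sup_right (sup_le hAK (resOf_le K))))
  refine ⟨?_, fun g hg => ?_, h3, fun hA => ?_⟩
  · rw [map_normalClosure_eq_ncl hAK]
    exact le_antisymm (ncl_le_of_le hAK) (hmin' _ (le_ncl _ _)
      (SubnormalIn.of_le_normalizer (ncl_le_of_le hAK) (le_normalizer_ncl _ _)))
  · rw [← inv_mem_iff]
    refine mem_normalizer_of_cj_le (cj_inv_le_iff_le_cj.2 (hmin _ ?_ ?_))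
    · rw [← cj_eq_of_mem_normalizer hg]; exact cj_mono g hAK
    · exact SubnormalIn.top_iff.1 ((SubnormalIn.top_iff.2 hKs).conj_smul_of_mem (mem_top g))
  · refine le_antisymm (commutator_le_left_of_le_normalizer
      (hAK.trans (self_le_normalizer_resOf K))) ?_
    have h4 : K ≤ ncl A (resOf p K) := by
      refine hmin' _ (le_ncl _ _) (SubnormalIn.of_le_normalizer
        ((ncl_mono le_rfl (resOf_le K)).trans (ncl_le_of_le hAK)) ?_)
      refine h3.ge.trans (sup_le ((le_ncl _ _).trans Subgroup.le_normalizer)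
        (le_normalizer_ncl _ _))
    rw [ncl_eq] at h4
    exact (resOf_mono h4).trans
      (resOf_sup_le (right_le_normalizer_commutator _ _) (resOf_le_of_isPGroup hA _))

end Cfsg.Agent.S2814
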