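import Cfsg.Statements.S2815
import Cfsg.Agent.Local.FStarP

set_option autoImplicit false
open Cfsg

namespace Cfsg.Agent.S2815

open Cfsg.Lib.Local (resOf CharP charP_iff charP_top_iff)
open Cfsg.Lib.Local.MSS Cfsg.Lib.Solv Cfsg.Lib.Trans Cfsg.Lib.Trans.TJ Subgroup
open scoped commutatorElement

/-- Let H be a finite group and p a prime dividing its order with O_p(H) = 1, and suppose K = O^p(H) (generated by the elements of order prime to p) is quasisimple. Then K = F*(H); for every nontrivial p-subgroup Y of H, K = [K, Y] and K lies in the subgroup generated by the K-conjugates of Y; every normal subgroup of H not containing K has order prime to p; and H is p-irreducible. -/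
theorem result {H : Type*} [Group H] [Finite H] {p : ℕ} [Fact p.Prime] (hp : p ∣ Nat.card H) (hO : Cfsg.pCore p H = ⊥) (hq : Cfsg.IsQuasisimple ↥(Cfsg.pResidual p H)) : Cfsg.pResidual p H = Cfsg.generalizedFittingSubgroup H ∧ (∀ Y : Subgroup H, IsPGroup p ↥Y → Y ≠ ⊥ → ⁅Cfsg.pResidual p H, Y⁆ = Cfsg.pResidual p H ∧ Cfsg.pResidual p H ≤ ⨆ k : ↥(Cfsg.pResidual p H), Y.map (MulAut.conj (k : H)).toMonoidHom) ∧ (∀ C : Subgroup H, C.Normal → ¬ Cfsg.pResidual p H ≤ C → (Nat.card ↥C).Coprime p) ∧ Cfsg.IsPIrreducible p H := by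
  have hC := centralizer_pResidual_le hO
  have hO' : Cfsg.pCoreOf p (⊤ : Subgroup H) = ⊥ := pCoreOf_top.trans hO
  set K := Cfsg.pResidual p H with hK
  have hKc : Cfsg.IsComponent K := isComponent_of_normal hq
  have h1 : K = Cfsg.generalizedFittingSubgroup H :=
    le_antisymm (IsComponent.le_genFitting hKc)
      ((IsComponent.genFitting_le_sup_centralizer hKc).trans (sup_le le_rfl hC))
  have h2 : ∀ Y : Subgroup H, IsPGroup p Y → Y ≤ centralizer (K : Set H) → Y = ⊥ := by
    intro Y hY h
    exact eq_bot_of_le_centralizer_fsOf hO' hY le_top (by rwa [fsOf_top, ← h1])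
  have h3 : ∀ C : Subgroup H, C.Normal → ¬ K ≤ C → (Nat.card ↥C).Coprime p := by
    intro C hCn h
    have h4 := (IsComponent.le_or_commutator_eq_bot hKc hCn.isSubnormal).resolve_left h
    exact coprime_card_of_forall_isPGroup fun Q h5 h6 =>
      h2 Q h6 (h5.trans (commutator_eq_bot_iff_le_centralizer'.1 h4))
  refine ⟨h1, fun Y hY hY0 => ?_, h3, fun h => ?_, fun N hN h => ?_⟩
  · have h4 := (IsComponent.commutator_eq_self_or_eq_bot hKc (U := Y)
      (top_le_normalizer _ _)).resolve_right
      fun h => hY0 (h2 Y hY (commutator_eq_bot_iff_le_centralizer'.1 h))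
    exact ⟨h4, h4.ge.trans (Cfsg.Lib.Local.commutator_le_iSup_cj K Y)⟩
  · obtain ⟨P⟩ : Nonempty (Sylow p H) := inferInstance
    have h4 := (isPClosed_iff_sylow_le P).1 h
    rw [hO, le_bot_iff, (isSylowIn_top P).eq_bot_iff, card_top] at h4
    exact h4 hp
  · by_contra h4
    exact h (isPClosed_of_coprime (h3 N hN h4))

end Cfsg.Agent.S2815
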