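import Cfsg.Statements.S2816
import Cfsg.Agent.Local.FStarP

set_option autoImplicit false
open Cfsg

namespace Cfsg.Agent.S2816

open Cfsg.Lib.Local (resOf CharP charP_iff charP_top_iff)
open Cfsg.Lib.Local.MSS Cfsg.Lib.Solv Cfsg.Lib.Trans Cfsg.Lib.Trans.TJ Subgroup
open scoped commutatorElement

/-- Let H be a finite group and p a prime with O_p(H) = 1, and Y a p-subgroup of H. Then for every subnormal subgroup K of H containing Y, [F*(H), Y] = [F*(K), Y] = [F*(K), Y, Y]; and if Y₀ ≤ Y with [F*(H), Y, Y₀] = 1 then Y₀ = 1 (in particular [F*(H), Y] = 1 forces Y = 1). -/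
theorem result {H : Type*} [Group H] [Finite H] {p : ℕ} [Fact p.Prime] (hO : Cfsg.pCore p H = ⊥) (Y : Subgroup H) (hY : IsPGroup p ↥Y) : (∀ K : Subgroup H, K.IsSubnormal → Y ≤ K → ⁅Cfsg.generalizedFittingSubgroup H, Y⁆ = ⁅(Cfsg.generalizedFittingSubgroup ↥K).map K.subtype, Y⁆ ∧ ⁅(Cfsg.generalizedFittingSubgroup ↥K).map K.subtype, Y⁆ = ⁅⁅(Cfsg.generalizedFittingSubgroup ↥K).map K.subtype, Y⁆, Y⁆) ∧ (∀ Y₀ : Subgroup H, Y₀ ≤ Y → ⁅⁅Cfsg.generalizedFittingSubgroup H, Y⁆, Y₀⁆ = ⊥ → Y₀ = ⊥) := by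
  have hO' : Cfsg.pCoreOf p (⊤ : Subgroup H) = ⊥ := pCoreOf_top.trans hO
  rw [← fsOf_top]
  refine ⟨fun K hK hYK => ?_, fun Y₀ h1 h2 => ?_⟩
  · have hs := SubnormalIn.top_iff.2 hK
    exact ⟨commutator_fsOf_eq_of_subnormalIn hO' hY hs hYK,
      (commutator_commutator_of_fsOf (fsOf_fsOf K)
        (pCoreOf_fsOf_eq_bot (pCoreOf_eq_bot_of_subnormalIn hs hO')) hY
        (le_normalizer_fsOf (hYK.trans Subgroup.le_normalizer))).symm⟩
  · refine eq_bot_of_commutator_commutator_fsOf hO' (hY.to_le h1) le_top ?_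
    exact le_bot_iff.1 (h2 ▸ commutator_mono (commutator_mono le_rfl h1) le_rfl)

end Cfsg.Agent.S2816
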