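import Cfsg.Statements.S2817
import Cfsg.Agent.Local.FStarP

set_option autoImplicit false
open Cfsg

namespace Cfsg.Agent.S2817

open Cfsg.Lib.Local (resOf CharP charP_iff charP_top_iff)
open Cfsg.Lib.Local.MSS Cfsg.Lib.Solv Cfsg.Lib.Trans Cfsg.Lib.Trans.TJ Subgroup
open scoped commutatorElement

/-- Let H be a finite group and p a prime with O_p(H) = 1, Q a p-subgroup of H, L = [F*(H), Q], and F the largest normal subgroup of F*(H) centralized by Q (a normal subgroup of F*(H) centralized by Q and containing every such). Then F = C_{F*(H)}(LQ); L = [L, Q]; L ∩ F ≤ Φ(L); every p-subgroup B of N_H(Q) with [L, B] ≤ F satisfies [L, B] = 1; and C_H(FL) has order prime to p. -/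
theorem result {H : Type*} [Group H] [Finite H] {p : ℕ} [Fact p.Prime] (hO : Cfsg.pCore p H = ⊥) (Q : Subgroup H) (hQ : IsPGroup p ↥Q) (L : Subgroup H) (hL : L = ⁅Cfsg.generalizedFittingSubgroup H, Q⁆) (F : Subgroup H) (hF : F ≤ Cfsg.generalizedFittingSubgroup H ∧ Cfsg.generalizedFittingSubgroup H ≤ Subgroup.normalizer (F : Set H) ∧ Q ≤ Subgroup.centralizer (F : Set H) ∧ ∀ N : Subgroup H, N ≤ Cfsg.generalizedFittingSubgroup H → Cfsg.generalizedFittingSubgroup H ≤ Subgroup.normalizer (N : Set H) → Q ≤ Subgroup.centralizer (N : Set H) → N ≤ F) : F = Cfsg.generalizedFittingSubgroup H ⊓ Subgroup.centralizer ((L ⊔ Q : Subgroup H) : Set H) ∧ ⁅L, Q⁆ = L ∧ L ⊓ F ≤ (frattini ↥L).map L.subtype ∧ (∀ B : Subgroup H, IsPGroup p ↥B → B ≤ Subgroup.normalizer (Q : Set H) → ⁅L, B⁆ ≤ F → ⁅L, B⁆ = ⊥) ∧ (Nat.card ↥(Subgroup.centralizer ((F ⊔ L : Subgroup H) : Set H))).Coprime p := by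
  have hO' : Cfsg.pCoreOf p (⊤ : Subgroup H) = ⊥ := pCoreOf_top.trans hO
  rw [← fsOf_top] at hL hF ⊢
  set E := fsOf (⊤ : Subgroup H) with hE
  have hEn : E.Normal := normal_of_top_le (le_normalizer_fsOf Subgroup.le_normalizer)
  obtain ⟨hF1, hF2, hF3, hF4⟩ := hF
  have hLE : L ≤ E := hL ▸ commutator_le_left _ _
  have hEL : E ≤ normalizer (L : Set H) := hL ▸ left_le_normalizer_commutator _ _
  have hncl : L ⊔ Q = ncl Q E := by rw [ncl_eq, hL]
  have h1 : F = E ⊓ centralizer ((L ⊔ Q : Subgroup H) : Set H) := by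
    rw [hncl]
    refine le_antisymm (le_inf hF1 (le_centralizer_iff.1 (ncl_le hF3
      (le_normalizer_centralizer hF2)))) (hF4 _ inf_le_left
      (le_normalizer_inf_centralizer Subgroup.le_normalizer (le_normalizer_ncl _ _)) ?_)
    exact le_centralizer_iff.1 (inf_le_right.trans (centralizer_le (le_ncl _ _)))
  have h2 : ⁅L, Q⁆ = L := hL ▸ commutator_commutator_of_fsOf (fsOf_fsOf ⊤)
    (pCoreOf_fsOf_eq_bot hO') hQ (top_le_normalizer _ _)
  have hs : SubnormalIn L ⊤ :=
    (SubnormalIn.of_le_normalizer hLE hEL).trans (SubnormalIn.of_normal le_top)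
  have hL1 := le_fsOf_self_of_subnormalIn hs hLE
  have hL2 := pCoreOf_eq_bot_of_subnormalIn hs hO'
  have hQL : Q ≤ normalizer (L : Set H) := hL ▸ right_le_normalizer_commutator _ _
  have hFc : F ≤ centralizer (L : Set H) ⊓ centralizer (Q : Set H) := by
    rw [← centralizer_sup', h1]; exact inf_le_right
  have h3 : L ⊓ F ≤ (frattini ↥L).map L.subtype := by
    refine le_trans (le_inf ?_ (inf_le_right.trans (hFc.trans inf_le_left)))
      (commutator_inf_centralizer_le_map_frattini L)
    refine le_trans ?_ (commutator_inf_centralizer_le_of_fsOf hL1 hL2 hQ hQL)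
    rw [h2]
    exact inf_le_inf_left _ (hFc.trans inf_le_right)
  refine ⟨h1, h2, h3, fun B hB hBQ h4 => ?_, coprime_card_of_forall_isPGroup fun B h4 hB => ?_⟩
  · have hBL : B ≤ normalizer (L : Set H) :=
      hL ▸ le_normalizer_commutator (top_le_normalizer _ _) hBQ
    have h5 := commutator_sup_centralizer_of_fsOf hL1 hL2 hB hBL
    have h6 : ⁅L, B⁆ ≤ (frattini ↥L).map L.subtype :=
      (le_inf (commutator_le_left_of_le_normalizer hBL) h4).trans h3
    have h7 := Coprime.eq_of_frattini_sup_eq (K := L) (C := L ⊓ centralizer (B : Set H))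
      inf_le_left (le_antisymm (sup_le (map_subtype_le _) inf_le_left)
        (h5.ge.trans (sup_le_sup_right h6 _)))
    exact commutator_eq_bot_iff_le_centralizer.2 (inf_eq_left.1 h7)
  · refine eq_bot_of_commutator_commutator_fsOf hO' hB le_top ?_
    set D := E ⊓ centralizer (L : Set H) with hD
    have hED : E ≤ normalizer (D : Set H) :=
      le_normalizer_inf_centralizer Subgroup.le_normalizer hEL
    have hsD : SubnormalIn D ⊤ :=
      (SubnormalIn.of_le_normalizer inf_le_left hED).trans (SubnormalIn.of_normal le_top)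
    have h5 := commutator_sup_centralizer_of_fsOf (le_fsOf_self_of_subnormalIn hsD inf_le_left)
      (pCoreOf_eq_bot_of_subnormalIn hsD hO') hQ
      (le_normalizer_inf_centralizer (top_le_normalizer _ _) hQL)
    have h6 : D ≤ F ⊔ L := by
      rw [← h5, sup_comm]
      refine sup_le_sup ?_ (hL ▸ commutator_mono inf_le_left le_rfl)
      rw [h1, centralizer_sup', hD, inf_assoc]
    have h7 : ⁅E, B⁆ ≤ D := by
      refine le_inf (commutator_le_left _ _) ?_
      exact Coprime.commutator_le_centralizer_of_le_centralizer hEL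
        (h4.trans (centralizer_le (SetLike.coe_subset_coe.2 le_sup_right)))
    exact commutator_eq_bot_iff_le_centralizer'.2
      (h4.trans (centralizer_le (SetLike.coe_subset_coe.2 (h7.trans h6))))

end Cfsg.Agent.S2817
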