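import Cfsg.Statements.S2818
import Cfsg.Agent.Local.PMinimal

set_option autoImplicit false
open Cfsg

namespace Cfsg.Agent.S2818

open Cfsg.Lib.Local (resOf CharP charP_iff charP_top_iff)
open Cfsg.Lib.Local.MSS Cfsg.Lib.Solv Cfsg.Lib.Trans Cfsg.Lib.Trans.TJ Subgroup
open scoped commutatorElement

/-- Let P be a finite p-subgroup of a group G and H a subgroup of N_G(P) with [P, H] ≤ Ω₁(Z(P)) (the elements of order dividing p in the centre of P). Then H centralizes the Frattini subgroup of P. -/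
theorem result {G : Type*} [Group G] [Finite G] {p : ℕ} [Fact p.Prime] (P : Subgroup G) (hP : IsPGroup p ↥P) (H : Subgroup G) (hH : H ≤ Subgroup.normalizer (P : Set G)) (h : ⁅P, H⁆ ≤ Cfsg.omegaOne p (P ⊓ Subgroup.centralizer (P : Set G))) : ⁅(frattini ↥P).map P.subtype, H⁆ = ⊥ := by
  rw [commutator_eq_bot_iff_le_centralizer, map_frattini_le_iff hP]
  have h1 : ⁅⁅P, H⁆, P⁆ = ⊥ :=
    commutator_eq_bot_iff_le_centralizer.2 (h.trans ((omegaOne_le _).trans inf_le_right))
  refine ⟨commutator_eq_bot_iff_le_centralizer.1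
    (commutator_commutator_eq_bot_of_rotate h1 (by rwa [commutator_comm H P])), fun x hx => ?_⟩
  intro y hy
  obtain ⟨-, h2, h3⟩ := mem_omegaOne_center_iff.1 (h (commutator_mem_commutator (P.inv_mem hx) hy))
  set c := ⁅x⁻¹, y⁆ with hc
  have e : y * x * y⁻¹ = x * c := by rw [hc, commutatorElement_def]; group
  have e2 : y * x ^ p * y⁻¹ = x ^ p := by
    rw [← conj_pow, e, Commute.mul_pow (h2 x hx), h3, mul_one]
  exact mul_inv_eq_iff_eq_mul.1 e2

end Cfsg.Agent.S2818
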