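import Cfsg.Statements.S2819
import Cfsg.Agent.Local.PMinimal

set_option autoImplicit false
open Cfsg

namespace Cfsg.Agent.S2819

open Cfsg.Lib.Local (resOf CharP charP_iff charP_top_iff)
open Cfsg.Lib.Local.MSS Cfsg.Lib.Solv Cfsg.Lib.Trans Cfsg.Lib.Trans.TJ Subgroup
open scoped commutatorElement

/-- Let P be a finite p-subgroup of a group G, H a subgroup of N_G(P), and Y a subgroup of H centralizing the derived subgroup P' such that [P, Y] is elementary abelian. Then O^p(⟨Y^H⟩), the subgroup of the normal closure of Y in H generated by its elements of order prime to p, centralizes the Frattini subgroup of P. -/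
theorem result {G : Type*} [Group G] [Finite G] {p : ℕ} [Fact p.Prime] (P : Subgroup G) (hP : IsPGroup p ↥P) (H : Subgroup G) (hH : H ≤ Subgroup.normalizer (P : Set G)) (Y : Subgroup G) (hYH : Y ≤ H) (hYc : Y ≤ Subgroup.centralizer ((⁅P, P⁆ : Subgroup G) : Set G)) (hel : Cfsg.IsElementaryAbelian p ⁅P, Y⁆) (NY : Subgroup G) (hNY : NY = (Subgroup.normalClosure ((Y.subgroupOf H : Subgroup ↥H) : Set ↥H)).map H.subtype) : (Cfsg.pResidual p ↥NY).map NY.subtype ≤ Subgroup.centralizer (((frattini ↥P).map P.subtype : Subgroup G) : Set G) := by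
  rw [map_normalClosure_eq_ncl hYH] at hNY
  subst hNY
  have hP' : H ≤ normalizer ((⁅P, P⁆ : Subgroup G) : Set G) := le_normalizer_commutator hH hH
  have hP'P : ⁅P, P⁆ ≤ P := commutator_le_left_of_le_normalizer Subgroup.le_normalizer
  refine Cfsg.Lib.Local.resOf_le_centralizer_of_commutator_le (hP.to_le hP'P)
    (commutator_ncl_le (hH.trans (normalizer_le_normalizer_frattini P)) hP' hYH ?_)
    (ncl_le hYc (le_normalizer_centralizer hP'))
  rw [map_frattini_eq_commutator_sup_powerClosure hP]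
  have hn : P ≤ normalizer ((⁅P, P⁆ : Subgroup G) : Set G) := left_le_normalizer_commutator _ _
  have hpc : Cfsg.powerClosure p 1 P ≤ P := by
    refine le_trans ?_ (map_subtype_le (frattini P))
    rw [map_frattini_eq_commutator_sup_powerClosure hP]; exact le_sup_right
  refine Cfsg.Lib.Local.sup_commutator_le Subgroup.le_normalizer (hpc.trans hn)
    (commutator_le_left_of_le_normalizer (hYH.trans hP')) ?_
  rw [commutator_comm]
  refine commutator_closure_le (hpc.trans hn) ?_
  rintro _ ⟨x, hx, rfl⟩ y hy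
  have hc : ⁅y, x⁆ ∈ ⁅P, Y⁆ := by
    rw [commutator_comm]; exact commutator_mem_commutator hy hx
  have hcP : ⁅y, x⁆ ∈ P := commutator_le_left_of_le_normalizer (hYH.trans hH) hc
  have h1 : (⟨⁅y, x⁆, hcP⟩ * ⟨x, hx⟩ : P) ^ p * ((⟨x, hx⟩ : P) ^ p)⁻¹ ∈ commutator P := by
    rw [← Abelianization.ker_of, MonoidHom.mem_ker, map_mul, map_inv, map_pow, map_pow, map_mul,
      mul_pow, mul_inv_cancel_right, ← map_pow]
    have : (⟨⁅y, x⁆, hcP⟩ : P) ^ p = 1 := Subtype.ext (ea_pow hel hc)
    rw [this, map_one]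
  have h2 := mem_map_of_mem P.subtype h1
  rw [Subgroup.map_subtype_commutator] at h2
  have e : ⁅y, x ^ p ^ 1⁆ = (⁅y, x⁆ * x) ^ p * (x ^ p)⁻¹ := by
    rw [pow_one, commutatorElement_def, commutatorElement_def, inv_mul_cancel_right, conj_pow]
  rw [e]
  simpa using h2

end Cfsg.Agent.S2819
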