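import Cfsg.Statements.S2825
import Cfsg.Agent.Local.PReduced

set_option autoImplicit false
open Cfsg

namespace Cfsg.Agent.S2825

open Cfsg.Lib.Local (resOf CharP charP_iff charP_top_iff)
open Cfsg.Lib.Local.MSS Cfsg.Lib.Solv Cfsg.Lib.Trans Cfsg.Lib.Trans.TJ Subgroup
open scoped commutatorElement

theorem normal_case {G : Type*} [Group G] [Finite G] {p : ℕ} [Fact p.Prime] {L H : Subgroup G}
    (hLH : L ≤ H) (hn : H ≤ normalizer (L : Set G)) :
    L ⊓ centralizer (Cfsg.largestPReducedOf p H : Set G) ≤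
      centralizer (Cfsg.largestPReducedOf p L : Set G) := by
  set Y := Cfsg.largestPReducedOf p L with hY
  obtain ⟨V, ⟨hV1, hV2, hV3⟩, hmin⟩ := (Set.toFinite {V : Subgroup G | V ≤ Y ∧
    H ≤ normalizer (V : Set G) ∧ ∀ D : Subgroup G, D ≤ L → L ≤ normalizer (D : Set G) →
      resOf p D ≤ centralizer (V : Set G) → D ≤ centralizer (Y : Set G)}).exists_minimal
    ⟨Y, le_rfl, hn.trans (normalizer_le_normalizer_yOf L), (yOf_pRed L).2⟩
  have hVe : IsElementaryAbelian p V := ea_mono (yOf_ea L) hV1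
  have hV : PRed p V H := by
    refine ⟨hV2, fun R hR hRn hRc => ?_⟩
    have h1 := hmin (y := V ⊓ centralizer (R : Set G)) ⟨inf_le_left.trans hV1,
      le_normalizer_inf_centralizer hV2 hRn, fun D hD hDn hDc => hV3 D hD hDn ?_⟩ inf_le_left
    · exact le_centralizer_iff.1 (h1.trans inf_le_right)
    · refine p_times_q (ea_isPGroup hVe) (hR.trans hV2) (((resOf_le D).trans (hD.trans hLH)).trans hV2)
        hRc ?_ hDc
      have h2 : ⁅R, resOf p D⁆ ≤ R ⊓ L :=
        le_inf (commutator_le_left_of_le_normalizer (((resOf_le D).trans (hD.trans hLH)).trans hRn))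
          ((commutator_mono le_rfl ((resOf_le D).trans hD)).trans
            (commutator_le_right_of_le_normalizer (hR.trans hn)))
      exact h2.trans ((hV3 _ inf_le_right (le_normalizer_inf (hLH.trans hRn) Subgroup.le_normalizer)
        ((resOf_mono inf_le_left).trans hRc)).trans (centralizer_le hV1))
  have h3 : V ≤ Cfsg.largestPReducedOf p H := le_yOf ((hV1.trans (yOf_le L)).trans hLH) hVe hV
  exact hV3 _ inf_le_left (le_normalizer_inf_centralizer Subgroup.le_normalizer
    (hLH.trans (self_le_normalizer_yOf H)))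
    ((resOf_le _).trans (inf_le_right.trans (centralizer_le h3)))


/-- Let L be a subnormal subgroup of the finite group H, p a prime, Y_H and Y_L the largest p-reduced normal subgroups. Then Y_H ∩ L = Y_H ∩ Y_L and this subgroup is a p-reduced normal subgroup of L; C_L(Y_L) = C_L(Y_H) = C_L(Y_H ∩ L); and if O^p(H) ≤ L, then [Y_L, L] = 1 if and only if [Y_H, H] = 1. -/
theorem result {H : Type*} [Group H] [Finite H] {p : ℕ} [Fact p.Prime] (L : Subgroup H) (hL : L.IsSubnormal) : Cfsg.largestPReduced p H ⊓ L = Cfsg.largestPReduced p H ⊓ (Cfsg.largestPReducedOf p L) ∧ Cfsg.IsPReducedNormal p ((Cfsg.largestPReduced p H ⊓ L).subgroupOf L) ∧ L ⊓ Subgroup.centralizer ((Cfsg.largestPReducedOf p L : Subgroup H) : Set H) = L ⊓ Subgroup.centralizer (Cfsg.largestPReduced p H : Set H) ∧ L ⊓ Subgroup.centralizer (Cfsg.largestPReduced p H : Set H) = L ⊓ Subgroup.centralizer ((Cfsg.largestPReduced p H ⊓ L : Subgroup H) : Set H) ∧ (Cfsg.pResidual p H ≤ L → (⁅(Cfsg.largestPReducedOf p L), L⁆ = ⊥ ↔ ⁅Cfsg.largestPReduced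 p H, (⊤ : Subgroup H)⁆ = ⊥)) := by
  have hs := SubnormalIn.top_iff.2 hL
  rw [← yOf_top, ← resOf_top]
  set Y := Cfsg.largestPReducedOf p (⊤ : Subgroup H) with hY
  have hYr : PRed p Y L := (yOf_pRed ⊤).of_subnormalIn hs
  have hYe : IsElementaryAbelian p Y := yOf_ea ⊤
  have key : ∀ D : Subgroup H, D ≤ L → L ≤ normalizer (D : Set H) →
      resOf p D ≤ centralizer ((Y ⊓ L : Subgroup H) : Set H) → D ≤ centralizer (Y : Set H) := by
    intro D hD hn hc
    refine hYr.le_centralizer hD hn (resOf_le_centralizer_of_commutator_le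
      ((ea_isPGroup hYe).to_le inf_le_left) ?_ hc)
    refine le_inf (commutator_le_left_of_le_normalizer (le_top.trans (self_le_normalizer_yOf ⊤)))
      ((commutator_le_right_of_le_normalizer ?_).trans ((resOf_le D).trans hD))
    exact le_normalizer_resOf_of_subnormalIn ((SubnormalIn.of_le_normalizer hD hn).trans hs) le_top
      (self_le_normalizer_yOf ⊤) (ea_isPGroup hYe)
  have hn : L ≤ normalizer ((Y ⊓ L : Subgroup H) : Set H) :=
    le_normalizer_inf hYr.le_normalizer Subgroup.le_normalizer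
  have h1 : PRed p (Y ⊓ L) L :=
    ⟨hn, fun D hD hDn hc => (key D hD hDn hc).trans (centralizer_le inf_le_left)⟩
  have h2 : Y ⊓ L ≤ Cfsg.largestPReducedOf p L := le_yOf inf_le_right (ea_mono hYe inf_le_left) h1
  have h3 : L ⊓ centralizer (Y : Set H) = L ⊓ centralizer ((Y ⊓ L : Subgroup H) : Set H) :=
    le_antisymm (inf_le_inf_left _ (centralizer_le inf_le_left)) (le_inf inf_le_left
      (key _ inf_le_left (le_normalizer_inf_centralizer Subgroup.le_normalizer hn)
        ((resOf_le _).trans inf_le_right)))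
  have h4 : L ⊓ centralizer (Y : Set H) ≤ centralizer (Cfsg.largestPReducedOf p L : Set H) := by
    refine hs.induction (P := fun L => L ⊓ centralizer (Y : Set H) ≤
      centralizer (Cfsg.largestPReducedOf p L : Set H)) inf_le_right ?_
    intro X Z hXZ hXn _ ih
    exact (le_inf inf_le_left ((inf_le_inf_right _ hXZ).trans ih)).trans (normal_case hXZ hXn)
  have h5 : L ⊓ centralizer (Cfsg.largestPReducedOf p L : Set H) = L ⊓ centralizer (Y : Set H) :=
    le_antisymm (h3 ▸ inf_le_inf_left _ (centralizer_le h2)) (le_inf inf_le_left h4)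
  refine ⟨le_antisymm (le_inf inf_le_left h2) (inf_le_inf_left _ (yOf_le L)),
    (isPReducedNormal_subgroupOf_iff inf_le_right).2 ⟨ea_mono hYe inf_le_left, h1⟩, h5, h3,
    fun h6 => ?_⟩
  rw [commutator_eq_bot_iff_le_centralizer', commutator_eq_bot_iff_le_centralizer',
    ← inf_eq_left, h5, inf_eq_left]
  exact ⟨fun h7 => (yOf_pRed ⊤).le_centralizer le_rfl Subgroup.le_normalizer (h6.trans h7),
    fun h7 => le_top.trans h7⟩

end Cfsg.Agent.S2825
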