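import Cfsg.Statements.S2827
import Cfsg.Agent.Local.PMinimal

set_option autoImplicit false
open Cfsg

namespace Cfsg.Agent.S2827

open Cfsg.Lib.Local (resOf CharP charP_iff charP_top_iff)
open Cfsg.Lib.Local.MSS Cfsg.Lib.Solv Cfsg.Lib.Trans Cfsg.Lib.Trans.TJ Subgroup
open scoped commutatorElement

/-- Let H be a finite p-irreducible group (not p-closed, and O^p(H) lies in every normal subgroup that is not p-closed) and T a Sylow p-subgroup. Then H is generated by the conjugates of T and H = H'·T; O^p(H) ≤ H'; and for every normal subgroup Y of T not contained in O_p(H), O^p(H) = [O^p(H), Y] and O^p(H) is contained in the normal closure of Y in H. -/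
theorem result {H : Type*} [Group H] [Finite H] {p : ℕ} [Fact p.Prime] (hH : Cfsg.IsPIrreducible p H) (T : Sylow p H) : Subgroup.normalClosure ((T : Subgroup H) : Set H) = ⊤ ∧ commutator H ⊔ (T : Subgroup H) = ⊤ ∧ Cfsg.pResidual p H ≤ commutator H ∧ ∀ Y : Subgroup H, Y ≤ (T : Subgroup H) → (T : Subgroup H) ≤ Subgroup.normalizer (Y : Set H) → ¬ Y ≤ Cfsg.pCore p H → ⁅Cfsg.pResidual p H, Y⁆ = Cfsg.pResidual p H ∧ Cfsg.pResidual p H ≤ Subgroup.normalClosure (Y : Set H) := by
  have hT := isSylowIn_top T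
  have hH' := isPIrreducible_top_iff.2 hH
  have h1 : Subgroup.normalClosure ((T : Subgroup H) : Set H) = ⊤ := by
    rw [← ncl_top]; exact top_le_iff.1 (le_ncl_of_isPIrreducible hH' hT)
  have h2 : commutator H ⊔ (T : Subgroup H) = ⊤ := by
    have : (commutator H ⊔ (T : Subgroup H)).Normal := Normal.of_commutator_le _ le_sup_left
    rw [eq_top_iff, ← h1]
    exact normalClosure_le_normal (SetLike.coe_subset_coe.2 le_sup_right)
  refine ⟨h1, h2, ?_, fun Y h3 h4 h5 => ?_⟩
  · rw [← resOf_top, ← h2]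
    exact resOf_sup_le (top_le_normalizer _ _) (resOf_le_of_isPGroup hT.isPGroup _)
  · rw [← pCoreOf_top] at h5
    rw [← resOf_top, ← ncl_top]
    exact ⟨commutator_resOf_eq_of_isPIrreducible hH' hT h3 h4 h5,
      resOf_le_ncl_of_isPIrreducible hH' le_top (hT.isPGroup.to_le h3) h5⟩

end Cfsg.Agent.S2827
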