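import Cfsg.Statements.S2828
import Cfsg.Agent.Local.PMinimal

set_option autoImplicit false
open Cfsg

namespace Cfsg.Agent.S2828

open Cfsg.Lib.Local (resOf CharP charP_iff charP_top_iff)
open Cfsg.Lib.Local.MSS Cfsg.Lib.Solv Cfsg.Lib.Trans Cfsg.Lib.Trans.TJ Subgroup
open scoped commutatorElement

/-- Let H be a finite group, p a prime and D a normal p-subgroup of H. Then H is p-irreducible if and only if H/D is p-irreducible, and H is strongly p-irreducible if and only if H/D is strongly p-irreducible. -/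
theorem result {H : Type*} [Group H] [Finite H] {p : ℕ} [Fact p.Prime] (D : Subgroup H) [D.Normal] (hD : IsPGroup p ↥D) : (Cfsg.IsPIrreducible p H ↔ Cfsg.IsPIrreducible p (H ⧸ D)) ∧ (Cfsg.IsStronglyPIrreducible p H ↔ Cfsg.IsStronglyPIrreducible p (H ⧸ D)) := by
  let f := QuotientGroup.mk' D
  have hf : Function.Surjective f := QuotientGroup.mk'_surjective D
  have hk : IsPGroup p f.ker := by rwa [QuotientGroup.ker_mk']
  have hres : (Cfsg.pResidual p H).map f = Cfsg.pResidual p (H ⧸ D) := by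
    rw [← resOf_top, map_resOf, map_top_of_surjective f hf, resOf_top]
  have hcl : Cfsg.IsPClosed p H ↔ Cfsg.IsPClosed p (H ⧸ D) := by
    rw [← isPClosed_top_iff, ← isPClosed_top_iff (G := H ⧸ D), ← map_top_of_surjective f hf]
    exact ⟨fun h => isPClosed_map h f, isPClosed_of_map f hk⟩
  have up : ∀ N : Subgroup (H ⧸ D), Cfsg.pResidual p H ≤ N.comap f →
      Cfsg.pResidual p (H ⧸ D) ≤ N := fun N h => hres ▸ map_le_iff_le_comap.2 h
  have down : ∀ N : Subgroup H, N.Normal → Cfsg.pResidual p (H ⧸ D) ≤ N.map f →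
      Cfsg.pResidual p H ≤ N := by
    intro N hN h
    rw [← hres, Subgroup.map_le_map_iff] at h
    rw [← resOf_pResidual]
    exact (resOf_mono h).trans (resOf_sup_le (top_le_normalizer _ _) (resOf_le_of_isPGroup hk _))
  have hcomm : ∀ N : Subgroup H, ⁅N, (⊤ : Subgroup H)⁆ ≤ Cfsg.pCore p H ↔
      ⁅N.map f, (⊤ : Subgroup (H ⧸ D))⁆ ≤ Cfsg.pCore p (H ⧸ D) := by
    intro N
    rw [← map_top_of_surjective f hf, ← map_commutator, map_le_iff_le_comap,
      comap_pCore_of_ker f hf hk]
  refine ⟨and_congr hcl.not ⟨fun h N hN h1 => up N (h _ (hN.comap f) fun h2 => h1 ?_),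
    fun h N hN h1 => down N hN (h _ (hN.map f hf) fun h2 => h1 (isPClosed_of_map f hk h2))⟩,
    and_congr hcl.not ⟨fun h N hN h1 => up N (h _ (hN.comap f) fun h2 => h1 ?_),
    fun h N hN h1 => down N hN (h _ (hN.map f hf) fun h2 => h1 ((hcomm N).2 h2))⟩⟩
  · have := isPClosed_map h2 f
    rwa [map_comap_eq_self_of_surjective hf] at this
  · have := (hcomm _).1 h2
    rwa [map_comap_eq_self_of_surjective hf] at this

end Cfsg.Agent.S2828
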