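import Cfsg.Statements.S2829
import Cfsg.Agent.Local.PMinimal

set_option autoImplicit false
open Cfsg

namespace Cfsg.Agent.S2829

open Cfsg.Lib.Local (resOf CharP charP_iff charP_top_iff)
open Cfsg.Lib.Local.MSS Cfsg.Lib.Solv Cfsg.Lib.Trans Cfsg.Lib.Trans.TJ Subgroup
open scoped commutatorElement

/-- Every strongly p-irreducible finite group is p-irreducible. -/
theorem result {H : Type*} [Group H] [Finite H] {p : ℕ} [Fact p.Prime] (hH : Cfsg.IsStronglyPIrreducible p H) : Cfsg.IsPIrreducible p H := by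
  refine ⟨hH.1, fun N hN h => hH.2 N hN fun h1 => h ?_⟩
  rw [isPClosed_subgroup_iff]
  intro Q hQ hQp
  have h2 : (Cfsg.pCore p H ⊔ Q).Normal := by
    refine normal_of_top_le (Cfsg.Lib.Local.le_normalizer_of_commutator_le ?_)
    refine Cfsg.Lib.Local.sup_commutator_le (le_sup_left.trans Subgroup.le_normalizer)
      (le_sup_right.trans Subgroup.le_normalizer)
      ((commutator_le_left _ _).trans le_sup_left)
      ((commutator_mono hQ le_rfl).trans (h1.trans le_sup_left))
  have h3 : Q ≤ Cfsg.pCore p H := le_sup_right.trans (le_pCore h2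
    (Cfsg.Lib.Local.isPGroup_sup' (pCore_isPGroup p H) hQp (top_le_normalizer _ _)))
  exact (le_inf h3 hQ).trans (pCore_inf_le_map N)

end Cfsg.Agent.S2829
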