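import Cfsg.Statements.S2832
import Cfsg.Agent.Local.PMinimal

set_option autoImplicit false
open Cfsg

namespace Cfsg.Agent.S2832

open Cfsg.Lib.Local (resOf CharP charP_iff charP_top_iff)
open Cfsg.Lib.Local.MSS Cfsg.Lib.Solv Cfsg.Lib.Trans Cfsg.Lib.Trans.TJ Subgroup
open scoped commutatorElement

/-- Let H be a finite group with Sylow p-subgroup T such that H is T-minimal (generated by the conjugates of T, with T in exactly one maximal subgroup), and let N be a normal subgroup of H. Then either H/N is a p-group or H/N is minimal over the image of T in the same sense. -/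
theorem result {H : Type*} [Group H] [Finite H] {p : ℕ} [Fact p.Prime] (T : Sylow p H) (hmin : Cfsg.IsMinimalOver (T : Subgroup H)) (N : Subgroup H) [N.Normal] : IsPGroup p (H ⧸ N) ∨ Cfsg.IsMinimalOver ((T : Subgroup H).map (QuotientGroup.mk' N)) := by
  obtain ⟨h1, M, hM⟩ := isMinimalOver_iff.1 hmin
  let f := QuotientGroup.mk' N
  have hf : Function.Surjective f := QuotientGroup.mk'_surjective N
  rcases hM.resOf_le_or (isSylowIn_top T) le_top (top_le_normalizer N _) with h | h
  · left
    have h2 : IsPGroup p ((⊤ : Subgroup H).map f) := by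
      rwa [isPGroup_map_iff, QuotientGroup.ker_mk']
    rw [map_top_of_surjective f hf] at h2
    exact h2.of_equiv topEquiv
  · right
    refine ⟨by rw [coe_map, ← map_normalClosure _ _ hf, hmin.1, map_top_of_surjective f hf], ?_⟩
    have h2 := hM.map f (by rw [QuotientGroup.ker_mk']; exact inf_le_left.trans h.1)
    rw [map_top_of_surjective f hf] at h2
    exact existsUnique_isCoatom_iff.2 ⟨_, h2⟩

end Cfsg.Agent.S2832
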