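import Cfsg.Statements.S2835
import Cfsg.Agent.Local.YMinimal

set_option autoImplicit false
open Cfsg

namespace Cfsg.Agent.S2835

open Cfsg.Lib.Local (resOf CharP charP_iff charP_top_iff)
open Cfsg.Lib.Local.MSS Cfsg.Lib.Solv Cfsg.Lib.Trans Cfsg.Lib.Trans.TJ Subgroup
open scoped commutatorElement

/-- Let L be a finite group, L₀ a maximal subgroup, T a Sylow p-subgroup of L₀ and Y ≤ T, and suppose L is Y-minimal (generated by the conjugates of Y, with Y in exactly one maximal subgroup, necessarily L₀). Then N_L(T) ≤ L₀, O_p(L) ≤ L₀ and T is a Sylow p-subgroup of L; N_L(L₀) = L₀; L = ⟨Y, gYg⁻¹⟩ for each g ∈ L outside L₀; and if Y is abelian then Y ∩ gYg⁻¹ = C_Y(L) for each such g. -/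
theorem result {L : Type*} [Group L] [Finite L] {p : ℕ} [Fact p.Prime] (L₀ : Subgroup L) (hL₀ : IsCoatom L₀) (T : Sylow p ↥L₀) (Y : Subgroup L) (hYT : Y ≤ (T : Subgroup ↥L₀).map L₀.subtype) (hmin : Cfsg.IsMinimalOver Y) : Subgroup.normalizer (((T : Subgroup ↥L₀).map L₀.subtype : Subgroup L) : Set L) ≤ L₀ ∧ Cfsg.pCore p L ≤ L₀ ∧ (∃ P : Sylow p L, (P : Subgroup L) = (T : Subgroup ↥L₀).map L₀.subtype) ∧ Subgroup.normalizer (L₀ : Set L) = L₀ ∧ (∀ g : L, g ∉ L₀ → Y ⊔ Y.map (MulAut.conj g).toMonoidHom = ⊤) ∧ (IsMulCommutative ↥Y → ∀ g : L, g ∉ L₀ → Y ⊓ Y.map (MulAut.conj g).toMonoidHom = Y ⊓ Subgroup.center L) := by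
  have hT := isSylowIn_map_subtype T
  have h := uniqMax_of_existsUnique hmin.2 hL₀ (hYT.trans hT.le)
  have hn := (isMinimalOver_iff.1 hmin).1
  refine ⟨?_, ?_, (h.isSylowIn_of_isSylowIn hn hT hYT).exists_sylow_eq, ?_,
    fun g hg => h.sup_cj_eq hn (mem_top g) hg, fun hc g hg => ?_⟩
  · simpa using h.inf_normalizer_le_of_le hn hYT hT.le
  · rw [← pCoreOf_top]; exact h.pCoreOf_le hn (hT.isPGroup.to_le hYT)
  · exact le_antisymm (by simpa using h.inf_normalizer_le hn) Subgroup.le_normalizer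
  · rw [inf_cj_eq_of_sup_eq (mem_top g) (h.sup_cj_eq hn (mem_top g) hg) (le_centralizer Y),
      coe_top, centralizer_univ]

end Cfsg.Agent.S2835
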