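import Cfsg.Statements.S2836
import Cfsg.Agent.Local.YMinimal

set_option autoImplicit false
open Cfsg

namespace Cfsg.Agent.S2836

open Cfsg.Lib.Local (resOf CharP charP_iff charP_top_iff)
open Cfsg.Lib.Local.MSS Cfsg.Lib.Solv Cfsg.Lib.Trans Cfsg.Lib.Trans.TJ Subgroup
open scoped commutatorElement

/-- Let L be a finite group, L₀ a maximal subgroup, T a Sylow p-subgroup of L₀, Y ≤ T, and suppose L is Y-minimal. Let D be the intersection of the conjugates of L₀ (the core of L₀). Then D contains O_p(L) and D/O_p(L) is the Frattini subgroup of L/O_p(L), so D is p-closed; and every normal subgroup N of L contained in L₀ is p-closed with N/O_p(N) a nilpotent group of order prime to p. -/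
theorem result {L : Type*} [Group L] [Finite L] {p : ℕ} [Fact p.Prime] (L₀ : Subgroup L) (hL₀ : IsCoatom L₀) (T : Sylow p ↥L₀) (Y : Subgroup L) (hYT : Y ≤ (T : Subgroup ↥L₀).map L₀.subtype) (hmin : Cfsg.IsMinimalOver Y) : (Cfsg.pCore p L ≤ L₀.normalCore ∧ (L₀.normalCore).map (QuotientGroup.mk' (Cfsg.pCore p L)) = frattini (L ⧸ Cfsg.pCore p L) ∧ Cfsg.IsPClosed p ↥(L₀.normalCore)) ∧ ∀ (N : Subgroup L) [N.Normal], N ≤ L₀ → Cfsg.IsPClosed p ↥N ∧ Group.IsNilpotent (↥N ⧸ Cfsg.pCore p ↥N) ∧ (Nat.card (↥N ⧸ Cfsg.pCore p ↥N)).Coprime p := by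
  have hT := isSylowIn_map_subtype T
  have h := uniqMax_of_existsUnique hmin.2 hL₀ (hYT.trans hT.le)
  have hn := (isMinimalOver_iff.1 hmin).1
  have hT' := h.isSylowIn_of_isSylowIn hn hT hYT
  have h' := h.mono hYT hT.le
  have hO : Cfsg.pCore p L ≤ L₀ := by
    rw [← pCoreOf_top]; exact h.pCoreOf_le hn (hT.isPGroup.to_le hYT)
  let f := QuotientGroup.mk' (Cfsg.pCore p L)
  have hf : Function.Surjective f := QuotientGroup.mk'_surjective _
  refine ⟨⟨normal_le_normalCore.2 hO, le_antisymm (h'.map_le_frattini hT' (normalCore_le _)) ?_,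
    h'.isPClosed_of_le hT' (normalCore_le _) (top_le_normalizer _ _)⟩, fun N _ hN => ?_⟩
  · rw [← map_comap_eq_self_of_surjective hf (frattini _)]
    refine map_mono (normal_le_normalCore.2 ?_)
    refine (comap_mono (frattini_le_coatom (isCoatom_map_mk' hO hL₀))).trans ?_
    rw [comap_map_eq, QuotientGroup.ker_mk', sup_eq_left.2 hO]
  · have h1 := h'.isPClosed_of_le hT' hN (top_le_normalizer _ _)
    refine ⟨h1, ?_, coprime_card_quotient_pCore_of_isPClosed h1⟩
    have h2 := h'.map_le_frattini hT' hN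
    have h3 : Group.IsNilpotent (frattini (L ⧸ Cfsg.pCore p L)) := frattini_nilpotent
    let φ : N →* frattini (L ⧸ Cfsg.pCore p L) :=
      (f.comp N.subtype).codRestrict _ fun x => h2 (mem_map_of_mem f x.2)
    have h4 : φ.ker = Cfsg.pCore p N := by
      ext x
      rw [MonoidHom.mem_ker, Subtype.ext_iff, ← mem_pCoreOf_coe,
        pCoreOf_eq_inf_of_subnormalIn (SubnormalIn.of_normal le_top), pCoreOf_top]
      simp [φ, f]
    have h5 : Group.IsNilpotent (N ⧸ φ.ker) :=
      nilpotent_of_mulEquiv (QuotientGroup.quotientKerEquivRange φ).symm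
    exact nilpotent_of_mulEquiv (QuotientGroup.quotientMulEquivOfEq h4)

end Cfsg.Agent.S2836
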