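import Cfsg.Statements.S2837
import Cfsg.Agent.Local.YMinimal

set_option autoImplicit false
open Cfsg

namespace Cfsg.Agent.S2837

open Cfsg.Lib.Local (resOf CharP charP_iff charP_top_iff)
open Cfsg.Lib.Local.MSS Cfsg.Lib.Solv Cfsg.Lib.Trans Cfsg.Lib.Trans.TJ Subgroup
open scoped commutatorElement

/-- Let L be a finite group of characteristic p, L₀ a maximal subgroup, Y an elementary abelian p-subgroup of L₀ with L Y-minimal and O_p(L) ≤ N_L(Y). Put A = the normal closure of O_p(L) ∩ Y in L. Then for every g ∈ L outside L₀: Φ(A) = A' = [A ∩ Y, A] = [A ∩ Y, A ∩ gYg⁻¹] ≤ C_Y(L), and Y ∩ gYg⁻¹ = (A ∩ Y) ∩ (A ∩ gYg⁻¹) = C_Y(L) = C_A(L). -/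
theorem result {L : Type*} [Group L] [Finite L] {p : ℕ} [Fact p.Prime] (hchar : Subgroup.centralizer (Cfsg.pCore p L : Set L) ≤ Cfsg.pCore p L) (L₀ : Subgroup L) (hL₀ : IsCoatom L₀) (Y : Subgroup L) (hYL₀ : Y ≤ L₀) (hYel : Cfsg.IsElementaryAbelian p Y) (hmin : Cfsg.IsMinimalOver Y) (hOY : Cfsg.pCore p L ≤ Subgroup.normalizer (Y : Set L)) (A : Subgroup L) (hA : A = Subgroup.normalClosure (((Cfsg.pCore p L ⊓ Y : Subgroup L)) : Set L)) (g : L) (hg : g ∉ L₀) : (frattini ↥A).map A.subtype = ⁅A, A⁆ ∧ ⁅A, A⁆ = ⁅A ⊓ Y, A⁆ ∧ ⁅A ⊓ Y, A⁆ = ⁅A ⊓ Y, A ⊓ Y.map (MulAut.conj g).toMonoidHom⁆ ∧ ⁅A ⊓ Y, A⁆ ≤ Y ⊓ Subgroup.center L ∧ Y ⊓ Y.map (MulAut.conj g).toMonoidHom = Y ⊓ Subgroup.center L ∧ (A ⊓ Y) ⊓ (A ⊓ Y.map (MulAut.conj g).toMonoidHom) = Y ⊓ Subgroup.center L ∧ A ⊓ Subgroup.center L = Y ⊓ Subgroup.center L := by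
  have h := uniqMax_of_existsUnique hmin.2 hL₀ hYL₀
  have hn := (isMinimalOver_iff.1 hmin).1
  have hgen : Y ⊔ cj g Y = ⊤ := h.sup_cj_eq hn (mem_top g) hg
  have hc : Subgroup.center L = centralizer ((⊤ : Subgroup L) : Set L) := by
    rw [coe_top, centralizer_univ]
  have hYY : Y ⊓ cj g Y = Y ⊓ Subgroup.center L := by
    rw [inf_cj_eq_of_sup_eq (mem_top g) hgen (ea_le_centralizer hYel), hc]
  set Q := Cfsg.pCore p L with hQ
  set B := Q ⊓ Y with hB
  have hB' : cj g B = Q ⊓ cj g Y := by rw [hB, cj_inf, cj_eq_of_normal]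
  have hQB : Q ≤ normalizer (B : Set L) := le_normalizer_inf Subgroup.le_normalizer hOY
  have hQB' : Q ≤ normalizer ((cj g B : Subgroup L) : Set L) := by
    rw [← cj_normalizer, ← cj_eq_of_normal g Q]; exact cj_mono g hQB
  have hQY : ⁅Q, Y⁆ ≤ B :=
    le_inf (commutator_le_left _ _) (commutator_le_right_of_le_normalizer hOY)
  have hQY' : ⁅Q, cj g Y⁆ ≤ cj g B := by
    have := cj_mono g hQY
    rwa [cj_commutator, cj_eq_of_normal] at this
  have hBQ : B ⊔ cj g B ≤ Q := sup_le inf_le_left (hB' ▸ inf_le_left)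
  have hAe : A = B ⊔ cj g B := by
    rw [hA, ← ncl_top]
    refine le_antisymm (ncl_le le_sup_left ?_) (sup_le (le_ncl _ _) (cj_le_ncl _ (mem_top g)))
    rw [← hgen]
    exact sup_le (Cfsg.Lib.Local.le_normalizer_of_commutator_le_of_le (hQY.trans le_sup_left) hBQ)
      (Cfsg.Lib.Local.le_normalizer_of_commutator_le_of_le (hQY'.trans le_sup_right) hBQ)
  have hAQ : A ≤ Q := hAe ▸ hBQ
  have hAY : A ⊓ Y = B :=
    le_antisymm (inf_le_inf_right _ hAQ) (le_inf (hAe ▸ le_sup_left) inf_le_right)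
  have hAY' : A ⊓ cj g Y = cj g B :=
    le_antisymm (hB' ▸ inf_le_inf_right _ hAQ) (le_inf (hAe ▸ le_sup_right) (hB' ▸ inf_le_right))
  have hBe : IsElementaryAbelian p B := ea_mono hYel inf_le_right
  have hBe' : IsElementaryAbelian p (cj g B) := ea_map hBe _
  have hn1 : B ≤ normalizer ((⁅B, cj g B⁆ : Subgroup L) : Set L) :=
    left_le_normalizer_commutator _ _
  have hn2 : cj g B ≤ normalizer ((⁅B, cj g B⁆ : Subgroup L) : Set L) :=
    right_le_normalizer_commutator _ _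
  have h1 : ⁅B, A⁆ = ⁅B, cj g B⁆ := by
    refine le_antisymm ?_ (commutator_mono le_rfl (hAe ▸ le_sup_right))
    rw [hAe]
    exact Cfsg.Lib.Local.commutator_sup_le hn1 hn2 (by rw [ea_commutator_self hBe]; exact bot_le)
      le_rfl
  have h2 : ⁅A, A⁆ = ⁅B, A⁆ := by
    refine le_antisymm ?_ (commutator_mono (hAe ▸ le_sup_left) le_rfl)
    rw [h1]
    conv_lhs => enter [1]; rw [hAe]
    refine Cfsg.Lib.Local.sup_commutator_le hn1 hn2 h1.le ?_
    rw [hAe]
    exact Cfsg.Lib.Local.commutator_sup_le hn1 hn2 (commutator_comm _ _).le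
      (by rw [ea_commutator_self hBe']; exact bot_le)
  have h3 : B ⊓ cj g B = Y ⊓ Subgroup.center L := by
    have h4 : Y ⊓ Subgroup.center L ≤ Q :=
      inf_le_right.trans ((center_le_centralizer _).trans hchar)
    rw [hB', hB, ← inf_inf_distrib_left, hYY, inf_eq_right.2 h4]
  have hAp : IsPGroup p A := (pCore_isPGroup p L).to_le hAQ
  refine ⟨le_antisymm ((map_frattini_le_iff hAp _).2 ⟨le_rfl, fun x hx => ?_⟩)
    (commutator_le_map_frattini hAp), by rw [hAY, h2], by rw [hAY, hAY', h1], ?_, hYY,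
    by rw [hAY, hAY', h3], ?_⟩
  · have hx' := hx
    rw [hAe, mem_sup_of_le_normalizer ((hB' ▸ inf_le_left : cj g B ≤ Q).trans hQB)] at hx'
    obtain ⟨a, ha, b, hb, rfl⟩ := hx'
    have haA : a ∈ A := hAe ▸ mem_sup_left ha
    have hbA : b ∈ A := hAe ▸ mem_sup_right hb
    have h4 : (⟨a, haA⟩ * ⟨b, hbA⟩ : A) ^ p ∈ commutator A := by
      rw [← Abelianization.ker_of, MonoidHom.mem_ker, map_pow, map_mul, mul_pow, ← map_pow,
        ← map_pow]
      have e1 : (⟨a, haA⟩ : A) ^ p = 1 := Subtype.ext (ea_pow hBe ha)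
      have e2 : (⟨b, hbA⟩ : A) ^ p = 1 := Subtype.ext (ea_pow hBe' hb)
      rw [e1, e2, map_one, one_mul]
    have h5 := mem_map_of_mem A.subtype h4
    rw [Subgroup.map_subtype_commutator] at h5
    simpa using h5
  · rw [hAY, h1, ← h3]
    exact Cfsg.Lib.Local.commutator_le_inf_of_le_normalizer (inf_le_left.trans hQB')
      ((hB' ▸ inf_le_left : cj g B ≤ Q).trans hQB)
  · refine le_antisymm (le_inf ?_ inf_le_right)
      (le_inf (h3 ▸ inf_le_left.trans (hAe ▸ le_sup_left)) inf_le_right)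
    have h4 := sup_cj_inf_centralizer (A := B) (X := Y) (g := g) (hgen ▸ mem_top g)
      (ea_le_centralizer_of_le hYel inf_le_right le_rfl)
      ((hB' ▸ inf_le_left : cj g B ≤ Q).trans hQB)
    rw [← hAe] at h4
    exact ((inf_le_inf_left _ (center_le_centralizer _)).trans h4.le).trans inf_le_right

end Cfsg.Agent.S2837
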