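import Cfsg.Statements.S2840
import Cfsg.Agent.Local.WeaklyClosed

set_option autoImplicit false
open Cfsg

namespace Cfsg.Agent.S2840

open Cfsg.Lib.Local Cfsg.Lib.Trans Cfsg.Lib

/-- Let Q be a nontrivial p-subgroup of the finite group H that is a weakly closed subgroup and K a subgroup containing Q; let K° be the weak closure of Q in K (generated by the H-conjugates of Q inside K). Then K° is generated by the K-conjugates of Q, and K° is the subnormal closure of Q in K. -/
theorem result {H : Type*} [Group H] [Finite H] {p : ℕ} [Fact p.Prime] (Q : Subgroup H) (hQp : IsPGroup p ↥Q) (hQ1 : Q ≠ ⊥) (hwc : Cfsg.IsWeaklyClosedSubgroup p Q) (K : Subgroup H) (hQK : Q ≤ K) (Kc : Subgroup H) (hKc : Kc = Cfsg.weakClosure Q K) : Kc = ⨆ k : ↥K, ((Q : Subgroup H).map (MulAut.conj ((k : H) : H)).toMonoidHom) ∧ Kc = (Cfsg.subnormalClosure (Q.subgroupOf K)).map K.subtype := by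
  rw [← wc_iff] at hwc
  subst hKc
  refine ⟨hwc.weakClosure_eq_iSup hQK, le_antisymm ?_ ?_⟩
  · intro x hx
    refine ⟨⟨x, weakClosure_le Q K hx⟩, Subgroup.mem_sInf.2 ?_, rfl⟩
    rintro L ⟨hQL, hL⟩
    have h1 : Solv.SubnormalIn (L.map K.subtype) K := by
      have := (Solv.SubnormalIn.top_iff.2 hL).map K.subtype
      rwa [← MonoidHom.range_eq_map, Subgroup.range_subtype] at this
    have h2 : Q ≤ L.map K.subtype := by
      rw [← Subgroup.map_subgroupOf_eq_of_le hQK]
      exact Subgroup.map_mono hQL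
    obtain ⟨y, hy, e⟩ := hwc.weakClosure_le_of_subnormalIn h2 h1 hx
    have : y = ⟨x, weakClosure_le Q K hx⟩ := Subtype.ext e
    exact this ▸ hy
  · rw [Subgroup.map_le_iff_le_comap]
    exact sInf_le ⟨Subgroup.comap_mono (le_weakClosure hQK),
      (Solv.SubnormalIn.of_le_normalizer (weakClosure_le Q K)
        (le_normalizer_weakClosure Q K)).2⟩

end Cfsg.Agent.S2840
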