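import Cfsg.Statements.S2841
import Cfsg.Agent.Local.WeaklyClosed

set_option autoImplicit false
open Cfsg

namespace Cfsg.Agent.S2841

open Cfsg.Lib.Local Cfsg.Lib.Trans Cfsg.Lib

/-- Let Q be a nontrivial p-subgroup of the finite group H that is a weakly closed subgroup and N a normal subgroup of H. Then N = N_N(Q)·[N, Q] and [N, Q] = (Q ∩ [N, Q])·[N, Q, Q]. -/
theorem result {H : Type*} [Group H] [Finite H] {p : ℕ} [Fact p.Prime] (Q : Subgroup H) (hQp : IsPGroup p ↥Q) (hQ1 : Q ≠ ⊥) (hwc : Cfsg.IsWeaklyClosedSubgroup p Q) (N' : Subgroup H) [N'.Normal] : (∀ n : H, n ∈ N' → ∃ a ∈ N' ⊓ Subgroup.normalizer ((Q : Subgroup H) : Set H), ∃ b ∈ ⁅N', Q⁆, n = a * b) ∧ (∀ c : H, c ∈ ⁅N', Q⁆ → ∃ a ∈ Q ⊓ ⁅N', Q⁆, ∃ b ∈ ⁅⁅N', Q⁆, Q⁆, c = a * b) := by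
  rw [← wc_iff] at hwc
  have hn : Q ≤ Subgroup.normalizer (N' : Set H) := Subgroup.le_normalizer_of_normal
  constructor
  · intro n hn'
    obtain ⟨b, hb, a, ha, rfl⟩ := hwc.exists_commutator_mul hn hn'
    exact ⟨a, ha, a⁻¹ * b * a,
      mem_normalizer_conj' (Solv.left_le_normalizer_commutator N' Q ha.1) hb, by group⟩
  · intro c hc
    have h1 := hwc.commutator_le_commutator_commutator_sup hn hc
    rw [sup_comm] at h1
    obtain ⟨a, ha, b, hb, rfl⟩ :=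
      (Solv.mem_sup_of_le_normalizer' (Solv.right_le_normalizer_commutator _ _)).1 h1
    refine ⟨a, ⟨ha, ?_⟩, b, hb, rfl⟩
    exact (Subgroup.mul_mem_cancel_right _ (Solv.commutator_le_left_of_le_normalizer
      (Solv.right_le_normalizer_commutator _ _) hb)).1 hc

end Cfsg.Agent.S2841
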