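import Cfsg.Statements.S2855
import Cfsg.Agent.Local.FrakMEx

set_option autoImplicit false
open Cfsg

namespace Cfsg.Agent.S2855

open Cfsg.Lib.Local (resOf CharP charP_iff charP_top_iff wc_iff Large)
open Cfsg.Lib.FrakM Cfsg.Lib.Local.MSS Cfsg.Lib.Solv Cfsg.Lib.Trans Cfsg.Lib.Trans.TJ Subgroup

/-- Let H be a finite group, p a prime, and 𝒦 a nonempty set of subgroups of H permuted transitively by conjugation, with R the subgroup generated by the members of 𝒦. Suppose O^p(H) ≤ R, each E ∈ 𝒦 has E·O_p(H) normal in R·O_p(H), and each E ∈ 𝒦 is p-minimal (generated by the conjugates of a Sylow p-subgroup T_E of E, with T_E in exactly one maximal subgroup of E). Then H is p-minimal in the same sense. If instead each E ∈ 𝒦 is strongly p-irreducible, then H is p-irreducible and, for E, K ∈ 𝒦, either O^p(E·O_p(H)) = O^p(K·O_p(H)) or [E, K] ≤ O_p(H). -/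
theorem result {H : Type*} [Group H] [Finite H] {p : ℕ} [Fact p.Prime] (𝒦 : Set (Subgroup H)) (hne : 𝒦.Nonempty) (hinv : ∀ h : H, ∀ E ∈ 𝒦, E.map (MulAut.conj h).toMonoidHom ∈ 𝒦) (htr : ∀ E ∈ 𝒦, ∀ K ∈ 𝒦, ∃ h : H, K = E.map (MulAut.conj h).toMonoidHom) (hres : Cfsg.pResidual p H ≤ sSup 𝒦) (hnorm : ∀ E ∈ 𝒦, sSup 𝒦 ⊔ Cfsg.pCore p H ≤ Subgroup.normalizer ((E ⊔ Cfsg.pCore p H : Subgroup H) : Set H)) : ((∀ E ∈ 𝒦, ∀ T : Sylow p ↥E, Cfsg.IsMinimalOver (T : Subgroup ↥E)) → ∀ T : Sylow p H, Cfsg.IsMinimalOver (T : Subgroup H)) ∧ ((∀ E ∈ 𝒦, Cfsg.IsStronglyPIrreducible p ↥E) → Cfsg.IsPIrreducible p H ∧ ∀ E ∈ 𝒦, ∀ K ∈ 𝒦, (Cfsg.pResidual p ↥(E ⊔ Cfsg.pCore p H)).map (E ⊔ Cfsg.pCore p H).subtype = (Cfsg.pResidual p ↥(K ⊔ Cfsg.pCore p H)).map (K ⊔ Cfsg.pCore p H).subtype ∨ ⁅E, K⁆ ≤ Cfsg.pCore p H) := by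
  set O := pCore p H with hO
  have hOp : IsPGroup p O := by rw [hO, ← pCoreOf_top]; exact isPGroup_pCoreOf _
  have hR : (sSup 𝒦).Normal := normal_of_top_le (le_normalizer_sSup fun g _ U hU => hinv g U hU)
  obtain ⟨E₀, hE₀⟩ := hne
  refine ⟨fun h T => ?_, fun h => ?_⟩
  · obtain ⟨P⟩ : Nonempty (Sylow p E₀) := inferInstance
    have h1 := isPMinimal_sup ((isPMinimal_iff_isMinimalOver P).2 (h E₀ hE₀ P)) hOp
      (top_le_normalizer O E₀)
    rw [sup_comm] at h1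
    refine isMinimalOver_of_family (R := sSup 𝒦 ⊔ O) (isSylowIn_top T)
      (resOf_top.le.trans (hres.trans le_sup_left)) (sup_le_sup_right (le_sSup hE₀) _)
      (hnorm E₀ hE₀) (sup_le (sSup_le fun K hK => ?_) ?_) h1
    · obtain ⟨g, rfl⟩ := htr E₀ hE₀ K hK
      exact ((cj_mono g le_sup_left).trans (cj_le_ncl _ (mem_top g))).trans le_sup_right
    · exact (le_sup_right.trans (le_ncl _ _)).trans le_sup_right
  let f := QuotientGroup.mk' O
  have hf : f.ker = O := QuotientGroup.ker_mk' O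
  have hfp : IsPGroup p f.ker := by rw [hf]; exact hOp
  have hfs : Function.Surjective f := QuotientGroup.mk'_surjective O
  have hfO : ∀ X : Subgroup H, (X ⊔ O).map f = X.map f := fun X => by
    rw [Subgroup.map_sup, (map_eq_bot_iff O).2 hf.ge, sup_bot_eq]
  have htop : (⊤ : Subgroup H).map f = ⊤ := map_top_of_surjective f hfs
  have hO' : pCoreOf p (⊤ : Subgroup (H ⧸ O)) = ⊥ := by
    rw [← htop, ← Cfsg.Lib.Local.map_pCoreOf f (hfp.to_le inf_le_left), pCoreOf_top]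
    exact (map_eq_bot_iff O).2 hf.ge
  let E : 𝒦 → Subgroup (H ⧸ O) := fun K => (K : Subgroup H).map f
  have hRE : ⨆ i, E i = (sSup 𝒦).map f := by rw [sSup_eq_iSup', Subgroup.map_iSup]
  have : Nonempty 𝒦 := ⟨⟨E₀, hE₀⟩⟩
  have : (⨆ i, E i).Normal := hRE ▸ hR.map f hfs
  have hn : ∀ i, ⨆ i, E i ≤ normalizer (E i : Set (H ⧸ O)) := fun i => by
    rw [hRE, ← hfO]
    refine (map_mono (hnorm i i.2)).trans ((le_normalizer_map f).trans ?_)
    rw [hfO]
  obtain ⟨h1, h2⟩ := family_core E hO' (by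
      rw [hRE, ← htop, ← map_resOf]
      exact map_mono (resOf_top.le.trans hres)) hn
    (fun i j => by
      obtain ⟨g, hg⟩ := htr i i.2 j j.2
      exact ⟨f g, by simp only [E]; rw [hg, map_cj]⟩)
    (fun i => si_map f hfp (h i i.2) (pCoreOf_eq_bot_of_subnormalIn
      (SubnormalIn.step (le_iSup E i) (hn i) (SubnormalIn.of_normal le_top)) hO'))
  have key : ∀ X N : Subgroup H, O ≤ normalizer (N : Set H) → resOf p (X.map f) ≤ N.map f →
      resOf p X ≤ N := fun X N h3 h4 => by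
    rw [← map_resOf, map_le_iff_le_comap, comap_map_eq, hf] at h4
    rw [← resOf_resOf X]
    exact Cfsg.Lib.Local.resOf_le_of_le_sup hOp h3 h4
  refine ⟨isPIrreducible_iff_top.2 ⟨fun h3 => (h E₀ hE₀).1 (isPClosed_subgroup h3 _),
    fun N hN h3 => key ⊤ N (top_le_normalizer _ _) ?_⟩, fun A hA B hB => ?_⟩
  · rw [htop]
    exact h1 _ (hN.map f hfs) fun h4 => h3 (isPClosed_of_map f hfp h4)
  have hOn : ∀ A ∈ 𝒦, O ≤ normalizer (resOf p (A ⊔ O) : Set H) := fun A _ =>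
    le_sup_right.trans (self_le_normalizer_resOf _)
  refine (h2 ⟨A, hA⟩ ⟨B, hB⟩).imp (fun h3 => le_antisymm ?_ ?_) fun h3 => ?_
  · refine key _ _ (hOn B hB) ?_
    rw [map_resOf, hfO, hfO]
    exact h3.le
  · refine key _ _ (hOn A hA) ?_
    rw [map_resOf, hfO, hfO]
    exact h3.ge
  · rw [← hf, ← Subgroup.map_eq_bot_iff, map_commutator]
    exact h3

end Cfsg.Agent.S2855
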