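import Cfsg.Statements.S2859
import Cfsg.Agent.Local.WeaklyClosed
import Cfsg.Agent.Solv.CommCalc

set_option autoImplicit false
open Cfsg

namespace Cfsg.Agent.S2859

open Cfsg.Lib.Local Cfsg.Lib.Trans Cfsg.Lib Subgroup

theorem aux {G : Type*} [Group G] [Finite G] {p : ℕ} [Fact p.Prime] {Q Hc H₁ H₂ : Subgroup G}
    (hwc : WC p Q) (hHc : Hc = weakClosure Q ⊤) (h1 : H₁ ≤ Hc)
    (hn₁ : Hc ≤ normalizer (H₁ : Set G)) (h2 : H₂ ≤ Hc) (hn₂ : Hc ≤ normalizer (H₂ : Set G))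
    (hprod : H₁ ⊔ H₂ = Hc) (hcomm : ⁅H₁, H₂⁆ ≤ normalizer (Q : Set G)) {K : Subgroup G}
    (hK : K = resOf p (weakClosure Q (H₁ ⊔ Q))) :
    (⁅K, Q⁆ = K ∧ ⁅K, H₁⁆ = K ∧ K ≤ ⁅H₁, H₁⁆ ∧ Hc ≤ normalizer (K : Set G)) ∧
      ⁅K, H₂⁆ ≤ pCoreOf p Hc ∧ K ≤ H₁ := by
  have hQ : Q ≤ Hc := hHc ▸ le_weakClosure le_top
  set D := ⁅H₁, H₂⁆ with hD
  have hDn : Hc ≤ normalizer (D : Set G) := Solv.le_normalizer_commutator hn₁ hn₂
  have hD1 : D ≤ H₁ := Solv.commutator_le_left_of_le_normalizer (h2.trans hn₁)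
  set W := pCoreOf p D with hW
  have hWn : Hc ≤ normalizer (W : Set G) := hDn.trans (normalizer_le_normalizer_pCoreOf D)
  have hWp : IsPGroup p W := isPGroup_pCoreOf D
  have hW1 : W ≤ H₁ := (pCoreOf_le D).trans hD1
  have hWc : W ≤ Hc := hW1.trans h1
  have hDH : ⁅D, Hc⁆ ≤ W := by
    have e : Hc = ⨆ k : Hc, cj (k : G) Q := by
      rw [← hwc.weakClosure_eq_iSup hQ, hHc, weakClosure_weakClosure]
    rw [e]
    refine commutator_iSup_le (fun k => (cj_le_of_mem_of_le k.2 hQ).trans hWn) fun k => ?_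
    have h3 : D ≤ normalizer (cj (k : G) Q : Set G) := by
      rw [← cj_normalizer, ← cj_eq_of_mem_normalizer (hDn k.2)]
      exact cj_mono _ hcomm
    exact (commutator_le_inf_of_le_normalizer h3 ((cj_le_of_mem_of_le k.2 hQ).trans hDn)).trans
      (le_pCoreOf inf_le_left (Solv.le_normalizer_inf le_normalizer h3)
        (isPGroup_cj hwc.isPGroup _).to_inf_right)
  have hKQ : ⁅K, Q⁆ = K := hK ▸ hwc.commutator_resOf_weakClosure le_sup_right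
  have hKr : resOf p K = K := hK ▸ resOf_resOf _
  have hK1 : K ≤ H₁ := hK ▸ resOf_le_of_le_sup hwc.isPGroup (hQ.trans hn₁) (weakClosure_le _ _)
  have hKn : H₁ ⊔ Q ≤ normalizer (K : Set G) :=
    hK ▸ (le_normalizer_weakClosure _ _).trans (normalizer_le_normalizer_resOf _)
  have hH1' : Hc ≤ normalizer ((⁅H₁, H₁⁆ : Subgroup G) : Set G) :=
    Solv.le_normalizer_commutator hn₁ hn₁
  have hK' : K ≤ ⁅H₁, H₁⁆ := by
    have h3 : K ≤ ⁅H₁, H₁⁆ ⊔ D := by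
      rw [← hKQ]
      refine (commutator_mono hK1 (hQ.trans hprod.ge)).trans ?_
      have hU := Solv.le_normalizer_sup hH1' hDn
      exact commutator_sup_le (h1.trans hU) (h2.trans hU) le_sup_left le_sup_right
    have h4 : K ≤ ⁅H₁, H₁⁆ ⊔ W := by
      rw [← hKQ]
      refine (commutator_mono h3 hQ).trans ?_
      have hU := Solv.le_normalizer_sup hH1' hWn
      refine sup_commutator_le
        (((Solv.commutator_le_left_of_le_normalizer le_normalizer).trans h1).trans hU)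
        ((hD1.trans h1).trans hU)
        ((Solv.commutator_le_left_of_le_normalizer hH1').trans le_sup_left)
        (hDH.trans le_sup_right)
    exact hKr.ge.trans (resOf_le_of_le_sup hWp (hWc.trans hH1') h4)
  have hK2 : ⁅K, H₂⁆ ≤ W := by
    refine (commutator_mono hK' le_rfl).trans (Solv.three_subgroups_le_of_le_normalizer
      (h1.trans hWn) (h1.trans hWn) (h2.trans hWn) ?_ ?_)
    · exact (commutator_mono le_rfl h1).trans hDH
    · rw [Subgroup.commutator_comm H₂]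
      exact (commutator_mono le_rfl h1).trans hDH
  have hKc : Hc ≤ normalizer (K : Set G) := by
    rw [← hprod]
    refine sup_le (le_sup_left.trans hKn) ?_
    have e : resOf p (K ⊔ W) = K :=
      (resOf_sup_of_isPGroup hWp (hW1.trans (le_sup_left.trans hKn))).trans hKr
    rw [← e]
    refine le_trans ?_ (normalizer_le_normalizer_resOf _)
    refine le_normalizer_of_commutator_le (sup_commutator_le ?_ ?_ (hK2.trans le_sup_right) ?_)
    · exact le_sup_left.trans le_normalizer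
    · exact le_sup_right.trans le_normalizer
    · exact (Solv.commutator_le_left_of_le_normalizer (h2.trans hWn)).trans le_sup_right
  refine ⟨⟨hKQ, le_antisymm (Solv.commutator_le_left_of_le_normalizer (h1.trans hKc)) ?_, hK',
    hKc⟩, hK2.trans (le_pCoreOf hWc hWn hWp), hK1⟩
  have hU := Solv.le_normalizer_commutator hKc hn₁
  refine hKr.ge.trans (resOf_le_of_le_sup hWp (hWc.trans hU) ?_)
  have hU' := Solv.le_normalizer_sup hU hWn
  exact (hKQ.ge.trans (commutator_mono le_rfl (hQ.trans hprod.ge))).trans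
    (commutator_sup_le (h1.trans hU') (h2.trans hU') le_sup_left (hK2.trans le_sup_right))

/-- Let Q be a nontrivial p-subgroup of the finite group H that is a weakly closed subgroup, H° the weak closure of Q in H (generated by the conjugates of Q) and H_∘ = O^p(H°). Suppose H₁, H₂ are normal subgroups of H° with H° = H₁H₂ and [H₁, H₂] ≤ N_H(Q), and put Kᵢ = O^p of the weak closure of Q in HᵢQ. Then for i = 1, 2: Kᵢ = [Kᵢ, Q] = [Kᵢ, Hᵢ] ≤ Hᵢ′ and Kᵢ is normal in H°; H_∘ = K₁K₂; and [K₁, K₂] ≤ O_p(H°). -/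
theorem result {G : Type*} [Group G] [Finite G] {p : ℕ} [Fact p.Prime] (Q : Subgroup G) (hQp : IsPGroup p ↥Q) (hQ1 : Q ≠ ⊥) (hwc : Cfsg.IsWeaklyClosedSubgroup p Q) (Hc : Subgroup G) (hHc : Hc = Cfsg.weakClosure Q ⊤) (H₁ H₂ : Subgroup G) (hn₁ : H₁ ≤ Hc ∧ Hc ≤ Subgroup.normalizer ((H₁ : Subgroup G) : Set G)) (hn₂ : H₂ ≤ Hc ∧ Hc ≤ Subgroup.normalizer ((H₂ : Subgroup G) : Set G)) (hprod : H₁ ⊔ H₂ = Hc) (hcomm : ⁅H₁, H₂⁆ ≤ Subgroup.normalizer ((Q : Subgroup G) : Set G)) (K₁ K₂ : Subgroup G) (hK₁ : K₁ = ((Cfsg.pResidual p ↥(Cfsg.weakClosure Q (H₁ ⊔ Q))).map ((Cfsg.weakClosure Q (H₁ ⊔ Q))).subtype)) (hK₂ : K₂ = ((Cfsg.pResidual p ↥(Cfsg.weakClosure Q (H₂ ⊔ Q))).map ((Cfsg.weakClosure Q (H₂ ⊔ Q))).subtype)) : (⁅K₁, Q⁆ = K₁ ∧ ⁅K₁, H₁⁆ = K₁ ∧ K₁ ≤ ⁅H₁, H₁⁆ ∧ Hc ≤ Subgroup.normalizer ((K₁ : Subgroup G) : Set G)) ∧ (⁅K₂, Q⁆ = K₂ ∧ ⁅K₂, H₂⁆ = K₂ ∧ K₂ ≤ ⁅H₂, H₂⁆ ∧ Hc ≤ Subgroup.normalizer ((K₂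 : Subgroup G) : Set G)) ∧ K₁ ⊔ K₂ = ((Cfsg.pResidual p ↥Hc).map (Hc).subtype) ∧ ⁅K₁, K₂⁆ ≤ (Cfsg.pCoreOf p Hc) := by
  rw [← wc_iff] at hwc
  obtain ⟨a1, a2, a3⟩ := aux hwc hHc hn₁.1 hn₁.2 hn₂.1 hn₂.2 hprod hcomm hK₁
  obtain ⟨b1, b2, b3⟩ := aux hwc hHc hn₂.1 hn₂.2 hn₁.1 hn₁.2 (by rw [sup_comm, hprod])
    (by rwa [Subgroup.commutator_comm]) hK₂
  have hQ : Q ≤ Hc := hHc ▸ le_weakClosure le_top
  refine ⟨a1, b1, le_antisymm (sup_le ?_ ?_) ?_, (commutator_mono le_rfl b3).trans a2⟩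
  · exact hK₁ ▸ resOf_mono ((weakClosure_le _ _).trans (sup_le hn₁.1 hQ))
  · exact hK₂ ▸ resOf_mono ((weakClosure_le _ _).trans (sup_le hn₂.1 hQ))
  · refine resOf_le_of_le_sup hQp (hQ.trans (Solv.le_normalizer_sup a1.2.2.2 b1.2.2.2)) ?_
    have e : Hc = weakClosure Q Hc := by rw [hHc, weakClosure_weakClosure]
    refine e.le.trans (hwc.weakClosure_le_of_forall hQ fun k hk => ?_)
    rw [← hprod] at hk
    obtain ⟨x, hx, y, hy, rfl⟩ := (Solv.mem_sup_of_le_normalizer (hn₂.1.trans hn₁.2)).1 hk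
    have e1 := hwc.resOf_weakClosure_sup (K := H₁ ⊔ Q) le_sup_right
    have e2 := hwc.resOf_weakClosure_sup (K := H₂ ⊔ Q) le_sup_right
    have f1 : cj x Q ≤ K₁ ⊔ Q := hK₁ ▸
      (cj_le_weakClosure (cj_le_of_mem_of_le (mem_sup_left hx) le_sup_right)).trans e1.ge
    have f2 : cj y Q ≤ K₂ ⊔ Q := hK₂ ▸
      (cj_le_weakClosure (cj_le_of_mem_of_le (mem_sup_left hy) le_sup_right)).trans e2.ge
    rw [cj_mul]
    refine (cj_mono x f2).trans ?_
    rw [cj_sup, cj_eq_of_mem_normalizer (b1.2.2.2 (hn₁.1 hx))]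
    exact sup_le (le_sup_right.trans le_sup_left)
      (f1.trans (sup_le_sup_right le_sup_left Q))

end Cfsg.Agent.S2859
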