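import Cfsg.Statements.S2860
import Cfsg.Agent.Local.Large
import Cfsg.Agent.Local.Bar
import Cfsg.Agent.Trans.Quasisimple

set_option autoImplicit false
open Cfsg

namespace Cfsg.Agent.S2860

open Cfsg.Lib.Local Cfsg.Lib.Trans Cfsg.Lib Subgroup

/-- If `O_p(X) = 1` and `O^p(X)` is quasisimple, it equals its commutator with any nontrivial
`p`-subgroup. -/
theorem commutator_eq_of_quasisimple {X : Type*} [Group X] [Finite X] {p : ℕ} [Fact p.Prime]
    (h0 : pCore p X = ⊥) (hq : IsQuasisimple (pResidual p X)) {Y : Subgroup X}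
    (hY : IsPGroup p Y) (h1 : Y ≠ ⊥) : ⁅pResidual p X, Y⁆ = pResidual p X := by
  set K := pResidual p X with hK
  have hle : ⁅K, Y⁆ ≤ K := Solv.commutator_le_left_of_le_normalizer le_normalizer_of_normal
  rcases IsQuasisimple.eq_or_le_centralizer hq hle (Solv.left_le_normalizer_commutator K Y) with
    h | h
  · exact h
  exfalso
  have h2 : ⁅Y, K⁆ = ⊥ := commutator_eq_bot_of_perfect (IsQuasisimple.perfect hq) (by
    rw [Subgroup.commutator_comm Y, commutator_eq_bot_iff_le_centralizer]
    exact h)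
  obtain ⟨T, hT, hYT⟩ := exists_isSylowIn_ge hY (commutator_eq_bot_iff_le_centralizer.1 h2)
  have h3 : centralizer (K : Set X) ≤ normalizer (T : Set X) := by
    rw [← resOf_sup_sylowIn hT]
    refine sup_le (le_trans ?_ (centralizer_le_normalizer _)) le_normalizer
    refine le_trans ?_ (le_centralizer_iff.1 hT.le)
    rw [hK, ← resOf_top]
    exact resOf_mono le_top
  have h4 : T ≤ pCoreOf p (⊤ : Subgroup X) := (le_pCoreOf hT.le h3 hT.isPGroup).trans
    (pCoreOf_le_of_normal le_top le_normalizer_of_normal)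
  rw [pCoreOf_top, h0] at h4
  exact h1 (eq_bot_iff.2 (hYT.trans h4))

/-- Let Q be a nontrivial large p-subgroup of the finite group H, U a nontrivial elementary abelian p-subgroup of H, and Q ≤ E ≤ N_H(U) with Q not normal in E. Suppose O_p(E/C_E(U)) = 1 and O^p(E)·C_E(U)/C_E(U) is quasisimple. Let E° be the weak closure of Q in E (generated by the conjugates of Q inside E) and E_∘ = O^p(E°). Then O^p(E)·C_E(U) = E_∘·C_E(U); E_∘ is perfect and equals O^p(E_∘); E_∘/C_{E_∘}(U) and E_∘/O_p(E_∘) are quasisimple; and E_∘ = [E_∘, Y] for every p-subgroup Y of E not centralizing U. -/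
theorem result {G : Type*} [Group G] [Finite G] {p : ℕ} [Fact p.Prime] (Q : Subgroup G) (hQp : IsPGroup p ↥Q) (hQ1 : Q ≠ ⊥) (hQ : Cfsg.IsLarge Q) (U : Subgroup G) (hU : Cfsg.IsElementaryAbelian p U) (hU1 : U ≠ ⊥) (E : Subgroup G) (hQE : Q ≤ E) (hEU : E ≤ Subgroup.normalizer ((U : Subgroup G) : Set G)) (hQn : ¬ E ≤ Subgroup.normalizer ((Q : Subgroup G) : Set G)) [hn : ((Subgroup.centralizer ((U : Subgroup G) : Set G)).subgroupOf E).Normal] (hred : Cfsg.pCore p (↥E ⧸ (Subgroup.centralizer ((U : Subgroup G) : Set G)).subgroupOf E) = ⊥) (hqs : Cfsg.IsQuasisimple ↥(((Cfsg.pResidual p ↥E) ⊔ (Subgroup.centralizer ((U : Subgroup G) : Set G)).subgroupOf E).map (QuotientGroup.mk' ((Subgroup.centralizer ((U : Subgroup G) : Set G)).subgroupOf E)))) (Er : Subgroup G) (hEr : Er = ((Cfsg.pResidual p ↥(Cfsg.weakClosure Q E)).map ((Cfsg.weakClosure Q E)).subtype)) [hn2 : ((Subgroup.centralizer ((U : Subgroup G) : Set G)).subgroupOf Er).Normal] : ((Cfsg.pResidual p ↥E).map (E).subtype) ⊔ (E ⊓ Subgroup.centralizer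 ((U : Subgroup G) : Set G)) = Er ⊔ (E ⊓ Subgroup.centralizer ((U : Subgroup G) : Set G)) ∧ ⁅Er, Er⁆ = Er ∧ ((Cfsg.pResidual p ↥Er).map (Er).subtype) = Er ∧ Cfsg.IsQuasisimple (↥Er ⧸ (Subgroup.centralizer ((U : Subgroup G) : Set G)).subgroupOf Er) ∧ Cfsg.IsQuasisimple (↥Er ⧸ Cfsg.pCore p ↥Er) ∧ ∀ Y : Subgroup G, Y ≤ E → IsPGroup p ↥Y → ¬ Y ≤ Subgroup.centralizer ((U : Subgroup G) : Set G) → ⁅Er, Y⁆ = Er := by
  have h : Large p Q := ⟨hQp, hQ1, hQ⟩
  have hwc := h.wc
  have hUp : IsPGroup p U :=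
    Solv.PG.isPGroup_of_forall_mem fun x hx => ⟨1, by rw [pow_one]; exact hU.2 x hx⟩
  set C := centralizer (U : Set G) with hC
  have hqs' : IsQuasisimple (pResidual p (E ⧸ C.subgroupOf E)) := by
    rwa [Subgroup.map_sup, map_pResidual_of_surjective _ (QuotientGroup.mk'_surjective _),
      (Subgroup.map_eq_bot_iff _).2 (QuotientGroup.ker_mk' _).ge, sup_bot_eq] at hqs
  have hEc : weakClosure Q E ≤ E := weakClosure_le Q E
  have hErc : Er ≤ weakClosure Q E := hEr ▸ resOf_le _
  have hErE : Er ≤ E := hErc.trans hEc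
  have hErn : E ≤ normalizer (Er : Set G) :=
    hEr ▸ (le_normalizer_weakClosure Q E).trans (normalizer_le_normalizer_resOf _)
  have hErr : resOf p Er = Er := hEr ▸ resOf_resOf _
  have hErQ : ⁅Er, Q⁆ = Er := hEr ▸ hwc.commutator_resOf_weakClosure hQE
  have hECn : E ≤ normalizer ((E ⊓ C : Subgroup G) : Set G) :=
    le_normalizer_inf_of_normal_subgroupOf E C
  have hQC : ¬ Q ≤ C := by
    intro hQC
    refine hQn fun g hg => ?_
    obtain ⟨k, hk, n, hn, rfl⟩ := hwc.frattini_normalizer (le_inf hQE hQC) (hECn hg)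
    exact mul_mem (h.centralizer_le_normalizer_of_le_normalizer hUp hU1 (hQE.trans hEU) hk.2) hn
  have key : ∀ Y : Subgroup G, Y ≤ E → IsPGroup p Y → ¬ Y ≤ C →
      ⁅bar E C (resOf p E), bar E C Y⁆ = bar E C (resOf p E) := by
    intro Y hYE hY hYC
    rw [bar_resOf_self]
    exact commutator_eq_of_quasisimple hred hqs' (isPGroup_bar hY)
      fun e => hYC ((bar_eq_bot_iff hYE).1 e)
  have hbar : bar E C Er = bar E C (resOf p E) := by
    refine le_antisymm (bar_mono (hEr ▸ resOf_mono hEc)) ?_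
    have h1 : bar E C (resOf p E) ≤ bar E C (weakClosure Q E) := by
      rw [← key Q hQE hQp hQC, ← bar_commutator (resOf_le E) hQE]
      refine bar_mono ?_
      rw [hwc.weakClosure_eq_commutator_resOf_sup hQE]
      exact le_sup_left
    have h2 := resOf_mono (p := p) h1
    rw [← bar_resOf (resOf_le E), resOf_resOf, ← bar_resOf hEc] at h2
    rw [hEr]
    exact h2
  set W := pCoreOf p Er with hW
  have hWn : E ≤ normalizer (W : Set G) := hErn.trans (normalizer_le_normalizer_pCoreOf _)
  have hWp : IsPGroup p W := isPGroup_pCoreOf _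
  have hWE : W ≤ Er := pCoreOf_le _
  have hc : ⁅Er ⊓ C, weakClosure Q E⁆ ≤ W := by
    refine le_trans (le_inf ?_ ?_) (pCoreOf_inf_le hErc)
    · rw [Subgroup.commutator_comm]
      exact ((commutator_mono le_rfl inf_le_right).trans
        (h.commutator_weakClosure_centralizer_le hUp hU1 hEU)).trans inf_le_right
    · exact (commutator_mono inf_le_left hEc).trans
        (Solv.commutator_le_left_of_le_normalizer hErn)
  -- a subgroup of `Er` covering `Er` modulo `C`
  have cover : ∀ D : Subgroup G, D ≤ Er → bar E C Er ≤ bar E C D → Er ≤ D ⊔ (Er ⊓ C) := by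
    intro D hD hb
    have h1 := (bar_le_bar_iff hErE (hD.trans hErE)).1 hb
    have h2 := inf_sup_of_le_of_le_normalizer' (B := E ⊓ C) hD ((hD.trans hErE).trans hECn)
    rw [inf_eq_left.2 h1] at h2
    exact h2.le.trans (sup_le_sup_left (inf_le_inf_left _ inf_le_right) D)
  have bound : ∀ D X : Subgroup G, D ≤ Er → Er ≤ normalizer (D : Set G) →
      X ≤ normalizer (D : Set G) → X ≤ weakClosure Q E → bar E C Er ≤ bar E C D →
      ⁅Er, X⁆ = Er → D = Er := by
    intro D X hD hDn hXn hX hb hp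
    refine le_antisymm hD (hErr.ge.trans (resOf_le_of_le_sup hWp (hWE.trans hDn) ?_))
    have hU := Solv.le_normalizer_sup hDn (hErE.trans hWn)
    refine (hp.ge.trans (commutator_mono (cover D hD hb) le_rfl)).trans ?_
    exact sup_commutator_le (hD.trans hU) (inf_le_left.trans hU)
      ((Solv.commutator_le_left_of_le_normalizer hXn).trans le_sup_left)
      (((commutator_mono le_rfl hX).trans hc).trans le_sup_right)
  have hperf : ⁅Er, Er⁆ = Er := by
    have hn' := Solv.le_normalizer_commutator hErn hErn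
    refine bound _ Q (Solv.commutator_le_left_of_le_normalizer le_normalizer) (hErE.trans hn')
      (hQE.trans hn') (le_weakClosure hQE) ?_ hErQ
    rw [bar_commutator hErE hErE, hbar, bar_resOf_self]
    exact (IsQuasisimple.perfect hqs').ge
  have hq1 : IsQuasisimple (Er ⧸ C.subgroupOf Er) := by
    refine IsQuasisimple.of_mulEquiv ?_ (quotientEquivBar E C hErE).symm
    rwa [hbar, bar_resOf_self]
  refine ⟨((bar_eq_bar_iff hErE (resOf_le E)).1 hbar).symm, hperf, hErr, hq1, ?_, ?_⟩
  · have hWC : W ≤ C := pCore_quotient_eq_bot_iff.1 hred W (hWE.trans hErE) hWn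
      (by rw [resOf_eq_bot_of_isPGroup hWp]; exact bot_le)
    have hle : pCore p Er ≤ (C.subgroupOf Er).comap (MonoidHom.id Er) := by
      rw [← pCoreOf_subgroupOf]
      exact comap_mono hWC
    refine isQuasisimple_of_ker_le_center ?_
      (QuotientGroup.map (pCore p Er) (C.subgroupOf Er) (MonoidHom.id Er) hle) ?_ ?_ hq1
    · have h1 : commutator Er = ⊤ := by
        apply map_injective Er.subtype_injective
        rw [Solv.map_subtype_commutator, hperf, ← MonoidHom.range_eq_map, range_subtype]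
      have h2 := congrArg (Subgroup.map (QuotientGroup.mk' (pCore p Er))) h1
      rwa [_root_.commutator_def, map_commutator, ← MonoidHom.range_eq_map, QuotientGroup.range_mk'] at h2
    · intro x
      obtain ⟨y, rfl⟩ := QuotientGroup.mk_surjective x
      exact ⟨QuotientGroup.mk y, rfl⟩
    · intro x hx
      obtain ⟨y, rfl⟩ := QuotientGroup.mk_surjective x
      rw [MonoidHom.mem_ker, QuotientGroup.map_mk, QuotientGroup.eq_one_iff] at hx
      rw [mem_center_iff]
      intro z
      obtain ⟨z, rfl⟩ := QuotientGroup.mk_surjective z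
      rw [← QuotientGroup.mk_mul, ← QuotientGroup.mk_mul, QuotientGroup.eq, ← pCoreOf_subgroupOf]
      have := hc (commutator_mem_commutator (inv_mem (mem_inf.2 ⟨y.2, hx⟩)) (inv_mem (hErc z.2)))
      simpa [commutatorElement_def, mem_subgroupOf, mul_assoc] using this
  · intro Y hYE hY hYC
    refine bound _ Er (Solv.commutator_le_left_of_le_normalizer (hYE.trans hErn))
      (Solv.left_le_normalizer_commutator _ _) (Solv.left_le_normalizer_commutator _ _) hErc ?_ hperf
    rw [bar_commutator hErE hYE, hbar]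
    exact (key Y hYE hY hYC).ge

end Cfsg.Agent.S2860
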