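import Cfsg.Statements.S2872
import Cfsg.Agent.Trans.TransferTools
import Cfsg.Agent.Trans.Conj
import Cfsg.Agent.Solv.FrattiniP
import Cfsg.Agent.Solv.PGroupNormal
import Cfsg.Agent.Local.CharPLocal

set_option autoImplicit false
open Cfsg

namespace Cfsg.Agent.S2872

open Cfsg.Lib Cfsg.Lib.Trans Cfsg.Lib.Local

/-- Let S be a Sylow 2-subgroup of the finite group G. Then G has a proper normal subgroup of 2-power index (O²(G) ≠ G), or Ω₁(Z(S)) is contained in the Frattini subgroup of S, or N_G(S) acts nontrivially on Ω₁(Z(S)) by conjugation. -/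
theorem result {G : Type*} [Group G] [Finite G] (S : Sylow 2 G) : Cfsg.pResidual 2 G ≠ ⊤ ∨ Cfsg.omegaOne 2 ((S : Subgroup G) ⊓ Subgroup.centralizer ((S : Subgroup G) : Set G)) ≤ (frattini ↥(S : Subgroup G)).map (S : Subgroup G).subtype ∨ ∃ g ∈ Subgroup.normalizer ((S : Subgroup G) : Set G), ∃ z ∈ Cfsg.omegaOne 2 ((S : Subgroup G) ⊓ Subgroup.centralizer ((S : Subgroup G) : Set G)), g * z * g⁻¹ ≠ z := by
  classical
  haveI : Fact (Nat.Prime 2) := ⟨Nat.prime_two⟩
  by_contra hcon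
  rw [not_or, not_or, not_not] at hcon
  obtain ⟨hres, hfr, hN⟩ := hcon
  obtain ⟨z, hz, hzF⟩ := SetLike.not_le_iff_exists.1 hfr
  have hz' := hz
  rw [mem_omegaOne_center_iff] at hz'
  obtain ⟨hzS, hzc, hz2⟩ := hz'
  have hzF' : (⟨z, hzS⟩ : (S : Subgroup G)) ∉ ⊥ ⊔ frattini (S : Subgroup G) := by
    rw [bot_sup_eq]; exact fun h => hzF ⟨_, h, rfl⟩
  obtain ⟨M, hM, -, hzM⟩ := Solv.exists_isCoatom_not_mem_of_isPGroup S.isPGroup' hzF'
  have hi : M.index = 2 := Solv.PG.index_eq_prime_of_isCoatom S.isPGroup' hM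
  have hz1 : z ≠ 1 := by
    rintro rfl
    exact hzM M.one_mem
  have hord : orderOf z = 2 := orderOf_eq_prime hz2 hz1
  set T := M.map (S : Subgroup G).subtype with hT
  have hmem : ∀ x (hx : x ∈ (S : Subgroup G)), x ∈ T ↔ (⟨x, hx⟩ : (S : Subgroup G)) ∈ M := by
    intro x hx
    constructor
    · rintro ⟨y, hy, rfl⟩; exact hy
    · intro h; exact ⟨_, h, rfl⟩
  obtain ⟨a, ha1, ha2, ha3⟩ := thompson_transfer_involution (H := (S : Subgroup G)) (T := T)
    S.not_dvd_index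
    (fun x hx y hy => by
      have := Solv.PG.commutator_le_of_index_eq_prime S.isPGroup' hi
        (Subgroup.commutator_mem_commutator (Subgroup.mem_top (⟨x, hx⟩ : (S : Subgroup G)))
          (Subgroup.mem_top (⟨y, hy⟩ : (S : Subgroup G))))
      exact ⟨_, this, rfl⟩)
    (fun x hx => ⟨1, ⟨_, Solv.PG.pow_mem_of_index_eq_prime S.isPGroup' hi ⟨x, hx⟩, by simp⟩⟩)
    z hord
    (fun u hu v hv _ _ huT hvT => by
      rw [hmem u hu] at huT
      rw [hmem v hv] at hvT
      have := (Subgroup.mul_mem_iff_of_index_two hi (a := ⟨u, hu⟩) (b := ⟨v, hv⟩)).2 (by simp [huT, hvT])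
      exact ⟨_, this, rfl⟩)
    (by rw [hres]; simp) (S : Subgroup G) S.isPGroup' hzc
  have haN : a⁻¹ ∈ Subgroup.normalizer ((S : Subgroup G) : Set G) := by
    apply mem_normalizer_of_cj_le
    rw [cj_le_iff]
    simpa using ha3
  have : a⁻¹ * z * a = z := by
    by_contra hne
    exact hN ⟨a⁻¹, haN, z, hz, by simpa using hne⟩
  rw [this, hmem z hzS] at ha2
  exact hzM ha2

end Cfsg.Agent.S2872
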