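import Cfsg.Statements.S2873
import Cfsg.Agent.Trans.SylowIn
import Cfsg.Agent.Trans.Isolated
import Cfsg.Agent.Local.InvolCount
import Cfsg.Agent.Local.ProdCard
import Cfsg.Agent.Solv.PConstrained
import Cfsg.Agent.Solv.PGroupNormal

set_option autoImplicit false
open Cfsg

namespace Cfsg.Agent.S2873

open Cfsg.Lib Cfsg.Lib.Trans DihedralGroup

theorem exists_sr {r : ℕ} [hr : Fact r.Prime] (h2 : r ≠ 2) {d : DihedralGroup r} (hd : d * d = 1) (h1 : d ≠ 1) :
    ∃ i, d = sr i := by
  cases d with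
  | r i =>
    exfalso
    rw [r_mul_r, one_def] at hd
    have h3 : i + i = 0 := by injection hd
    have h4 : (2 : ZMod r) ≠ 0 := by
      intro e
      have := (ZMod.natCast_eq_zero_iff 2 r).1 (by exact_mod_cast e)
      exact h2 ((Nat.prime_dvd_prime_iff_eq hr.out Nat.prime_two).1 this)
    have : i = 0 := by
      have : (2 : ZMod r) * i = 0 := by rw [two_mul]; exact h3
      exact (mul_eq_zero.1 this).resolve_left h4
    exact h1 (by rw [this]; rfl)
  | sr i => exact ⟨i, rfl⟩

/-- Let G be a finite group and r an odd prime such that G ⧸ O₂(G) is dihedral of order 2r, and let R be a Sylow r-subgroup of G with C_{O₂(G)}(R) = 1. Then N_G(R) is dihedral of order 2r; for any involution a of N_G(R), every involution of G outside O₂(G) is conjugate to a; and |C_{O₂(G)}(a)|² = |O₂(G)|. -/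
theorem result {G : Type*} [Group G] [Finite G] {r : ℕ} [Fact r.Prime] (hr : r ≠ 2) [hN : (Cfsg.pCore 2 G).Normal] (hquot : Nonempty (G ⧸ Cfsg.pCore 2 G ≃* DihedralGroup r)) (R : Sylow r G) (hC : Cfsg.pCore 2 G ⊓ Subgroup.centralizer ((R : Subgroup G) : Set G) = ⊥) : Nonempty (↥(Subgroup.normalizer ((R : Subgroup G) : Set G)) ≃* DihedralGroup r) ∧ ∀ a : G, a ∈ Subgroup.normalizer ((R : Subgroup G) : Set G) → orderOf a = 2 → (∀ b : G, orderOf b = 2 → b ∉ Cfsg.pCore 2 G → ∃ g : G, g * a * g⁻¹ = b) ∧ Nat.card ↥(Cfsg.pCore 2 G ⊓ Subgroup.centralizer ({a} : Set G)) ^ 2 = Nat.card ↥(Cfsg.pCore 2 G) := by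
  classical
  have hrp : r.Prime := Fact.out
  haveI : Fact (Nat.Prime 2) := ⟨Nat.prime_two⟩
  obtain ⟨e⟩ := hquot
  set Q := Cfsg.pCore 2 G with hQ
  have hQ2 : IsPGroup 2 Q := Solv.pCore_isPGroup 2 G
  set π : G →* DihedralGroup r := e.toMonoidHom.comp (QuotientGroup.mk' Q) with hπ
  have hsurj : Function.Surjective π := e.surjective.comp (QuotientGroup.mk'_surjective Q)
  have hker : ∀ g, π g = 1 ↔ g ∈ Q := by
    intro g
    rw [hπ, MonoidHom.comp_apply, MulEquiv.coe_toMonoidHom, e.map_eq_one_iff]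
    exact QuotientGroup.eq_one_iff g
  have hker' : π.ker = Q := by ext g; exact hker g
  have h2r : (2 : ZMod r) ≠ 0 := by
    intro e
    have := (ZMod.natCast_eq_zero_iff 2 r).1 (by exact_mod_cast e)
    exact hr ((Nat.prime_dvd_prime_iff_eq hrp Nat.prime_two).1 this)
  have hQc : (Nat.card Q).Coprime r :=
    Solv.coprime_card_of_isPGroup hQ2 ((Nat.coprime_primes hrp Nat.prime_two).2 hr)
  have hRQ : (R : Subgroup G) ⊓ Q = ⊥ := Solv.inf_eq_bot_of_isPGroup_of_coprime R.isPGroup' hQc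
  set N := Subgroup.normalizer ((R : Subgroup G) : Set G) with hNdef
  have hNQ : Q ⊓ N = ⊥ := by
    rw [eq_bot_iff, ← hC]
    refine le_inf inf_le_left (Solv.le_centralizer_of_disjoint inf_le_right
      (Solv.le_normalizer_inf Subgroup.le_normalizer_of_normal
        (Subgroup.le_normalizer.trans Subgroup.le_normalizer)) ?_)
    rw [eq_bot_iff, ← hRQ]
    exact le_inf inf_le_right (inf_le_left.trans inf_le_left)
  have hs := (isSylowIn_top R).map π
  rw [Subgroup.map_top_of_surjective _ hsurj] at hs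
  have hcR' : Nat.card ((R : Subgroup G).map π) = r := by
    rw [hs.card_eq, Subgroup.card_top, DihedralGroup.nat_card, Nat.factorization_mul (by norm_num) hrp.ne_zero,
      Finsupp.add_apply, hrp.factorization_self, Nat.prime_two.factorization,
      Finsupp.single_eq_of_ne hr]
    simp
  have hcR : Nat.card (R : Subgroup G) = r := by
    have := Solv.card_map_mk'_mul_card_inf Q (R : Subgroup G)
    rw [inf_comm, hRQ, Subgroup.card_bot, mul_one] at this
    refine this.symm.trans (Eq.trans ?_ hcR')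
    rw [hπ, ← Subgroup.map_map]
    exact (Subgroup.card_map_of_injective e.injective).symm
  have hNs : N.map π = ⊤ := by
    rw [hNdef, Solv.map_normalizer_of_isPGroup π hsurj R.isPGroup' (by rw [hker']; exact hQc),
      Subgroup.normalizer_eq_top_iff]
    apply Subgroup.normal_of_index_eq_two
    apply Solv.PG.index_eq_of_card_eq_mul
    rw [hcR', DihedralGroup.nat_card]
  have hinj : ∀ n ∈ N, π n = 1 → n = 1 := by
    intro n hn h1
    have : n ∈ Q ⊓ N := ⟨(hker n).1 h1, hn⟩
    rwa [hNQ] at this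
  -- elements mapping to nontrivial rotations act without fixed points on `Q`
  have hL : ∀ y : G, ∀ k : ZMod r, k ≠ 0 → π y = DihedralGroup.r k → ∀ q ∈ Q, q * y = y * q → q = 1 := by
    intro y k hk hy q hq hqy
    have h1 : y ^ r ∈ Q := by
      rw [← hker, map_pow, hy, r_pow]; simp
    obtain ⟨m, hm⟩ := Solv.PG.exists_pow_prime_pow_eq_one hQ2 h1
    set u := y ^ 2 ^ m with hu
    have hu1 : u ≠ 1 := by
      intro h
      have := congrArg π h
      rw [hu, map_pow, hy, r_pow, map_one, one_def] at this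
      have h3 : k * ((2 ^ m : ℕ) : ZMod r) = 0 := by injection this
      rcases mul_eq_zero.1 h3 with h | h
      · exact hk h
      · push_cast at h
        exact h2r (eq_zero_of_pow_eq_zero h)
    have hur : u ^ r = 1 := by rw [hu, ← pow_mul, mul_comm, pow_mul, hm]
    have huo : orderOf u = r := orderOf_eq_prime hur hu1
    obtain ⟨g, -, hg⟩ := (isSylowIn_top R).exists_cj_le (Q := Subgroup.zpowers u)
      (IsPGroup.of_card (n := 1) (by rw [Nat.card_zpowers, huo, pow_one])) le_top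
    have hg2 : cj g (Subgroup.zpowers u) = R :=
      Subgroup.eq_of_le_of_card_ge hg (by rw [card_cj, Nat.card_zpowers, huo, hcR])
    have h4 : q ∈ Subgroup.centralizer (Subgroup.zpowers u : Set G) := by
      rintro _ ⟨n, rfl⟩
      have : Commute q y := hqy
      exact ((this.pow_right (2 ^ m)).zpow_right n).symm
    have h5 : g * q * g⁻¹ ∈ Q ⊓ Subgroup.centralizer ((R : Subgroup G) : Set G) := by
      refine Subgroup.mem_inf.2 ⟨hN.conj_mem q hq g, ?_⟩
      rw [← hg2, ← cj_centralizer, conj_mem_cj]; exact h4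
    rw [hC, Subgroup.mem_bot] at h5
    calc q = g⁻¹ * (g * q * g⁻¹) * g := by group
      _ = 1 := by rw [h5]; group
  refine ⟨⟨MulEquiv.ofBijective (π.comp N.subtype) ⟨?_, ?_⟩⟩, ?_⟩
  · rw [injective_iff_map_eq_one]
    intro n hn
    exact Subtype.ext (hinj n n.2 hn)
  · intro d
    obtain ⟨n, hn, rfl⟩ : d ∈ N.map π := by rw [hNs]; trivial
    exact ⟨⟨n, hn⟩, rfl⟩
  intro a haN ha2
  have haa : a * a = 1 := Local.invol_mul_self ha2
  obtain ⟨i, hi⟩ := exists_sr hr (d := π a) (by rw [← map_mul, haa, map_one])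
    (fun h => Local.invol_ne_one ha2 (hinj a haN h))
  obtain ⟨x, -, hx⟩ : DihedralGroup.r 1 ∈ N.map π := by rw [hNs]; trivial
  set a' := x * a * x⁻¹ with ha'
  have ha'2 : orderOf a' = 2 := by rw [ha', orderOf_conj_eq, ha2]
  have hi' : π a' = sr (i - 2) := by
    rw [ha', map_mul, map_mul, map_inv, hx, hi, inv_r, r_mul_sr, sr_mul_r]
    congr 1; ring
  have hconj : ∀ u v : G, orderOf u = 2 → orderOf v = 2 → ∀ j k, π u = sr j → π v = sr k → j ≠ k → IsConj u v := by
    intro u v hu hv j k hj hk hjk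
    by_contra hnc
    obtain ⟨z, ⟨n, hn⟩, hz2, hzu, hzv⟩ := Local.exists_invol_commute_of_not_isConj hu hv hnc
    have h1 : π (u * v) = DihedralGroup.r (k - j) := by rw [map_mul, hj, hk, sr_mul_sr]
    have h2 : π z = 1 := by
      by_contra hne
      obtain ⟨l, hl⟩ := exists_sr hr (d := π z) (by rw [← map_mul, Local.invol_mul_self hz2, map_one]) hne
      simp only at hn
      rw [← hn, map_zpow, h1, r_zpow] at hl
      cases hl
    exact Local.invol_ne_one hz2 (hL (u * v) _ (sub_ne_zero.2 hjk.symm) h1 z ((hker z).1 h2)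
      (hzu.symm.mul_right hzv.symm))
  have hii : i ≠ i - 2 := fun h => h2r (by linear_combination h)
  refine ⟨?_, ?_⟩
  · intro b hb2 hbQ
    obtain ⟨j, hj⟩ := exists_sr hr (d := π b) (by rw [← map_mul, Local.invol_mul_self hb2, map_one])
      (fun h => hbQ ((hker b).1 h))
    have : IsConj a b := by
      by_cases hij : i = j
      · exact (isConj_conj x a).trans (hconj a' b ha'2 hb2 _ _ hi' hj (hij ▸ hii.symm))
      · exact hconj a b ha2 hb2 _ _ hi hj hij
    exact isConj_iff.1 this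
  set C := Q ⊓ Subgroup.centralizer ({a} : Set G) with hCdef
  set C' := Q ⊓ Subgroup.centralizer ({a'} : Set G) with hC'def
  have hCC : Nat.card C' = Nat.card C := by
    rw [← card_cj x C, hCdef, cj_inf, cj_eq_of_normal, cj_centralizer_set, Set.image_singleton]
  have haa' : π (a * a') = DihedralGroup.r (i - 2 - i) := by rw [map_mul, hi, hi', sr_mul_sr]
  have hk0 : i - 2 - i ≠ 0 := sub_ne_zero.2 hii.symm
  apply le_antisymm
  · have h1 := Local.CD.card_mul_le_card_sup_mul_card_inf C C'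
    have h2 : C ⊓ C' = ⊥ := by
      rw [eq_bot_iff]
      intro q hq
      have e1 : Commute q a := Subgroup.mem_centralizer_singleton_iff.1 hq.1.2
      have e2 : Commute q a' := Subgroup.mem_centralizer_singleton_iff.1 hq.2.2
      exact hL _ _ hk0 haa' q hq.1.1 (e1.mul_right e2)
    rw [h2, Subgroup.card_bot, mul_one, hCC] at h1
    rw [pow_two]
    exact h1.trans (card_le_of_le (sup_le inf_le_left inf_le_left))
  · have hmem : ∀ q ∈ Q, ∀ q' ∈ Q, (q * a * q⁻¹) * (q' * a' * q'⁻¹) * (a * a')⁻¹ ∈ Q := by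
      intro q hq q' hq'
      rw [← hker]
      simp only [map_mul, map_inv, (hker q).2 hq, (hker q').2 hq']
      group
    let F : (Q ⧸ C.subgroupOf Q) × (Q ⧸ C'.subgroupOf Q) → Q := fun s =>
      ⟨_, hmem (s.1.out : Q) (s.1.out).2 (s.2.out : Q) (s.2.out).2⟩
    have hF : Function.Injective F := by
      rintro ⟨α₁, β₁⟩ ⟨α₂, β₂⟩ h
      have h1 := mul_right_cancel (congrArg Subtype.val h)
      simp only at h1
      set q₁ : Q := α₁.out
      set q₂ : Q := α₂.out
      set t₁ : Q := β₁.out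
      set t₂ : Q := β₂.out
      set b₁ : G := q₁ * a * (q₁ : G)⁻¹ with hb₁
      set b₂ : G := q₂ * a * (q₂ : G)⁻¹ with hb₂
      set c₁ : G := t₁ * a' * (t₁ : G)⁻¹ with hc₁
      set c₂ : G := t₂ * a' * (t₂ : G)⁻¹ with hc₂
      have o1 : orderOf b₁ = 2 := by rw [hb₁, orderOf_conj_eq, ha2]
      have o2 : orderOf b₂ = 2 := by rw [hb₂, orderOf_conj_eq, ha2]
      have o3 : orderOf c₁ = 2 := by rw [hc₁, orderOf_conj_eq, ha'2]
      have o4 : orderOf c₂ = 2 := by rw [hc₂, orderOf_conj_eq, ha'2]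
      have p1 : π b₁ = π a := by simp [hb₁, (hker q₁).2 q₁.2]
      have p2 : π b₂ = π a := by simp [hb₂, (hker q₂).2 q₂.2]
      have p3 : π c₁ = π a' := by simp [hc₁, (hker t₁).2 t₁.2]
      have i1 := Local.invol_conj_mul o1 o3
      have i2 := Local.invol_conj_mul o2 o4
      rw [← h1] at i2
      have h2 : b₂⁻¹ * b₁ = 1 := by
        refine hL (b₁ * c₁) _ hk0 (by rw [map_mul, p1, p3, ← map_mul, haa']) _ ?_ ?_
        · rw [← hker, map_mul, map_inv, p1, p2, inv_mul_cancel]
        · calc b₂⁻¹ * b₁ * (b₁ * c₁) = b₂⁻¹ * (b₁ * (b₁ * c₁) * b₁⁻¹) * b₁ := by group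
            _ = _ := by rw [i1, ← i2]; group
      have h3 : b₂ = b₁ := inv_mul_eq_one.1 h2
      have h4 : c₁ = c₂ := by rw [h3] at h1; exact mul_left_cancel h1
      have hα : α₁ = α₂ := by
        rw [← QuotientGroup.out_eq' α₁, ← QuotientGroup.out_eq' α₂, QuotientGroup.eq]
        refine Subgroup.mem_inf.2 ⟨(q₁⁻¹ * q₂).2, ?_⟩
        rw [Local.mem_centralizer_singleton_iff_conj]
        calc ((q₁ : G)⁻¹ * q₂) * a * ((q₁ : G)⁻¹ * q₂)⁻¹ = (q₁ : G)⁻¹ * b₂ * q₁ := by rw [hb₂]; group
          _ = a := by rw [h3, hb₁]; group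
      have hβ : β₁ = β₂ := by
        rw [← QuotientGroup.out_eq' β₁, ← QuotientGroup.out_eq' β₂, QuotientGroup.eq]
        refine Subgroup.mem_inf.2 ⟨(t₁⁻¹ * t₂).2, ?_⟩
        rw [Local.mem_centralizer_singleton_iff_conj]
        calc ((t₁ : G)⁻¹ * t₂) * a' * ((t₁ : G)⁻¹ * t₂)⁻¹ = (t₁ : G)⁻¹ * c₂ * t₁ := by rw [hc₂]; group
          _ = a' := by rw [← h4, hc₁]; group
      rw [hα, hβ]
    have h5 := Nat.card_le_card_of_injective F hF
    rw [Nat.card_prod] at h5
    have h6 : C.relIndex Q * Nat.card C = Nat.card Q := Solv.PG.relIndex_mul_card inf_le_left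
    have h7 : C'.relIndex Q * Nat.card C = Nat.card Q := by
      rw [← hCC]; exact Solv.PG.relIndex_mul_card inf_le_left
    have h8 : C.relIndex Q * C'.relIndex Q ≤ Nat.card Q := h5
    have hpos : 0 < Nat.card Q := Nat.card_pos
    have h9 : Nat.card Q * Nat.card Q ≤ Nat.card Q * Nat.card C ^ 2 := by
      calc Nat.card Q * Nat.card Q = (C.relIndex Q * C'.relIndex Q) * Nat.card C ^ 2 := by
            nth_rewrite 1 [← h6]; rw [← h7]; ring
        _ ≤ _ := Nat.mul_le_mul_right _ h8
    exact Nat.le_of_mul_le_mul_left h9 hpos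

end Cfsg.Agent.S2873
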