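import Cfsg.Statements.S2874
import Mathlib


set_option autoImplicit false
open Cfsg

namespace Cfsg.Agent.S2874

open Matrix Equiv

section Aux

variable {k : ℕ}

theorem par (x : ZMod (2 ^ k)) : ∃ y, x = 2 * y ∨ x = 2 * y + 1 := by
  obtain ⟨n, rfl⟩ := ZMod.intCast_surjective x
  rcases Int.even_or_odd' n with ⟨m, rfl | rfl⟩
  exacts [⟨m, .inl (by push_cast; ring)⟩, ⟨m, .inr (by push_cast; ring)⟩]

theorem unit_odd (y : ZMod (2 ^ k)) : IsUnit (2 * y + 1) := by
  have : IsNilpotent (2 : ZMod (2 ^ k)) := ⟨k, by exact_mod_cast ZMod.natCast_self (2 ^ k)⟩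
  exact ((Commute.all _ _).isNilpotent_mul_right this).isUnit_add_one

theorem cancel_odd {x y z : ZMod (2 ^ k)} (h : x * z = 0) (hz : z = 2 * y + 1) : x = 0 :=
  (hz ▸ unit_odd y : IsUnit z).mul_left_eq_zero.1 h

theorem half (hk : 2 ≤ k) {x : ZMod (2 ^ k)} (h : 2 * x = 0) : x = 0 ∨ x = 2 ^ (k - 1) := by
  obtain ⟨k, rfl⟩ : ∃ j, k = j + 1 := ⟨k - 1, by omega⟩
  obtain ⟨n, rfl⟩ := ZMod.natCast_zmod_surjective x
  have h1 : 2 ^ (k + 1) ∣ 2 * n := (ZMod.natCast_eq_zero_iff _ _).1 (by exact_mod_cast h)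
  rw [pow_succ'] at h1
  obtain ⟨m, rfl⟩ := Nat.dvd_of_mul_dvd_mul_left two_pos h1
  have h2 : (2 : ZMod (2 ^ (k + 1))) ^ k * 2 = 0 := by
    rw [← pow_succ]; exact_mod_cast ZMod.natCast_self (2 ^ (k + 1))
  rcases Nat.even_or_odd' m with ⟨j, rfl | rfl⟩
  · left; push_cast; linear_combination (j : ZMod (2 ^ (k + 1))) * h2
  · right; push_cast; linear_combination (j : ZMod (2 ^ (k + 1))) * h2

/-- The standard element of order three. -/
def s₀ (k : ℕ) : GL (Fin 2) (ZMod (2 ^ k)) :=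
  ⟨!![0, -1; 1, -1], !![-1, 1; -1, 0], by ext i j; fin_cases i <;> fin_cases j <;> simp,
    by ext i j; fin_cases i <;> fin_cases j <;> simp⟩

theorem exists_conj {σ : GL (Fin 2) (ZMod (2 ^ k))} (h3 : σ * σ * σ = 1) (h1 : σ ≠ 1) :
    ∃ g, g * σ * g⁻¹ = s₀ k := by
  have e : ∀ i j, (σ.1 * σ.1 * σ.1) i j = (1 : Matrix (Fin 2) (Fin 2) (ZMod (2 ^ k))) i j :=
    fun i j => by rw [← Units.val_mul, ← Units.val_mul, h3, Units.val_one]
  have e00 := e 0 0
  have e01 := e 0 1
  have e10 := e 1 0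
  have e11 := e 1 1
  simp only [mul_apply, Fin.sum_univ_two, one_apply_eq, one_apply_ne zero_ne_one,
    one_apply_ne one_ne_zero] at e00 e01 e10 e11
  have hσ := eta_fin_two σ.1
  set a := σ.1 0 0
  set b := σ.1 0 1
  set c := σ.1 1 0
  set d := σ.1 1 1
  have cube : ∀ x : ZMod (2 ^ k), x ^ 3 = 1 → x = 1 := fun x hx => by
    obtain ⟨y, rfl | rfl⟩ := par x
    · exact absurd (cancel_odd (x := 1) (y := -(4 * y ^ 3)) (by linear_combination -hx) rfl)
        fun h => h1 (by have := subsingleton_of_zero_eq_one h.symm; exact Subsingleton.elim _ _)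
    · exact sub_eq_zero.1 (cancel_odd (y := 2 * y ^ 2 + 3 * y + 1) (by linear_combination hx) rfl)
  have hd : a * d - b * c = 1 := cube _ (by
    have := congrArg det (congrArg Units.val h3)
    rw [Units.val_mul, Units.val_mul, det_mul, det_mul, Units.val_one, det_one, det_fin_two] at this
    linear_combination this)
  have ht : a + d = -1 := by
    obtain ⟨y, h | h⟩ := par (a + d)
    · have u : (a + d) ^ 2 - 1 = 2 * (2 * y ^ 2 - 1) + 1 := by rw [h]; ring
      have hb : b = 0 := cancel_odd (by linear_combination e01 + b * hd) u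
      have hc : c = 0 := cancel_odd (by linear_combination e10 + c * hd) u
      rw [hb, hc] at e00 e11 hσ
      refine absurd (Units.ext ?_) h1
      rw [hσ, cube a (by linear_combination e00), cube d (by linear_combination e11)]
      simp [one_fin_two]
    · have : (a + d + 1) * (1 - a * (a + d - 1)) = 0 := by
        linear_combination -e00 - (2 * a + d) * hd
      exact eq_neg_of_add_eq_zero_left (cancel_odd (y := -(a * y)) this (by rw [h]; ring))
  have hc : IsUnit c := by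
    refine isUnit_of_mul_isUnit_right (x := -b) ?_
    obtain ⟨y, h | h⟩ := par a
    · rw [show -b * c = 2 * (2 * y ^ 2 + y) + 1 by
        linear_combination hd - a * ht + (a + 2 * y + 1) * h]
      exact unit_odd _
    · rw [show -b * c = 2 * (2 * y ^ 2 + 3 * y + 1) + 1 by
        linear_combination hd - a * ht + (a + 2 * y + 2) * h]
      exact unit_odd _
  obtain ⟨c', hc'⟩ := hc.exists_right_inv
  let P : GL (Fin 2) (ZMod (2 ^ k)) := ⟨!![1, a; 0, c], !![1, -(a * c'); 0, c'], by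
    ext i j; fin_cases i <;> fin_cases j <;> simp [hc'], by
    ext i j; fin_cases i <;> fin_cases j <;> simp [mul_comm c', mul_assoc, hc']⟩
  refine ⟨P⁻¹, ?_⟩
  rw [inv_inv, mul_assoc, inv_mul_eq_iff_eq_mul]
  ext i j
  rw [Units.val_mul, Units.val_mul, hσ]
  fin_cases i <;> fin_cases j <;> simp [P, s₀]
  · linear_combination -hd + a * ht
  · linear_combination c * ht

theorem invol (hk : 2 ≤ k) {t : GL (Fin 2) (ZMod (2 ^ k))} (h2 : t * t = 1) (h1 : t ≠ 1)
    (h : t * (s₀ k * t * (s₀ k)⁻¹) = (s₀ k)⁻¹ * t * s₀ k) :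
    t.1 = !![1, 2 ^ (k - 1); 2 ^ (k - 1), 1] ∨
      (s₀ k * t * (s₀ k)⁻¹).1 = !![1, 2 ^ (k - 1); 2 ^ (k - 1), 1] ∨
      ((s₀ k)⁻¹ * t * s₀ k).1 = !![1, 2 ^ (k - 1); 2 ^ (k - 1), 1] := by
  obtain ⟨r, hr⟩ := (unit_odd (k := k) 1).exists_right_inv
  obtain ⟨a, a', b, b', ht⟩ : ∃ a a' b b', t.1 = !![a - b', b - a'; a' + b - b', a - a' + b'] := by
    refine ⟨r * (t.1 0 0 + 2 * t.1 1 1 + t.1 1 0 - t.1 0 1),
      r * (t.1 1 0 * 2 - 2 * t.1 0 1 + t.1 1 1 - t.1 0 0),
      r * (t.1 1 0 * 2 + t.1 0 1 + t.1 1 1 - t.1 0 0),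
      r * (2 * t.1 1 1 - 2 * t.1 0 0 + t.1 1 0 - t.1 0 1), ?_⟩
    ext i j
    fin_cases i <;> fin_cases j <;> simp
    · linear_combination (-t.1 0 0) * hr
    · linear_combination (-t.1 0 1) * hr
    · linear_combination (-t.1 1 0) * hr
    · linear_combination (-t.1 1 1) * hr
  have e := congrArg Units.val h2
  have f := congrArg Units.val h
  have s1 : (s₀ k).1 = !![0, -1; 1, -1] := rfl
  have s2 : ((s₀ k)⁻¹).1 = !![-1, 1; -1, 0] := rfl
  simp only [Units.val_mul, ht, s1, s2, Units.val_one, one_fin_two, mul_fin_two] at e f ⊢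
  simp only [← Matrix.ext_iff, Fin.forall_fin_two, of_apply, cons_val', cons_val_zero, cons_val_one,
    cons_val_fin_one] at e f ⊢
  obtain ⟨⟨e1, e2⟩, e3, e4⟩ := e
  obtain ⟨⟨f1, f2⟩, f3, f4⟩ := f
  have c3 : ∀ x : ZMod (2 ^ k), x * 3 = 0 → x = 0 := fun x hx => cancel_odd (y := 1) hx (by ring)
  have E0 := c3 (a ^ 2 - a' ^ 2 + (b ^ 2 - b * b' + b' ^ 2) - 1)
    (by linear_combination e1 + e3 - e2 + 2 * e4)
  have E1 := c3 (a' * (2 * a - a')) (by linear_combination 2 * e3 - 2 * e2 - e1 + e4)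
  have E2 := c3 ((2 * a - a') * b) (by linear_combination e2 + 2 * e3 - e1 + e4)
  have E3 := c3 ((2 * a - a') * b') (by linear_combination e3 - e2 - 2 * e1 + 2 * e4)
  have F0 := c3 (a ^ 2 - a' ^ 2 - a) (by linear_combination f1 + f3 - f2 + 2 * f4)
  have F1 := c3 (2 * a * a' - a' ^ 2 + (b ^ 2 - b * b' + b' ^ 2) - a')
    (by linear_combination 2 * f3 - 2 * f2 - f1 + f4)
  have ha' : a' = b ^ 2 - b * b' + b' ^ 2 := by linear_combination E1 - F1
  have ha : a = 1 - a' := by linear_combination E0 - F0 + ha'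
  have hnt : ¬ (1 : ZMod (2 ^ k)) = 0 := fun h =>
    h1 (by have := subsingleton_of_zero_eq_one h.symm; exact Subsingleton.elim _ _)
  have odd : ∀ y, a' ≠ 2 * y + 1 := fun y hy => by
    have h3 : 2 * a - a' = 0 := cancel_odd (by linear_combination E1) hy
    exact hnt (cancel_odd (y := 3 * y) (by linear_combination -h3 + 2 * ha - 3 * hy) rfl)
  obtain ⟨β, hb | hb⟩ := par b <;> obtain ⟨β', hb' | hb'⟩ := par b'
  rotate_left
  · exact absurd (by rw [ha', hb, hb']; ring) (odd (2 * β ^ 2 - 2 * β * β' - β + 2 * β' ^ 2 + 2 * β'))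
  · exact absurd (by rw [ha', hb, hb']; ring) (odd (2 * β ^ 2 - 2 * β * β' - β' + 2 * β' ^ 2 + 2 * β))
  · exact absurd (by rw [ha', hb, hb']; ring) (odd (2 * β ^ 2 - 2 * β * β' + β' + 2 * β' ^ 2 + β))
  have h4 : 2 * a - a' = 2 * (2 * -(3 * (β ^ 2 - β * β' + β' ^ 2)) + 1) := by
    rw [ha, ha', hb, hb']; ring
  have h5 : 2 * b = 0 := cancel_odd (y := -(3 * (β ^ 2 - β * β' + β' ^ 2))) (by rw [h4] at E2; linear_combination E2) rfl
  have h6 : 2 * b' = 0 := cancel_odd (y := -(3 * (β ^ 2 - β * β' + β' ^ 2))) (by rw [h4] at E3; linear_combination E3) rfl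
  obtain rfl : a' = 0 := by
    linear_combination ha' + (β - β') * h5 + β' * h6 + b * hb - b * hb' + b' * hb'
  obtain rfl : a = 1 := by rw [ha, sub_zero]
  rcases half hk h5 with e | e <;> rcases half hk h6 with e' | e'
  · exact absurd (Units.ext (by rw [ht, e, e']; simp [one_fin_two])) h1
  · exact .inr (.inl ⟨⟨by linear_combination e, by linear_combination e' - e⟩,
      by linear_combination e', by linear_combination -e⟩)
  · exact .inl ⟨⟨by linear_combination -e', by linear_combination e⟩,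
      by linear_combination e - e', by linear_combination e'⟩
  · exact .inr (.inr ⟨⟨by linear_combination e' - e, by linear_combination e' - h6⟩,
      by linear_combination e - h5, by linear_combination e - e'⟩)

theorem key (hk : 2 ≤ k) (H : Subgroup (GL (Fin 2) (ZMod (2 ^ k))))
    (e : H ≃* alternatingGroup (Fin 4)) : ∃ g t : GL (Fin 2) (ZMod (2 ^ k)),
      t.1 = !![1, 2 ^ (k - 1); 2 ^ (k - 1), 1] ∧
        H.map (MulAut.conj g).toMonoidHom = Subgroup.closure {s₀ k, t} := by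
  let σ : alternatingGroup (Fin 4) := ⟨swap 0 1 * swap 1 2, Perm.mem_alternatingGroup.2 (by decide)⟩
  let τ : alternatingGroup (Fin 4) := ⟨swap 0 1 * swap 2 3, Perm.mem_alternatingGroup.2 (by decide)⟩
  have r1 : σ * σ * σ = 1 := by decide +kernel
  have r2 : τ * τ = 1 := by decide +kernel
  have r3 : τ * (σ * τ * σ⁻¹) = σ⁻¹ * τ * σ := by decide +kernel
  let φ := H.subtype.comp e.symm.toMonoidHom
  have hφ : Function.Injective φ := Subtype.val_injective.comp e.symm.injective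
  obtain ⟨g, hg⟩ := exists_conj (σ := φ σ) (by rw [← map_mul, ← map_mul, r1, map_one])
    (by rw [← map_one φ]; exact hφ.ne (by decide +kernel))
  let ψ := (MulAut.conj g).toMonoidHom.comp φ
  have hψ : Function.Injective ψ := (MulAut.conj g).injective.comp hφ
  have hσ : ψ σ = s₀ k := hg
  have gen : ∀ t : alternatingGroup (Fin 4), t = τ ∨ t = σ * τ * σ⁻¹ ∨ t = σ⁻¹ * τ * σ →
      H.map (MulAut.conj g).toMonoidHom = Subgroup.closure {s₀ k, ψ t} := fun t ht => by
    have h1 : Subgroup.closure {σ, t} = ⊤ := by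
      have hs : σ ∈ Subgroup.closure {σ, t} := Subgroup.subset_closure (by simp)
      have ht' : t ∈ Subgroup.closure {σ, t} := Subgroup.subset_closure (by simp)
      have h2 : ∀ x : alternatingGroup (Fin 4), ∃ i j : Fin 3, x = σ ^ i.1 ∨ x = σ ^ i.1 * t * σ ^ j.1 := by
        rcases ht with rfl | rfl | rfl <;> decide +kernel
      refine eq_top_iff.2 fun x _ => ?_
      obtain ⟨i, j, rfl | rfl⟩ := h2 x
      exacts [pow_mem hs _, mul_mem (mul_mem (pow_mem hs _) ht') (pow_mem hs _)]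
    rw [← hσ, ← Set.image_pair, ← MonoidHom.map_closure, h1, ← Subgroup.map_map, ← Subgroup.map_map,
      Subgroup.map_top_of_surjective _ e.symm.surjective, ← MonoidHom.range_eq_map, Subgroup.range_subtype]
  rcases invol hk (t := ψ τ) (by rw [← map_mul, r2, map_one])
    (by rw [← map_one ψ]; exact hψ.ne (by decide +kernel))
    (by rw [← hσ, ← map_inv, ← map_mul, ← map_mul, ← map_mul, ← map_mul, ← map_mul, r3]) with h | h | h
  · exact ⟨g, _, h, gen _ (.inl rfl)⟩
  · exact ⟨g, _, h, by simpa only [map_mul, map_inv, hσ] using gen _ (.inr (.inl rfl))⟩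
  · exact ⟨g, _, h, by simpa only [map_mul, map_inv, hσ] using gen _ (.inr (.inr rfl))⟩

end Aux

/-- For k ≥ 2, any two subgroups of GL₂(ℤ/2ᵏℤ) (the automorphism group of the homocyclic group ℤ/2ᵏ × ℤ/2ᵏ) that are isomorphic to the alternating group of degree 4 are conjugate. -/
theorem result (k : ℕ) (hk : 2 ≤ k) (H₁ H₂ : Subgroup (GL (Fin 2) (ZMod (2 ^ k)))) (h₁ : Nonempty (↥H₁ ≃* ↥(alternatingGroup (Fin 4)))) (h₂ : Nonempty (↥H₂ ≃* ↥(alternatingGroup (Fin 4)))) : ∃ g : GL (Fin 2) (ZMod (2 ^ k)), H₂ = H₁.map (MulAut.conj g).toMonoidHom := by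
  obtain ⟨g₁, t₁, e₁, f₁⟩ := key hk H₁ h₁.some
  obtain ⟨g₂, t₂, e₂, f₂⟩ := key hk H₂ h₂.some
  obtain rfl : t₁ = t₂ := Units.ext (e₁.trans e₂.symm)
  refine ⟨g₂⁻¹ * g₁, Subgroup.map_injective (f := (MulAut.conj g₂).toMonoidHom)
    (MulAut.conj g₂).injective ?_⟩
  rw [f₂, ← f₁, Subgroup.map_map]
  congr 1
  ext x : 1
  simp [mul_assoc]

end Cfsg.Agent.S2874
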