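import Cfsg.Statements.S2879
import Cfsg.Agent.Ngrp.SDStruct
import Cfsg.Agent.Rank2.DihCent

set_option autoImplicit false
open Cfsg

namespace Cfsg.Agent.S2879

open Subgroup Cfsg.Lib Cfsg.Lib.Ngrp

theorem eq_of_mem_center {n : ℕ} (hn : 4 ≤ n) {x y : DihedralGroup n} (hx : x ∈ center _)
    (hy : y ∈ center _) (hx1 : x ≠ 1) (hy1 : y ≠ 1) : x = y := by
  have : NeZero n := ⟨by omega⟩
  have key : ∀ x ∈ center (DihedralGroup n), x ≠ 1 → ∃ i, x = .r i ∧ 2 * i.val = n := by
    rintro (i | i) hx hx1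
    · have h1 := mem_center_iff.1 hx (.sr 0)
      simp only [DihedralGroup.sr_mul_r, DihedralGroup.r_mul_sr, DihedralGroup.sr.injEq, zero_add,
        zero_sub] at h1
      exact ⟨i, rfl, ((ZMod.neg_eq_self_iff i).1 h1.symm).resolve_left (by rintro rfl; exact hx1 rfl)⟩
    · have h1 := mem_center_iff.1 hx (.r 1)
      simp only [DihedralGroup.sr_mul_r, DihedralGroup.r_mul_sr, DihedralGroup.sr.injEq] at h1
      have h2 := (ZMod.natCast_eq_zero_iff 2 n).1 (by push_cast; linear_combination -h1)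
      have := Nat.le_of_dvd two_pos h2
      omega
  obtain ⟨i, rfl, hi⟩ := key x hx hx1
  obtain ⟨j, rfl, hj⟩ := key y hy hy1
  rw [ZMod.val_injective n (by omega : i.val = j.val)]

/-- Let G be a finite solvable group with O(G) = 1 whose Sylow 2-subgroup T is dihedral of order at least 8 or semidihedral, with G ≠ T and Z(T) normal in G. Then G has a normal subgroup isomorphic to SL₂(3). -/
theorem result {G : Type*} [Group G] [Finite G] (hsol : IsSolvable G) (hO : Cfsg.oddCore G = ⊥) (T : Sylow 2 G) (hT : (∃ n : ℕ, 4 ≤ n ∧ Nonempty (↥(T : Subgroup G) ≃* DihedralGroup n)) ∨ Cfsg.IsQuasiDihedral ↥(T : Subgroup G)) (hne : (T : Subgroup G) ≠ ⊤) (hZ : ((T : Subgroup G) ⊓ Subgroup.centralizer ((T : Subgroup G) : Set G)).Normal) : ∃ U : Subgroup G, U.Normal ∧ Nonempty (↥U ≃* Matrix.SpecialLinearGroup (Fin 2) (ZMod 3)) := by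
  have : Group.IsSolvable G := hsol
  have hG : ¬ IsPGroup 2 G := fun h => hne (T.is_maximal' (h.to_subgroup ⊤) le_top).symm
  rcases hT with ⟨n, hn, ⟨e⟩⟩ | hT
  · have : NeZero n := ⟨by omega⟩
    have : Nontrivial (T : Subgroup G) := e.toEquiv.nontrivial
    obtain ⟨s, -, hs, hs2⟩ := Solv.PG.exists_mem_center_orderOf_eq T.isPGroup' ⊤ top_ne_bot
    have hs1 : s ≠ 1 := by rintro rfl; simp at hs2
    have hc : ∀ x ∈ center (T : Subgroup G), e x ∈ center (DihedralGroup n) := fun x hx =>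
      mem_center_iff.2 fun y => by
        obtain ⟨y, rfl⟩ := e.surjective y
        rw [← map_mul, ← map_mul, mem_center_iff.1 hx y]
    obtain ⟨P, N, hN, h1⟩ := Rank2.hasNormalPComplement_of_central_of_dihedral T e.toMonoidHom
      e.injective (t := s) (by simpa using hs1) (k := 1)
      (congrArg Subtype.val (orderOf_dvd_iff_pow_eq_one.1 hs2.dvd)) (mem_center_iff.2 fun g => by
        have h1 := hZ.conj_mem s ⟨s.2, fun t ht =>
          congrArg Subtype.val (mem_center_iff.1 hs ⟨t, ht⟩)⟩ g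
        exact mul_inv_eq_iff_eq_mul.1 (congrArg Subtype.val (e.injective (eq_of_mem_center hn
          (hc ⟨_, h1.1⟩ (mem_center_iff.2 fun t => Subtype.ext (h1.2 t t.2))) (hc s hs)
          (fun h2 => hs1 (Subtype.ext (conj_eq_one_iff.1 (congrArg Subtype.val
            ((map_eq_one_iff e e.injective).1 h2))))) (by simpa using hs1)))))
    have h2 : N = ⊥ := le_bot_iff.1 (hO ▸ Solv.le_pPrimeCore hN (h1.index_eq_card ▸
      (Nat.prime_two.coprime_iff_not_dvd.2 P.not_dvd_index).symm))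
    rw [h2, isComplement'_bot_left] at h1
    exact absurd ((h1 ▸ P.isPGroup').of_equiv topEquiv) hG
  · obtain ⟨m, -, ⟨F⟩⟩ := Trans.exists_qdFrame hT
    obtain ⟨e⟩ := equiv_G48_of_qd hO F (T : Subgroup G).subtype (subtype_injective _)
      (by rw [range_subtype]; exact T.not_dvd_index) hG
    have h1 : (Matrix.SpecialLinearGroup.toGL : Matrix.SpecialLinearGroup (Fin 2) (ZMod 3) →* _).range =
        Matrix.GeneralLinearGroup.det.ker := by
      ext g
      exact ⟨by rintro ⟨a, rfl⟩; exact Units.ext a.2, fun h => ⟨⟨g, congrArg Units.val h⟩, Units.ext rfl⟩⟩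
    let e' := (e.trans G48.equivGL).symm
    exact ⟨_, (h1 ▸ MonoidHom.normal_ker _).map e'.toMonoidHom e'.surjective,
      ⟨((MonoidHom.ofInjective Matrix.SpecialLinearGroup.toGL_injective).trans
        (e'.subgroupMap _)).symm⟩⟩

end Cfsg.Agent.S2879
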