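import Cfsg.Statements.S2880
import Cfsg.Agent.Solv.ExtraTwo

set_option autoImplicit false
open Cfsg

namespace Cfsg.Agent.S2880

open Cfsg.Lib.Solv Cfsg.Lib.Solv.PG Subgroup Cfsg.Lib.Trans.ES

theorem card_order_four {E : Type*} [Group E] [Finite E] (h : IsPre 2 E) :
    Nat.card {x : E // orderOf x = 4} + nInv E = Nat.card E := by
  classical
  have h1 : ∀ x : E, orderOf x = 4 ↔ ¬ x ^ 2 = 1 := fun x => by
    refine ⟨fun h4 h2 => ?_, fun h2 => ?_⟩
    · have := orderOf_dvd_of_pow_eq_one h2
      rw [h4] at this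
      omega
    · exact orderOf_eq_prime_pow (p := 2) (n := 1) (by simpa using h2)
        (by rw [pow_succ, pow_mul]; exact h.pow_eq_one_of_mem_center (h.pow_mem_center x))
  rw [nInv, Nat.card_congr (Equiv.subtypeEquivRight h1), add_comm, ← Nat.card_sum,
    Nat.card_congr (Equiv.sumCompl _)]

/-- Let E be an extraspecial 2-group of order 2^(2m+1) of plus type, that is, containing an elementary abelian subgroup of order 2^(m+1) (equivalently, a central product of m dihedral groups of order 8). Then E has exactly 2^(2m) − 2^m elements of order 4. -/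
theorem result {E : Type*} [Group E] [Finite E] (m : ℕ) (hm : 1 ≤ m) (hE : Cfsg.IsExtraspecial 2 E) (hcard : Nat.card E = 2 ^ (2 * m + 1)) (hplus : ∃ A : Subgroup E, Cfsg.IsElementaryAbelian 2 A ∧ Nat.card A = 2 ^ (m + 1)) : Nat.card {x : E // orderOf x = 4} = 2 ^ (2 * m) - 2 ^ m := by
  have h := IsPre.of_isExtraspecial hE
  obtain ⟨A, hA, hc⟩ := hplus
  have h1 := defect_of_plus h hcard hA hc.ge
  have h2 := card_order_four h
  have hle : 2 ^ m ≤ 2 ^ (2 * m) := Nat.pow_le_pow_right (by norm_num) (by omega)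
  rw [defect, hcard] at h1
  rw [hcard] at h2
  zify [hle] at h2 ⊢
  simp only [pow_succ] at h1 h2
  push_cast at h1
  omega

end Cfsg.Agent.S2880
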