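import Cfsg.Statements.S2881
import Cfsg.Agent.S2880

set_option autoImplicit false
open Cfsg

namespace Cfsg.Agent.S2881

open Cfsg.Lib.Solv Cfsg.Lib.Solv.PG Subgroup Cfsg.Lib.Trans.ES

/-- Let E be an extraspecial 2-group of order 2^(2m+1) of plus type (containing an elementary abelian subgroup of order 2^(m+1)), and let ω be an automorphism of E of order 5 whose fixed points are exactly the centre of E. Then m is divisible by 4. -/
theorem result {E : Type*} [Group E] [Finite E] (m : ℕ) (hm : 1 ≤ m) (hE : Cfsg.IsExtraspecial 2 E) (hcard : Nat.card E = 2 ^ (2 * m + 1)) (hplus : ∃ A : Subgroup E, Cfsg.IsElementaryAbelian 2 A ∧ Nat.card A = 2 ^ (m + 1)) (ω : E ≃* E) (hω : orderOf ω = 5) (hfix : ∀ x : E, ω x = x ↔ x ∈ Subgroup.center E) : 4 ∣ m := by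
  classical
  have h := IsPre.of_isExtraspecial hE
  have h1 := Cfsg.Agent.S2880.result m hm hE hcard hplus
  have : Fact (Nat.Prime 5) := ⟨by norm_num⟩
  have := Fintype.ofFinite E
  let f : Function.End {x : E // orderOf x = 4} := fun x => ⟨ω x, by rw [MulEquiv.orderOf_eq, x.2]⟩
  have hf : ∀ (k : ℕ) (x), ((f ^ k) x : E) = (ω ^ k) x := fun k => by
    induction k with
    | zero => intro x; rfl
    | succ k ih => intro x; rw [pow_succ, pow_succ]; exact ih (f x)
  have h2 := Equiv.Perm.card_fixedPoints_modEq (f := f) (p := 5) (n := 1) (by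
    funext x
    apply Subtype.ext
    rw [hf, pow_one, ← hω, pow_orderOf_eq_one]; rfl)
  have h3 : IsEmpty (Function.fixedPoints f) := ⟨fun x => by
    have h4 := orderOf_dvd_of_pow_eq_one
      (h.pow_eq_one_of_mem_center ((hfix x.1.1).mp (congrArg Subtype.val x.2)))
    rw [x.1.2] at h4
    omega⟩
  rw [Fintype.card_eq_zero (α := Function.fixedPoints f), ← Nat.card_eq_fintype_card, h1,
    two_mul, pow_add, ← Nat.mul_sub_one, Nat.modEq_zero_iff_dvd] at h2
  have h4 := (Nat.Coprime.pow_right m (by norm_num : Nat.Coprime 5 2)).dvd_of_dvd_mul_left h2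
  have h5 : 2 ^ m ≡ 1 [MOD 5] := ((Nat.modEq_iff_dvd' Nat.one_le_two_pow).mpr h4).symm
  rw [← Nat.div_add_mod m 4, pow_add, pow_mul] at h5
  have h6 : (2 ^ 4) ^ (m / 4) ≡ 1 [MOD 5] := by
    simpa using (show 2 ^ 4 ≡ 1 [MOD 5] by decide).pow (m / 4)
  have h7 := (h6.mul_right (2 ^ (m % 4))).symm.trans h5
  have h8 : m % 4 < 4 := Nat.mod_lt _ (by norm_num)
  apply Nat.dvd_of_mod_eq_zero
  generalize m % 4 = r at h7 h8
  interval_cases r <;> first | rfl | exact absurd h7 (by decide)

end Cfsg.Agent.S2881
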