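import Cfsg.Statements.S2882
import Cfsg.Agent.S2133
import Cfsg.Agent.SporChar.HeSylow

set_option autoImplicit false
open Cfsg

namespace Cfsg.Agent.S2882

open Cfsg.Lib.SporChar.He Subgroup

theorem normalizer_T {G : Type*} [Group G] [Finite G] {z : G} (E : Emb G z) :
    normalizer (E.T : Set G) = E.T := by
  refine le_antisymm (fun g hg => ?_) le_normalizer
  obtain ⟨c, hc, rfl⟩ := E.surj (mem_centralizer_singleton_iff.1 (E.normalizer_T_le hg))
  obtain ⟨d, hd, e, h⟩ := hc.forall_H2 (P := fun c d => bimp (pat 549790 (mul (mul c e23) d))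
    (bimp (pat 549790 (mul (mul c e34) d)) (pat 549790 c))) (by decide +kernel)
  simp only [bimp_iff] at h
  have k : ∀ a, OK a → pat 549790 a = true → pat 549790 (mul (mul c a) d) = true := fun a ha pa => by
    obtain ⟨x, hx, px, ex⟩ := (mem_normalizer_iff.1 hg _).1 (E.el_mem_T pa)
    rw [E.conj_eq hc hd e ha] at ex
    rwa [← E.inj hx ((hc.mul' ha).mul' hd) ex]
  exact E.el_mem_T (h (k _ ok_e23 (by decide)) (k _ ok_e34 (by decide)))

/-- In the Mathieu group of degree 24 (realised as the automorphism group of the extended binary Golay code) every Sylow 2-subgroup is self-normalizing. -/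
theorem result (S : Sylow 2 ↥Cfsg.M24) : Subgroup.normalizer ((S : Subgroup ↥Cfsg.M24) : Set ↥Cfsg.M24) = (S : Subgroup ↥Cfsg.M24) := by
  let s : Matrix.SpecialLinearGroup (Fin 5) (ZMod 2) :=
    ⟨Matrix.transvection 0 1 1, Matrix.det_transvection_of_ne _ _ (by decide) _⟩
  obtain ⟨z, hz, ⟨e⟩⟩ := S2133.result s rfl
  have E := (embSL s rfl).transport hz e
  obtain ⟨P, hP⟩ := E.T_sylow.exists_sylow_eq
  obtain ⟨g, rfl⟩ := MulAction.exists_smul_eq Cfsg.M24 P S
  have h := normalizer_T E
  rw [← hP] at h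
  rw [Sylow.coe_subgroup_smul]
  have := congrArg (Subgroup.map (MulAut.conj g).toMonoidHom) h
  rw [Subgroup.map_equiv_normalizer_eq] at this
  exact this

end Cfsg.Agent.S2882
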