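import Cfsg.Statements.S2911
import Cfsg.Agent.Trans.TransferTools
import Cfsg.Agent.Trans.SylowIn

set_option autoImplicit false
open Cfsg

namespace Cfsg.Agent.S2911

open Subgroup Cfsg.Lib.Trans
open scoped commutatorElement

/-- A finite group whose Sylow 2-subgroups are isomorphic to the direct product of a group of order 2 and a dihedral group of order 8 has a subgroup of index two. -/
theorem result {G : Type*} [Group G] [Finite G] (S : Sylow 2 G) (hS : Nonempty (↥(S : Subgroup G) ≃* Multiplicative (ZMod 2) × DihedralGroup 4)) : ∃ H : Subgroup G, H.index = 2 := by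
  by_contra hne
  push Not at hne
  obtain ⟨e⟩ := hS
  let f : (S : Subgroup G) →* Multiplicative (ZMod 2) := (MonoidHom.fst _ _).comp e.toMonoidHom
  let T : Subgroup G := f.ker.map (S : Subgroup G).subtype
  have hT : ∀ x : (S : Subgroup G), (x : G) ∈ T ↔ f x = 1 := fun x => by
    constructor
    · rintro ⟨y, hy, h⟩
      rw [← Subtype.ext h]; exact hy
    · intro h; exact ⟨x, h, rfl⟩
  let y : (S : Subgroup G) := e.symm (Multiplicative.ofAdd 1, 1)
  have hey : e y = (Multiplicative.ofAdd 1, 1) := e.apply_symm_apply _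
  have hy : orderOf (y : G) = 2 := by
    rw [Subgroup.orderOf_coe, ← e.orderOf_eq, hey]
    exact orderOf_eq_prime (by decide) (by decide)
  have hres : pResidual 2 G = ⊤ := pResidual_two_eq_top_iff.2 (fun H => hne H)
  obtain ⟨a, h1, h2, h3⟩ := thompson_transfer_involution (H := (S : Subgroup G)) (T := T)
    S.not_dvd_index
    (fun x hx y hy => by
      have : ⁅x, y⁆ = ((⁅(⟨x, hx⟩ : (S : Subgroup G)), ⟨y, hy⟩⁆ : (S : Subgroup G)) : G) := rfl
      rw [this, hT, map_commutatorElement, commutatorElement_eq_one_iff_mul_comm, mul_comm])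
    (fun x hx => ⟨1, by
      have : x ^ 2 ^ 1 = (((⟨x, hx⟩ : (S : Subgroup G)) ^ 2 : (S : Subgroup G)) : G) := rfl
      rw [this, hT, map_pow]
      generalize f ⟨x, hx⟩ = z
      revert z; decide⟩) y hy
    (fun u hu v hv _ _ hu' hv' => by
      have : u * v = (((⟨u, hu⟩ : (S : Subgroup G)) * ⟨v, hv⟩ : (S : Subgroup G)) : G) := rfl
      rw [this, hT, map_mul]
      have h1 : f ⟨u, hu⟩ ≠ 1 := fun h => hu' ((hT ⟨u, hu⟩).2 h)
      have h2 : f ⟨v, hv⟩ ≠ 1 := fun h => hv' ((hT ⟨v, hv⟩).2 h)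
      generalize f ⟨u, hu⟩ = z at h1
      generalize f ⟨v, hv⟩ = w at h2
      revert z w; decide)
    (by rw [hres]; exact mem_sup_right (mem_top _)) S S.isPGroup'
    (fun r hr => by
      have : (⟨r, hr⟩ : (S : Subgroup G)) * y = y * ⟨r, hr⟩ := by
        apply e.injective
        rw [map_mul, map_mul, hey]
        generalize e ⟨r, hr⟩ = z
        exact Prod.ext (mul_comm _ _) (by simp)
      exact congrArg Subtype.val this)
  have hn : a⁻¹ ∈ normalizer ((S : Subgroup G) : Set G) := by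
    rw [← cj_eq_self_iff]
    refine Subgroup.eq_of_le_of_card_ge (cj_le_iff.2 fun t ht => by simpa using h3 t ht) (card_cj _ _).ge
  let φ : MulAut (S : Subgroup G) := (S : Subgroup G).normalizerMonoidHom ⟨a⁻¹, hn⟩
  have hφ : ((φ y : (S : Subgroup G)) : G) = a⁻¹ * y * a := by
    show a⁻¹ * y * a⁻¹⁻¹ = _
    rw [inv_inv]
  have hf : f (φ y) = 1 := (hT _).1 (hφ ▸ h2)
  let ψ := (e.symm.trans φ).trans e
  have hψ : (ψ (Multiplicative.ofAdd 1, 1)).1 = 1 := hf
  have key : ∀ w : Multiplicative (ZMod 2) × DihedralGroup 4, w.1 = 1 → (∀ v, v * w = w * v) →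
      ∃ u, u * u = w := by decide
  obtain ⟨u, hu⟩ := key _ hψ (fun v => by
    obtain ⟨v, rfl⟩ := ψ.surjective v
    rw [← map_mul, ← map_mul]
    congr 1
    exact Prod.ext (mul_comm _ _) (by simp))
  obtain ⟨u, rfl⟩ := ψ.surjective u
  rw [← map_mul] at hu
  have h5 := congrArg Prod.fst (ψ.injective hu)
  have : ∀ z : Multiplicative (ZMod 2), z * z ≠ Multiplicative.ofAdd 1 := by decide
  exact this _ h5

end Cfsg.Agent.S2911
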