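import Cfsg.Statements.S2918
import Cfsg.Agent.Recog.A8TP

set_option autoImplicit false
open Cfsg

namespace Cfsg.Agent.S2918

/-- Let G be a finite group with O²(G) = G and O₂(G) = O(G) = 1 whose Sylow 2-subgroups are isomorphic to those of the alternating group of degree 8, and suppose that the centralizer in G of every involution in the centre of a Sylow 2-subgroup is solvable. Then G is isomorphic to A₈, A₉ or PSp₄(3). -/
theorem result {G : Type*} [Group G] [Finite G] (hO2 : Cfsg.pResidual 2 G = ⊤) (hcore2 : Cfsg.pCore 2 G = ⊥) (hodd : Cfsg.oddCore G = ⊥) (S : Sylow 2 G) (hS : ∀ P : Sylow 2 ↥(alternatingGroup (Fin 8)), Nonempty (↥(S : Subgroup G) ≃* ↥(P : Subgroup ↥(alternatingGroup (Fin 8))))) (hsol : ∀ z : G, z ∈ (S : Subgroup G) → (∀ s ∈ (S : Subgroup G), s * z = z * s) → orderOf z = 2 → IsSolvable ↥(Subgroup.centralizer ({z} : Set G))) : Nonempty (G ≃* ↥(alternatingGroup (Fin 8))) ∨ Nonempty (G ≃* ↥(alternatingGroup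 (Fin 9))) ∨ (∃ (F : Type) (_ : Field F) (_ : Fintype F), Fintype.card F = 3 ∧ Nonempty (G ≃* Cfsg.PSp 2 F)) := by
  obtain ⟨D, hD⟩ := Cfsg.Lib.Recog.A8T.exists_sd S hS
  refine (D.main (hsol _ (hD ▸ ⟨_, rfl⟩) (fun s hs => ?_)
    (D.ord Cfsg.Lib.Recog.A8T.Sy.z_sq (by decide))) (Cfsg.Lib.Trans.pResidual_two_eq_top_iff.1 hO2)
    hcore2 hodd).imp_right (Or.imp_right fun e => ⟨ZMod 3, inferInstance, inferInstance, rfl, e⟩)
  obtain ⟨s, rfl⟩ := hD.ge hs
  exact D.mem_H.1 (D.ψ_mem s)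

end Cfsg.Agent.S2918
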