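import Cfsg.Statements.S2930
import Cfsg.Agent.Perm.ThreeGen2
import Cfsg.Agent.Char.Wreath
import Cfsg.Agent.Solv.FrattiniP
import Cfsg.Agent.S4231

set_option autoImplicit false
open Cfsg

namespace Cfsg.Agent.S2930

open Cfsg.Lib Cfsg.Lib.Perm.ThreeGen Cfsg.Lib.Trans Cfsg.Lib.Char.Wreath Equiv Equiv.Perm Subgroup
  MulAction
open scoped Pointwise

section

theorem smul_mem_orbit_iff {G β : Type*} [Group G] [MulAction G β] (g : G) {x y : β} :
    g • y ∈ orbit G x ↔ y ∈ orbit G x :=
  ⟨fun h => by simpa using mem_orbit_of_mem_orbit g⁻¹ h, mem_orbit_of_mem_orbit g⟩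

theorem le_of_not_dvd {G : Type*} [Group G] [Finite G] {p : ℕ} [hp : Fact p.Prime]
    {Q K : Subgroup G} [K.Normal] (hQ : IsPGroup p Q) (h : ¬ p ∣ K.index) : Q ≤ K := fun x hx => by
  obtain ⟨k, hk⟩ := hQ ⟨x, hx⟩
  have h1 : (x : G ⧸ K) ^ p ^ k = 1 := by
    rw [← QuotientGroup.mk_pow, show x ^ p ^ k = 1 from congrArg Subtype.val hk, QuotientGroup.mk_one]
  rw [← QuotientGroup.eq_one_iff, ← orderOf_eq_one_iff]
  exact Nat.eq_one_of_dvd_coprimes (((Nat.Prime.coprime_iff_not_dvd hp.out).mpr h).pow_left k)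
    (orderOf_dvd_of_pow_eq_one h1) (orderOf_dvd_natCard _)

variable {α : Type} [Fintype α] [DecidableEq α]

instance : Fact (Nat.Prime 3) := ⟨Nat.prime_three⟩

omit [DecidableEq α] in
theorem ncard_orbit {P : Subgroup (Perm α)} (hP : IsPGroup 3 P) (x : α) :
    ∃ k, (orbit P x).ncard = 3 ^ k := hP.card_orbit x

theorem support_eq {P : Subgroup (Perm α)} (hP : IsPGroup 3 P) {c d : Perm α} (hc : c ∈ P)
    (hd : d ∈ P) (hc3 : c.IsThreeCycle) (hd3 : d.IsThreeCycle) {z : α} (h1 : z ∈ c.support)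
    (h2 : z ∈ d.support) : c.support = d.support := by
  have hle : closure {c, d} ≤ P := (closure_le _).mpr (by rintro _ (rfl | rfl) <;> assumption)
  obtain ⟨k, hk⟩ := ncard_orbit (hP.to_le hle) z
  have h3 : orbit (closure {c, d}) z ⊆ ↑(c.support ∪ d.support) := by
    rintro _ ⟨g, rfl⟩
    by_cases h : (g : Perm α) z = z
    · exact Finset.mem_coe.mpr (Finset.mem_union_left _ (show (g : Perm α) z ∈ _ from h.symm ▸ h1))
    · exact support_subset_of_mem_closure (s := c.support ∪ d.support)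
        (by rintro _ (rfl | rfl) <;> simp) g.2 (apply_mem_support.mpr (mem_support.mpr h))
  have h4 : ∀ e ∈ ({c, d} : Set (Perm α)), e.IsThreeCycle → z ∈ e.support →
      orbit (closure {c, d}) z = e.support := fun e he he3 hz => by
    have h5 : ↑e.support ⊆ orbit (closure {c, d}) z := fun y hy => by
      obtain ⟨i, rfl⟩ := he3.isCycle.exists_zpow_eq (mem_support.mp hz) (mem_support.mp hy)
      exact ⟨⟨e ^ i, zpow_mem (subset_closure he) i⟩, rfl⟩
    refine (Set.eq_of_subset_of_ncard_le h5 ?_).symm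
    have h6 := Set.ncard_le_ncard h3
    have h7 := Set.ncard_le_ncard h5
    have h8 := Finset.card_union_le c.support d.support
    rw [Set.ncard_coe_finset] at h6 h7 ⊢
    rw [hc3.card_support, hd3.card_support] at h8
    rw [he3.card_support, hk] at *
    rcases k with _ | _ | k
    · omega
    · omega
    · have := Nat.one_le_pow k 3 (by omega)
      omega
  exact Finset.coe_injective ((h4 c (by simp) hc3 h1).symm.trans (h4 d (by simp) hd3 h2))

theorem exists_cycle (P : Sylow 3 (Perm α)) (hf : ∀ x, ∃ g ∈ (P : Subgroup (Perm α)), g x ≠ x)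
    (x : α) : ∃ c ∈ (P : Subgroup (Perm α)), c.IsThreeCycle ∧ x ∈ c.support := by
  classical
  let U : Finset α := Finset.univ.filter fun x =>
    ¬ ∃ c ∈ (P : Subgroup (Perm α)), c.IsThreeCycle ∧ x ∈ c.support
  have hU : ∀ g ∈ (P : Subgroup (Perm α)), ∀ y ∈ U, g y ∈ U := fun g hg y hy =>
    Finset.mem_filter.mpr ⟨Finset.mem_univ _, fun ⟨c, hc, h1, h2⟩ => (Finset.mem_filter.mp hy).2
      ⟨g⁻¹ * c * g⁻¹⁻¹, mul_mem (mul_mem (inv_mem hg) hc) (inv_mem (inv_mem hg)),
        by rw [IsThreeCycle, cycleType_conj]; exact h1,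
        by rw [support_conj]; exact Finset.mem_map.mpr ⟨_, h2, by simp⟩⟩⟩
  by_contra h
  have hx : x ∈ U := Finset.mem_filter.mpr ⟨Finset.mem_univ _, h⟩
  by_cases h3 : 3 ≤ U.card
  · obtain ⟨d, hd, hds, hdx⟩ := exists_threeCycle h3 hx
    have h4 : ∀ g : Perm α, (∀ y ∈ U, g y ∈ U) → g ∈ stabilizer (Perm α) U := fun g hg =>
      Finset.eq_of_subset_of_card_le (Finset.smul_finset_subset_iff.mpr fun y hy =>
        Finset.mem_inv_smul_finset_iff.mpr (hg y hy)) (Finset.card_smul_finset g U).ge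
    obtain ⟨g, hg, hgP⟩ := exists_conj_mem P (fun g hg => h4 g (hU g hg))
      (h4 d fun y hy => (em (d y = y)).elim (fun h => h.symm ▸ hy)
        fun h => hds (apply_mem_support.mpr (mem_support.mpr h))) (k := 1) hd.orderOf
    have h5 : g x ∈ U := mem_stabilizer_iff.mp hg ▸ Finset.smul_mem_smul_finset hx
    exact (Finset.mem_filter.mp h5).2 ⟨_, hgP, by rw [IsThreeCycle, cycleType_conj]; exact hd,
      by rw [support_conj]; exact Finset.mem_map.mpr ⟨_, mem_support.mpr hdx, rfl⟩⟩
  · obtain ⟨k, hk⟩ := ncard_orbit P.isPGroup' x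
    obtain ⟨g, hg, hgx⟩ := hf x
    have h4 := Set.ncard_le_ncard (show orbit (P : Subgroup (Perm α)) x ⊆ U by
      rintro _ ⟨g, rfl⟩
      exact hU g g.2 x hx)
    have h5 := Set.ncard_le_ncard (show {g x, x} ⊆ orbit (P : Subgroup (Perm α)) x by
      rintro _ (rfl | rfl)
      · exact ⟨⟨g, hg⟩, rfl⟩
      · exact mem_orbit_self _)
    rw [Set.ncard_pair hgx, hk] at h5
    rw [Set.ncard_coe_finset, hk] at h4
    rcases k with _ | k
    · omega
    · have := Nat.one_le_pow k 3 (by omega)
      omega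

theorem exists_triples (P : Sylow 3 (Perm α)) (hf : ∀ x, ∃ g ∈ (P : Subgroup (Perm α)), g x ≠ x) :
    ∃ (m : ℕ) (f : α → Fin m), (∀ i, Nat.card {x // f x = i} = 3) ∧
      (P : Subgroup (Perm α)) ≤ partStab f := by
  classical
  choose c hc hc3 hx using exists_cycle P hf
  have h1 : ∀ x y, (c x).support = (c y).support ↔ x ∈ (c y).support := fun x y =>
    ⟨fun h => h ▸ hx x, support_eq P.isPGroup' (hc x) (hc y) (hc3 x) (hc3 y) (hx x)⟩
  let e := Fintype.equivFin (Set.range fun x => (c x).support)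
  refine ⟨_, fun x => e ⟨_, x, rfl⟩, fun i => ?_, fun g hg x y => ?_⟩
  · obtain ⟨⟨_, y, rfl⟩, rfl⟩ := e.surjective i
    exact (Nat.card_congr (Equiv.subtypeEquivRight fun x =>
      e.injective.eq_iff.trans (Subtype.ext_iff.trans (h1 x y)))).trans
      ((Nat.card_eq_finsetCard _).trans (hc3 y).card_support)
  · have h2 : ∀ x, (c (g x)).support = (c x).support.map g.toEmbedding := fun x => by
      rw [← support_conj]
      exact support_eq P.isPGroup' (hc _) (mul_mem (mul_mem hg (hc x)) (inv_mem hg)) (hc3 _)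
        (by rw [IsThreeCycle, cycleType_conj]; exact hc3 x) (hx _)
        (by rw [support_conj]; exact Finset.mem_map_of_mem _ (hx x))
    refine (e.injective.eq_iff.trans Subtype.ext_iff).trans
      (Iff.trans ?_ (e.injective.eq_iff.trans Subtype.ext_iff).symm)
    simp only [h2, Finset.map_inj]

theorem cyc_mem {ι : Type*} {f : α → ι} {x y w : α} (hxy : x ≠ y) (hxw : x ≠ w) (hyw : y ≠ w)
    (h1 : f x = f y) (h2 : f x = f w) :
    swap x w * swap x y ∈ partStab f ⊓ alternatingGroup α :=
  ⟨mul_mem (swap_mem h2) (swap_mem h1),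
    (isThreeCycle_swap_mul_swap_same hxw hxy hyw.symm).mem_alternatingGroup⟩

theorem main (h5 : 5 ≤ Fintype.card α) (P : Sylow 3 (Perm α))
    (hu : ∀ H K : Subgroup (Perm α), (P : Subgroup (Perm α)) ≤ H → (P : Subgroup (Perm α)) ≤ K →
      IsCoatom (H.subgroupOf (alternatingGroup α)) → ¬ alternatingGroup α ≤ K →
      K ⊓ alternatingGroup α ≤ H) :
    Fintype.card α = 6 ∨ Fintype.card α = 9 ∨ ∃ a : ℕ, 2 ≤ a ∧ Fintype.card α = 3 ^ a + 1 := by
  classical
  have hK : ∀ {ι : Type} (f : α → ι) {x y z : α}, x ≠ y → f x = f y → f x ≠ f z →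
      ¬ alternatingGroup α ≤ partStab f := fun f x y z hxy h1 h2 h => by
    obtain ⟨g, hg, h3, h4⟩ := Perm.SymSyl.alt_two_trans (by omega) hxy (ne_of_apply_ne f h2)
    exact h2 (by simpa [h3, h4] using (h hg x y).mp h1)
  have hO : ∀ x, (P : Subgroup (Perm α)) ≤
      partStab fun y => y ∈ orbit (P : Subgroup (Perm α)) x := fun x g hg =>
    mem_of_lift 1 fun z => propext (smul_mem_orbit_iff (⟨g, hg⟩ : (P : Subgroup (Perm α))))
  by_cases hf : ∀ x, ∃ g ∈ (P : Subgroup (Perm α)), g x ≠ x
  · obtain ⟨m, f, hf3, hPf⟩ := exists_triples P hf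
    obtain ⟨e, -⟩ := exists_equiv hf3
    have hn : Fintype.card α = m * 3 := by simpa using Fintype.card_congr e
    have hc := isCoatom_alt (by omega) (by omega) (show 2 ≤ m by omega) hf3
    rw [inf_subgroupOf_right] at hc
    have key : ∀ {ι : Type} [Fintype ι] (f' : α → ι), (P : Subgroup (Perm α)) ≤ partStab f' →
        (∃ x z, f' x ≠ f' z) → Fintype.card α ≤ Fintype.card ι * 3 := by
      intro ι _ f' h1 ⟨u, v, huv⟩
      by_contra h2
      obtain ⟨i, hi⟩ := Fintype.exists_lt_card_fiber_of_mul_lt_card f' (not_le.mp h2)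
      obtain ⟨x, hx⟩ := Finset.card_pos.mp (lt_of_le_of_lt (Nat.zero_le _) hi)
      have h3 : (Finset.univ.filter fun y => f y = f x).card = 3 := by
        rw [← hf3 (f x), Nat.card_eq_fintype_card, Fintype.card_subtype]
      obtain ⟨y, hy, hyx⟩ := Finset.exists_mem_notMem_of_card_lt_card (h3 ▸ hi)
      obtain ⟨w, hw, hw'⟩ := Finset.exists_mem_notMem_of_card_lt_card
        (lt_of_le_of_lt (Finset.card_le_two (a := x) (b := y)) (lt_trans (by norm_num) hi))
      obtain ⟨u', hu', hu''⟩ := exists_fibre hf3 {x, w} (Finset.card_le_two.trans_lt (by norm_num))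
        (f x)
      simp only [Finset.mem_filter, Finset.mem_univ, true_and, Finset.mem_insert,
        Finset.mem_singleton, not_or] at hx hy hyx hw hw' hu''
      have hxy : x ≠ y := fun h => hyx (h ▸ rfl)
      have h4 := hu _ _ hPf h1 hc ((em (f' x = f' u)).elim
        (fun h => hK f' hxy (hx.trans hy.symm) (z := v) (h ▸ huv))
        fun h => hK f' hxy (hx.trans hy.symm) h)
        (cyc_mem hxy (Ne.symm hw'.1) (Ne.symm hw'.2) (hx.trans hy.symm) (hx.trans hw.symm)) x u'
      have hu3 : u' ≠ y := fun h => hyx (h ▸ hu')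
      rw [Perm.mul_apply, Perm.mul_apply, swap_apply_left, swap_apply_of_ne_of_ne hxy.symm
        (Ne.symm hw'.2), swap_apply_of_ne_of_ne hu''.1 hu3,
        swap_apply_of_ne_of_ne hu''.1 hu''.2] at h4
      exact hyx ((h4.mp hu'.symm).trans hu')
    obtain ⟨a⟩ : Nonempty α := Fintype.card_pos_iff.mp (by omega)
    by_cases ht : ∀ x, x ∈ orbit (P : Subgroup (Perm α)) a
    · obtain ⟨k, hk⟩ := ncard_orbit P.isPGroup' a
      rw [Set.eq_univ_of_forall ht, Set.ncard_univ, Nat.card_eq_fintype_card] at hk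
      obtain ⟨Q, hQ, hle⟩ := (eq_top_or_exists_le_coatom
        (stabilizer (P : Subgroup (Perm α)) a)).resolve_left fun h => by
          obtain ⟨g, hg, hga⟩ := hf a
          exact hga (h.ge (mem_top (⟨g, hg⟩ : (P : Subgroup (Perm α)))))
      choose g hg using ht
      have h1 : ∀ h : (P : Subgroup (Perm α)), (g (h • a) : (P : Subgroup (Perm α)) ⧸ Q) = h :=
        fun h => QuotientGroup.eq.mpr (hle (by
          rw [mem_stabilizer_iff, mul_smul, inv_smul_eq_iff]
          exact (hg _).symm))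
      have h2 := key (fun x => (g x : (P : Subgroup (Perm α)) ⧸ Q))
        (fun h hh => mem_of_lift (MulAction.toPerm (⟨h, hh⟩ : (P : Subgroup (Perm α)))) fun z => by
          have := h1 (⟨h, hh⟩ * g z)
          rw [mul_smul, show g z • a = z from hg z] at this
          exact this) (by
          obtain ⟨h, hh⟩ := SetLike.exists_of_lt hQ.lt_top
          refine ⟨(1 : (P : Subgroup (Perm α))) • a, h • a, ?_⟩
          rw [h1, h1, Ne, QuotientGroup.eq, inv_one, one_mul]
          exact hh.2)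
      have h3 := Solv.index_eq_of_isCoatom_of_isPGroup P.isPGroup' hQ
      rw [← Nat.card_eq_fintype_card (α := _ ⧸ Q), ← index_eq_card, h3] at h2
      omega
    · push Not at ht
      obtain ⟨x, hx⟩ := ht
      have h2 := key _ (hO a) ⟨a, x, fun h => hx (cast h (mem_orbit_self a))⟩
      rw [Fintype.card_prop] at h2
      omega
  push Not at hf
  obtain ⟨a, ha⟩ := hf
  have := alternatingGroup.isPreprimitive_of_three_le_card α
    (by rw [Nat.card_eq_fintype_card]; omega)
  have : Nontrivial α := Fintype.one_lt_card_iff_nontrivial.mp (by omega)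
  have hc : IsCoatom ((stabilizer (Perm α) a).subgroupOf (alternatingGroup α)) :=
    IsPreprimitive.isCoatom_stabilizer_of_isPreprimitive (alternatingGroup α) a
  have key : ∀ x, x ≠ a → ∀ y w, y ≠ a → w ≠ a → y ≠ w → y ∉ orbit (P : Subgroup (Perm α)) x →
      w ∉ orbit (P : Subgroup (Perm α)) x → False := fun x hx y w hy hw hyw h1 h2 => by
    have h3 : a ∉ orbit (P : Subgroup (Perm α)) x := fun h => by
      obtain ⟨g, hg⟩ := (mem_orbit_symm.mp h)
      exact hx (hg.symm.trans (ha g g.2))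
    have h4 := hu _ _ ha (hO x) hc (hK _ hy.symm (propext (iff_of_false h3 h1)) (z := x)
      fun h => h3 (cast h.symm (mem_orbit_self x))) (cyc_mem hy.symm hw.symm hyw
        (propext (iff_of_false h3 h1)) (propext (iff_of_false h3 h2)))
    rw [mem_stabilizer_iff, Perm.smul_def, Perm.mul_apply, swap_apply_left,
      swap_apply_of_ne_of_ne hy hyw] at h4
    exact hy h4
  have hf : ∀ b, b ≠ a → ∃ g ∈ (P : Subgroup (Perm α)), g b ≠ b := fun b hb => by
    by_contra h
    push Not at h
    obtain ⟨y, hy, w, hw, hyw⟩ := Finset.one_lt_card.mp (show 1 < ({a, b}ᶜ : Finset α).card by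
      have := Finset.card_add_card_compl ({a, b} : Finset α)
      have := Finset.card_le_two (a := a) (b := b)
      omega)
    simp only [Finset.mem_compl, Finset.mem_insert, Finset.mem_singleton, not_or] at hy hw
    exact key b hb y w hy.1 hw.1 hyw (fun ⟨g, hg⟩ => hy.2 (hg.symm.trans (h g g.2)))
      fun ⟨g, hg⟩ => hw.2 (hg.symm.trans (h g g.2))
  obtain ⟨x, hx⟩ := exists_ne a
  obtain ⟨k, hk⟩ := ncard_orbit P.isPGroup' x
  have h1 : orbit (P : Subgroup (Perm α)) x = {a}ᶜ := by
    refine Set.Subset.antisymm ?_ fun y hy => by_contra fun h => ?_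
    · rintro _ ⟨g, rfl⟩ h
      exact hx ((g : Perm α).injective (h.trans (ha g g.2).symm))
    · obtain ⟨g, hg, hgy⟩ := hf y hy
      exact key x hx y (g y) hy (fun h => hy (g.injective (h.trans (ha g hg).symm))) hgy.symm h
        (mt (smul_mem_orbit_iff (⟨g, hg⟩ : (P : Subgroup (Perm α)))).mp h)
  have h2 := Set.ncard_add_ncard_compl ({a} : Set α)
  rw [← h1, hk, Set.ncard_singleton, Nat.card_eq_fintype_card] at h2
  refine Or.inr (Or.inr ⟨k, ?_, by omega⟩)
  rcases k with _ | _ | k <;> omega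

end


/-- Let X be a finite 3-minimal group (a Sylow 3-subgroup is not normal and lies in a unique maximal subgroup) whose generalized Fitting subgroup is isomorphic to an alternating group of degree n ≥ 5. Then X = F*(X), and n = 6, n = 9, or n = 3ᵃ + 1 for some a ≥ 2. -/
theorem result {X : Type*} [Group X] [Finite X] (hX : Cfsg.IsPMinimal 3 X) (n : ℕ) (hn : 5 ≤ n) (hF : Nonempty (↥(Cfsg.generalizedFittingSubgroup X) ≃* ↥(alternatingGroup (Fin n)))) : Cfsg.generalizedFittingSubgroup X = ⊤ ∧ (n = 6 ∨ n = 9 ∨ ∃ a : ℕ, 2 ≤ a ∧ n = 3 ^ a + 1) := by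
  obtain ⟨e⟩ := hF
  have hs : IsSimpleGroup (alternatingGroup (Fin n)) := alternatingGroup.isSimpleGroup (by simpa)
  have : Nontrivial (Fin n) := Fin.nontrivial_iff_two_le.mpr (by omega)
  have htop : generalizedFittingSubgroup X = ⊤ := by
    by_contra h
    obtain ⟨S⟩ : Nonempty (Sylow 3 X) := inferInstance
    obtain ⟨h1, M, hM, hu⟩ := hX S
    have h2 : Function.Injective (MulAut.conjNormal (H := generalizedFittingSubgroup X)) := by
      refine (injective_iff_map_eq_one _).mpr fun x hx => ?_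
      have h3 : x ∈ centralizer (generalizedFittingSubgroup X : Set X) := fun t ht =>
        (mul_inv_eq_iff_eq_mul.mp (congrArg (fun k : MulAut (generalizedFittingSubgroup X) =>
          (k ⟨t, ht⟩ : X)) hx)).symm
      have h4 : e ⟨x, centralizer_genFitting_le X h3⟩ ∈ center (alternatingGroup (Fin n)) :=
        mem_center_iff.mpr fun y => by
          obtain ⟨y, rfl⟩ := e.surjective y
          rw [← map_mul, ← map_mul]
          exact congrArg e (Subtype.ext (h3 y y.2))
      rw [alternatingGroup.center_eq_bot (by simp; omega), mem_bot, map_eq_one_iff _ e.injective] at h4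
      exact congrArg Subtype.val h4
    have h3 := (card_dvd_of_injective _ h2).trans
      ((Nat.card_congr (MulAut.congr e).toEquiv).dvd.trans (S4231.card_dvd n hn))
    have h4 := two_mul_nat_card_alternatingGroup (α := Fin n)
    rw [Nat.card_perm, Nat.card_eq_fintype_card (α := Fin n), Fintype.card_fin,
      ← Nat.card_congr e.toEquiv] at h4
    rw [← h4, ← (generalizedFittingSubgroup X).index_mul_card, ← mul_assoc] at h3
    have h5 := Nat.dvd_of_mul_dvd_mul_right Nat.card_pos h3
    have h6 : (S : Subgroup X) ≤ generalizedFittingSubgroup X :=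
      le_of_not_dvd S.isPGroup' fun h => absurd (h.trans h5) (by decide)
    have key : ∀ K : Subgroup X, K ≠ ⊤ → (S : Subgroup X) ≤ K → K ≤ M := fun K hK hSK => by
      obtain ⟨M', h7, h8⟩ := (eq_top_or_exists_le_coatom K).resolve_left hK
      exact hu M' ⟨h7, hSK.trans h8⟩ ▸ h8
    exact hM.1.1 (top_le_iff.mp ((S.normalizer_sup_eq_top' h6).ge.trans (sup_le
      (key _ (mt normalizer_eq_top_iff.mp h1) le_normalizer) (key _ h h6))))
  refine ⟨htop, ?_⟩
  let e' : X ≃* alternatingGroup (Fin n) :=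
    (topEquiv.symm.trans (MulEquiv.subgroupCongr htop.symm)).trans e
  obtain ⟨P⟩ : Nonempty (Sylow 3 (Perm (Fin n))) := inferInstance
  have hP : (P : Subgroup (Perm (Fin n))) ≤ alternatingGroup (Fin n) :=
    le_of_not_dvd P.isPGroup' (by rw [alternatingGroup.index_eq_two]; decide)
  obtain ⟨-, M, -, hu⟩ := hX ((P.subtype hP).comapOfInjective e'.toMonoidHom e'.injective
    fun x _ => e'.surjective x)
  have := main (by simpa) P fun H K hH hK hc hK' => by
    obtain ⟨M', h7, h8⟩ := (eq_top_or_exists_le_coatom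
      (K.subgroupOf (alternatingGroup (Fin n)))).resolve_left (by rwa [subgroupOf_eq_top])
    have h1 := hu _ ⟨isCoatom_comap_of_surjective e'.surjective h7, fun x hx => h8 (hK hx)⟩
    have h2 := hu _ ⟨isCoatom_comap_of_surjective e'.surjective hc, fun x hx => hH hx⟩
    rw [comap_injective e'.surjective (h1.trans h2.symm)] at h8
    exact fun x hx => h8 (show (⟨x, hx.2⟩ : alternatingGroup (Fin n)) ∈ _ from hx.1)
  simpa using this

end Cfsg.Agent.S2930
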