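import Cfsg.Statements.S2931
import Cfsg.Agent.Recog.A8TModel
import Cfsg.Agent.Class.FieldIso
import Cfsg.Agent.S0288
import Cfsg.Agent.LX.P43

set_option autoImplicit false
open Cfsg

namespace Cfsg.Agent.S2931

open Matrix

theorem graph {A B M N : Type*} [Group A] [Group B] [Monoid M] [Monoid N] (c : A →* M) (d : B →* N)
    (hc : Function.Injective c) (hd : Function.Injective d) {n k : ℕ} [NeZero n] (a : Fin k → A) (b : Fin k → B)
    (ha : ∀ j, a j * a j = 1) (hb : ∀ j, b j * b j = 1) (x : Fin n → M) (y : Fin n → N)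
    (r : Fin n → Fin k → Fin n) (x0 : x 0 = 1) (y0 : y 0 = 1) (hx : ∀ i j, x (r i j) = x i * c (a j))
    (hy : ∀ i j, y (r i j) = y i * d (b j)) (xi : Function.Injective x) (yi : ∀ i, y i = 1 → i = 0)
    (tree : ∀ i, i = 0 ∨ ∃ j i', i' < i ∧ r i' j = i) :
    ∃ D : Subgroup (A × B), Nat.card D = n ∧ Function.Injective ((MonoidHom.fst A B).comp D.subtype) ∧
      Function.Injective ((MonoidHom.snd A B).comp D.subtype) := by
  let D : Subgroup (A × B) := Subgroup.closure (Set.range fun j => (a j, b j))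
  have h1 : ∀ g ∈ D, ∃ i, c g.1 = x i ∧ d g.2 = y i := by
    intro g hg
    induction hg using Subgroup.closure_induction_right with
    | one => exact ⟨0, by simp [x0], by simp [y0]⟩
    | mul_right g _ s hs ih =>
      obtain ⟨j, rfl⟩ := hs
      obtain ⟨i, h1, h2⟩ := ih
      exact ⟨r i j, by simp [hx, h1], by simp [hy, h2]⟩
    | mul_inv_cancel g _ s hs ih =>
      obtain ⟨j, rfl⟩ := hs
      obtain ⟨i, h1, h2⟩ := ih
      exact ⟨r i j, by simp [hx, h1, inv_eq_of_mul_eq_one_right (ha j)],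
        by simp [hy, h2, inv_eq_of_mul_eq_one_right (hb j)]⟩
  have h2 : ∀ i, ∃ g ∈ D, c g.1 = x i ∧ d g.2 = y i := by
    intro i
    induction i using WellFoundedLT.induction with
    | ind i ih =>
      rcases tree i with rfl | ⟨j, i', h, rfl⟩
      · exact ⟨1, one_mem _, by simp [x0], by simp [y0]⟩
      · obtain ⟨g, hg, e1, e2⟩ := ih i' h
        exact ⟨g * (a j, b j), mul_mem hg (Subgroup.subset_closure ⟨j, rfl⟩), by simp [hx, e1],
          by simp [hy, e2]⟩
  choose f hf using h2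
  refine ⟨D, ?_, (injective_iff_map_eq_one _).2 fun g hg => ?_, (injective_iff_map_eq_one _).2 fun g hg => ?_⟩
  · rw [← Nat.card_eq_of_bijective (fun i => (⟨f i, (hf i).1⟩ : D)) ⟨fun i j e => xi ?_, fun g => ?_⟩,
      Nat.card_fin]
    · rw [← (hf i).2.1, ← (hf j).2.1, show f i = f j from congrArg Subtype.val e]
    · obtain ⟨i, e1, e2⟩ := h1 g g.2
      exact ⟨i, Subtype.ext (Prod.ext (hc ((hf i).2.1.trans e1.symm)) (hd ((hf i).2.2.trans e2.symm)))⟩
  · obtain ⟨i, e1, e2⟩ := h1 g g.2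
    have h : g.1.1 = 1 := hg
    rw [h, map_one, ← x0] at e1
    rw [← xi e1, y0, ← map_one d] at e2
    exact Subtype.ext (Prod.ext h (hd e2))
  · obtain ⟨i, e1, e2⟩ := h1 g g.2
    have h : g.1.2 = 1 := hg
    rw [h, map_one] at e2
    rw [yi i e2.symm, x0, ← map_one c] at e1
    exact Subtype.ext (Prod.ext (hc e1) h)

theorem syl {M G : Type*} [Group M] [Group G] [Finite G] (f : M →* G) (hf : Function.Injective f)
    {k m : ℕ} (hM : Nat.card M = 2 ^ k) (hG : Nat.card G = 2 ^ k * m) (hm : ¬ 2 ∣ m) (P : Sylow 2 G) :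
    Nonempty (M ≃* P) := by
  have e := MonoidHom.ofInjective hf
  have h1 : Nat.card f.range = 2 ^ k := by rw [← hM, Nat.card_congr e.toEquiv]
  have h2 : f.range.index = m := by
    have := f.range.card_mul_index
    rw [h1, hG] at this
    exact Nat.eq_of_mul_eq_mul_left (by positivity) this
  let Q : Sylow 2 G := (IsPGroup.of_card h1).toSylow (h2 ▸ hm)
  exact ⟨e.trans (Q.equiv P)⟩

/-- Index type. -/
abbrev I := (Fin 2 ⊕ Fin 2) ⊕ Fin 2

/-- Position of an index. -/
def pos : I → ℕ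
  | .inl (.inl i) => i
  | .inl (.inr i) => 2 + i
  | .inr i => 4 + i

/-- Permutations. -/
def xt (i : Fin 128) (k : Fin 8) : Fin 8 := Fin.ofNat 8 (0xde54c1de54c8de5053dec4c19774c14c1de5de5213dec4c89774c84c8de5de505adec053977053053de5b374c14c1dec97e4c14c1977de521adec213977213213de5b374c84c8dec97e4c84c8977de5681dec05a97705a05ade5b37053053dec97e053053977b3e4c14c1b37fa54c14c197ede5688dec21a97721a21ade5b37213213dec97e213213977b3e4c84c8b37fa54c84c897edec681977681681de5b3705a05adec97e05a05a977b3e053053b37fa505305397e4c1b3e4c1fa5dec688977688688de5b3721a21adec97e21a21a977b3e213213b37fa521321397e4c8b3e4c8fa5b37681681dec97e681681977b3e05a05ab37fa505a05a97e053b3e053fa54c1facb37688688dec97e688688977b3e21a21ab37fa521a21a97e213b3e213fa54c8facb3e681681b37fa568168197e05ab3e05afa5053facfac4c1b3e688688b37fa568868897e21ab3e21afa5213facfac4c8681b3e681fa505afacfac053688b3e688fa521afacfac213681facfac05a688facfac21afac681fac688 >>> (3 * (8 * i.1 + k.1)))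

/-- Matrices. -/
def yt (i : Fin 128) : Matrix I I (ZMod 2) := fun u v => Fin.ofNat 2 (0xa1820cdc9c50215081996d4213a8342040a51cad5e95bd31225095fe3d5b30fe7c21dded8ffd7ab6e639209ddd4f2d7775e4c7d7732bd3922dad59a3d77b7aca6d6bb77f2822ddcc5bfd4f26e1ffd6b31b287d6e56b2b2d6e11e43120979d296d5b94f593d4f942420201084c8ad6b05b58ad7a12e83c204bad9a3d4254ff202253cc4f2d4206bf282257844c7d4295e631201e9da102047898d3d7a042ca6d5e102e5021d6c18cad4f56ee7421d6e5fd6d5b77a628201e84fc7d6e25e620201accff2d6eb6bf392253d5e58215ac11e6d5e2778d3d4f337818204b89cbfd5e75ba1020c6c1c93d6b042f2022db84d3122de9d996d7724f42820978483c20c3e54202093cc83420caed2a3d6e54fc5821de81593d7a7774392016ddc58215b895a6d4f2774282016cc4392093d52a3d5b07ad2022daccc7421deadd2822de84c7c21d7a54d6d7777a81020c3c91e6d6b542f3122db951ffd5e26ed392256dd8e6d7ab77c93d5e777639201ad5a18204e81fc7d5b32be74215aede7c2153e5fd6d6e24f620209b848cad7a05b631209b951d3d5e9428e6d4f542f3122579de502153c99b2d4211ea3c2047a5a34204ead4e3d4207ad282256cc58ad4f95b1cad6b56ec742150a55a6d7a102c5021d789287d5b95e2b2d5b06bc7c215badcbfd6bb6e5bfd7a75ba3c20cded1d3d6b33781820cac19b2d77b6b987d7725ea3420c6e58ffd4f31b628209dccfe3d6eb7aff2d5b75ec8ad5e12ed202250844d6d4294f987d4256b431201095296d6e13af3922dddd4e3d7730fe5821ddc9810204081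 >>> (36 * i.1 + 6 * pos u + pos v))

/-- Right multiplication. -/
def rt (i : Fin 128) (j : Fin 3) : Fin 128 := Fin.ofNat 128 (0xf5f7f76f3ff97febc3a78ddcfbffddc357edba367ccdafdfecda3165fb83e64bdef1fdbd82e61d3f2e7ab57f3fbf56ab59f353c58a5debf9a552855e3e28769d4f7f7ed3a5f5b3266f48f339f58f262f195d22f287be473e50e146a3c784283127ef83b9f6dcaf206c74ff5ed74f1c697bb1c6a6d9ddebd4d9ab9bba743568dede7699996480c31bfcac192e678722ec4b18dfc78962bbabf0e056aadadbeaaf5d5372dda529ec4d4b5e6594a9d1a8ab611d6429a9d7ac850514956a203f3d1533f4a89ea13e71e392944d392cd484d3259a327634a9264c1b8920c478c5e2c4865cb428251eb38051f1276c5fbe2444ab97af089026ddd9074e47b86ed878e6ad06af2acd90d18b49b118c178b5cb560b14ad52914384a43aa13891088da6109520746890870c80f9e0c58e85386cd050864c172c10a83284c903044480f1c0808d182c08a00244070018284000c101 >>> (7 * (3 * i.1 + j.1)))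

/-- Generators. -/
def ga : Fin 3 → Equiv.Perm (Fin 8) := ![Equiv.swap 0 1, Equiv.swap 0 2 * Equiv.swap 1 3,
  Equiv.swap 0 4 * Equiv.swap 1 5 * Equiv.swap 2 6 * Equiv.swap 3 7]

theorem yt_sq : ∀ j : Fin 3, yt (rt 0 j) * yt (rt 0 j) = 1 := by decide +kernel

theorem yt_iso : ∀ (j : Fin 3) (p q r s t u : ZMod 2),
    quadFormMinus 2 (ZMod 2) 1 1 (yt (rt 0 j) *ᵥ Sum.elim (Sum.elim ![p, q] ![r, s]) ![t, u]) =
      quadFormMinus 2 (ZMod 2) 1 1 (Sum.elim (Sum.elim ![p, q] ![r, s]) ![t, u]) := by decide +kernel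

instance : Fact (Nat.Prime 2) := Nat.fact_prime_two

/-- Generators. -/
def gb (j : Fin 3) : isometryGroup (ZMod 2) (quadFormMinus 2 (ZMod 2) 1 1) :=
  ⟨⟨yt (rt 0 j), yt (rt 0 j), yt_sq j, yt_sq j⟩, fun v _ => by
    have e : v = Sum.elim (Sum.elim ![v (.inl (.inl 0)), v (.inl (.inl 1))]
        ![v (.inl (.inr 0)), v (.inl (.inr 1))]) ![v (.inr 0), v (.inr 1)] := by
      funext i
      rcases i with (i | i) | i <;> fin_cases i <;> rfl
    rw [e]
    exact yt_iso j _ _ _ _ _ _⟩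

theorem exists_D : ∃ D : Subgroup (Equiv.Perm (Fin 8) × isometryGroup (ZMod 2) (quadFormMinus 2 (ZMod 2) 1 1)),
    Nat.card D = 128 ∧ Function.Injective ((MonoidHom.fst _ _).comp D.subtype) ∧
      Function.Injective ((MonoidHom.snd _ _).comp D.subtype) :=
  graph (MulAction.toEndHom (M := Equiv.Perm (Fin 8)) (α := Fin 8))
    ((Units.coeHom _).comp (Subgroup.subtype _)) (fun _ _ h => Equiv.ext (congrFun h))
    (Units.val_injective.comp Subtype.val_injective) ga gb (by decide +kernel)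
    (fun j => Subtype.ext (Units.ext (yt_sq j))) xt yt rt
    (funext (by decide +kernel : ∀ k, xt 0 k = k)) (by decide +kernel)
    (fun i j => funext ((by decide +kernel : ∀ i j k, xt (rt i j) k = xt i (xt (rt 0 j) k)) i j) |>.trans
      (congrArg (xt i ∘ ·) (funext ((by decide +kernel : ∀ j k, xt (rt 0 j) k = ga j k) j))))
    (by decide +kernel : ∀ i j, yt (rt i j) = yt i * yt (rt 0 j))
    (fun i j h => (by decide +kernel : ∀ i j, (∀ k, xt i k = xt j k) → i = j) i j (congrFun h))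
    (by decide +kernel) (by decide +kernel)


/-- The Sylow 2-subgroups of the alternating group of degree 8 and of PSp₄(3) are isomorphic, and so are the Sylow 2-subgroups of the symmetric group of degree 8 and of the full isometry group of a non-degenerate quadratic form of minus type in dimension 6 over the field with 2 elements. -/
theorem result (F : Type) [Field F] [Fintype F] (hF : Fintype.card F = 3) (K : Type) [Field K] [Fintype K] (hK : Fintype.card K = 2) (a b : K) (hab : ∀ z₁ z₂ : K, z₁ ^ 2 + a * z₁ * z₂ + b * z₂ ^ 2 = 0 → z₁ = 0 ∧ z₂ = 0) (P : Sylow 2 ↥(alternatingGroup (Fin 8))) (Q : Sylow 2 (Cfsg.PSp 2 F)) (P' : Sylow 2 (Equiv.Perm (Fin 8))) (Q' : Sylow 2 ↥(Cfsg.isometryGroup K (Cfsg.quadFormMinus 2 K a b))) : Nonempty (↥(P : Subgroup ↥(alternatingGroup (Fin 8))) ≃* ↥(Q : Subgroup (Cfsg.PSp 2 F))) ∧ Nonempty (↥(P' : Subgroup (Equiv.Perm (Fin 8))) ≃* ↥(Q' : Subgroup ↥(Cfsg.isometryGroup K (Cfsg.quadFormMinus 2 K a b)))) := by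
  constructor
  · let e : ZMod 3 ≃+* F := ZMod.ringEquivOfPrime F Nat.prime_three hF
    have e1 := Cfsg.Lib.Class.pspEquiv 2 e
    have hc : Nat.card (PSp 2 F) = 2 ^ 6 * 405 := by
      rw [← Nat.card_congr e1.toEquiv]; exact Cfsg.Lib.LX.card_P3
    have : Finite (PSp 2 F) := Nat.finite_of_card_ne_zero (by omega)
    obtain ⟨f1⟩ := syl Cfsg.Lib.Recog.A8T.Sy.toA8 Cfsg.Lib.Recog.A8T.Sy.toA8_inj (k := 6) (m := 315)
      Cfsg.Lib.Recog.A8T.Sy.card_eq (by
        have := two_mul_nat_card_alternatingGroup (α := Fin 8)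
        rw [Nat.card_perm, Nat.card_fin] at this
        simp only [Nat.factorial] at this
        omega) (by decide) P
    obtain ⟨f2⟩ := syl (e1.toMonoidHom.comp ((Cfsg.Lib.Recog.U42.W.embHom Cfsg.Lib.Recog.U42.W.dP).comp
      Cfsg.Lib.Recog.A8T.Sy.ι)) (e1.injective.comp ((Cfsg.Lib.Recog.U42.W.emb_inj Cfsg.Lib.Recog.U42.W.dP).comp
        Cfsg.Lib.Recog.A8T.Sy.io_inj)) Cfsg.Lib.Recog.A8T.Sy.card_eq hc (by decide) Q
    exact ⟨f1.symm.trans f2⟩
  · let e : ZMod 2 ≃+* K := ZMod.ringEquivOfPrime K Nat.prime_two hK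
    have h01 : ∀ z : K, z ≠ 0 → z = 1 := fun z hz => by
      have := FiniteField.pow_card_sub_one_eq_one z hz
      rwa [hK, pow_one] at this
    have h2 : (2 : K) = 0 := by
      have := FiniteField.cast_card_eq_zero K
      rw [hK] at this
      exact_mod_cast this
    have hb : b = 1 := h01 b fun h => one_ne_zero (hab 0 1 (by simp [h])).2
    have ha : a = 1 := h01 a fun h => one_ne_zero (hab 1 1 (by rw [h, hb]; linear_combination h2)).2
    have hc := Cfsg.Agent.S0288.result hK 3 (by norm_num) a b hab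
    subst ha hb
    have e1 := Cfsg.Lib.Class.isometryGroupEquiv e (quadFormMinus 2 (ZMod 2) 1 1) (quadFormMinus 2 K 1 1)
      (fun v => by simp only [quadFormMinus, map_add, map_sum, map_mul, map_pow, map_one])
    replace hc : Nat.card (isometryGroup K (quadFormMinus 2 K 1 1)) = 2 ^ 7 * 405 := hc
    have : Finite (isometryGroup K (quadFormMinus 2 K 1 1)) := Nat.finite_of_card_ne_zero (by omega)
    obtain ⟨D, h1, h2, h3⟩ := exists_D
    obtain ⟨f1⟩ := syl _ h2 (k := 7) (m := 315) h1 (by rw [Nat.card_perm, Nat.card_fin]; rfl) (by decide) P'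
    obtain ⟨f2⟩ := syl (e1.toMonoidHom.comp _) (e1.injective.comp h3) (k := 7) h1 hc (by decide) Q'
    exact ⟨f1.symm.trans f2⟩

end Cfsg.Agent.S2931
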