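import Cfsg.Statements.S2932
import Cfsg.Agent.Local.NatSylC
-- import your own Cfsg.Agent.* helpers here

set_option autoImplicit false
open Cfsg

namespace Cfsg.Agent.S2932

/-- Let p be a prime. Inside a finite ambient group let V be an elementary abelian p-subgroup and G a subgroup normalizing V and acting faithfully on it (G ∩ C(V) = 1), and let L ≤ G act on V as SL₂(F) on its natural module, F a finite field of characteristic p, with L ≅ SL₂(F). If every Sylow p-subgroup of N_G(L) is a Sylow p-subgroup of G, then either L is normal in G, or F has 4 elements and G is isomorphic to the alternating group of degree 7. -/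
theorem result {X : Type*} [Group X] [Finite X] {p : ℕ} [Fact p.Prime] (F : Type) [Field F] [Fintype F] [CharP F p] (V G L : Subgroup X) (hV : Cfsg.IsElementaryAbelian p V) (hGV : G ≤ Subgroup.normalizer (V : Set X)) (hfaith : G ⊓ Subgroup.centralizer (V : Set X) = ⊥) (hLG : L ≤ G) (hnat : Cfsg.IsNaturalSL2Module F V L) (hLiso : Nonempty (↥L ≃* Matrix.SpecialLinearGroup (Fin 2) F)) (hSyl : ∀ S : Sylow p ↥(G ⊓ Subgroup.normalizer (L : Set X)), ∀ P : Sylow p ↥G, Nat.card S = Nat.card P) : (L.subgroupOf G).Normal ∨ (Fintype.card F = 4 ∧ Nonempty (↥G ≃* ↥(alternatingGroup (Fin 7)))) := by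
  open Cfsg.Lib.NatSyl Subgroup in
  obtain ⟨-, ρ, ψ, hρ, hker, hact⟩ := hnat
  have hmem : ∀ (g : G) (v : V), (g : X) * v * (g : X)⁻¹ ∈ V := fun g v =>
    (mem_normalizer_iff.1 (hGV g.2) _).1 v.2
  let c : G → V → V := fun g v => ⟨_, hmem g v⟩
  have c1 : ∀ v, c 1 v = v := fun v => Subtype.ext (by simp [c])
  have c2 : ∀ g h v, c (g * h) v = c g (c h v) := fun g h v => Subtype.ext (by simp [c, mul_assoc])
  have c3 : ∀ g v w, c g (v * w) = c g v * c g w := fun g v w => Subtype.ext (by simp [c, mul_assoc])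
  have c4 : ∀ g, c g 1 = 1 := fun g => Subtype.ext (by simp [c])
  letI : DistribMulAction G (Fin 2 → F) :=
    { smul := fun g w => ψ (Additive.ofMul (c g (ψ.symm w).toMul))
      one_smul := fun w => by
        change ψ (Additive.ofMul (c 1 (ψ.symm w).toMul)) = w
        simp [c1]
      mul_smul := fun g h w => by
        change ψ (Additive.ofMul (c (g * h) (ψ.symm w).toMul)) =
          ψ (Additive.ofMul (c g (ψ.symm (ψ (Additive.ofMul (c h (ψ.symm w).toMul)))).toMul))
        simp [c2]
      smul_zero := fun g => by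
        change ψ (Additive.ofMul (c g (ψ.symm 0).toMul)) = 0
        simp [c4]
      smul_add := fun g v w => by
        change ψ (Additive.ofMul (c g (ψ.symm (v + w)).toMul)) =
          ψ (Additive.ofMul (c g (ψ.symm v).toMul)) + ψ (Additive.ofMul (c g (ψ.symm w).toMul))
        simp [c3] }
  have hsm : ∀ (g : G) (v : V), g • ψ (Additive.ofMul v) = ψ (Additive.ofMul (c g v)) := fun g v => by
    change ψ (Additive.ofMul (c g (ψ.symm (ψ (Additive.ofMul v))).toMul)) = _
    simp
  have hinj : Function.Injective ρ := by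
    rw [← MonoidHom.ker_eq_bot_iff, hker, eq_bot_iff]
    intro l hl
    have : (l : X) ∈ G ⊓ centralizer (V : Set X) := ⟨hLG l.2, hl⟩
    rw [hfaith] at this
    exact Subtype.ext this
  let e := MulEquiv.ofBijective ρ ⟨hinj, hρ⟩
  let θ : Matrix.SpecialLinearGroup (Fin 2) F →* G := (inclusion hLG).comp e.symm.toMonoidHom
  have hθ : θ.range = L.subgroupOf G := by
    ext g
    constructor
    · rintro ⟨s, rfl⟩
      exact (e.symm s).2
    · intro hg
      exact ⟨e ⟨g, hg⟩, Subtype.ext (by simp [θ])⟩
  have H : NatAct θ := by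
    refine ⟨fun g hg => ?_, fun s w => ?_⟩
    · have : (g : X) ∈ G ⊓ centralizer (V : Set X) := ⟨g.2, fun v hv => by
        have h1 := hg (ψ (Additive.ofMul ⟨v, hv⟩))
        rw [hsm] at h1
        have h2 : (g : X) * v * (g : X)⁻¹ = v := congrArg Subtype.val (Additive.ofMul.injective (ψ.injective h1))
        exact (mul_inv_eq_iff_eq_mul.1 h2).symm⟩
      rw [hfaith] at this
      exact Subtype.ext this
    · obtain ⟨l, rfl⟩ := e.surjective s
      obtain ⟨v, rfl⟩ := ψ.surjective w
      obtain ⟨w', hw1, hw2⟩ := hact l v.toMul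
      have h1 : c (θ (e l)) v.toMul = w' := Subtype.ext (by rw [hw1]; simp [c, θ])
      exact (hsm _ v.toMul).trans (h1 ▸ hw2)
  have hN : normalizer (θ.range : Set G) = (G ⊓ normalizer (L : Set X)).subgroupOf G := by
    rw [hθ, inf_subgroupOf_left, subgroupOf_normalizer_eq hLG]
  have hind : ¬ p ∣ (normalizer (θ.range : Set G)).index := by
    obtain ⟨S⟩ : Nonempty (Sylow p ↥(G ⊓ normalizer (L : Set X))) := inferInstance
    obtain ⟨P⟩ : Nonempty (Sylow p G) := inferInstance
    have h1 := (S : Subgroup ↥(G ⊓ normalizer (L : Set X))).card_mul_index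
    have h2 := (P : Subgroup G).card_mul_index
    have h3 := ((G ⊓ normalizer (L : Set X)).subgroupOf G).card_mul_index
    rw [Nat.card_congr (subgroupOfEquivOfLe inf_le_left).toEquiv, ← h1, ← h2, mul_assoc] at h3
    have h4 : Nat.card (S : Subgroup ↥(G ⊓ normalizer (L : Set X))) = Nat.card (P : Subgroup G) := hSyl S P
    rw [h4] at h3
    have h5 := Nat.eq_of_mul_eq_mul_left Nat.card_pos h3
    rw [hN]
    exact fun h => P.not_dvd_index (h5 ▸ Dvd.dvd.mul_left h _)
  rw [← hθ]
  exact H.normal_or hind

end Cfsg.Agent.S2932
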