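import Cfsg.Statements.S2933
import Cfsg.Agent.Rank2.Invol
import Cfsg.Agent.Rank2.Trans

set_option autoImplicit false
set_option maxHeartbeats 400000
open Cfsg
open Cfsg.Lib.Rank2 Cfsg.Lib.Trans

namespace Cfsg.Agent.S2933

/-- Let T be a 2-subgroup of a finite group G, V ≤ Z(T) a four-group, and t, ρ ∈ N_G(V) ∩ N_G(T) elements of order 2 and 3 with t commuting with ρ and with V. If [V, ρ] = V and C_T(t) = V, then T is elementary abelian of order 16, or homocyclic of rank 2 (ℤ/2ⁿ × ℤ/2ⁿ for some n ≥ 1), or isomorphic to a Sylow 2-subgroup of PSL₃(4) or of PSU₃(4). -/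
theorem result {G : Type*} [Group G] [Finite G] (T V : Subgroup G) (hT : IsPGroup 2 ↥T) (hVT : V ≤ T ⊓ Subgroup.centralizer (T : Set G)) (hV : Nat.card ↥V = 4 ∧ ∀ v ∈ V, v ^ 2 = 1) (t ρ : G) (ht : orderOf t = 2) (hρ : orderOf ρ = 3) (htn : t ∈ Subgroup.normalizer (V : Set G) ⊓ Subgroup.normalizer (T : Set G)) (hρn : ρ ∈ Subgroup.normalizer (V : Set G) ⊓ Subgroup.normalizer (T : Set G)) (htρ : t * ρ = ρ * t) (htV : t ∈ Subgroup.centralizer (V : Set G)) (hVρ : ⁅V, Subgroup.zpowers ρ⁆ = V) (hCt : T ⊓ Subgroup.centralizer ({t} : Set G) = V) : (Nat.card ↥T = 16 ∧ ∀ x ∈ T, x ^ 2 = 1) ∨ (∃ n : ℕ, 1 ≤ n ∧ Nonempty (↥T ≃* Multiplicative (ZMod (2 ^ n)) × Multiplicative (ZMod (2 ^ n)))) ∨ (∃ (F : Type) (_ : Field F) (_ : Fintype F), Fintype.card F = 4 ∧ ∀ P : Sylow 2 (Matrix.ProjectiveSpecialLinearGroup (Fin 3) F), Nonempty (↥T ≃* ↥(P : Subgroup (Matrix.ProjectiveSpecialLinearGroup (Fin 3) F)))) ∨ (∃ (F : Type) (_ : Field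 F) (_ : Fintype F), Fintype.card F = 16 ∧ ∀ P : Sylow 2 (Cfsg.PSU 3 F 4), Nonempty (↥T ≃* ↥(P : Subgroup (Cfsg.PSU 3 F 4)))) := by
  let a : MulAut T := T.normalizerMonoidHom ⟨ρ, hρn.2⟩
  let τ : MulAut T := T.normalizerMonoidHom ⟨t, htn.2⟩
  have ha : ∀ x : T, (a x : G) = ρ * x * ρ⁻¹ := fun _ => rfl
  have hτ : ∀ x : T, (τ x : G) = t * x * t⁻¹ := fun _ => rfl
  have hρ3 : ρ * ρ * ρ = 1 := by rw [← pow_three', ← hρ, pow_orderOf_eq_one]
  have ht2 : t * t = 1 := by rw [← pow_two, ← ht, pow_orderOf_eq_one]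
  have h3 : ∀ x, a (a (a x)) = x := fun x => Subtype.ext (by
    rw [ha, ha, ha]
    calc _ = (ρ * ρ * ρ) * x * (ρ * ρ * ρ)⁻¹ := by group
      _ = _ := by rw [hρ3]; group)
  have h2 : ∀ x, τ (τ x) = x := fun x => Subtype.ext (by
    rw [hτ, hτ]
    calc _ = (t * t) * x * (t * t)⁻¹ := by group
      _ = _ := by rw [ht2]; group)
  have hc : ∀ x, τ (a x) = a (τ x) := fun x => Subtype.ext (by
    rw [hτ, ha, ha, hτ]
    calc _ = (t * ρ) * x * (t * ρ)⁻¹ := by group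
      _ = _ := by rw [htρ]; group)
  have hfix : fixSub τ = V.subgroupOf T := by
    ext x
    rw [mem_fixSub, Subgroup.mem_subgroupOf, ← hCt, Subgroup.mem_inf,
      Subgroup.mem_centralizer_singleton_iff, Subtype.ext_iff, hτ, mul_inv_eq_iff_eq_mul,
      and_iff_right x.2, eq_comm]
  have hVT' : V ≤ T := hVT.trans inf_le_left
  have h4 : Nat.card (fixSub τ) = 4 := by
    rw [hfix, Nat.card_congr (Subgroup.subgroupOfEquivOfLe hVT').toEquiv, hV.1]
  have hVc : ∀ v ∈ V, ∀ w ∈ V, v * w = w * v := fun v hv w hw => (hVT hw).2 v (hVT' hv)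
  have hV2 : ∀ v ∈ V, v * v = 1 := fun v hv => by rw [← pow_two, hV.2 v hv]
  have hρV : ∀ v ∈ V, ρ * v * ρ⁻¹ ∈ V := fun v hv =>
    (Subgroup.mem_normalizer_iff.1 hρn.1 v).1 hv
  have hfV : ∀ v ∈ V, ρ * v * ρ⁻¹ = v → v = 1 := by
    intro z hz e
    by_contra hz1
    have hall : ∀ v ∈ V, ρ * v * ρ⁻¹ = v := by
      intro v hv
      by_cases hv1 : v = 1
      · simp [hv1]
      by_cases hvz : v = z
      · rw [hvz, e]
      rcases cases_of_card_le_four hV.1.le hz hv (hρV v hv) (hV2 z hz) hz1 hv1 hvz with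
        h | h | h | h
      · exact absurd (by simpa using h) hv1
      · exact absurd (by simpa using h.trans e.symm) hvz
      · exact h
      · have h5 : ρ * (ρ * v * ρ⁻¹) * ρ⁻¹ = v := by
          rw [h]
          calc _ = (ρ * v * ρ⁻¹) * (ρ * z * ρ⁻¹) := by group
            _ = _ := by rw [h, e, mul_assoc, hV2 z hz, mul_one]
        calc _ = ρ * (ρ * (ρ * v * ρ⁻¹) * ρ⁻¹) * ρ⁻¹ := by rw [h5]
          _ = (ρ * ρ * ρ) * v * (ρ * ρ * ρ)⁻¹ := by group
          _ = _ := by rw [hρ3]; group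
    have hb : V = ⊥ := by
      rw [← hVρ, Subgroup.commutator_eq_bot_iff_le_centralizer]
      intro v hv
      rw [Subgroup.zpowers_eq_closure, Subgroup.centralizer_closure,
        Subgroup.mem_centralizer_singleton_iff]
      exact (mul_inv_eq_iff_eq_mul.1 (hall v hv)).symm
    exact hz1 (Subgroup.mem_bot.1 (hb ▸ hz))
  have hfτ : ∀ x : T, τ x = x → a x = x → x = 1 := fun x e1 e2 =>
    Subtype.ext (hfV x (Subgroup.mem_subgroupOf.1 (hfix ▸ mem_fixSub.2 e1))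
      (congrArg Subtype.val e2))
  have hF : Fpf3 a := ⟨hT, h3, fun x hx => by
    have h5 : a (τ x) = τ x := by rw [← hc, hx]
    let K := fixSub a
    have hK : ∀ y, τ y ∈ K ↔ y ∈ K := fun y => by
      rw [mem_fixSub, mem_fixSub, ← hc, τ.apply_eq_iff_eq]
    by_contra hx1
    haveI : Nontrivial K := ⟨⟨⟨x, hx⟩, 1, fun e => hx1 (congrArg Subtype.val e)⟩⟩
    obtain ⟨u, hu, hu1, hu2⟩ := exists_central_invol (hT.to_subgroup K)
    have hcm := Subgroup.mem_center_iff.1 hu (resAut τ K hK u)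
    have e1 : (u : T) * τ u = 1 := hfτ _ (by
      rw [map_mul, h2]; exact congrArg Subtype.val hcm) (mul_mem u.2 ((hK _).2 u.2))
    have e2 : (u : T) * u = 1 := congrArg Subtype.val hu2
    exact hu1 (Subtype.ext (hfτ _ (mul_left_cancel (e1.trans e2.symm)) u.2))⟩
  haveI : Nontrivial T := by
    rw [← Finite.one_lt_card_iff_nontrivial]
    have := Subgroup.card_le_of_le hVT'
    omega
  rcases hF.cases_of_card_fixSub_le τ h2 hc h4.le with ⟨x, hx⟩ | ⟨h16, hsq⟩ | ⟨z, h⟩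
  · obtain ⟨n, hn, -, ⟨e⟩⟩ := hF.homocyclic hx
    exact Or.inr (Or.inl ⟨n, hn, ⟨e.trans (MulEquiv.prodMultiplicative _ _)⟩⟩)
  · exact Or.inl ⟨h16, fun x hx => by rw [pow_two]; exact congrArg Subtype.val (hsq ⟨x, hx⟩)⟩
  by_cases hA : Aniso a z
  · letI : Fintype (GaloisField 2 4) := Fintype.ofFinite _
    have hc : Fintype.card (GaloisField 2 4) = 16 := by
      rw [← Nat.card_eq_fintype_card, GaloisField.card 2 4 four_ne_zero]; rfl
    exact Or.inr (Or.inr (Or.inr ⟨GaloisField 2 4, inferInstance, inferInstance, hc, fun P =>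
      IsU34.nonempty_mulEquiv ⟨a, z, h, hA⟩ (isU34_sylow hc P)⟩))
  · letI : Fintype (GaloisField 2 2) := Fintype.ofFinite _
    have hc : Fintype.card (GaloisField 2 2) = 4 := by
      rw [← Nat.card_eq_fintype_card, GaloisField.card 2 2 two_ne_zero]; rfl
    exact Or.inr (Or.inr (Or.inl ⟨GaloisField 2 2, inferInstance, inferInstance, hc, fun P =>
      IsL34.nonempty_mulEquiv ⟨a, z, h, hA⟩ (isL34_sylow hc P)⟩))

end Cfsg.Agent.S2933
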