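import Cfsg.Statements.S2968
import Cfsg.Agent.Local.IsolatedP

set_option autoImplicit false
open Cfsg

namespace Cfsg.Agent.S2968

open Cfsg.Lib.Local

/-- Let G be a finite group, p a prime, P a Sylow p-subgroup of G and x ∈ P an element of p-power order which is isolated in G (the only conjugate of x commuting with x is x itself). Then x lies in the centre of P, and the subgroup generated by x is both strongly closed and weakly closed in P with respect to G. -/
theorem result {G : Type*} [Group G] [Finite G] {p : ℕ} [Fact p.Prime] (P : Sylow p G) (x : G) (hxP : x ∈ (P : Subgroup G)) (hx : ∃ k : ℕ, orderOf x = p ^ k) (hiso : Cfsg.IsIsolated x) : x ∈ (P : Subgroup G) ⊓ Subgroup.centralizer ((P : Subgroup G) : Set G) ∧ Cfsg.IsStronglyClosed (Subgroup.zpowers x) (P : Subgroup G) ∧ Cfsg.IsWeaklyClosed (Subgroup.zpowers x) (P : Subgroup G) := by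
  obtain ⟨k, hk⟩ := hx
  have hP := Iso.le_centralizer hiso P.isPGroup' hxP
  refine ⟨⟨hxP, Subgroup.mem_centralizer_iff.mpr fun y hy =>
    Subgroup.mem_centralizer_singleton_iff.mp (hP hy)⟩, ⟨(Subgroup.zpowers_le).mpr hxP, ?_⟩,
    ⟨(Subgroup.zpowers_le).mpr hxP, ?_⟩⟩
  · rintro _ ⟨j, rfl⟩ g hg
    obtain ⟨c, hc, hc'⟩ := Iso.exists_mul_mem_centralizer hiso hk
      (K := Subgroup.centralizer ({g * x ^ j * g⁻¹} : Set G)) (g := g)
      (Subgroup.mem_centralizer_singleton_iff.mpr (Subgroup.mem_centralizer_singleton_iff.mp (hP hg)).symm)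
      (Subgroup.mem_centralizer_singleton_iff.mpr (by group))
    have h1 := Iso.conj_eq_of_mem_centralizer hc
    have h2 := Iso.conj_eq_of_mem_centralizer hc'
    refine ⟨j, ?_⟩
    show x ^ j = g * x ^ j * g⁻¹
    rw [← h1]
    conv_lhs => rw [← h2, conj_zpow]
    group
  · intro g hg
    rw [Cfsg.Lib.Trans.cj_def, Cfsg.Lib.Trans.cj_zpowers] at hg ⊢
    rw [Iso.conj_eq_of_mem hiso P.isPGroup' hxP (hg (Subgroup.mem_zpowers _))]

end Cfsg.Agent.S2968
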