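import Cfsg.Statements.S2971
import Cfsg.Agent.Local.IsolatedP
import Cfsg.Agent.S0016

set_option autoImplicit false
open Cfsg

namespace Cfsg.Agent.S2971

open Cfsg.Lib.Local

/-- Let G be a finite group and p an odd prime such that G has p-rank at most 1 (no elementary abelian subgroup of order p²). If x ∈ G is an isolated element of order p, then x is central modulo the largest normal subgroup of G of order prime to p. -/
theorem result {G : Type*} [Group G] [Finite G] {p : ℕ} [Fact p.Prime] (hp : p ≠ 2) (hrk : Cfsg.PRankLE p 1 G) (x : G) (hx : orderOf x = p) (hiso : Cfsg.IsIsolated x) : Cfsg.InZStar p x := by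
  have hp' : p.Prime := Fact.out
  obtain ⟨P, hP⟩ := (isPGroup_zpowers_of_orderOf_eq hx).exists_le_sylow
  have hxP : x ∈ (P : Subgroup G) := hP (Subgroup.mem_zpowers x)
  have h1 : x ≠ 1 := by
    rintro rfl
    simp at hx
    exact hp'.one_lt.ne hx
  have hc := Iso.le_centralizer hiso P.isPGroup' hxP
  have key : ∀ H : Subgroup (P : Subgroup G), Nat.card H = p → H = Subgroup.zpowers ⟨x, hxP⟩ := by
    intro H hH
    have hcyc : IsCyclic H := isCyclic_of_prime_card hH
    have hA : IsMulCommutative ↥(H.map (P : Subgroup G).subtype ⊔ Subgroup.zpowers x) := by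
      apply Cfsg.Lib.Solv.PG.isMulCommutative_sup_zpowers
      rw [Subgroup.mem_centralizer_iff]
      rintro _ ⟨y, -, rfl⟩
      exact Subgroup.mem_centralizer_singleton_iff.mp (hc y.2)
    have hle := hrk _ hA (by
      intro a ha
      obtain ⟨_, ⟨y, hy, rfl⟩, n, rfl⟩ := (Cfsg.Lib.Solv.PG.mem_sup_zpowers_iff (by
        apply Subgroup.centralizer_le_normalizer
        rw [Subgroup.mem_centralizer_iff]
        rintro _ ⟨y, -, rfl⟩
        exact Subgroup.mem_centralizer_singleton_iff.mp (hc y.2))).mp ha
      have h2 : Commute (y : G) x := Subgroup.mem_centralizer_singleton_iff.mp (hc y.2)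
      have h3 : (y : G) ^ p = 1 := by
        have := pow_card_eq_one' (G := H) (x := ⟨y, hy⟩)
        rw [hH] at this
        exact congrArg (fun z : H => ((z : (P : Subgroup G)) : G)) this
      show ((y : G) * x ^ n) ^ p = 1
      rw [(h2.zpow_right n).mul_pow, h3, one_mul, ← zpow_natCast, ← zpow_mul, mul_comm, zpow_mul,
        zpow_natCast, ← hx, pow_orderOf_eq_one, one_zpow])
    have h4 : Subgroup.zpowers x = H.map (P : Subgroup G).subtype ⊔ Subgroup.zpowers x :=
      Subgroup.eq_of_le_of_card_ge le_sup_right (by rw [Nat.card_zpowers, hx]; simpa using hle)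
    apply Subgroup.eq_of_le_of_card_ge
    · intro y hy
      obtain ⟨n, hn⟩ : (y : G) ∈ Subgroup.zpowers x := h4 ▸ Subgroup.mem_sup_left ⟨y, hy, rfl⟩
      exact ⟨n, Subtype.ext hn⟩
    · rw [Nat.card_zpowers, hH, ← Subgroup.orderOf_coe, hx]
  have hcyc : IsCyclic (P : Subgroup G) := by
    rcases Cfsg.Agent.S0016.result p P.isPGroup' (fun H K hH hK => (key H hH).trans (key K hK).symm) with h | h
    · exact h
    · exact absurd h.1 hp
  exact Iso.inZStar_of_hasNormalPComplement hiso (k := 1) (by simpa using hx)
    (Iso.hasNormalPComplement_of_cyclic P hcyc hxP h1 (Iso.normalizer_le hiso P.isPGroup' hxP))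

end Cfsg.Agent.S2971
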