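import Cfsg.Statements.S3038
import Cfsg.Agent.Trans.RankTwoFix
import Cfsg.Agent.FT.BG4.Small

set_option autoImplicit false
open Cfsg

namespace Cfsg.Agent.S3038

open Subgroup Cfsg.Lib Cfsg.Lib.Solv Cfsg.Lib.Trans Cfsg.Lib.Local

theorem iso_conj {G : Type*} [Group G] {x : G} (h : IsIsolated x) (c : G) :
    IsIsolated (c * x * c⁻¹) := by
  intro g hg
  have h1 := h (c⁻¹ * g * c) (by
    have := hg.map (MulAut.conj c⁻¹)
    simp only [MulAut.conj_apply] at this
    convert this using 1 <;> group)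
  calc g * (c * x * c⁻¹) * g⁻¹ = c * (c⁻¹ * g * c * x * (c⁻¹ * g * c)⁻¹) * c⁻¹ := by group
    _ = _ := by rw [h1]

theorem perfect_case {L : Type*} [Group L] [Finite L] {p : ℕ} [Fact p.Prime] (hp : p ≠ 2)
    (hL : commutator L = ⊤) (hrank : PRankLE p 2 L) {x : L} (hx : orderOf x = p)
    (hiso : IsIsolated x) (P : Sylow p L) (hxP : x ∈ (P : Subgroup L)) :
    (IsExtraspecial p (P : Subgroup L) ∧ Nat.card (P : Subgroup L) = p ^ 3 ∧
      ∀ y ∈ (P : Subgroup L), y ^ p = 1) ∨
    (p = 3 ∧ ∃ k : ℕ, 2 ≤ k ∧ Nat.card (P : Subgroup L) = 3 ^ (2 * k + 1) ∧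
      ∃ _ : Group.IsNilpotent (P : Subgroup L), Group.nilpotencyClass (P : Subgroup L) = 2 * k) := by
  have h1 := inf_commutator_eq_of_subgroupOf_eq P le_normalizer
    (RankTwo.pResidual_subgroupOf_normalizer hp hrank P)
  rw [hL, inf_top_eq] at h1
  set N := normalizer ((P : Subgroup L) : Set L) with hN
  have hPN : (P : Subgroup L) ≤ N := le_normalizer
  have hnd : ¬ p ∣ (P : Subgroup L).relIndex N := fun h =>
    P.not_dvd_index (h.trans (relIndex_dvd_index_of_le hPN))
  have hcop : ((P : Subgroup L).relIndex N).Coprime p :=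
    ((Fact.out : p.Prime).coprime_iff_not_dvd.2 hnd).symm
  obtain ⟨n, hn⟩ := IsPGroup.iff_card.1 P.isPGroup'
  obtain ⟨H, hHN, hsup, hdis, hcard⟩ := exists_complement_ambient (P : Subgroup L) N hPN le_rfl
    (hn ▸ hcop.symm.pow_left n)
  have h2 := (FT.coprime_der1_sdprod ⟨hsup, hHN, hdis.eq_bot⟩ (hcard ▸ hn ▸ hcop.symm.pow_left n)
    (isSolvable_of_isPGroup P.isPGroup') (h1.le.trans inf_le_right)).1
  have hF : RankTwo.Fix p ((P : Subgroup L).subgroupOf N) (H.subgroupOf N) ⟨x, hPN hxP⟩ :=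
    { ne := hp
      pG := P.isPGroup'.comap_subtype
      normal := normal_subgroupOf_of_le_normalizer le_rfl
      cop := by rw [Coprime.card_subgroupOf hHN, hcard]; exact hcop
      comm := by rw [← subgroupOf_commutator_of_le hPN hHN, h2]
      mem := hxP
      ord := by rw [Subgroup.orderOf_mk, hx]
      cen := mem_center_iff.2 fun g => Subtype.ext
        (mem_centralizer_singleton_iff.1 (Iso.normalizer_le hiso P.isPGroup' hxP g.2))
      rank := FT.BG4.pRankLE_subgroup hrank N }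
  let e := subgroupOfEquivOfLe hPN
  rcases hF.structure with ⟨-, h3, h4⟩ | ⟨h3, k, h4, h5, h6⟩
  · rw [Coprime.card_subgroupOf hPN] at h3
    refine Or.inl ⟨FT.BG4.p3group_extraspecial h3 fun hc => hF.not_comm ⟨⟨fun a b =>
      e.injective (by rw [map_mul, map_mul, hc.is_comm.comm])⟩⟩, h3, fun y hy =>
      congrArg Subtype.val (h4 ⟨y, hPN hy⟩ hy)⟩
  · rw [Coprime.card_subgroupOf hPN] at h5
    have := P.isPGroup'.isNilpotent
    have := hF.pG.isNilpotent
    exact Or.inr ⟨h3, k, h4, h5, inferInstance, h6 ▸ le_antisymm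
      (Group.nilpotencyClass_le_of_surjective e.toMonoidHom e.surjective)
      (Group.nilpotencyClass_le_of_surjective e.symm.toMonoidHom e.symm.surjective)⟩

/-- Let G be a finite group and p an odd prime with O_{p'}(G) = 1. Suppose that G has p-rank at most 2 and that some element x of order p is isolated in G and not central. Then F*(G) is a non-abelian simple group, and for every Sylow p-subgroup P of F*(G), either no conjugate of x lies in P and P is cyclic, or some conjugate of x lies in P and either P is extraspecial of order p³ and exponent p, or p = 3 and P has order 3^{2k+1} for some k ≥ 2 and is of maximal class (nilpotency class 2k). Since O_{p'}(G) = 1, such an x is not central modulo O_{p'}(G): the hypotheses describe a counterexample to the Z*_p statement in p-rank at most 2, and the conclusion records the structure it would have. -/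
theorem result {G : Type*} [Group G] [Finite G] {p : ℕ} [Fact p.Prime] (hp : p ≠ 2) (hcore : Cfsg.pPrimeCore p G = ⊥)
    (hrank : Cfsg.PRankLE p 2 G) (x : G) (hx : orderOf x = p) (hiso : Cfsg.IsIsolated x) (hnc : x ∉ Subgroup.center G) :
    IsSimpleGroup ↥(Cfsg.generalizedFittingSubgroup G) ∧ ¬ IsMulCommutative ↥(Cfsg.generalizedFittingSubgroup G) ∧
    ∀ P : Sylow p ↥(Cfsg.generalizedFittingSubgroup G),
      ((∀ g : G, g * x * g⁻¹ ∉ ((P : Subgroup ↥(Cfsg.generalizedFittingSubgroup G)).map (Cfsg.generalizedFittingSubgroup G).subtype)) ∧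
          IsCyclic ↥(P : Subgroup ↥(Cfsg.generalizedFittingSubgroup G))) ∨
      ((∃ g : G, g * x * g⁻¹ ∈ ((P : Subgroup ↥(Cfsg.generalizedFittingSubgroup G)).map (Cfsg.generalizedFittingSubgroup G).subtype)) ∧
        ((Cfsg.IsExtraspecial p ↥(P : Subgroup ↥(Cfsg.generalizedFittingSubgroup G)) ∧
            Nat.card (P : Subgroup ↥(Cfsg.generalizedFittingSubgroup G)) = p ^ 3 ∧
            ∀ y ∈ (P : Subgroup ↥(Cfsg.generalizedFittingSubgroup G)), y ^ p = 1) ∨
         (p = 3 ∧ ∃ k : ℕ, 2 ≤ k ∧ Nat.card (P : Subgroup ↥(Cfsg.generalizedFittingSubgroup G)) = 3 ^ (2 * k + 1) ∧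
            ∃ _ : Group.IsNilpotent ↥(P : Subgroup ↥(Cfsg.generalizedFittingSubgroup G)),
              Group.nilpotencyClass ↥(P : Subgroup ↥(Cfsg.generalizedFittingSubgroup G)) = 2 * k))) := by
  obtain ⟨hs, hn⟩ := S3049.result hp hcore hrank x hx hiso hnc
  refine ⟨hs, hn, ?_⟩
  generalize generalizedFittingSubgroup G = K at hs hn ⊢
  intro P
  by_cases hex : ∃ g : G, g * x * g⁻¹ ∈ (P : Subgroup K).map K.subtype
  · refine Or.inr ⟨hex, ?_⟩
    obtain ⟨g, y, hy, hyg⟩ := hex
    have hyK : g * x * g⁻¹ ∈ K := hyg ▸ y.2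
    have hL : commutator K = ⊤ := (IsSimpleGroup.eq_bot_or_eq_top_of_normal _ inferInstance).resolve_left
      fun h => hn ((commutator_eq_bot_iff K).1 h)
    refine perfect_case hp hL (FT.BG4.pRankLE_subgroup hrank K) (x := ⟨_, hyK⟩)
      (by rw [Subgroup.orderOf_mk, ← hx]; exact (MulAut.conj g).orderOf_eq x) (Iso.subtype (iso_conj hiso g) hyK) P ?_
    rwa [show (⟨_, hyK⟩ : K) = y from Subtype.ext hyg.symm]
  push Not at hex
  refine Or.inl ⟨hex, ?_⟩
  by_contra hc
  have hT := P.isPGroup'.map K.subtype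
  obtain ⟨S, hS⟩ := hT.exists_le_sylow
  obtain ⟨S', hS'⟩ := (Local.isPGroup_zpowers_of_orderOf_eq hx).exists_le_sylow
  obtain ⟨g, rfl⟩ := MulAction.exists_smul_eq G S' S
  have hxS : g * x * g⁻¹ ∈ ((g • S' : Sylow p G) : Subgroup G) :=
    Coprime.conj_mem_conj_smul g (hS' (mem_zpowers x))
  have hC := Iso.le_centralizer (iso_conj hiso g) (g • S').isPGroup' hxS
  obtain ⟨E, ⟨hET, -⟩, -, ⟨hEc, hEp⟩, hEcard⟩ := FT.odd_normal_p2Elem_exists Fact.out hT (by
    obtain ⟨n, hn⟩ := IsPGroup.iff_card.1 hT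
    rw [hn]
    exact ((Fact.out : p.Prime).odd_of_ne_two hp).pow) ⟨le_rfl, le_normalizer⟩ fun h =>
      hc (isCyclic_of_surjective _ ((P : Subgroup K).equivMapOfInjective _
        K.subtype_injective).symm.surjective)
  have hxE : g * x * g⁻¹ ∈ centralizer (E : Set G) := fun u hu =>
    mem_centralizer_singleton_iff.1 (hC (hS (hET hu)))
  have := PG.isMulCommutative_sup_zpowers hxE
  have h1 := hrank (E ⊔ zpowers (g * x * g⁻¹)) this fun y hy => by
    obtain ⟨t, ht, k, rfl⟩ := (PG.mem_sup_zpowers_iff (centralizer_le_normalizer _ hxE)).1 hy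
    have e : Commute t (g * x * g⁻¹) := mem_centralizer_iff.1 hxE t ht
    rw [(e.zpow_right k).mul_pow, hEp t ht, ← zpow_natCast, ← zpow_mul, mul_comm k, zpow_mul,
      zpow_natCast, conj_pow, ← hx, pow_orderOf_eq_one]
    simp
  refine hex g (hET ?_)
  rw [eq_of_le_of_card_ge (le_sup_left : E ≤ E ⊔ zpowers (g * x * g⁻¹)) (hEcard ▸ h1)]
  exact mem_sup_right (mem_zpowers _)

end Cfsg.Agent.S3038
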