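import Cfsg.Statements.S3043
import Cfsg.Agent.Perm.TIInvB

set_option autoImplicit false
open Cfsg

namespace Cfsg.Agent.S3043

/-- Let M be a nontrivial subgroup of a finite group G meeting each of its other conjugates trivially, with N_G(M) = M · C_{N_G(M)}(z) for some involution z ∈ N_G(M), and with C_G(x) of odd order for every nontrivial x ∈ M. Then one of the following holds: M is normal in G; the number of involutions of G is at most |G : M|; G is isomorphic to PGL₂(F) or to PSL₂(F) for a finite field F with |F| = |M|, M is an elementary abelian p-group for the characteristic p of F, and |F| ≡ 1 (mod 4) in the PSL₂ case; G is isomorphic to PSL₂(F) with |F| = 2^e, e > 1, and M is cyclic of order 2^e + 1; or for some d ≥ 1, G has an elementary abelian normal subgroup of order 2^{2d} complemented by N_G(M), and N_G(M) is dihedral of order 2(2^d + 1). -/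
theorem result {G : Type*} [Group G] [Finite G] (M : Subgroup G) (hM1 : M ≠ ⊥)
    (hTI : ∀ g : G, M ⊓ M.map (MulAut.conj g).toMonoidHom ≠ ⊥ → M.map (MulAut.conj g).toMonoidHom = M)
    (z : G) (hz : orderOf z = 2) (hzN : z ∈ Subgroup.normalizer (M : Set G))
    (hfac : M ⊔ (Subgroup.normalizer (M : Set G) ⊓ Subgroup.centralizer ({z} : Set G)) = Subgroup.normalizer (M : Set G))
    (hodd : ∀ x ∈ M, x ≠ 1 → Odd (Nat.card ↥(Subgroup.centralizer ({x} : Set G)))) :
    M.Normal ∨
    Nat.card {g : G // orderOf g = 2} ≤ M.index ∨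
    (∃ (F : Type) (_ : Field F) (_ : Fintype F) (p : ℕ) (_ : Fact p.Prime) (_ : CharP F p), Fintype.card F = Nat.card M ∧ Cfsg.IsElementaryAbelian p M ∧
        (Nonempty (G ≃* (GL (Fin 2) F ⧸ Subgroup.center (GL (Fin 2) F))) ∨
         (Fintype.card F % 4 = 1 ∧ Nonempty (G ≃* Matrix.ProjectiveSpecialLinearGroup (Fin 2) F)))) ∨
    (∃ (F : Type) (_ : Field F) (_ : Fintype F) (e : ℕ), 1 < e ∧ Fintype.card F = 2 ^ e ∧ IsCyclic ↥M ∧ Nat.card M = 2 ^ e + 1 ∧
        Nonempty (G ≃* Matrix.ProjectiveSpecialLinearGroup (Fin 2) F)) ∨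
    (∃ (d : ℕ) (E : Subgroup G), 1 ≤ d ∧ E.Normal ∧ Cfsg.IsElementaryAbelian 2 E ∧ Nat.card E = 2 ^ (2 * d) ∧
        E ⊓ Subgroup.normalizer (M : Set G) = ⊥ ∧ E ⊔ Subgroup.normalizer (M : Set G) = ⊤ ∧
        Nonempty (↥(Subgroup.normalizer (M : Set G)) ≃* DihedralGroup (2 ^ d + 1))) := by
  have hy : Cfsg.Lib.TIInv.Hy M z := by
    refine ⟨hM1, fun g x hx hx1 hg => ?_, by rw [← pow_two, ← hz, pow_orderOf_eq_one],
      fun e => by simp [e] at hz, hzN, fun g hg => ?_, fun x hx hx1 v hv hc => ?_⟩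
    · have h1 := hTI g (fun e => hx1 (by
        have h2 : g * x * g⁻¹ ∈ M ⊓ M.map (MulAut.conj g).toMonoidHom := ⟨hg, x, hx, rfl⟩
        rw [e] at h2
        simpa using h2))
      refine Subgroup.mem_normalizer_iff.2 fun y => ⟨fun hy => h1 ▸ ⟨y, hy, rfl⟩, fun hy => ?_⟩
      rw [← h1] at hy
      obtain ⟨y', hy', e⟩ := hy
      have : y' = y := by simpa using e
      exact this ▸ hy'
    · rw [← hfac, ← SetLike.mem_coe, Subgroup.coe_mul_of_right_le_normalizer_left _ _ inf_le_left] at hg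
      obtain ⟨a, ha, y, hy, rfl⟩ := hg
      exact ⟨a, ha, y, hy.1, Subgroup.mem_centralizer_singleton_iff.1 hy.2, rfl⟩
    · by_contra h1
      have h2 := Subgroup.orderOf_dvd_natCard _ (Subgroup.mem_centralizer_singleton_iff.2 hc)
      rw [orderOf_eq_prime (p := 2) (by rw [pow_two, hv]) h1] at h2
      exact Nat.not_even_iff_odd.2 (hodd x hx hx1) (even_iff_two_dvd.2 h2)
  by_cases hN : Subgroup.normalizer (M : Set G) = ⊤
  · exact Or.inl (Subgroup.normalizer_eq_top_iff.1 hN)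
  by_cases hc : Nat.card {g : G // orderOf g = 2} ≤ M.index
  · exact Or.inr (Or.inl hc)
  have hf : Cfsg.Lib.TIInv.Fu M z := ⟨hy, fun g hg => by
    by_contra h'
    push Not at h'
    exact hc (hy.card_le hg h')⟩
  by_cases hA : ∀ u ∉ Subgroup.normalizer (M : Set G), ∀ v ∉ Subgroup.normalizer (M : Set G),
      u * z = z * u → v * z = z * v → u * v ∈ Subgroup.normalizer (M : Set G)
  · exact Or.inr (Or.inr (Or.inl (hf.caseA hN hA)))
  push Not at hA
  obtain ⟨u, hu, v, hv, hu', hv', huv⟩ := hA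
  have hb := hf.bc hu hv hu' hv' huv
  obtain ⟨d, hd, hC, ⟨h1, h2, h3⟩ | ⟨h1, h2, h3⟩⟩ := hb.numbers
  · obtain ⟨E, hE⟩ := hb.affine hd h1 h2 h3
    exact Or.inr (Or.inr (Or.inr (Or.inr ⟨d, E, hd, hE⟩)))
  · obtain ⟨F, _, _, hF, hcyc, e⟩ := hb.linear hd hC h2 h3
    exact Or.inr (Or.inr (Or.inr (Or.inl
      ⟨F, inferInstance, inferInstance, d + 1, by omega, hF, hcyc, h1, e⟩)))

end Cfsg.Agent.S3043
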