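import Cfsg.Statements.S3052
import Cfsg.Agent.GCT.Main
import Cfsg.Agent.GCT.Swap

set_option autoImplicit false
open Cfsg

namespace Cfsg.Agent.S3052

/-- Let G be a finite group of local characteristic 2 (every 2-local subgroup N has C_N(O₂(N)) ≤ O₂(N)) with T a Sylow 2-subgroup, O₂(G) = 1, O²(G) = G, and G ≠ C*(G,T), the subgroup generated by the centralizer of Ω₁(Z(T)) and the normalizers of the nontrivial characteristic subgroups of the Baumann subgroup B(T). Then one of the following holds: G has a strongly embedded subgroup; T is dihedral or quasi-dihedral; T has order at most 2¹⁰; or T equals its Baumann subgroup, T has nilpotency class 2, and G has a B(T)-block E not contained in C*(G,T) with E/O₂(E) isomorphic to SL(2,2ⁿ) for some n ≥ 3. -/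
theorem result {G : Type*} [Group G] [Finite G] (hloc : Cfsg.IsOfLocalCharacteristic 2 G) (T : Sylow 2 G)
    (hO : Cfsg.pCore 2 G = ⊥) (hO2 : Cfsg.pResidual 2 G = ⊤) (hC : Cfsg.cStarOf 2 (T : Subgroup G) ≠ ⊤)
    [Group.IsNilpotent ↥(T : Subgroup G)] :
    (∃ H : Subgroup G, Cfsg.IsStronglyEmbedded H) ∨
      ((∃ m : ℕ, Nonempty (↥(T : Subgroup G) ≃* DihedralGroup m)) ∨ Cfsg.IsQuasiDihedral ↥(T : Subgroup G)) ∨
      Nat.card (T : Subgroup G) ≤ 2 ^ 10 ∨
      (Cfsg.baumannSubgroupOf 2 (T : Subgroup G) = T ∧ Group.nilpotencyClass ↥(T : Subgroup G) = 2 ∧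
        ∃ (E : Subgroup G) (hE : ((Cfsg.pCoreOf 2 E).subgroupOf E).Normal) (F : Type) (_ : Field F) (_ : Fintype F) (n : ℕ),
          3 ≤ n ∧ Fintype.card F = 2 ^ n ∧ Cfsg.IsBaumannBlock 2 (T : Subgroup G) E ∧ ¬ E ≤ Cfsg.cStarOf 2 (T : Subgroup G) ∧
          Nonempty (↥E ⧸ (Cfsg.pCoreOf 2 E).subgroupOf E ≃* Matrix.SpecialLinearGroup (Fin 2) F)) := by
  open Subgroup Cfsg.Lib Cfsg.Lib.GCT Cfsg.Lib.Trans Cfsg.Lib.Trans.BB Cfsg.Lib.Local.MSS in
  have hG : IsCharacteristicTwoType G := ⟨even_iff_two_dvd.2 hloc.1, hloc.2⟩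
  have hT := isSylowIn_top T
  refine (main hG hO2 hO hT hC).imp_right (Or.imp_right ?_)
  rintro ⟨F, _, _, θ, ψ, B, E, A, D, r, hE, hB, e, c⟩
  obtain ⟨n, -, hn⟩ := r.pow
  by_cases hq : Fintype.card F = 4
  · exact .inl (c.toK0.card_le hq hT.isPGroup (e.le.trans hB))
  have h3 : 3 ≤ n := by
    by_contra! k
    have := c.hq
    interval_cases n <;> omega
  have h4 : 4 < Fintype.card F := by
    have := Nat.pow_le_pow_right two_pos h3
    omega
  obtain rfl : B = T := e.symm.trans (c.eq_J hG hO2 hT (e.le.trans hB) h4).symm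
  have hN : ((pCoreOf 2 E).subgroupOf E).Normal := by
    rw [Local.pCoreOf_subgroupOf]; infer_instance
  have hb : Blk 2 (baumannSubgroupOf 2 (T : Subgroup G)) E := by rw [r.bau]; exact r.blk
  refine Or.inr ⟨r.bau, le_antisymm ?_ ?_, E, hN, F, inferInstance, inferInstance, n, h3, hn, hb.isBlock fun k => ?_, hE, ?_⟩
  · refine Subgroup.lowerCentralSeries_eq_bot_iff_nilpotencyClass_le.1 (eq_bot_iff.2 ?_)
    refine (commutator_eq_bot_iff_le_centralizer.2 (commutator_le.2 fun x _ y _ z _ => ?_)).le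
    exact Subtype.ext (omZ_le_centralizer _ (r.comm _ x.2 _ y.2) _ z.2)
  · by_contra! k
    have := Subgroup.lowerCentralSeries_eq_bot_iff_nilpotencyClass_le.2 (Nat.le_of_lt_succ k)
    exact r.not_cent fun w hw y hy => congrArg Subtype.val (commutator_eq_bot_iff_le_centralizer.1
      this (mem_top (⟨w, r.W_le_B hw⟩ : (T : Subgroup G))) ⟨y, hy⟩ (mem_top _))
  · have := r.idxZ.symm.trans
      (relIndex_eq_one.2 (MP.cent_symm (commutator_eq_bot_iff_le_centralizer.1 k)))
    omega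
  · obtain ⟨f⟩ := r.linB.natE.nonempty_equiv (p := 2) fun l hl => by
      rw [r.linB.ker l (mem_sup_left hl), ← r.blk.inf_cent]
      exact ⟨fun h => ⟨hl, h⟩, fun h => h.2⟩
    exact ⟨((QuotientGroup.quotientMulEquivOfEq (Local.pCoreOf_subgroupOf E)).trans f).trans
      ((MulEquiv.subgroupCongr (commutator_eq_top (by omega))).trans topEquiv)⟩

end Cfsg.Agent.S3052
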