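import Cfsg.Statements.S3091
import Cfsg.Agent.AB.Two0
import Cfsg.Agent.AB.Two2
import Cfsg.Agent.AB.Two4

set_option autoImplicit false
open Cfsg

namespace Cfsg.Agent.S3091

/-- Let G be a finite group of characteristic 2 type and q = 2ᵉ > 2, F the field with q elements. Let L₁ ≠ L₂ be subgroups of G such that, for i = 1, 2, V_i = O₂(L_i) is elementary abelian with L_i/V_i ≅ SL(2, q) acting on V_i as on its natural 2-dimensional module F² (an additive isomorphism V_i ≅ F² carrying conjugation by g ∈ L_i to multiplication by the matrix of gV_i), and such that J = V₁V₂ is a Sylow 2-subgroup of both L₁ and L₂. Assume that N_G(L₁) and N_G(L₂) are maximal 2-local subgroups of G and that, for a Sylow 2-subgroup T of N_G(L₁), the subgroup generated by T, L₁ and L₂ has no nontrivial normal 2-subgroup. Then G has sectional 2-rank at most 4, or F*(G)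 ≅ L₃(q). -/
theorem result
    {G : Type*} [Group G] [Finite G] (hG : Cfsg.IsCharacteristicTwoType G)
    {F : Type*} [Field F] [Fintype F] (e : ℕ) (he : 2 ≤ e) (hF : Fintype.card F = 2 ^ e)
    (L₁ L₂ : Subgroup G) (hne : L₁ ≠ L₂)
    (φ₁ : ↥L₁ ⧸ Cfsg.pCore 2 ↥L₁ ≃* Matrix.SpecialLinearGroup (Fin 2) F)
    (ψ₁ : Additive ↥(Cfsg.pCore 2 ↥L₁) ≃+ (Fin 2 → F))
    (h₁ : ∀ (g : ↥L₁) (v : ↥(Cfsg.pCore 2 ↥L₁)),
      ψ₁ (Additive.ofMul ⟨g * v * g⁻¹, Subgroup.Normal.conj_mem inferInstance (v : ↥L₁) v.2 g⟩)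
        = Matrix.mulVec ((φ₁ (QuotientGroup.mk g) : Matrix.SpecialLinearGroup (Fin 2) F) : Matrix (Fin 2) (Fin 2) F) (ψ₁ (Additive.ofMul v)))
    (φ₂ : ↥L₂ ⧸ Cfsg.pCore 2 ↥L₂ ≃* Matrix.SpecialLinearGroup (Fin 2) F)
    (ψ₂ : Additive ↥(Cfsg.pCore 2 ↥L₂) ≃+ (Fin 2 → F))
    (h₂ : ∀ (g : ↥L₂) (v : ↥(Cfsg.pCore 2 ↥L₂)),
      ψ₂ (Additive.ofMul ⟨g * v * g⁻¹, Subgroup.Normal.conj_mem inferInstance (v : ↥L₂) v.2 g⟩)
        = Matrix.mulVec ((φ₂ (QuotientGroup.mk g) : Matrix.SpecialLinearGroup (Fin 2) F) : Matrix (Fin 2) (Fin 2) F) (ψ₂ (Additive.ofMul v)))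
    (hJ₁ : ∃ S : Sylow 2 ↥L₁, (S : Subgroup ↥L₁).map L₁.subtype = (Cfsg.pCore 2 ↥L₁).map L₁.subtype ⊔ (Cfsg.pCore 2 ↥L₂).map L₂.subtype)
    (hJ₂ : ∃ S : Sylow 2 ↥L₂, (S : Subgroup ↥L₂).map L₂.subtype = (Cfsg.pCore 2 ↥L₁).map L₁.subtype ⊔ (Cfsg.pCore 2 ↥L₂).map L₂.subtype)
    (hM₁ : Cfsg.IsMaximalTwoLocal (Subgroup.normalizer (L₁ : Set G))) (hM₂ : Cfsg.IsMaximalTwoLocal (Subgroup.normalizer (L₂ : Set G)))
    (T : Sylow 2 ↥(Subgroup.normalizer (L₁ : Set G)))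
    (hO : Cfsg.pCore 2 ↥(((T : Subgroup ↥(Subgroup.normalizer (L₁ : Set G))).map (Subgroup.normalizer (L₁ : Set G)).subtype) ⊔ L₁ ⊔ L₂) = ⊥) :
    Cfsg.SectionalPRankLE 2 4 G ∨
      Nonempty (↥(Cfsg.generalizedFittingSubgroup G) ≃* Matrix.ProjectiveSpecialLinearGroup (Fin 3) F) := by
  have := Lib.Bender.charP_two_of_card (by omega) hF
  have h4 : 2 ^ 2 ≤ Fintype.card F := hF ▸ Nat.pow_le_pow_right two_pos he
  have hq : 2 < Fintype.card F := by omega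
  obtain ⟨θ, ψ, N⟩ := Lib.Gomi.exists_nat1 φ₁ ψ₁ h₁
  obtain ⟨θ', ψ', N'⟩ := Lib.Gomi.exists_nat1 φ₂ ψ₂ h₂
  obtain ⟨S₁, e₁⟩ := hJ₁
  obtain ⟨S₂, e₂⟩ := hJ₂
  have s₁ := Lib.Trans.isSylowIn_map_subtype S₁
  have s₂ := Lib.Trans.isSylowIn_map_subtype S₂
  rw [e₁] at s₁
  rw [e₂, sup_comm] at s₂
  rw [Lib.Local.pCoreOf_def, Lib.Local.pCoreOf_def] at s₁ s₂
  obtain ⟨θ, ψ, N, o⟩ := N.exists_onto hq s₁
  obtain ⟨θ', ψ', N', o'⟩ := N'.exists_onto hq s₂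
  have hB := le_sup_right.trans s₁.le
  have hA := le_sup_right.trans s₂.le
  have ab := N.ab hB (N.ontoB hB o) N'.sq (hA.trans N'.nat.norm)
  obtain ⟨z, hz, z1⟩ := ab.inf_ne_bot
  have n₁ := hM₁.2 _ ⟨_, Lib.Gomi.isPGroup_of_sq N.sq, fun e => z1 (e.le hz.1), rfl⟩
    (Lib.Local.normalizer_le_normalizer_pCoreOf L₁)
  have n₂ := hM₂.2 _ ⟨_, Lib.Gomi.isPGroup_of_sq N'.sq, fun e => z1 (e.le hz.2), rfl⟩
    (Lib.Local.normalizer_le_normalizer_pCoreOf L₂)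
  obtain ⟨a1, a2, a3, a4⟩ := N.par hB (N.ontoB hB o) N'.sq (hA.trans N'.nat.norm) s₁ n₁.le
  obtain ⟨b1, b2, b3, b4⟩ := N'.par hA (N'.ontoB hA o') N.sq (hB.trans N.nat.norm) s₂ n₂.le
  obtain ⟨T', P⟩ := Lib.Gomi.exists_pre a4 b4 a2 b2 (a1.symm ▸ a3) (b1.symm ▸ b3) hq
    ((Lib.Trans.isSylowIn_map_subtype T).mono (Subgroup.map_subtype_le _ |>.trans n₁.ge) n₁.le)
    (by rw [a1, b1]; exact Lib.Local.pCoreOf_eq_bot_iff.2 hO)
  rcases h4.eq_or_lt with h | h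
  · exact Or.inl ((P.two hG).secRank h.symm)
  · exact Or.inr ((P.two hG).nonempty_genFitting h hG)

end Cfsg.Agent.S3091
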