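import Cfsg.Statements.S3119
import Cfsg.Agent.Inst.R2F
import Cfsg.Agent.Cond.S3119

set_option autoImplicit false
open Cfsg

namespace Cfsg.Agent.S3119

/-- Let X be a finite group that has no subgroup of index 2 and whose Sylow 2-subgroups are quasi-dihedral or wreathed. Let H be a subgroup of X which is weakly embedded: H contains involutions, all involutions of H are conjugate in H, and for every involution y of H the centralizer C_X(y) is the product of C_H(y) and the largest normal odd-order subgroup O(C_X(y)). Suppose that all non-abelian composition factors of H are known finite simple groups and that H/O(H) is not isomorphic to the Mathieu group of degree 11. Then O(H) ≤ O(X). -/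
theorem result {X : Type*} [Group X] [Finite X] (S : Sylow 2 X) (hS : Cfsg.IsQuasiDihedral ↥(S : Subgroup X) ∨ Cfsg.IsWreathed ↥(S : Subgroup X))
    (h2 : ∀ N : Subgroup X, N.index ≠ 2)
    (H : Subgroup X)
    (hev : ∃ y ∈ H, orderOf y = 2) (h1 : ∀ y ∈ H, ∀ y' ∈ H, orderOf y = 2 → orderOf y' = 2 → ∃ h ∈ H, h * y * h⁻¹ = y')
    (hcov : ∀ y ∈ H, orderOf y = 2 → ∀ c ∈ Subgroup.centralizer ({y} : Set X),
      ∃ h ∈ H ⊓ Subgroup.centralizer ({y} : Set X), ∃ o ∈ Cfsg.centralizerPPrimeCore 2 y, c = h * o)
    (hK : Cfsg.IsCompositionKGroup ↥H) (hM : ¬ Cfsg.Spor.IsoM11 (↥H ⧸ Cfsg.oddCore ↥H)) :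
    (Cfsg.oddCore ↥H).map H.subtype ≤ Cfsg.oddCore X := by
  revert X S hS h2 H hev h1 hcov hK hM
  exact @Cfsg.Agent.Gate.S3119.out Cfsg.Agent.Cond.S3119

end Cfsg.Agent.S3119
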