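import Cfsg.Statements.S3171
import Cfsg.Agent.Gold.M9Syl

set_option autoImplicit false
open Cfsg

namespace Cfsg.Agent.S3171

/-- Let P be a Sylow 2-subgroup of the Mathieu group of degree 24 and S the quotient of P by its centre. Then the centre of every maximal subgroup of S has order at most 8; S has an elementary abelian subgroup of order 64; and S has only one abelian subgroup of order 64. -/
theorem result (P : Sylow 2 ↥Cfsg.M24) :
    (∀ M : Subgroup (↥(P : Subgroup ↥Cfsg.M24) ⧸ Subgroup.center ↥(P : Subgroup ↥Cfsg.M24)), IsCoatom M →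
        Nat.card ↥(Subgroup.center ↥M) ≤ 8) ∧
      (∃ A : Subgroup (↥(P : Subgroup ↥Cfsg.M24) ⧸ Subgroup.center ↥(P : Subgroup ↥Cfsg.M24)),
        Cfsg.IsElementaryAbelian 2 A ∧ Nat.card ↥A = 64) ∧
      ∀ A B : Subgroup (↥(P : Subgroup ↥Cfsg.M24) ⧸ Subgroup.center ↥(P : Subgroup ↥Cfsg.M24)),
        IsMulCommutative ↥A → Nat.card ↥A = 64 → IsMulCommutative ↥B → Nat.card ↥B = 64 → A = B := by
  open Subgroup Cfsg.Lib.Gold.M9 in
  obtain ⟨e⟩ := exists_equiv_S9 P
  have key : ∀ A : Subgroup (↥(P : Subgroup ↥Cfsg.M24) ⧸ center ↥(P : Subgroup ↥Cfsg.M24)),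
      IsMulCommutative A → Nat.card A = 64 → A.map e.toMonoidHom = A9 := fun A h1 h2 => by
    refine eq_A9 ?_ ((card_map_of_injective e.injective).trans h2)
    rintro _ ⟨a, ha, rfl⟩ _ ⟨b, hb, rfl⟩
    rw [← map_mul, ← map_mul]
    exact congrArg _ (congrArg Subtype.val (h1.is_comm.comm ⟨a, ha⟩ ⟨b, hb⟩) :)
  refine ⟨fun M hM => ?_, ⟨A9.map e.symm.toMonoidHom, ⟨⟨⟨?_⟩⟩, ?_⟩,
    (card_map_of_injective e.symm.injective).trans card_A9⟩, fun A B h1 h2 h3 h4 =>
    map_injective e.injective ((key A h1 h2).trans (key B h3 h4).symm)⟩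
  · rw [Nat.card_congr (Subgroup.centerCongr (e.subgroupMap M)).toEquiv]
    exact card_center_le ((OrderIso.isCoatom_iff e.mapSubgroup M).2 hM)
  · rintro ⟨_, a, ha, rfl⟩ ⟨_, b, hb, rfl⟩
    exact Subtype.ext ((map_mul ..).symm.trans ((congrArg _ (comm_A9 ha hb)).trans (map_mul ..)))
  · rintro _ ⟨a, ha, rfl⟩
    rw [← map_pow, pow_two, sq_A9 a ha, map_one]

end Cfsg.Agent.S3171
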