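import Cfsg.Statements.S3178
import Cfsg.Agent.Rank2.FusKit
import Cfsg.Agent.Trans.AlpOdd
import Cfsg.Agent.Trans.Frobenius
import Cfsg.Agent.Perm.QuatAut

set_option autoImplicit false
open Cfsg

namespace Cfsg.Agent.S3178

open Subgroup Cfsg.Lib.Trans

/-- Groups with a modular Sylow 2-subgroup have a normal 2-complement. Let S, of order 2^(n+1) with n ≥ 3, be a Sylow 2-subgroup of a finite group G, and suppose S contains an element a of order 2^n and an involution b with b a b⁻¹ = a^(2^(n-1) + 1); so S is the non-abelian 2-group with a cyclic subgroup of index 2 that is neither dihedral, semidihedral nor generalized quaternion. Then G has a normal 2-complement. -/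
theorem result {G : Type*} [Group G] [Finite G]
    (S : Sylow 2 G) (n : ℕ) (hn : 3 ≤ n) (hS : Nat.card ↥(S : Subgroup G) = 2 ^ (n + 1))
    (a b : G) (ha : a ∈ (S : Subgroup G)) (hb : b ∈ (S : Subgroup G))
    (hao : orderOf a = 2 ^ n) (hbo : orderOf b = 2) (hrel : b * a * b⁻¹ = a ^ (2 ^ (n - 1) + 1)) :
    Cfsg.HasNormalPComplement 2 G := by
  have : Fact (Nat.Prime 2) := ⟨Nat.prime_two⟩
  obtain ⟨m, rfl⟩ := Nat.exists_eq_add_of_le' hn
  simp only [show m + 3 - 1 = m + 2 from rfl] at hrel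
  have hidx : (zpowers (⟨a, ha⟩ : (S : Subgroup G))).index = 2 := by
    have h3 := (zpowers (⟨a, ha⟩ : (S : Subgroup G))).index_mul_card
    rw [Nat.card_zpowers, ← Subgroup.orderOf_coe, hao, hS, pow_succ' 2 (m + 3)] at h3
    exact Nat.eq_of_mul_eq_mul_right (by positivity) h3
  have hbn : (⟨b, hb⟩ : (S : Subgroup G)) ∉ zpowers (⟨a, ha⟩ : (S : Subgroup G)) := by
    rintro ⟨k, hk⟩
    have hk' : a ^ k = b := congrArg Subtype.val hk
    rw [← hk', (Commute.self_zpow a k).eq.symm, mul_inv_cancel_right, pow_succ, eq_comm,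
      mul_eq_right] at hrel
    have := orderOf_dvd_of_pow_eq_one hrel
    rw [hao, Nat.pow_dvd_pow_iff_le_right one_lt_two] at this
    omega
  have hba : Commute (a ^ 2) b := by
    have h1 : b * a ^ 2 * b⁻¹ = a ^ 2 := by
      rw [← conj_pow, hrel, ← pow_mul, add_mul, ← pow_succ, pow_add, ← hao, pow_orderOf_eq_one,
        one_mul, one_mul]
    exact (mul_inv_eq_iff_eq_mul.mp h1).symm
  have hcen : ∀ s ∈ (S : Subgroup G), Commute (a ^ 2) s := by
    intro s hs
    by_cases h : (⟨s, hs⟩ : (S : Subgroup G)) ∈ zpowers (⟨a, ha⟩ : (S : Subgroup G))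
    · obtain ⟨k, hk⟩ := h
      have hk' : a ^ k = s := congrArg Subtype.val hk
      exact hk' ▸ ((Commute.refl a).pow_left 2).zpow_right k
    · obtain ⟨k, hk⟩ := (mul_mem_iff_of_index_two hidx).mpr (iff_of_false h hbn)
      have hk' : a ^ k = s * b := congrArg Subtype.val hk
      rw [← mul_inv_cancel_right s b, ← hk']
      exact (((Commute.refl a).pow_left 2).zpow_right k).mul_right hba.inv_right
  refine hasNormalPComplement_of_controls_fusion S S le_rfl ?_ fun x hx g hg => ?_
  · obtain ⟨Q⟩ : Nonempty (Sylow 2 (S : Subgroup G)) := inferInstance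
    refine ⟨Q, ⊥, inferInstance, ?_⟩
    rw [(Q.is_maximal' (S.isPGroup'.to_subgroup ⊤) le_top).symm]
    exact isComplement'_bot_top
  refine fusion_rel (isSylowIn_top S) (fun x y => ∃ v ∈ (S : Subgroup G), v * x * v⁻¹ = y) ?_
    (fun s hs x _ => ⟨s, hs, rfl⟩) (fun U hU _ hC k hk hko hkc => ?_) hx hg
  · rintro x _ _ ⟨v, hv, rfl⟩ ⟨w, hw, rfl⟩
    exact ⟨w * v, mul_mem hw hv, by group⟩
  refine absurd (Cfsg.Lib.Perm.mem_centralizer_of_isPGroup_mulAut ?_ hk hko) hkc
  by_contra hA
  have ha2 : a ^ 2 ∈ U := hC ⟨pow_mem ha 2, fun u hu => (hcen u (hU hu)).eq.symm⟩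
  have h4 : (a ^ 2) ^ 2 ≠ 1 := fun h => by
    rw [← pow_mul] at h
    have := orderOf_dvd_of_pow_eq_one h
    rw [hao, show 2 * 2 = 2 ^ 2 from rfl, Nat.pow_dvd_pow_iff_le_right one_lt_two] at this
    omega
  have e := subgroupOfEquivOfLe hU
  rcases Cfsg.Lib.Rank2.klein_or_q8 S.isPGroup' inferInstance hidx
    (U := U.subgroupOf S) (fun h => hA (h.of_equiv (MulAut.congr e))) with h | ⟨⟨f⟩, -⟩
  · apply h4
    have := Monoid.pow_exponent_eq_one (e.symm ⟨_, ha2⟩)
    rw [h.exponent_two, ← map_pow, e.symm.map_eq_one_iff] at this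
    exact congrArg Subtype.val this
  · apply h4
    have key : ∀ q : QuaternionGroup 2, (∀ r, q * r = r * q) → q ^ 2 = 1 := by decide
    have := key (f (e.symm ⟨_, ha2⟩)) fun r => by
      obtain ⟨u, rfl⟩ := (e.symm.trans f).surjective r
      change f (e.symm _) * f (e.symm u) = f (e.symm u) * f (e.symm _)
      rw [← map_mul, ← map_mul, ← map_mul, ← map_mul]
      congr 2
      exact Subtype.ext (hcen u (hU u.2)).eq
    rw [← map_pow, ← map_pow, f.map_eq_one_iff, e.symm.map_eq_one_iff] at this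
    exact congrArg Subtype.val this

end Cfsg.Agent.S3178
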