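import Cfsg.Statements.S3192
import Cfsg.Agent.CITCor.ClsFour
import Cfsg.Agent.CITCor.SelfCent
import Cfsg.Agent.Known.SL2Orders

set_option autoImplicit false
open Cfsg

namespace Cfsg.Agent.S3192

open Cfsg.Lib.CITCor Cfsg.Lib.CITCor.Cls Cfsg.Lib.Solv.ClassSize Cfsg.Lib.Known.GL2 Subgroup

theorem card_cent_equiv {G H : Type*} [Group G] [Group H] [Finite G] (e : G ≃* H) (x : G) :
    Nat.card (centralizer ({e x} : Set H)) = Nat.card (centralizer ({x} : Set G)) := by
  have h1 : (centralizer ({e x} : Set H)).index = (centralizer ({x} : Set G)).index := by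
    refine Nat.dvd_antisymm (index_cent_map_dvd (e : G →* H) e.surjective x) ?_
    simpa using index_cent_map_dvd (e.symm : H →* G) e.symm.surjective (e x)
  have h2 := (centralizer ({e x} : Set H)).card_mul_index
  rw [h1, ← Nat.card_congr e.toEquiv, ← (centralizer ({x} : Set G)).card_mul_index] at h2
  exact Nat.eq_of_mul_eq_mul_right (Nat.pos_of_ne_zero index_ne_zero_of_finite) h2

/-- Simple groups of conjugate type rank three. For a finite group G consider the set of indices of the centralizers of the non-central elements of G. Then G is a non-abelian simple group for which this set has exactly three members if and only if G is isomorphic to PSL(2, 2^m) for some m ≥ 2. -/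
theorem result (G : Type*) [Group G] [Finite G] :
    (IsSimpleGroup G ∧ ¬ IsMulCommutative G ∧
        Set.ncard {m : ℕ | ∃ x : G, x ∉ Subgroup.center G ∧ m = (Subgroup.centralizer ({x} : Set G)).index} = 3) ↔
      ∃ (m : ℕ) (F : Type) (_ : Field F) (_ : Fintype F), 2 ≤ m ∧ Fintype.card F = 2 ^ m ∧
        Nonempty (G ≃* Matrix.ProjectiveSpecialLinearGroup (Fin 2) F) := by
  have hfin : Set.Finite
      {m : ℕ | ∃ x : G, x ∉ center G ∧ m = (centralizer ({x} : Set G)).index} :=
    (Set.finite_range fun x : G => (centralizer ({x} : Set G)).index).subset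
      fun _ ⟨x, _, hx⟩ => ⟨x, hx.symm⟩
  constructor
  · rintro ⟨hs, hc, h3⟩
    have hZ := center_eq_bot_of_simple hc
    obtain ⟨F, i1, i2, ⟨n, hn, hF⟩, he⟩ := isL2Even_of_four hZ (not_isSolvable_of_simple hc) _
      h3.le hfin fun x hx => ⟨x, by rwa [hZ, mem_bot], rfl⟩
    exact ⟨n, F, i1, i2, hn, hF, he⟩
  · rintro ⟨n, F, i1, i2, hn, hF, ⟨e⟩⟩
    have hL : IsL2Even G := ⟨F, i1, i2, ⟨n, hn, hF⟩, ⟨e⟩⟩
    have hs := hL.isBender.isSimpleGroup
    have hc := hL.isBender.not_commutative
    have h2 := two_eq_zero_of_card (by omega) hF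
    refine ⟨hs, hc, le_antisymm ?_ ?_⟩
    · refine le_trans (Set.ncard_le_ncard (t := {Nat.card G / Fintype.card F,
        Nat.card G / (Fintype.card F - 1), Nat.card G / (Fintype.card F + 1)}) ?_) ?_
      · rintro _ ⟨x, hx, rfl⟩
        have h1 : (centralizer ({x} : Set G)).index =
            Nat.card G / Nat.card (centralizer ({x} : Set G)) :=
          (Nat.div_eq_of_eq_mul_right Nat.card_pos (card_mul_index _).symm).symm
        obtain ⟨g, hg⟩ := (equivPSL h2).surjective (e x)
        have := (slLin F).finite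
        have h3 := card_cent_equiv e x
        have hgZ : g ∉ (slLin F).Z := fun h4 => hx (by
          rw [(mem_Z_SL_iff_of_char_two h2).1 h4, map_one, eq_comm, map_eq_one_iff e e.injective]
            at hg
          exact hg ▸ one_mem _)
        rw [h1, ← h3, ← hg]
        by_cases hd : disc ((slLin F).ρ g) = 0
        · rw [equivPSL_apply, card_centralizer_psl2_of_disc hgZ hd]
          exact Or.inl rfl
        · rw [card_cent_equiv]
          rcases (centralizer_SL_cases hd).2 with h4 | h4 <;> rw [h4.2] <;> simp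
      · exact (Set.ncard_insert_le _ _).trans (Nat.succ_le_succ
          ((Set.ncard_insert_le _ _).trans (by rw [Set.ncard_singleton])))
    · by_contra hlt
      obtain ⟨a, b, hab⟩ : ∃ a b : ℕ, {m : ℕ | ∃ x : G, x ∉ center G ∧
          m = (centralizer ({x} : Set G)).index} ⊆ {a, b} := by
        rcases (by omega : Set.ncard {m : ℕ | ∃ x : G, x ∉ center G ∧
          m = (centralizer ({x} : Set G)).index} ≤ 1 ∨ Set.ncard {m : ℕ | ∃ x : G, x ∉ center G ∧
          m = (centralizer ({x} : Set G)).index} = 2) with h1 | h1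
        · rcases (Set.ncard_le_one_iff_eq hfin).1 h1 with h3 | ⟨a, h3⟩
          · exact ⟨0, 0, h3 ▸ Set.empty_subset _⟩
          · exact ⟨a, a, h3 ▸ by simp⟩
        · obtain ⟨a, b, -, h3⟩ := Set.ncard_eq_two.1 h1
          exact ⟨a, b, h3.le⟩
      refine not_isSolvable_of_simple hc (isSolvable_of_three (n₂ := a) (n₁ := b) fun x => ?_)
      by_cases hx : x ∈ center G
      · exact Or.inl (index_cent_eq_one_iff.2 hx)
      · exact Or.inr (hab ⟨x, hx, rfl⟩)

end Cfsg.Agent.S3192
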