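import Cfsg.Statements.S3222
import Cfsg.Agent.Local.KleinDich
import Cfsg.Agent.Local.SixRecog
import Cfsg.Agent.S0848
import Cfsg.Agent.S0497
import Cfsg.Agent.Class.PSL2MaxList

set_option autoImplicit false
open Cfsg

namespace Cfsg.Agent.S3222

open Cfsg.Lib.Local Cfsg.Lib.Trans Equiv Equiv.Perm
open scoped commutatorElement

/-- The double transposition `(0 1)(2 3)`. -/
def v₀ : Perm (Fin 4) := swap 0 1 * swap 2 3

theorem z2_cases : ∀ a : Multiplicative (ZMod 2), a = 1 ∨ a = Multiplicative.ofAdd 1 := by decide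

theorem z2_ne : (Multiplicative.ofAdd 1 : Multiplicative (ZMod 2)) ≠ 1 := by decide

theorem s4_center : ∀ σ : Perm (Fin 4), σ * swap 0 1 = swap 0 1 * σ → σ * swap 1 2 = swap 1 2 * σ →
    σ * swap 2 3 = swap 2 3 * σ → σ = 1 := by decide

theorem s4_comm : ∀ a b : Perm (Fin 4), a * v₀ = v₀ * a → b * v₀ = v₀ * b →
    ⁅a, b⁆ = 1 ∨ ⁅a, b⁆ = v₀ := by decide +kernel

theorem s4_sq : ∀ σ : Perm (Fin 4), sign σ = 1 → ∃ ρ : Perm (Fin 4), σ = ρ * ρ := by
  decide +kernel

theorem s4_four : ∀ σ : Perm (Fin 4), sign σ = 1 → σ * σ = 1 → σ ≠ 1 →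
    ∃ ρ : Perm (Fin 4), sign ρ = 1 ∧ ρ * v₀ * ρ⁻¹ = σ := by decide +kernel

theorem s4_four' : ∀ σ : Perm (Fin 4), sign σ = 1 → (σ * v₀ = v₀ * σ ↔ σ * σ = 1) := by
  decide +kernel

theorem s4_cent_A4 : ∀ σ : Perm (Fin 4), (∀ ρ : Perm (Fin 4), sign ρ = 1 → ⁅ρ, σ⁆ = 1) → σ = 1 := by
  decide +kernel

theorem s4_swap : ∀ σ : Perm (Fin 4), σ * swap 0 1 = swap 0 1 * σ → σ * σ = 1 → σ ≠ 1 → σ ≠ v₀ →
    σ * swap 2 3 = swap 2 3 * σ → ∀ ρ : Perm (Fin 4), sign ρ = -1 → ρ * ρ = 1 →
    ∃ g : Perm (Fin 4), g * σ * g⁻¹ = ρ := by decide +kernel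

theorem s4_card_cent : Nat.card {σ : Perm (Fin 4) // σ * v₀ = v₀ * σ} = 8 := by
  rw [Nat.card_eq_fintype_card]; decide +kernel

theorem s4_card_four : Nat.card {σ : Perm (Fin 4) // sign σ = 1 ∧ σ * σ = 1} = 4 := by
  rw [Nat.card_eq_fintype_card]; decide +kernel

theorem s4_card_seven : Nat.card {σ : Perm (Fin 4) // σ = 1 ∨ (sign σ = -1 ∧ σ * σ = 1)} = 7 := by
  rw [Nat.card_eq_fintype_card]; decide +kernel

theorem nonempty_d8 : Nonempty (Subgroup.centralizer ({v₀} : Set (Perm (Fin 4))) ≃* DihedralGroup 4) := by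
  let s : Perm (Fin 4) := swap 0 1
  let r : Perm (Fin 4) := swap 0 2 * swap 1 3 * swap 0 1
  have hs : s * s = 1 := by decide
  have hsr : s * r * s⁻¹ = r⁻¹ := by decide
  have hr : r ^ 4 = 1 := by decide
  let φ := dihedralHom hs hsr hr
  have hφ : Function.Injective φ := by
    rw [injective_iff_map_eq_one]
    have h : ∀ i : ZMod 4, (r ^ (i.cast : ℤ) = 1 → i = 0) ∧ s * r ^ (i.cast : ℤ) ≠ 1 := by decide
    rintro (i | i) hi
    · rw [(h i).1 hi]; rfl
    · exact absurd hi (h i).2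
  have hle : φ.range ≤ Subgroup.centralizer {v₀} := by
    rw [dihedralHom_range, Subgroup.closure_le]
    rintro x (rfl | rfl)
    · exact Subgroup.mem_centralizer_singleton_iff.2 (by decide)
    · exact Subgroup.mem_centralizer_singleton_iff.2 (by decide)
  have heq : φ.range = Subgroup.centralizer {v₀} := by
    apply Subgroup.eq_of_le_of_card_ge hle
    rw [← Nat.card_congr (MonoidHom.ofInjective hφ).toEquiv, DihedralGroup.nat_card,
      Nat.card_congr (Equiv.subtypeEquivRight fun σ => Subgroup.mem_centralizer_singleton_iff),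
      s4_card_cent]
  exact ⟨(MulEquiv.subgroupCongr heq.symm).trans (MonoidHom.ofInjective hφ).symm⟩

variable {G : Type*} [Group G] [Finite G]

/-- The configuration after the transfer step. -/
structure Setup (t : G) (S : Sylow 2 G) (N : Subgroup G) (j : Perm (Fin 4) →* G) : Prop where
  ht : orderOf t = 2
  hN : N.index = 2
  htN : t ∉ N
  inj : Function.Injective j
  mem : ∀ σ, j σ ∈ N
  cent : ∀ g, g * t = t * g ↔ ∃ σ, g = j σ ∨ g = t * j σ
  hS : ∀ g, g ∈ (S : Subgroup G) ↔ g * j v₀ = j v₀ * g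
  hSt : ∀ g ∈ (S : Subgroup G), g * t = t * g
  card : Nat.card (Subgroup.centralizer ({t} : Set G)) = 48
  norm : ∀ g : G, (∀ s ∈ (S : Subgroup G), g * s * g⁻¹ ∈ (S : Subgroup G)) → g ∈ (S : Subgroup G)

namespace Setup

variable {t : G} {S : Sylow 2 G} {N : Subgroup G} {j : Perm (Fin 4) →* G} (h : Setup t S N j)
include h

omit [Finite G] in
theorem comm (σ : Perm (Fin 4)) : j σ * t = t * j σ := (h.cent _).2 ⟨σ, Or.inl rfl⟩

omit [Finite G] in
theorem cent_mem {g : G} (hg : g ∈ N) (hc : g * t = t * g) : ∃ σ, g = j σ := by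
  obtain ⟨σ, h1 | h1⟩ := (h.cent g).1 hc
  · exact ⟨σ, h1⟩
  · exact absurd ((mul_mem_cancel_right (h.mem σ)).1 (h1 ▸ hg)) h.htN

omit [Finite G] in
theorem cent_not_mem {g : G} (hg : g ∉ N) (hc : g * t = t * g) : ∃ σ, g = t * j σ := by
  obtain ⟨σ, h1 | h1⟩ := (h.cent g).1 hc
  · exact absurd (h1 ▸ h.mem σ) hg
  · exact ⟨σ, h1⟩

omit [Finite G] in
theorem conj_tj (g σ : Perm (Fin 4)) : j g * (t * j σ) * (j g)⁻¹ = t * j (g * σ * g⁻¹) := by
  rw [map_mul, map_mul, map_inv, ← mul_assoc, h.comm]; group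

omit [Finite G] in
theorem top_of_le (hle : N ≤ Subgroup.centralizer {t}) : Subgroup.centralizer ({t} : Set G) = ⊤ := by
  rw [eq_top_iff]
  intro g _
  by_cases hg : g ∈ N
  · exact hle hg
  · have : g * t ∈ N := (Subgroup.mul_mem_iff_of_index_two h.hN).2 (by simp [hg, h.htN])
    exact (mul_mem_cancel_right (Subgroup.mem_centralizer_singleton_iff.2 rfl)).1 (hle this)

omit [Finite G] in
theorem exists_d8 : Nonempty (Subgroup.centralizer ({(⟨j v₀, h.mem _⟩ : N)} : Set N) ≃*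
    DihedralGroup 4) := by
  obtain ⟨e⟩ := nonempty_d8
  let j' : Perm (Fin 4) →* N := j.codRestrict N h.mem
  have hj' : Function.Injective j' := fun a b hab => h.inj (congrArg Subtype.val hab)
  have : (Subgroup.centralizer {v₀}).map j' = Subgroup.centralizer {(⟨j v₀, h.mem _⟩ : N)} := by
    ext g
    rw [Subgroup.mem_centralizer_singleton_iff]
    constructor
    · rintro ⟨σ, hσ, rfl⟩
      apply Subtype.ext
      show j σ * j v₀ = j v₀ * j σ
      rw [← map_mul, ← map_mul, Subgroup.mem_centralizer_singleton_iff.1 hσ]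
    · intro hg
      have hg' : (g : G) * j v₀ = j v₀ * g := congrArg Subtype.val hg
      obtain ⟨σ, hσ⟩ := h.cent_mem g.2 (h.hSt _ ((h.hS _).2 hg'))
      refine ⟨σ, Subgroup.mem_centralizer_singleton_iff.2 (h.inj ?_), Subtype.ext hσ.symm⟩
      rw [map_mul, map_mul, ← hσ, hg']
  exact ⟨((MulEquiv.subgroupCongr this.symm).trans
    ((Subgroup.centralizer {v₀}).equivMapOfInjective j' hj').symm).trans e⟩

theorem not_conj : ¬ IsConj (t * j v₀) t := by
  haveI : Fact (Nat.Prime 2) := ⟨Nat.prime_two⟩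
  intro hc
  obtain ⟨g, hg, hgS⟩ := exists_extremal_conj (isSylowIn_of_le S fun s hs =>
    Subgroup.mem_centralizer_singleton_iff.2 (h.hSt s hs)) hc S.isPGroup' (fun r hr => by
      rw [← mul_assoc, h.hSt r hr, mul_assoc, (h.hS r).1 hr, mul_assoc])
  have h1 := h.norm g hgS
  have : g * (t * j v₀) * g⁻¹ = t * j v₀ := by
    rw [← mul_assoc, h.hSt g h1, mul_assoc t, (h.hS g).1 h1]; group
  rw [this, mul_eq_left, ← map_one j] at hg
  exact absurd (h.inj hg) (by decide)

theorem case_simple (hne : Subgroup.centralizer ({t} : Set G) ≠ ⊤)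
    (h2 : ∀ H : Subgroup N, H.index ≠ 2) : Nonempty (G ≃* Perm (Fin 6)) := by
  haveI : Fact (Nat.Prime 2) := ⟨Nat.prime_two⟩
  haveI := Subgroup.normal_of_index_eq_two h.hN
  obtain ⟨e⟩ := h.exists_d8
  let S₁ : Sylow 2 N := (isSylowIn_inf_of_normal S N).toSylow
  have hS₁ : ∀ s ∈ (S₁ : Subgroup N), s * ⟨j v₀, h.mem _⟩ = ⟨j v₀, h.mem _⟩ * s := fun s hs =>
    Subtype.ext ((h.hS _).1 hs.1)
  have hord : ∀ σ, orderOf (⟨j σ, h.mem _⟩ : N) = orderOf σ := fun σ => by
    rw [← Subgroup.orderOf_coe, orderOf_injective j h.inj]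
  have hz : orderOf (⟨j v₀, h.mem _⟩ : N) = 2 := by
    rw [hord]; exact invol_of_mul_self (by decide) (by decide)
  haveI := d8_simple e h2 hz S₁ hS₁
  rcases S0848.result (d8_perfect e h2 hz S₁ hS₁) _ hz e with hc | hc
  · exfalso
    have hidx : (Subgroup.centralizer ({t} : Set G)).index = 7 := by
      have h1 := (Subgroup.centralizer ({t} : Set G)).card_mul_index
      have h3 := N.card_mul_index
      rw [h.card] at h1
      rw [hc, h.hN] at h3
      omega
    obtain ⟨g, hg⟩ := isConj_iff.1 (d8_one_class e h2 hz S₁ hS₁ (y := ⟨j (swap 0 1), h.mem _⟩)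
      (by rw [hord]; exact invol_of_mul_self (by decide) (by decide))).symm
    have hg' : (g : G) * j v₀ * (g : G)⁻¹ = j (swap 0 1) := congrArg Subtype.val hg
    have hcomm : ∀ y : G, y * j (swap 0 1) = j (swap 0 1) * y →
        y * (g * t * (g : G)⁻¹) = g * t * (g : G)⁻¹ * y := by
      intro y hy
      have h1 : (g : G)⁻¹ * y * g * j v₀ = j v₀ * ((g : G)⁻¹ * y * g) := by
        calc (g : G)⁻¹ * y * g * j v₀ = (g : G)⁻¹ * (y * (g * j v₀ * (g : G)⁻¹)) * g := by group
          _ = (g : G)⁻¹ * ((g * j v₀ * (g : G)⁻¹) * y) * g := by rw [hg', hy]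
          _ = _ := by group
      have h3 := h.hSt _ ((h.hS _).2 h1)
      calc y * (g * t * (g : G)⁻¹) = g * ((g : G)⁻¹ * y * g * t) * (g : G)⁻¹ := by group
        _ = _ := by rw [h3]; group
    have htN' : (g : G) * t * (g : G)⁻¹ ∉ N := fun hm =>
      h.htN ((mul_mem_cancel_left g.2).1 ((mul_mem_cancel_right (inv_mem g.2)).1 hm))
    obtain ⟨σ, hσ⟩ := h.cent_not_mem htN' (hcomm t (h.comm _).symm).symm
    have hcj : IsConj t (t * j σ) := isConj_iff.2 ⟨g, hσ⟩
    have hcs : ∀ ρ, ρ * swap 0 1 = swap 0 1 * ρ → σ * ρ = ρ * σ := by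
      intro ρ hρ
      have := hcomm (j ρ) (by rw [← map_mul, ← map_mul, hρ])
      rw [hσ, ← mul_assoc, h.comm, mul_assoc, mul_assoc, mul_right_inj, ← map_mul, ← map_mul] at this
      exact (h.inj this).symm
    have hσ2 : σ * σ = 1 := by
      have := invol_mul_self ((orderOf_of_isConj hcj).trans h.ht)
      rw [mul_assoc, ← mul_assoc (j σ), h.comm, ← mul_assoc, ← mul_assoc, invol_mul_self h.ht,
        one_mul, ← map_mul, ← map_one j] at this
      exact h.inj this
    have hσ1 : σ ≠ 1 := by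
      rintro rfl
      rw [map_one, mul_one, mul_inv_eq_iff_eq_mul] at hσ
      obtain ⟨ρ, hρ⟩ := h.cent_mem g.2 hσ
      rw [hρ, ← map_inv, ← map_mul, ← map_mul] at hg'
      have := congrArg sign (h.inj hg')
      simp [v₀] at this
    have hσv : σ ≠ v₀ := by
      rintro rfl
      exact h.not_conj hcj.symm
    have hall := s4_swap σ (hcs _ rfl) hσ2 hσ1 hσv (hcs _ (by decide))
    let f : {σ : Perm (Fin 4) // σ = 1 ∨ (sign σ = -1 ∧ σ * σ = 1)} → {y : G // IsConj t y} :=
      fun ρ => ⟨t * j ρ, by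
        rcases ρ.2 with h1 | ⟨h1, h3⟩
        · rw [h1, map_one, mul_one]
        · obtain ⟨k, hk⟩ := hall ρ h1 h3
          exact hcj.trans (isConj_iff.2 ⟨j k, by rw [h.conj_tj, hk]⟩)⟩
    have hf : Function.Injective f := fun a b hab =>
      Subtype.ext (h.inj (mul_left_cancel (congrArg Subtype.val hab)))
    have hbij := hf.bijective_of_nat_card_le
      (by rw [card_isConj_eq_index, hidx, s4_card_seven])
    have hct : ∀ y, IsConj t y → y * t = t * y := by
      intro y hy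
      obtain ⟨ρ, hρ⟩ := hbij.2 ⟨y, hy⟩
      exact (h.cent y).2 ⟨ρ, Or.inr (congrArg Subtype.val hρ).symm⟩
    obtain ⟨a, ha⟩ := isConj_iff.1 (f ⟨swap 0 1, by decide⟩).2
    have hb := (f ⟨swap 1 2, by decide⟩).2
    have h5 := hct (a⁻¹ * (t * j (swap 1 2)) * a) (hb.trans (isConj_iff.2 ⟨a⁻¹, by simp [f]⟩))
    have h6 : t * j (swap 1 2) * (t * j (swap 0 1)) = t * j (swap 0 1) * (t * j (swap 1 2)) := by
      have ha' : a * t * a⁻¹ = t * j (swap 0 1) := ha
      rw [← ha']
      calc t * j (swap 1 2) * (a * t * a⁻¹) = a * (a⁻¹ * (t * j (swap 1 2)) * a * t) * a⁻¹ := by group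
        _ = _ := by rw [h5]; group
    rw [mul_assoc, mul_assoc, mul_right_inj, ← mul_assoc, ← mul_assoc, h.comm, h.comm, mul_assoc,
      mul_assoc, mul_right_inj, ← map_mul, ← map_mul] at h6
    exact absurd (h.inj h6) (by decide)
  · obtain ⟨e6⟩ := S0497.result hc
    refine nonempty_mulEquiv_S6 N h.hN e6 (fun g hg => ?_) h.htN (h.mem (swap 0 1 * swap 1 2)) ?_
      (h.comm _).symm
    · have hgt := h.hSt g ((h.hS g).2 (hg _ (h.mem _)))
      obtain ⟨σ, h1 | h1⟩ := (h.cent g).1 hgt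
      · have : ∀ ρ, σ * ρ = ρ * σ := fun ρ => h.inj (by
          rw [map_mul, map_mul, ← h1]; exact hg _ (h.mem _))
        rw [h1, s4_center σ (this _) (this _) (this _), map_one]
      · have : ∀ ρ, σ * ρ = ρ * σ := fun ρ => h.inj (by
          have := hg _ (h.mem ρ)
          rw [h1, ← mul_assoc, h.comm, mul_assoc, mul_assoc, mul_right_inj] at this
          rw [map_mul, map_mul, this])
        rw [s4_center σ (this _) (this _) (this _), map_one, mul_one] at h1
        exact absurd (h.top_of_le fun n hn =>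
          Subgroup.mem_centralizer_singleton_iff.2 (h1 ▸ (hg n hn).symm)) hne
    · rw [orderOf_injective j h.inj]
      exact orderOf_eq_prime (by decide) (by decide)

theorem case_index (L : Subgroup N) (hL : L.index = 2) : Subgroup.centralizer ({t} : Set G) = ⊤ := by
  haveI : Fact (Nat.Prime 2) := ⟨Nat.prime_two⟩
  haveI := Subgroup.normal_of_index_eq_two h.hN
  haveI hLn := Subgroup.normal_of_index_eq_two hL
  by_contra hne
  set M := L.map N.subtype with hM
  have hMN : M ≤ N := Subgroup.map_subtype_le L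
  have hrel : M.relIndex N = 2 := by
    rw [Subgroup.relIndex, hM, Subgroup.subgroupOf, Subgroup.comap_map_eq_self_of_injective
      N.subtype_injective, hL]
  have hidx := idxLeTwo_of_relIndex hrel
  have heven : ∀ σ, sign σ = 1 → j σ ∈ M := by
    intro σ hσ
    obtain ⟨ρ, rfl⟩ := s4_sq σ hσ
    rw [map_mul]
    exact hidx.mul_self_mem (h.mem ρ)
  have hSN := isSylowIn_inf_of_normal S N
  have hodd : ∀ σ, j σ ∈ M → sign σ = 1 := by
    intro σ hσ
    by_contra hs
    refine hSN.not_dvd_relIndex_of_le (K := M) (fun s hs' => ?_) (by rw [hrel])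
    obtain ⟨ρ, rfl⟩ := h.cent_mem hs'.2 (h.hSt s hs'.1)
    rcases Int.units_eq_one_or (sign ρ) with h1 | h1
    · exact heven ρ h1
    · have := heven (ρ * σ) (by
        rw [map_mul, h1, (Int.units_eq_one_or _).resolve_left hs]; rfl)
      rw [map_mul] at this
      exact (mul_mem_cancel_right hσ).1 this
  have hnle : ¬ M ≤ Subgroup.centralizer {t} := by
    intro hle
    apply hne (h.top_of_le fun n hn => ?_)
    by_cases hnM : n ∈ M
    · exact hle hnM
    · have := hidx n hn _ (h.mem (swap 0 1)) hnM fun h' => absurd (hodd _ h') (by decide)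
      exact (mul_mem_cancel_right (Subgroup.mem_centralizer_singleton_iff.2 (h.comm _))).1 (hle this)
  have hVM : IsSylowIn 2 ((S : Subgroup G) ⊓ N ⊓ M) M :=
    hSN.inf_normal_of_le (fun n hn => Subgroup.mem_normalizer_fintype fun m hm =>
      hidx.conj_mem hn (hMN hm) hm) hMN
  let V : Sylow 2 M := hVM.toSylow
  have hV : ∀ v : M, v ∈ (V : Subgroup M) ↔ ∃ σ, sign σ = 1 ∧ σ * σ = 1 ∧ j σ = v := by
    intro v
    constructor
    · intro hv
      obtain ⟨σ, hσ⟩ := h.cent_mem hv.1.2 (h.hSt _ hv.1.1)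
      have hσ' : (v : G) = j σ := hσ
      have h1 := hodd σ (hσ' ▸ v.2)
      refine ⟨σ, h1, (s4_four' σ h1).1 (h.inj ?_), hσ'.symm⟩
      rw [map_mul, map_mul, ← hσ']
      exact (h.hS _).1 hv.1.1
    · rintro ⟨σ, h1, h3, h4⟩
      refine ⟨⟨(h.hS _).2 ?_, hMN v.2⟩, v.2⟩
      show (v : G) * _ = _ * (v : G)
      rw [← h4, ← map_mul, ← map_mul, (s4_four' σ h1).2 h3]
  have hzM : j v₀ ∈ M := heven _ (by decide)
  have hVconj : ∀ v ∈ (V : Subgroup M), v ≠ 1 → ∃ ρ, ∃ hρ : sign ρ = 1,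
      (⟨j ρ, heven ρ hρ⟩ : M) * ⟨j v₀, hzM⟩ * (⟨j ρ, heven ρ hρ⟩ : M)⁻¹ = v := by
    intro v hv hv1
    obtain ⟨σ, h1, h3, h4⟩ := (hV v).1 hv
    obtain ⟨ρ, hρ, h5⟩ := s4_four σ h1 h3 (by
      rintro rfl; exact hv1 (Subtype.ext (by rw [← h4, map_one]; rfl)))
    refine ⟨ρ, hρ, Subtype.ext ?_⟩
    rw [← h4, ← h5]; simp
  have hcard : Nat.card V = 4 := by
    rw [← s4_card_four]
    symm
    refine Nat.card_eq_of_bijective (fun σ => ⟨⟨j σ, heven _ σ.2.1⟩, (hV _).2 ⟨σ, σ.2.1, σ.2.2, rfl⟩⟩)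
      ⟨fun a b hab => Subtype.ext (h.inj (congrArg (fun x : (V : Subgroup M) => ((x : M) : G)) hab)),
        fun v => ?_⟩
    obtain ⟨σ, h1, h3, h4⟩ := (hV v).1 v.2
    exact ⟨⟨σ, h1, h3⟩, Subtype.ext (Subtype.ext h4)⟩
  have hdich := klein_dichotomy V hcard
    (fun v hv => by
      obtain ⟨σ, -, h3, h4⟩ := (hV v).1 hv
      exact Subtype.ext (by rw [Subgroup.coe_mul, ← h4, ← map_mul, h3, map_one]; rfl))
    (fun a b ha hb => by
      have key : ∀ a : M, orderOf a = 2 → IsConj (⟨j v₀, hzM⟩ : M) a := by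
        intro a ha
        obtain ⟨u, hau, huV⟩ := exists_conj_mem_sylow_two V ha
        obtain ⟨ρ, hρ, h5⟩ := hVconj u huV (invol_ne_one ((orderOf_of_isConj hau).trans ha))
        exact (isConj_iff.2 ⟨_, h5⟩).trans hau.symm
      exact (key a ha).symm.trans (key b hb))
    (fun v hv hv1 g hg => by
      obtain ⟨ρ, hρ, h5⟩ := hVconj v hv hv1
      set k : M := ⟨j ρ, heven ρ hρ⟩ with hk
      have h6 : k⁻¹ * g * k ∈ (V : Subgroup M) := by
        refine ⟨⟨(h.hS _).2 ?_, hMN (k⁻¹ * g * k).2⟩, (k⁻¹ * g * k).2⟩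
        have : k⁻¹ * g * k * ⟨j v₀, hzM⟩ = ⟨j v₀, hzM⟩ * (k⁻¹ * g * k) := by
          calc k⁻¹ * g * k * ⟨j v₀, hzM⟩ = k⁻¹ * (g * (k * ⟨j v₀, hzM⟩ * k⁻¹)) * k := by group
            _ = k⁻¹ * ((k * ⟨j v₀, hzM⟩ * k⁻¹) * g) * k := by rw [h5, hg]
            _ = _ := by group
        exact congrArg Subtype.val this
      obtain ⟨σ, h1, h3, h4⟩ := (hV _).1 h6
      refine (hV g).2 ⟨ρ * σ * ρ⁻¹, by simp [h1], by
        calc ρ * σ * ρ⁻¹ * (ρ * σ * ρ⁻¹) = ρ * (σ * σ) * ρ⁻¹ := by group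
          _ = 1 := by rw [h3]; group, ?_⟩
      rw [map_mul, map_mul, map_inv, h4]
      simp [hk, mul_assoc])
  rcases hdich with hVn | ⟨⟨e5⟩⟩
  · refine hnle fun m hm => ?_
    have hzV : (⟨j v₀, hzM⟩ : M) ∈ (V : Subgroup M) := (hV _).2 ⟨v₀, by decide, by decide, rfl⟩
    obtain ⟨ρ, hρ, h5⟩ := hVconj _ (hVn.conj_mem _ hzV ⟨m, hm⟩) (by
      rw [Ne, conj_eq_one_iff]
      intro h6
      have h7 : j v₀ = j 1 := by rw [map_one]; exact congrArg Subtype.val h6
      exact absurd (h.inj h7) (by decide))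
    have h6 : j ρ * j v₀ * (j ρ)⁻¹ = m * j v₀ * m⁻¹ := congrArg Subtype.val h5
    have h7 : (j ρ)⁻¹ * m * j v₀ = j v₀ * ((j ρ)⁻¹ * m) := by
      calc (j ρ)⁻¹ * m * j v₀ = (j ρ)⁻¹ * (m * j v₀ * m⁻¹) * m := by group
        _ = _ := by rw [← h6]; group
    have h8 := Subgroup.mem_centralizer_singleton_iff.2 (h.hSt _ ((h.hS _).2 h7))
    exact (mul_mem_cancel_left (inv_mem (Subgroup.mem_centralizer_singleton_iff.2 (h.comm ρ)))).1 h8
  · haveI : IsSimpleGroup M := e5.isSimpleGroup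
    set H := Subgroup.centralizer ({t} : Set G) with hH
    have hcM : Nat.card M = 60 := by
      rw [Nat.card_congr e5.toEquiv, nat_card_alternatingGroup]; simp [Nat.factorial]
    have hcG : Nat.card G = 240 := by
      rw [← N.card_mul_index, ← card_mul_relIndex hMN, hcM, hrel, h.hN]
    have hidx5 : H.index = 5 := by
      have h1 := H.card_mul_index
      rw [h.card, hcG] at h1
      omega
    have hfac : H.normalCore.index ∣ H.index.factorial := by
      rw [Subgroup.normalCore_eq_ker, Subgroup.index_ker, Subgroup.index_eq_card, ← Nat.card_perm]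
      exact Subgroup.card_subgroup_dvd_card (MulAction.toPermHom G (G ⧸ H)).range
    have hKne : H.normalCore ≠ ⊥ := by
      intro hb
      rw [hb, Subgroup.index_bot, hcG, hidx5] at hfac
      exact absurd hfac (by decide)
    have hKM : ∀ k ∈ H.normalCore, k ∈ M → k = 1 := by
      intro k hk hkM
      rcases (H.normalCore_normal.subgroupOf M).eq_bot_or_eq_top with h1 | h1
      · have : (⟨k, hkM⟩ : M) ∈ H.normalCore.subgroupOf M := hk
        rw [h1] at this
        exact congrArg Subtype.val (Subgroup.mem_bot.1 this)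
      · exact absurd ((Subgroup.subgroupOf_eq_top.1 h1).trans H.normalCore_le) hnle
    have hK : ∀ k ∈ H.normalCore, k = 1 ∨ k = t := by
      intro k hk
      obtain ⟨σ, hσ⟩ := (h.cent k).1 (Subgroup.mem_centralizer_singleton_iff.1 (H.normalCore_le hk))
      have hσ1 : σ = 1 := s4_cent_A4 σ fun ρ hρ => by
        have h1 : ⁅j ρ, k⁆ = j ⁅ρ, σ⁆ := by
          rw [map_commutatorElement]
          rcases hσ with rfl | rfl
          · rfl
          · rw [commutatorElement_def, commutatorElement_def, ← mul_assoc (j ρ), h.comm ρ,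
              mul_inv_rev]
            have := h.comm (ρ * σ * ρ⁻¹ * σ⁻¹)
            simp only [map_mul, map_inv] at this
            calc t * j ρ * j σ * (j ρ)⁻¹ * ((j σ)⁻¹ * t⁻¹)
                = t * (j ρ * j σ * (j ρ)⁻¹ * (j σ)⁻¹) * t⁻¹ := by group
              _ = _ := by rw [← this]; group
        have h3 : ⁅j ρ, k⁆ ∈ H.normalCore :=
          mul_mem (H.normalCore_normal.conj_mem k hk _) (inv_mem hk)
        have h4 := hKM _ h3 (h1 ▸ heven _ (by
          rw [map_commutatorElement, commutatorElement_eq_one_iff_mul_comm, mul_comm]))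
        rw [h1, ← map_one j] at h4
        exact h.inj h4
      rw [hσ1, map_one, mul_one] at hσ
      exact hσ
    obtain ⟨⟨k, hk⟩, hk1⟩ := Subgroup.ne_bot_iff_exists_ne_one.1 hKne
    have hkt : k = t := (hK k hk).resolve_left fun h1 => hk1 (Subtype.ext h1)
    apply hne
    rw [eq_top_iff]
    intro g _
    rw [hH, mem_centralizer_singleton_iff_conj]
    refine (hK _ (H.normalCore_normal.conj_mem t (hkt ▸ hk) g)).resolve_left ?_
    simpa using invol_ne_one h.ht

end Setup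

theorem exists_setup (t : G) (ht : orderOf t = 2) (T : Sylow 2 G)
    (htc : ∀ s ∈ (T : Subgroup G), s * t = t * s)
    (e : ↥(Subgroup.centralizer ({t} : Set G)) ≃* (Multiplicative (ZMod 2) × Equiv.Perm (Fin 4)))
    (h2 : ∀ S : Sylow 2 G, Subgroup.centralizer ((⁅(S : Subgroup G), (S : Subgroup G)⁆ : Subgroup G) : Set G) = (S : Subgroup G)) :
    ∃ S N j, Setup t S N j := by
  classical
  haveI : Fact (Nat.Prime 2) := ⟨Nat.prime_two⟩
  set H := Subgroup.centralizer ({t} : Set G) with hH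
  have hHm : ∀ g, g ∈ H ↔ g * t = t * g := fun g => Subgroup.mem_centralizer_singleton_iff
  have hcard : Nat.card H = 48 := by
    rw [Nat.card_congr e.toEquiv, Nat.card_prod, Nat.card_perm]; simp [Nat.factorial]
  let i : Perm (Fin 4) →* G := H.subtype.comp (e.symm.toMonoidHom.comp (MonoidHom.inr _ _))
  have hi : Function.Injective i := H.subtype_injective.comp (e.symm.injective.comp
    fun a b hab => congrArg Prod.snd hab)
  have hiH : ∀ σ, i σ * t = t * i σ := fun σ => (hHm _).1 (e.symm (1, σ)).2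
  have het : e ⟨t, (hHm t).2 rfl⟩ = (Multiplicative.ofAdd 1, 1) := by
    have h1 : ∀ k, e ⟨t, (hHm t).2 rfl⟩ * k = k * e ⟨t, (hHm t).2 rfl⟩ := fun k => by
      obtain ⟨k, rfl⟩ := e.surjective k
      rw [← map_mul, ← map_mul]
      exact congrArg e (Subtype.ext ((hHm _).1 k.2).symm)
    have h3 : e ⟨t, (hHm t).2 rfl⟩ ≠ 1 := fun h =>
      invol_ne_one ht (congrArg Subtype.val (e.map_eq_one_iff.1 h))
    generalize e ⟨t, (hHm t).2 rfl⟩ = k at h1 h3
    obtain ⟨a, σ⟩ := k
    have h4 : ∀ ρ, σ * ρ = ρ * σ := fun ρ => congrArg Prod.snd (h1 (1, ρ))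
    have h5 := s4_center σ (h4 _) (h4 _) (h4 _)
    subst h5
    rcases z2_cases a with rfl | rfl
    · exact absurd rfl h3
    · rfl
  have hcent : ∀ g, g * t = t * g ↔ ∃ σ, g = i σ ∨ g = t * i σ := by
    intro g
    constructor
    · intro hg
      obtain ⟨⟨a, σ⟩, hk⟩ := e.symm.surjective ⟨g, (hHm g).2 hg⟩
      refine ⟨σ, ?_⟩
      rcases z2_cases a with rfl | rfl
      · exact Or.inl (congrArg Subtype.val hk).symm
      · right
        have : e.symm (Multiplicative.ofAdd 1, σ) = ⟨t, (hHm t).2 rfl⟩ * e.symm (1, σ) := by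
          apply e.injective
          rw [map_mul, het]; simp
        exact (congrArg Subtype.val (hk.symm.trans this))
    · rintro ⟨σ, rfl | rfl⟩
      · exact hiH σ
      · rw [mul_assoc, hiH]
  have hti : ∀ σ, t ≠ i σ := by
    intro σ h
    have : (⟨t, (hHm t).2 rfl⟩ : H) = e.symm (1, σ) := Subtype.ext h
    rw [MulEquiv.eq_symm_apply, het] at this
    have h1 : (Multiplicative.ofAdd 1 : Multiplicative (ZMod 2)) = 1 := congrArg Prod.fst this
    exact z2_ne h1
  -- the Sylow subgroup `S = C_H(z)`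
  let D : Subgroup G := H ⊓ Subgroup.centralizer {i v₀}
  have hD : ∀ g, g ∈ D ↔ ∃ σ, σ * v₀ = v₀ * σ ∧ (g = i σ ∨ g = t * i σ) := by
    intro g
    rw [Subgroup.mem_inf, hHm, hcent, Subgroup.mem_centralizer_singleton_iff]
    constructor
    · rintro ⟨⟨σ, rfl | rfl⟩, h⟩
      · exact ⟨σ, hi (by rwa [map_mul, map_mul]), Or.inl rfl⟩
      · refine ⟨σ, hi ?_, Or.inr rfl⟩
        rwa [← mul_assoc, hiH, mul_assoc, mul_assoc, mul_right_inj, ← map_mul, ← map_mul] at h
    · rintro ⟨σ, hσ, rfl | rfl⟩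
      · exact ⟨⟨σ, Or.inl rfl⟩, by rw [← map_mul, ← map_mul, hσ]⟩
      · exact ⟨⟨σ, Or.inr rfl⟩, by
          rw [← mul_assoc, hiH, mul_assoc, mul_assoc, ← map_mul, ← map_mul, hσ]⟩
  have hDc : Nat.card D = 16 := by
    let f : {σ : Perm (Fin 4) // σ * v₀ = v₀ * σ} × Bool → D := fun p =>
      ⟨if p.2 then i p.1 else t * i p.1, (hD _).2 ⟨p.1, p.1.2, by cases p.2 <;> simp⟩⟩
    have hf : Function.Bijective f := by
      constructor
      · rintro ⟨a, b⟩ ⟨c, d⟩ h
        have h' := congrArg Subtype.val h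
        cases b <;> cases d <;> simp only [f, Bool.false_eq_true, if_true, if_false] at h'
        · rw [Subtype.ext (hi (mul_left_cancel h'))]
        · exact absurd (by rw [map_mul, map_inv, ← h']; group) (hti (c * (a : Perm (Fin 4))⁻¹))
        · exact absurd (by rw [map_mul, map_inv, h']; group) (hti (a * (c : Perm (Fin 4))⁻¹))
        · rw [Subtype.ext (hi h')]
      · rintro ⟨g, hg⟩
        obtain ⟨σ, hσ, rfl | rfl⟩ := (hD g).1 hg
        · exact ⟨⟨⟨σ, hσ⟩, true⟩, rfl⟩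
        · exact ⟨⟨⟨σ, hσ⟩, false⟩, rfl⟩
    rw [← Nat.card_eq_of_bijective f hf, Nat.card_prod, s4_card_cent]; simp
  have hTc : Nat.card T ≤ 16 := by
    have h1 : Nat.card T ∣ 48 := hcard ▸ Subgroup.card_dvd_of_le fun s hs => (hHm s).2 (htc s hs)
    obtain ⟨n, hn⟩ := IsPGroup.iff_card.1 T.isPGroup'
    rw [hn] at h1 ⊢
    exact Nat.le_of_dvd (by decide) ((Nat.Coprime.pow_left n (by decide : Nat.Coprime 2 3)).dvd_of_dvd_mul_left
      (show 2 ^ n ∣ 3 * 16 from h1))
  obtain ⟨S, hS⟩ := ((isSylowIn_top T).of_card_ge (IsPGroup.of_card (n := 4) hDc) le_top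
    (by rw [hDc]; exact hTc)).exists_sylow_eq
  have hcommD : ∀ a ∈ D, ∀ b ∈ D, ⁅a, b⁆ = 1 ∨ ⁅a, b⁆ = i v₀ := by
    have key : ∀ g σ, (g = i σ ∨ g = t * i σ) → ∀ x, x * t = t * x →
        g * x * g⁻¹ = i σ * x * (i σ)⁻¹ := by
      rintro g σ (rfl | rfl) x hx
      · rfl
      · have h1 : i σ * x * (i σ)⁻¹ ∈ H :=
          mul_mem (mul_mem ((hHm _).2 (hiH σ)) ((hHm _).2 hx)) (inv_mem ((hHm _).2 (hiH σ)))
        calc t * i σ * x * (t * i σ)⁻¹ = t * (i σ * x * (i σ)⁻¹) * t⁻¹ := by group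
          _ = _ := by rw [← (hHm _).1 h1]; group
    intro a ha b hb
    obtain ⟨σ, hσ, h3⟩ := (hD a).1 ha
    obtain ⟨ρ, hρ, h4⟩ := (hD b).1 hb
    have : ⁅a, b⁆ = i ⁅σ, ρ⁆ := by
      rw [commutatorElement_def, key a σ h3 b ((hHm b).1 hb.1), map_commutatorElement,
        commutatorElement_def]
      have := key b ρ h4 (i σ)⁻¹ ((hHm _).1 (inv_mem ((hHm _).2 (hiH σ))))
      calc i σ * b * (i σ)⁻¹ * b⁻¹ = i σ * (b * (i σ)⁻¹ * b⁻¹) := by group
        _ = _ := by rw [this]; group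
    rcases s4_comm σ ρ hσ hρ with h5 | h5
    · left; rw [this, h5, map_one]
    · right; rw [this, h5]
  have hSz : ∀ g, g ∈ (S : Subgroup G) ↔ g * i v₀ = i v₀ * g := by
    intro g
    constructor
    · intro hg
      rw [hS] at hg
      exact Subgroup.mem_centralizer_singleton_iff.1 hg.2
    · intro hg
      rw [← h2 S, hS]
      have : ⁅D, D⁆ ≤ Subgroup.centralizer {g} := by
        rw [Subgroup.commutator_le]
        intro a ha b hb
        rw [Subgroup.mem_centralizer_singleton_iff]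
        rcases hcommD a ha b hb with h5 | h5 <;> rw [h5]
        · simp
        · exact hg.symm
      exact fun x hx => Subgroup.mem_centralizer_singleton_iff.1 (this hx)
  have hSt : ∀ g ∈ (S : Subgroup G), g * t = t * g := fun g hg => (hHm g).1 (hS ▸ hg : g ∈ D).1
  have hnorm : ∀ g : G, (∀ s ∈ (S : Subgroup G), g * s * g⁻¹ ∈ (S : Subgroup G)) →
      g ∈ (S : Subgroup G) := by
    intro g hg
    rw [hS] at hg
    have h3 : i v₀ = ⁅i (swap 0 1), i (swap 0 2 * swap 1 3)⁆ := by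
      rw [← map_commutatorElement]; congr 1; decide
    have h4 := hcommD _ (hg _ ((hD _).2 ⟨swap 0 1, by decide, Or.inl rfl⟩)) _
      (hg _ ((hD _).2 ⟨swap 0 2 * swap 1 3, by decide, Or.inl rfl⟩))
    rw [← conjugate_commutatorElement, ← h3, conj_eq_one_iff, ← map_one i] at h4
    rcases h4 with h4 | h4
    · exact absurd (hi h4) (by decide)
    · rw [hSz, ← mul_inv_eq_iff_eq_mul, h4]
  -- transfer
  have hidx : IdxLeTwo i.range S := by
    intro a ha b hb h3 h4
    obtain ⟨σ, h5 | rfl⟩ := (hcent a).1 (hSt a ha)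
    · exact absurd ⟨σ, h5.symm⟩ h3
    obtain ⟨ρ, h6 | rfl⟩ := (hcent b).1 (hSt b hb)
    · exact absurd ⟨ρ, h6.symm⟩ h4
    refine ⟨σ * ρ, ?_⟩
    rw [map_mul, mul_assoc, ← mul_assoc (i σ), hiH, ← mul_assoc, ← mul_assoc, invol_mul_self ht,
      one_mul]
  obtain ⟨N, hN, htN⟩ : ∃ N : Subgroup G, N.index = 2 ∧ t ∉ N := by
    refine (thompson_or S hidx ht S S.isPGroup' hSt).resolve_right ?_
    rintro ⟨g, -, ⟨σ, hσ⟩, hg⟩
    rw [hSt g (hnorm g hg), mul_inv_cancel_right] at hσ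
    exact hti σ hσ.symm
  have hmul : ∀ a b, a * b ∈ N ↔ (a ∈ N ↔ b ∈ N) := fun a b => Subgroup.mul_mem_iff_of_index_two hN
  let j : Perm (Fin 4) →* G := MonoidHom.mk' (fun σ => if i σ ∈ N then i σ else t * i σ) (by
    intro a b
    have h3 : t * i a * (t * i b) = i a * i b := by
      rw [mul_assoc, ← mul_assoc (i a), hiH, ← mul_assoc, ← mul_assoc, invol_mul_self ht, one_mul]
    have h4 : i a * (t * i b) = t * (i a * i b) := by rw [← mul_assoc, hiH, mul_assoc]
    by_cases ha : i a ∈ N <;> by_cases hb : i b ∈ N <;>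
      simp [ha, hb, hmul, h3, h4, mul_assoc])
  have hj : ∀ σ, j σ = i σ ∨ j σ = t * i σ := fun σ => by
    by_cases h : i σ ∈ N
    · exact Or.inl (if_pos h)
    · exact Or.inr (if_neg h)
  have hjv : j v₀ = i v₀ := by
    apply if_pos
    rw [show v₀ = (swap 0 2 * swap 1 3 * swap 0 1) * (swap 0 2 * swap 1 3 * swap 0 1) by decide,
      map_mul, hmul]
  refine ⟨S, N, j, ht, hN, htN, ?_, fun σ => ?_, fun g => ?_, hjv ▸ hSz, hSt, hcard, hnorm⟩
  · rw [injective_iff_map_eq_one]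
    intro σ hσ
    rcases hj σ with h | h
    · exact hi (by rw [← h, hσ, map_one])
    · exact absurd (by rw [map_inv, eq_inv_iff_mul_eq_one, ← h, hσ]) (hti σ⁻¹)
  · by_cases h : i σ ∈ N
    · rw [show j σ = i σ from if_pos h]; exact h
    · rw [show j σ = t * i σ from if_neg h, hmul]; simp [h, htN]
  · rw [hcent]
    refine exists_congr fun σ => ?_
    rcases hj σ with h | h <;> rw [h]
    rw [← mul_assoc, invol_mul_self ht, one_mul, or_comm]

/-- Let G be a finite group of even order such that (1) some involution t lying in the centre of a Sylow 2-subgroup of G has C_G(t) ≅ Z₂ × S₄, and (2) every Sylow 2-subgroup S of G satisfies C_G(S′) = S, where S′ is the derived subgroup of S. Then G = C_G(t) if G is solvable, and G ≅ S₆ otherwise. -/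
theorem result {G : Type*} [Group G] [Finite G] (hev : Even (Nat.card G))
    (t : G) (ht : orderOf t = 2) (T : Sylow 2 G) (htT : t ∈ (T : Subgroup G)) (htc : ∀ s ∈ (T : Subgroup G), s * t = t * s)
    (e : ↥(Subgroup.centralizer ({t} : Set G)) ≃* (Multiplicative (ZMod 2) × Equiv.Perm (Fin 4)))
    (h2 : ∀ S : Sylow 2 G, Subgroup.centralizer ((⁅(S : Subgroup G), (S : Subgroup G)⁆ : Subgroup G) : Set G) = (S : Subgroup G)) :
    (Group.IsSolvable G → Subgroup.centralizer ({t} : Set G) = ⊤) ∧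
      (¬ Group.IsSolvable G → Nonempty (G ≃* Equiv.Perm (Fin 6))) := by
  obtain ⟨S, N, j, h⟩ := exists_setup t ht T htc e h2
  have key : Subgroup.centralizer ({t} : Set G) = ⊤ ∨ Nonempty (G ≃* Equiv.Perm (Fin 6)) := by
    by_cases hne : Subgroup.centralizer ({t} : Set G) = ⊤
    · exact Or.inl hne
    · refine Or.inr (h.case_simple hne fun L hL => hne (h.case_index L hL))
  refine ⟨fun hs => key.resolve_right fun ⟨e6⟩ => ?_, fun hs => key.resolve_left fun htop => hs ?_⟩
  · exact Equiv.Perm.not_isSolvable (Fin 6) (by simp; norm_num)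
      (Group.isSolvable_of_isSolvable_injective (f := e6.symm.toMonoidHom) e6.symm.injective)
  · haveI := Lib.Class.isSolvable_S4
    exact Group.isSolvable_of_isSolvable_injective
      (f := (((Subgroup.topEquiv.symm.trans (MulEquiv.subgroupCongr htop.symm)).trans e).toMonoidHom))
      (MulEquiv.injective _)

end Cfsg.Agent.S3222
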