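import Cfsg.Statements.S3252
import Cfsg.Agent.CycZ.Global
import Cfsg.Agent.S0730

set_option autoImplicit false
open Cfsg

namespace Cfsg.Agent.S3252

/-- Let G be a finite non-solvable group that is the product G = AB of a cyclic subgroup A and a subgroup B all of whose Sylow subgroups are cyclic. Then the quotient of G by its largest solvable normal subgroup is isomorphic to PGL₂(p) for some prime p > 3. -/
theorem result {G : Type*} [Group G] [Finite G] (hG : ¬ Group.IsSolvable G)
    (A B : Subgroup G) (hA : IsCyclic ↥A) (hB : ∀ (q : ℕ) [Fact q.Prime] (Q : Sylow q ↥B), IsCyclic ↥(Q : Subgroup ↥B))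
    (hAB : ∀ g : G, ∃ a ∈ A, ∃ b ∈ B, g = a * b)
    (R : Subgroup G) [hR : R.Normal] (hRs : Group.IsSolvable ↥R) (hRmax : ∀ N : Subgroup G, N.Normal → Group.IsSolvable ↥N → N ≤ R) :
    ∃ (F : Type) (_ : Field F) (_ : Fintype F) (p : ℕ), p.Prime ∧ 3 < p ∧ Fintype.card F = p ∧
      Nonempty ((G ⧸ R) ≃* (GL (Fin 2) F ⧸ Subgroup.center (GL (Fin 2) F))) := by
  classical
  haveI : IsZGroup B := ⟨fun q hq Q => haveI := Fact.mk hq; hB q Q⟩
  set φ := QuotientGroup.mk' R
  have hφ := QuotientGroup.mk'_surjective R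
  have hQ : ¬ Group.IsSolvable (G ⧸ R) := fun h =>
    hG (Lib.Cor.isSolvable_of_normal_quotient R hRs h)
  have hS : ∀ N : Subgroup (G ⧸ R), N.Normal → Group.IsSolvable N → N = ⊥ := fun N hN hs => by
    have h1 := hRmax (N.comap φ) inferInstance
      (Lib.QT.solv_of_map φ (by rwa [QuotientGroup.ker_mk'])
        (by rwa [Subgroup.map_comap_eq_self_of_surjective hφ]))
    rw [← Subgroup.map_comap_eq_self_of_surjective hφ N, Subgroup.map_eq_bot_iff,
      QuotientGroup.ker_mk']
    exact h1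
  have hA' : IsCyclic (A.map φ) := isCyclic_of_surjective _ (φ.subgroupMap_surjective A)
  haveI : IsZGroup (B.map φ) := IsZGroup.of_surjective (φ.subgroupMap_surjective B)
  have hAB' : ∀ g : G ⧸ R, ∃ a ∈ A.map φ, ∃ b ∈ B.map φ, g = a * b := fun g => by
    obtain ⟨g, rfl⟩ := hφ g
    obtain ⟨a, ha, b, hb, rfl⟩ := hAB g
    exact ⟨_, Subgroup.mem_map_of_mem _ ha, _, Subgroup.mem_map_of_mem _ hb, map_mul _ _ _⟩
  obtain ⟨hT, h4, hgood⟩ := Lib.CycZ.good_of_coatom hQ hA' hAB'
    (Lib.CycZ.isCoatom_of_fact hQ hS hA' hAB')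
  set Ω := (G ⧸ R) ⧸ B.map φ
  have hinj : Function.Injective (MulAction.toPermHom (G ⧸ R) Ω) := by
    rw [← MonoidHom.ker_eq_bot_iff, ← Subgroup.normalCore_eq_ker]
    exact hS _ inferInstance (Group.isSolvable_of_isSolvable_injective
      (Subgroup.inclusion_injective (B.map φ).normalCore_le))
  obtain ⟨p, hp, hc⟩ := hgood.card
  have hp3 : 3 < p := Nat.lt_of_succ_lt_succ (lt_of_lt_of_eq h4 hc)
  haveI := Fintype.ofFinite Ω
  have hg' := hgood.range
  obtain ⟨F, iF, iF', hF, ⟨e⟩⟩ := Cfsg.Agent.S0730.result (α := Ω) (p := p) (f := 1) hp (by omega)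
    odd_one (by rw [← Nat.card_eq_fintype_card, hc, pow_one]) (MulAction.toPermHom (G ⧸ R) Ω).range
    (by
      rw [MulAction.isMultiplyPretransitive_iff]
      intro x y
      have hx : ∀ {i j : Fin 3}, i ≠ j → x i ≠ x j := fun h h' => h (x.injective h')
      have hy : ∀ {i j : Fin 3}, i ≠ j → y i ≠ y j := fun h h' => h (y.injective h')
      obtain ⟨g, g1, g2⟩ := hT (x 0) (x 1) (y 0) (y 1) (hx (by decide)) (hy (by decide))
      obtain ⟨k, k1, k2, k3⟩ := hgood.tr3 (y 0) (y 1) (g • x 2) (y 2) (hy (by decide))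
        (fun h => hx (i := 2) (j := 0) (by decide) (MulAction.injective g (h.trans g1.symm)))
        (fun h => hx (i := 2) (j := 1) (by decide) (MulAction.injective g (h.trans g2.symm)))
        (hy (by decide)) (hy (by decide))
      refine ⟨⟨_, k * g, rfl⟩, Function.Embedding.ext fun i => ?_⟩
      change (k * g) • x i = y i
      rw [mul_smul]
      fin_cases i
      · exact (congrArg _ g1).trans k1
      · exact (congrArg _ g2).trans k2
      · exact k3)
    (fun x => by
      rw [eq_bot_iff]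
      intro g hg
      have hx : ∀ {i j : Fin 3}, i ≠ j → x i ≠ x j := fun h h' => h (x.injective h')
      have h1 : ∀ i, g • x i = x i := fun i => DFunLike.congr_fun (show g • x = x from hg) i
      exact Subtype.ext (Equiv.ext (hg'.sharp g (x 0) (x 1) (x 2) (hx (by decide))
        (hx (by decide)) (hx (by decide)) (h1 0) (h1 1) (h1 2))))
  exact ⟨F, iF, iF', p, hp, hp3, by rw [hF, pow_one],
    ⟨(MonoidHom.ofInjective hinj).trans e⟩⟩

end Cfsg.Agent.S3252
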