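import Cfsg.Statements.S3257
import Cfsg.Agent.FSet.Main

set_option autoImplicit false
open Cfsg

namespace Cfsg.Agent.S3257

/-- Let p be an odd prime and G a finite non-abelian group generated by a G-invariant set D of subgroups of order p such that any two distinct members of D generate a subgroup isomorphic to one fixed group of odd order. Then G/Z(G) is a Frobenius group of odd order. -/
theorem result {G : Type*} [Group G] [Finite G] (hG : ¬ IsMulCommutative G)
    (p : ℕ) (hp : p.Prime) (hp2 : p ≠ 2) (D : Set (Subgroup G)) (hDp : ∀ A ∈ D, Nat.card ↥A = p)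
    (hDinv : ∀ A ∈ D, ∀ g : G, A.map (MulAut.conj g).toMonoidHom ∈ D) (hDgen : sSup D = ⊤)
    {F : Type*} [Group F] [Finite F] (hF : Odd (Nat.card F)) (hpair : ∀ A ∈ D, ∀ B ∈ D, A ≠ B → Nonempty (↥(A ⊔ B) ≃* F)) :
    Odd (Nat.card (G ⧸ Subgroup.center G)) ∧ ∃ H : Subgroup (G ⧸ Subgroup.center G), Cfsg.IsFrobeniusComplement H := by
  have hc : ∀ A ∈ D, A ≤ Subgroup.centralizer (A : Set G) := fun A hA a ha => by
    have := Fact.mk hp
    have := isCyclic_of_prime_card (hDp A hA)
    exact Subgroup.mem_centralizer_iff.2 fun b hb =>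
      congrArg Subtype.val (IsCyclic.isMulCommutative.is_comm.comm (⟨b, hb⟩ : A) ⟨a, ha⟩)
  obtain ⟨A, hA, B, hB, hAB⟩ : ∃ A ∈ D, ∃ B ∈ D, ¬ A ≤ Subgroup.centralizer (B : Set G) := by
    by_contra hn
    push Not at hn
    refine hG ⟨⟨fun x y => ?_⟩⟩
    have h1 : ∀ B ∈ D, B ≤ Subgroup.centralizer ((⊤ : Subgroup G) : Set G) := fun B hB =>
      Lib.FSet.cent_symm (hDgen.ge.trans (sSup_le fun A hA => hn A hA B hB))
    exact Subgroup.mem_centralizer_iff.1
      ((hDgen.ge.trans (sSup_le h1)) (Subgroup.mem_top y)) x (Subgroup.mem_top x)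
  have hne : A ≠ B := fun e => hAB (e ▸ hc A hA)
  have h0 : Lib.FSet.H0 p D F := by
    refine ⟨hp, hp2, hDp, hDinv, hF, ?_, hpair⟩
    obtain ⟨e⟩ := hpair A hA B hB hne
    by_contra hn
    push Not at hn
    refine hAB fun a ha => Subgroup.mem_centralizer_iff.2 fun b hb => ?_
    have := hn (e ⟨b, Subgroup.mem_sup_right hb⟩) (e ⟨a, Subgroup.mem_sup_left ha⟩)
    rw [← map_mul, ← map_mul] at this
    exact congrArg Subtype.val (e.injective this)
  obtain ⟨h1, h2, h3⟩ := h0.main hDgen hA hB hne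
  refine Lib.FSet.fin hp (hDp A hA) h1 (fun hn => hAB ?_) h2 h3
  have h4 : (⊤ : Subgroup G) ≤ Subgroup.centralizer (A : Set G) := by
    refine (Subgroup.normalizer_eq_top A).ge.trans (h2.trans (sup_le ?_ (hc A hA)))
    exact Subgroup.center_le_centralizer _
  exact Lib.FSet.cent_symm (le_top.trans h4)

end Cfsg.Agent.S3257
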