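import Cfsg.Statements.S3282
import Cfsg.Agent.GW.BSWMain

set_option autoImplicit false
open Cfsg

namespace Cfsg.Agent.S3282

/-- The abstract form of the Brauer–Suzuki–Wall Theorem. Let G be a finite group with an involution t and an abelian subgroup K of H = C_G(t) containing t, such that H = K⟨s⟩ for an involution s ∉ K with C_K(s) = ⟨t⟩ and s inverting every element of K, K ∩ K^g = 1 for every g outside H, and all involutions of G conjugate. Then G has a subgroup Q, of order q say, with |G| = q(q+1)(q−1)/2, C_G(x) = Q for every non-identity x ∈ Q, N_G(Q) = QD for an abelian subgroup D of order (q−1)/2 meeting Q trivially, and for every nontrivial subgroup X of D, N_G(X) = N_G(D) = D⟨u⟩ for some involution u ∉ D inverting D. -/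
theorem result {G : Type*} [Group G] [Finite G] (t : G) (ht : orderOf t = 2)
    (K : Subgroup G) (hKab : IsMulCommutative ↥K) (hKH : K ≤ Subgroup.centralizer ({t} : Set G)) (htK : t ∈ K)
    (s : G) (hs : orderOf s = 2) (hsH : s ∈ Subgroup.centralizer ({t} : Set G)) (hsK : s ∉ K)
    (hH : K ⊔ Subgroup.zpowers s = Subgroup.centralizer ({t} : Set G)) (hCK : K ⊓ Subgroup.centralizer ({s} : Set G) = Subgroup.zpowers t)
    (hinv : ∀ x ∈ K, s * x * s⁻¹ = x⁻¹)
    (hTI : ∀ g : G, g ∉ Subgroup.centralizer ({t} : Set G) → K ⊓ K.map (MulAut.conj g).toMonoidHom = ⊥)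
    (hconj : ∀ x y : G, orderOf x = 2 → orderOf y = 2 → IsConj x y) :
    ∃ Q D : Subgroup G, 2 * Nat.card G = Nat.card ↥Q * (Nat.card ↥Q + 1) * (Nat.card ↥Q - 1) ∧
      (∀ x ∈ Q, x ≠ 1 → Subgroup.centralizer ({x} : Set G) = Q) ∧
      IsMulCommutative ↥D ∧ 2 * Nat.card ↥D + 1 = Nat.card ↥Q ∧ Q ⊓ D = ⊥ ∧
      Subgroup.normalizer (Q : Set G) = Q ⊔ D ∧
      ∀ X : Subgroup G, X ≤ D → X ≠ ⊥ →
        Subgroup.normalizer (X : Set G) = Subgroup.normalizer (D : Set G) ∧
        ∃ u : G, orderOf u = 2 ∧ u ∉ D ∧ (∀ d ∈ D, u * d * u⁻¹ = d⁻¹) ∧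
          Subgroup.normalizer (D : Set G) = D ⊔ Subgroup.zpowers u := by
  open Cfsg.Lib.GW in
  have h : BSW t s K := by
    refine ⟨mul_self_of_orderOf ht, ne_one_of_orderOf (by norm_num) ht,
      fun x hx y hy => congrArg Subtype.val (hKab.1.1 ⟨x, hx⟩ ⟨y, hy⟩), htK, mul_self_of_orderOf hs,
      hsK, hinv, fun g hg => ?_, fun x hx hxx => ?_, fun g x hx hx1 hg => ?_,
      fun x hx hx1 => hconj t x ht (orderOf_eq_two hx hx1)⟩
    · have hss := mul_self_of_orderOf hs
      have hsi : s⁻¹ = s := inv_eq_of_mul_eq_one_right hss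
      have hcj : ∀ x ∈ K, s * x * s ∈ K := fun x hx => by
        have := K.inv_mem hx
        rwa [← hinv x hx, hsi] at this
      let L : Subgroup G :=
        { carrier := {g | g ∈ K ∨ s * g ∈ K}
          one_mem' := Or.inl K.one_mem
          mul_mem' := by
            rintro a b (ha | ha) (hb | hb)
            · exact Or.inl (K.mul_mem ha hb)
            · right
              have := K.mul_mem (hcj a ha) hb
              rwa [show s * a * s * (s * b) = s * a * (s * s) * b by group, hss, mul_one,
                mul_assoc] at this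
            · right; rw [← mul_assoc]; exact K.mul_mem ha hb
            · left
              have := K.mul_mem (hcj _ ha) hb
              rwa [show s * (s * a) * s * (s * b) = (s * s) * a * (s * s) * b by group, hss,
                one_mul, mul_one] at this
          inv_mem' := by
            rintro a (ha | ha)
            · exact Or.inl (K.inv_mem ha)
            · right
              have := hcj _ (K.inv_mem ha)
              rwa [mul_inv_rev, hsi, show s * (a⁻¹ * s) * s = s * a⁻¹ * (s * s) by group, hss,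
                mul_one] at this }
      have hle : K ⊔ Subgroup.zpowers s ≤ L :=
        sup_le (fun x hx => Or.inl hx) (Subgroup.zpowers_le.2 (Or.inr (by rw [hss]; exact K.one_mem)))
      exact hle (hH ▸ Subgroup.mem_centralizer_singleton_iff.2 hg)
    · have h1 : x ∈ K ⊓ Subgroup.centralizer ({s} : Set G) := by
        refine ⟨hx, Subgroup.mem_centralizer_singleton_iff.2 ?_⟩
        have := hinv x hx
        rw [inv_eq_of_mul_eq_one_right hxx, mul_inv_eq_iff_eq_mul] at this
        exact this.symm
      rw [hCK] at h1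
      obtain ⟨n, rfl⟩ := Subgroup.mem_zpowers_iff.1 h1
      rw [← zpow_mod_orderOf, ht]
      rcases Int.emod_two_eq_zero_or_one n with h1 | h1 <;> simp [h1]
    · by_contra hne
      have h1 : g * x * g⁻¹ ∈ K ⊓ K.map (MulAut.conj g).toMonoidHom := ⟨hg, x, hx, rfl⟩
      rw [hTI g (fun h => hne (Subgroup.mem_centralizer_singleton_iff.1 h))] at h1
      exact conj_ne_one hx1 h1
  obtain ⟨Q, D, hc⟩ := h.concl
  exact ⟨Q, D, hc.card_G, hc.cc, ⟨⟨fun a b => Subtype.ext (hc.comm a a.2 b b.2)⟩⟩, hc.card_D, hc.disj,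
    hc.norm, hc.sub⟩

end Cfsg.Agent.S3282
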