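import Cfsg.Statements.S3290
import Cfsg.Agent.Rank2.BicycFus
import Cfsg.Agent.S0482
import Cfsg.Agent.Rank2.Model
import Cfsg.Agent.Trans.Quasisimple
import Cfsg.Agent.Char.Burnside

set_option autoImplicit false
open Cfsg

open Subgroup Cfsg.Lib Cfsg.Lib.Trans Cfsg.Lib.Rank2 Cfsg.Lib.Rank2.Bic

namespace Cfsg.Agent.S3290

/-- Let G be a finite simple group of even order whose Sylow 2-subgroups are bicyclic (a product of two cyclic subgroups: every element is a power of x times a power of y for two fixed elements). Then G has order 2, or G is isomorphic to PSL₂(q), PSL₃(q) or PSU₃(q) for an odd prime power q, to the alternating group of degree 7, or G is a simple group of the order of the Mathieu group of degree 11. -/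
theorem result {G : Type*} [Group G] [Finite G] [IsSimpleGroup G] (P : Sylow 2 G) (hb : ∃ x y : ↥(P : Subgroup G), ∀ g : ↥(P : Subgroup G), ∃ i j : ℤ, g = x ^ i * y ^ j) (h2 : 2 ∣ Nat.card G) : Nat.card G = 2 ∨ (∃ (K : Type) (_ : Field K) (_ : Fintype K) (q : ℕ), Fintype.card K = q ∧ Odd q ∧ (Nonempty (G ≃* Matrix.ProjectiveSpecialLinearGroup (Fin 2) K) ∨ Nonempty (G ≃* Matrix.ProjectiveSpecialLinearGroup (Fin 3) K))) ∨ (∃ (K : Type) (_ : Field K) (_ : Fintype K) (q : ℕ), Fintype.card K = q ^ 2 ∧ Odd q ∧ Nonempty (G ≃* Cfsg.PSU 3 K q)) ∨ Nonempty (G ≃* alternatingGroup (Fin 7)) ∨ Cfsg.IsM11 G := by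
  by_cases hc : IsMulCommutative G
  · left
    exact ((Nat.prime_dvd_prime_iff_eq Nat.prime_two
      (Char.prime_card_of_simple_of_comm fun a b => hc.is_comm.comm a b)).1 h2).symm
  right
  obtain ⟨x, y, hb⟩ := hb
  have hr : PRankLE 2 2 G := by
    intro A _ hA
    by_contra h
    obtain ⟨g, -, hg⟩ := (isSylowIn_top P).exists_cj_le (Q := A)
      (fun a => ⟨1, Subtype.ext (by simpa using hA a a.2)⟩) le_top
    refine exists_index_two_of_bicyclic (isSylowIn_top P) hb (E := (cj g A).subgroupOf P) ?_ ?_ ?_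
    · intro e he
      have : (g⁻¹ * (e : G) * g) ^ 2 = 1 := hA _ (mem_cj.1 he)
      apply Subtype.ext
      show (e : G) * e = 1
      calc (e : G) * e = g * (g⁻¹ * e * g) ^ 2 * g⁻¹ := by rw [pow_two]; group
        _ = 1 := by rw [this]; group
    · rw [Nat.card_congr (subgroupOfEquivOfLe hg).toEquiv, card_cj]
      omega
    · rw [IsQuasisimple.commutator_eq_top (isQuasisimple_of_isSimpleGroup hc)]
      exact le_top
  rcases Cfsg.Agent.S0482.result hc hr with ⟨F, _, _, h1, -, e⟩ | ⟨F, _, _, h1, e⟩ |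
    ⟨F, _, _, q, h1, h3, e⟩ | ⟨F, _, _, h1, ⟨e⟩⟩ | h | h
  · exact Or.inl ⟨F, _, _, _, rfl, h1, Or.inl e⟩
  · exact Or.inl ⟨F, _, _, _, rfl, h1, Or.inr e⟩
  · exact Or.inr (Or.inl ⟨F, _, _, q, h1, h3, e⟩)
  · exfalso
    have : Finite (PSU 3 F 4) := Finite.of_equiv _ e.toEquiv
    obtain ⟨a, z, h, -⟩ := (isU34_sylow h1 (P.mapSurjective (f := e.toMonoidHom) e.surjective)).of_equiv
      (e.subgroupMap (P : Subgroup G)).symm
    have h3 := card_le_of_bicyclic hb
    have h4 : ∀ g : P, orderOf g ≤ 4 := fun g => orderOf_le_of_pow_eq_one (by norm_num) (by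
      rw [show 4 = 2 + 2 from rfl, pow_add, pow_two]
      exact h.mul_self (h.sq_mem g))
    rw [h.card] at h3
    nlinarith [h4 x, h4 y]
  · exact Or.inr (Or.inr (Or.inl h))
  · exact Or.inr (Or.inr (Or.inr h))

end Cfsg.Agent.S3290
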