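import Cfsg.Statements.S3335
import Cfsg.Agent.S2530

set_option autoImplicit false
open Cfsg

namespace Cfsg.Agent.S3335

/-- The relators. -/
def rels (m : ℕ) : Set (FreeGroup (Fin m)) :=
      ({g : FreeGroup (Fin m) | ∃ i : Fin m, i.val = 0 ∧ g = FreeGroup.of i ^ 3} ∪
       {g | ∃ i : Fin m, 1 ≤ i.val ∧ g = FreeGroup.of i ^ 2} ∪
       {g | ∃ i j : Fin m, j.val = i.val + 1 ∧ g = (FreeGroup.of i * FreeGroup.of j) ^ 3} ∪
       {g | ∃ i j : Fin m, i.val + 1 < j.val ∧ g = (FreeGroup.of i * FreeGroup.of j) ^ 2})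

/-- The relations hold for a family. -/
structure Rel {G : Type*} [Group G] {m : ℕ} (x : Fin m → G) : Prop where
  r1 : ∀ i : Fin m, i.val = 0 → x i ^ 3 = 1
  r2 : ∀ i : Fin m, 1 ≤ i.val → x i ^ 2 = 1
  r3 : ∀ i j : Fin m, j.val = i.val + 1 → (x i * x j) ^ 3 = 1
  r4 : ∀ i j : Fin m, i.val + 1 < j.val → (x i * x j) ^ 2 = 1

theorem Rel.lift {G : Type*} [Group G] {m : ℕ} {x : Fin m → G} (h : Rel x) :
    ∀ r ∈ rels m, FreeGroup.lift x r = 1 := by
  rintro r (((⟨i, hi, rfl⟩ | ⟨i, hi, rfl⟩) | ⟨i, j, hi, rfl⟩) | ⟨i, j, hi, rfl⟩)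
  · simpa using h.r1 i hi
  · simpa using h.r2 i hi
  · simpa using h.r3 i j hi
  · simpa using h.r4 i j hi

theorem one_of {m : ℕ} {r : FreeGroup (Fin m)} (hr : r ∈ rels m) :
    PresentedGroup.mk (rels m) r = 1 := PresentedGroup.one_of_mem hr

theorem rel_of (m : ℕ) : Rel (fun i : Fin m => (PresentedGroup.of i : PresentedGroup (rels m))) where
  r1 i hi := by
    have := one_of (m := m) (r := FreeGroup.of i ^ 3) (Or.inl (Or.inl (Or.inl ⟨i, hi, rfl⟩)))
    rw [map_pow] at this; exact this
  r2 i hi := by
    have := one_of (m := m) (r := FreeGroup.of i ^ 2) (Or.inl (Or.inl (Or.inr ⟨i, hi, rfl⟩)))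
    rw [map_pow] at this; exact this
  r3 i j hi := by
    have := one_of (m := m) (r := (FreeGroup.of i * FreeGroup.of j) ^ 3) (Or.inl (Or.inr ⟨i, j, hi, rfl⟩))
    rw [map_pow, map_mul] at this; exact this
  r4 i j hi := by
    have := one_of (m := m) (r := (FreeGroup.of i * FreeGroup.of j) ^ 2) (Or.inr ⟨i, j, hi, rfl⟩)
    rw [map_pow, map_mul] at this; exact this

theorem pow_comm' {G : Type*} [Group G] {a b : G} {k : ℕ} (h : (a * b) ^ k = 1) : (b * a) ^ k = 1 := by
  have : b * a = b * (a * b) * b⁻¹ := by group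
  rw [this, conj_pow, h]; group

theorem inv_pow' {G : Type*} [Group G] {a b : G} {k : ℕ} (h : (a * b) ^ k = 1) : (a⁻¹ * b⁻¹) ^ k = 1 := by
  rw [← mul_inv_rev, inv_pow, pow_comm' h, inv_one]

theorem Rel.inv {G : Type*} [Group G] {m : ℕ} {x : Fin m → G} (h : Rel x) : Rel (fun i => (x i)⁻¹) where
  r1 i hi := by rw [inv_pow, h.r1 i hi, inv_one]
  r2 i hi := by rw [inv_pow, h.r2 i hi, inv_one]
  r3 i j hi := inv_pow' (h.r3 i j hi)
  r4 i j hi := inv_pow' (h.r4 i j hi)

theorem Rel.self_inv {G : Type*} [Group G] {m : ℕ} {x : Fin m → G} (h : Rel x) (i : Fin m)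
    (hi : 1 ≤ i.val) : (x i)⁻¹ = x i := by
  have := h.r2 i hi
  rw [sq] at this
  exact inv_eq_of_mul_eq_one_right this

/-- The key relation between `(x i)⁻¹` and `x j`. -/
theorem Rel.mixed {G : Type*} [Group G] {m : ℕ} {x : Fin m → G} (h : Rel x) (i j : Fin m)
    (hij : i.val < j.val) : ((x i)⁻¹ * x j) ^ (if i.val + 1 = j.val then 3 else 2) = 1 := by
  have e : (x i)⁻¹ * x j = (x i)⁻¹ * (x j)⁻¹ := by rw [h.self_inv j (by omega)]
  rw [e]
  split_ifs with h1
  · exact inv_pow' (h.r3 i j h1.symm)
  · exact inv_pow' (h.r4 i j (by omega))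

/-- The inversion automorphism. -/
def sig (m : ℕ) : MulAut (PresentedGroup (rels m)) :=
  MonoidHom.toMulEquiv (PresentedGroup.toGroup (rel_of m).inv.lift)
    (PresentedGroup.toGroup (rel_of m).inv.lift)
    (by ext i; simp) (by ext i; simp)

theorem sig_of (m : ℕ) (i : Fin m) : sig m (PresentedGroup.of i) = (PresentedGroup.of i)⁻¹ := by
  simp [sig]

theorem sig_sq (m : ℕ) : sig m * sig m = 1 := by
  apply MulEquiv.toMonoidHom_injective
  ext i
  simp [sig_of]

theorem liftable {E : Type*} [Group E] {m : ℕ} {y : Fin m → E} (h : Rel y) (s : E) (hs : s * s = 1)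
    (hy : ∀ i, s * y i * s = (y i)⁻¹) :
    (CoxeterMatrix.A (m + 1)).IsLiftable (Fin.cons s (fun i => s * y i) : Fin (m + 1) → E) := by
  have key : ∀ i j : Fin (m + 1), i.val < j.val →
      ((Fin.cons s (fun i => s * y i) : Fin (m + 1) → E) i *
        (Fin.cons s (fun i => s * y i) : Fin (m + 1) → E) j) ^ (if i.val + 1 = j.val then 3 else 2) = 1 := by
    intro i j hij
    induction j using Fin.cases with
    | zero => simp at hij
    | succ j =>
      induction i using Fin.cases with
      | zero =>
        rw [Fin.cons_zero, Fin.cons_succ, ← mul_assoc, hs, one_mul]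
        split_ifs with h1
        · exact h.r1 j (by simpa using h1)
        · exact h.r2 j (by simp at h1; omega)
      | succ i =>
        simp only [Fin.cons_succ, Fin.val_succ] at hij ⊢
        have e : s * y i * (s * y j) = (y i)⁻¹ * y j := by rw [← mul_assoc, hy]
        rw [e]
        have := h.mixed i j (by omega)
        simpa using this
  intro i j
  rcases lt_trichotomy i.val j.val with hij | hij | hij
  · have := key i j hij
    have e : (CoxeterMatrix.A (m + 1)) i j = if i.val + 1 = j.val then 3 else 2 := by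
      have : i ≠ j := fun e => by rw [e] at hij; omega
      have h2 : ¬ (j.val + 1 = i.val) := by omega
      simp [CoxeterMatrix.A, this, h2]
    rw [e]; exact this
  · obtain rfl : i = j := Fin.ext hij
    rw [CoxeterMatrix.diagonal, pow_one]
    induction i using Fin.cases with
    | zero => simpa using hs
    | succ i =>
      simp only [Fin.cons_succ]
      rw [← mul_assoc, hy, inv_mul_cancel]
  · have := key j i hij
    have e : (CoxeterMatrix.A (m + 1)) i j = if j.val + 1 = i.val then 3 else 2 := by
      have : i ≠ j := fun e => by rw [e] at hij; omega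
      have h2 : ¬ (i.val + 1 = j.val) := by omega
      simp [CoxeterMatrix.A, this, h2]
    rw [e]; exact pow_comm' this

theorem rel_simple {W : Type*} [Group W] {m : ℕ} (cs : CoxeterSystem (CoxeterMatrix.A (m + 1)) W) :
    Rel (fun i : Fin m => cs.simple 0 * cs.simple i.succ) := by
  have hA : ∀ i j : Fin (m + 1), i.val < j.val →
      (cs.simple i * cs.simple j) ^ (if i.val + 1 = j.val then 3 else 2) = 1 := by
    intro i j hij
    have e : (CoxeterMatrix.A (m + 1)) i j = if i.val + 1 = j.val then 3 else 2 := by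
      have : i ≠ j := fun e => by rw [e] at hij; omega
      have h2 : ¬ (j.val + 1 = i.val) := by omega
      simp [CoxeterMatrix.A, this, h2]
    rw [← e]; exact cs.simple_mul_simple_pow i j
  have h2 : ∀ j : Fin m, 1 ≤ j.val → (cs.simple 0 * cs.simple j.succ) ^ 2 = 1 := by
    intro j hj
    have := hA 0 j.succ (by simp)
    rwa [if_neg (by simp; omega)] at this
  have hc : ∀ i j : Fin m, 1 ≤ j.val → cs.simple 0 * cs.simple i.succ * (cs.simple 0 * cs.simple j.succ)
      = cs.simple 0 * (cs.simple i.succ * cs.simple j.succ) * (cs.simple 0)⁻¹ := by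
    intro i j hj
    have := h2 j hj
    rw [sq] at this
    have e : cs.simple 0 * cs.simple j.succ = cs.simple j.succ * cs.simple 0 := by
      rw [eq_inv_of_mul_eq_one_left this, mul_inv_rev, cs.inv_simple, cs.inv_simple]
    rw [e, cs.inv_simple]; group
  refine ⟨fun i hi => ?_, h2, fun i j hij => ?_, fun i j hij => ?_⟩
  · have := hA 0 i.succ (by simp)
    rwa [if_pos (by simp; omega)] at this
  · rw [hc i j (by omega), conj_pow]
    have := hA i.succ j.succ (by simp; omega)
    rw [if_pos (by simp; omega)] at this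
    rw [this]; group
  · rw [hc i j (by omega), conj_pow]
    have := hA i.succ j.succ (by simp; omega)
    rw [if_neg (by simp; omega)] at this
    rw [this]; group

theorem main (m : ℕ) : Nonempty (PresentedGroup (rels m) ≃* alternatingGroup (Fin (m + 2))) := by
  obtain ⟨cs, hcs⟩ := Cfsg.Agent.S2530.result (m + 1)
  let φ : PresentedGroup (rels m) →* Equiv.Perm (Fin (m + 2)) :=
    PresentedGroup.toGroup (rel_simple cs).lift
  have hφ : ∀ i, φ (PresentedGroup.of i) = cs.simple 0 * cs.simple i.succ := fun i =>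
    PresentedGroup.toGroup.of _
  let E := SemidirectProduct (PresentedGroup (rels m)) (MulAut (PresentedGroup (rels m))) (MonoidHom.id _)
  let y : Fin m → E := fun i => SemidirectProduct.inl (PresentedGroup.of i)
  let s : E := SemidirectProduct.inr (sig m)
  have hs : s * s = 1 := by rw [← map_mul, sig_sq, map_one]
  have hsi : s⁻¹ = s := inv_eq_of_mul_eq_one_right hs
  have hy : Rel y := by
    have h := rel_of m
    refine ⟨fun i hi => ?_, fun i hi => ?_, fun i j hi => ?_, fun i j hi => ?_⟩
    · rw [← map_pow, h.r1 i hi, map_one]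
    · rw [← map_pow, h.r2 i hi, map_one]
    · rw [← map_mul, ← map_pow, h.r3 i j hi, map_one]
    · rw [← map_mul, ← map_pow, h.r4 i j hi, map_one]
  have hsy : ∀ i, s * y i * s = (y i)⁻¹ := by
    intro i
    nth_rewrite 2 [← hsi]
    rw [← map_inv, ← SemidirectProduct.inl_aut, ← map_inv]
    exact congrArg _ (sig_of m i)
  let L := cs.lift ⟨_, liftable hy s hs hsy⟩
  have hL : ∀ i, L (cs.simple i) = (Fin.cons s (fun i => s * y i) : Fin (m + 1) → E) i := fun i =>
    cs.lift_apply_simple _ i
  have hcomp : L.comp φ = SemidirectProduct.inl := by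
    apply PresentedGroup.ext
    intro i
    rw [MonoidHom.comp_apply, hφ, map_mul, hL, hL, Fin.cons_zero, Fin.cons_succ, ← mul_assoc, hs, one_mul]
  have hinj : Function.Injective φ := by
    apply Function.Injective.of_comp (f := L)
    rw [← MonoidHom.coe_comp, hcomp]
    exact SemidirectProduct.inl_injective
  have hsign : ∀ i, Equiv.Perm.sign (cs.simple i) = -1 := by
    intro i
    rw [hcs, Equiv.Perm.sign_swap (Fin.castSucc_lt_succ).ne]
  have hmem : ∀ i, cs.simple 0 * cs.simple i ∈ φ.range := by
    intro i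
    induction i using Fin.cases with
    | zero => rw [cs.simple_mul_simple_self]; exact one_mem _
    | succ i => exact ⟨_, hφ i⟩
  have hr : φ.range = alternatingGroup (Fin (m + 2)) := by
    apply le_antisymm
    · rintro _ ⟨g, rfl⟩
      have : (alternatingGroup (Fin (m + 2))).comap φ = ⊤ := by
        rw [eq_top_iff]
        intro x _
        apply PresentedGroup.generated_by
        intro j
        rw [Subgroup.mem_comap, hφ, Equiv.Perm.mem_alternatingGroup, map_mul, hsign, hsign]
        simp
      exact (Subgroup.mem_comap).1 (this ▸ Subgroup.mem_top g)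
    · intro w hw
      have : (w ∈ φ.range ∧ Equiv.Perm.sign w = 1) ∨
          (cs.simple 0 * w ∈ φ.range ∧ Equiv.Perm.sign w = -1) := by
        clear hw
        induction w using cs.simple_induction_left with
        | one => exact Or.inl ⟨one_mem _, map_one _⟩
        | mul_simple_left w i ih =>
          rcases ih with ⟨h1, h2⟩ | ⟨h1, h2⟩
          · refine Or.inr ⟨?_, by rw [map_mul, hsign, h2, mul_one]⟩
            rw [← mul_assoc]; exact mul_mem (hmem i) h1
          · refine Or.inl ⟨?_, by rw [map_mul, hsign, h2]; simp⟩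
            have : cs.simple i * w = (cs.simple 0 * cs.simple i)⁻¹ * (cs.simple 0 * w) := by
              rw [mul_inv_rev, cs.inv_simple, mul_assoc, ← mul_assoc (cs.simple 0)⁻¹, inv_mul_cancel, one_mul]
            rw [this]; exact mul_mem (inv_mem (hmem i)) h1
      rcases this with h | h
      · exact h.1
      · rw [Equiv.Perm.mem_alternatingGroup.1 hw] at h
        exact absurd h.2 (by decide)
  exact ⟨(MonoidHom.ofInjective hinj).trans (MulEquiv.subgroupCongr hr)⟩

/-- A presentation of the alternating group of degree n ≥ 3 on generators x_1, …, x_{n−2} (indexed here by 0, …, n−3): the first generator cubes to 1, every other generator squares to 1, the product of two consecutive generators has order dividing 3, and the product of two generators at distance at least 2 has order dividing 2. The group so presented is isomorphic to the alternating group of degree n. -/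
theorem result (n : ℕ) (hn : 3 ≤ n) :
    Nonempty (PresentedGroup
      ({g : FreeGroup (Fin (n - 2)) | ∃ i : Fin (n - 2), i.val = 0 ∧ g = FreeGroup.of i ^ 3} ∪
       {g | ∃ i : Fin (n - 2), 1 ≤ i.val ∧ g = FreeGroup.of i ^ 2} ∪
       {g | ∃ i j : Fin (n - 2), j.val = i.val + 1 ∧ g = (FreeGroup.of i * FreeGroup.of j) ^ 3} ∪
       {g | ∃ i j : Fin (n - 2), i.val + 1 < j.val ∧ g = (FreeGroup.of i * FreeGroup.of j) ^ 2})
      ≃* alternatingGroup (Fin n)) := by
  obtain ⟨m, rfl⟩ : ∃ m, n = m + 2 := ⟨n - 2, by omega⟩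
  exact main m

end Cfsg.Agent.S3335
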