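import Cfsg.Statements.S3348
import Cfsg.Agent.Block.F3Main

set_option autoImplicit false
open Cfsg

open Subgroup Cfsg.Lib.Block.F3

namespace Cfsg.Agent.S3348

theorem side {G : Type*} [Group G] [Finite G] {A : Subgroup G}
    (eA : A ⧸ Cfsg.pCore 3 A ≃* GL (Fin 2) (ZMod 3))
    (hOA : IsMulCommutative (Cfsg.pCore 3 A) ∧ (∀ x ∈ Cfsg.pCore 3 A, x ^ 3 = 1) ∧ Nat.card (Cfsg.pCore 3 A) = 9 ∧
      Subgroup.centralizer ((Cfsg.pCore 3 A : Subgroup A) : Set A) = Cfsg.pCore 3 A) :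
    Side A ((Cfsg.pCore 3 A).map A.subtype) := by
  obtain ⟨h1, h2, h3, h4⟩ := hOA
  have : Fact (Nat.Prime 3) := ⟨by norm_num⟩
  refine ⟨map_subtype_le _, ?_, ?_, ?_, by rw [card_map_of_injective A.subtype_injective, h3], ?_, ?_⟩
  · rintro g hg _ ⟨v, hv, rfl⟩
    exact ⟨_, (inferInstance : (Cfsg.pCore 3 A).Normal).conj_mem v hv ⟨g, hg⟩, rfl⟩
  · rintro _ ⟨v, hv, rfl⟩ _ ⟨w, hw, rfl⟩
    exact congrArg (fun x : Cfsg.pCore 3 A => ((x : A) : G)) (h1.is_comm.comm ⟨v, hv⟩ ⟨w, hw⟩)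
  · rintro _ ⟨v, hv, rfl⟩
    exact (pow_three' _).symm.trans (congrArg Subtype.val (h2 v hv))
  · rw [card_eq_card_quotient_mul_card_subgroup (Cfsg.pCore 3 A), h3, Nat.card_congr eA.toEquiv,
      Matrix.card_GL_field]
    simp [Fin.prod_univ_two]
  · intro g hg h
    exact ⟨⟨g, hg⟩, h4 ▸ fun v hv => Subtype.ext (h v ⟨v, hv, rfl⟩).symm, rfl⟩

theorem le_syl {G : Type*} [Group G] [Finite G] {A V C S : Subgroup G} (h : Side A V) (hC : C ≤ A)
    (hi : ¬ 3 ∣ (C.subgroupOf A).index) (hS : S ≤ C) (hp : IsPGroup 3 S) (hS' : ¬ 3 ∣ S.relIndex C) :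
    V ≤ S := by
  have : Fact (Nat.Prime 3) := ⟨by norm_num⟩
  have hV : IsPGroup 3 V := IsPGroup.of_card (n := 2) h.cardV
  have hJ := IsPGroup.to_sup_of_normal_right' hp hV fun g hg =>
    mem_normalizer_fintype (h.norm g (hC (hS hg)))
  obtain ⟨k, hk⟩ := hJ.index (S.subgroupOf (S ⊔ V))
  have d : S.relIndex (S ⊔ V) ∣ S.relIndex C * C.relIndex A := by
    rw [relIndex_mul_relIndex _ _ _ hS hC,
      ← relIndex_mul_relIndex S (S ⊔ V) A le_sup_left (sup_le (hS.trans hC) h.le)]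
    exact dvd_mul_right _ _
  refine le_sup_right.trans (relIndex_eq_one.1 ?_ : S ⊔ V ≤ S)
  rcases k with _ | k
  · exact hk
  · exact ((Nat.prime_three.dvd_mul.1 ((dvd_pow_self 3 k.succ_ne_zero).trans (hk ▸ d))).elim hS' hi).elim

/-- Let G be a finite group generated by isomorphic subgroups A and B such that C = A ∩ B contains a Sylow 3-subgroup of each of A and B and no non-trivial subgroup of C is normalized by both A and B. Suppose A/O₃(A) and B/O₃(B) are isomorphic to GL(2,3), that O₃(A) and O₃(B) are elementary abelian of order 9 and self-centralizing in A and B respectively (natural modules), and that for a Sylow 3-subgroup S of C the normalizer N_G(Z(S)) lies in A ∩ B. Then G is isomorphic to the Mathieu group M₁₂ or to PSL(3,3). -/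
theorem result {G : Type*} [Group G] [Finite G]
    (A B : Subgroup G) (eAB : Nonempty (A ≃* B)) (hgen : A ⊔ B = ⊤)
    (hSylA : ¬ 3 ∣ ((A ⊓ B).subgroupOf A).index) (hSylB : ¬ 3 ∣ ((A ⊓ B).subgroupOf B).index)
    (hcore : ∀ N : Subgroup G, N ≤ A ⊓ B → (∀ a ∈ A, N.map (MulAut.conj a).toMonoidHom = N) →
      (∀ b ∈ B, N.map (MulAut.conj b).toMonoidHom = N) → N = ⊥)
    (eA : A ⧸ Cfsg.pCore 3 A ≃* GL (Fin 2) (ZMod 3)) (eB : B ⧸ Cfsg.pCore 3 B ≃* GL (Fin 2) (ZMod 3))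
    (hOA : IsMulCommutative (Cfsg.pCore 3 A) ∧ (∀ x ∈ Cfsg.pCore 3 A, x ^ 3 = 1) ∧ Nat.card (Cfsg.pCore 3 A) = 9 ∧
      Subgroup.centralizer ((Cfsg.pCore 3 A : Subgroup A) : Set A) = Cfsg.pCore 3 A)
    (hOB : IsMulCommutative (Cfsg.pCore 3 B) ∧ (∀ x ∈ Cfsg.pCore 3 B, x ^ 3 = 1) ∧ Nat.card (Cfsg.pCore 3 B) = 9 ∧
      Subgroup.centralizer ((Cfsg.pCore 3 B : Subgroup B) : Set B) = Cfsg.pCore 3 B)
    (S : Sylow 3 ↥(A ⊓ B)) (Z : Subgroup G)
    (hZ : Z = ((S : Subgroup ↥(A ⊓ B)) ⊓ Subgroup.centralizer ((S : Subgroup ↥(A ⊓ B)) : Set ↥(A ⊓ B))).map (A ⊓ B).subtype)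
    (hNZ : Subgroup.normalizer (Z : Set G) ≤ A ⊓ B) :
    Cfsg.Spor.IsoM12 G ∨ Nonempty (G ≃* Matrix.ProjectiveSpecialLinearGroup (Fin 3) (ZMod 3)) := by
  have : Fact (Nat.Prime 3) := ⟨by norm_num⟩
  have sA := side eA hOA
  have sB := side eB hOB
  generalize (Cfsg.pCore 3 A).map A.subtype = V at sA
  generalize (Cfsg.pCore 3 B).map B.subtype = W at sB
  have hS : ¬ 3 ∣ ((S : Subgroup ↥(A ⊓ B)).map (A ⊓ B).subtype).relIndex (A ⊓ B) := by
    rw [relIndex, subgroupOf, comap_map_eq_self_of_injective (subtype_injective _)]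
    exact S.not_dvd_index
  have lA := le_syl sA inf_le_left hSylA (map_subtype_le _) (S.2.map _) hS
  have lB := le_syl sB inf_le_right hSylB (map_subtype_le _) (S.2.map _) hS
  have VC := lA.trans (map_subtype_le _)
  have WC := lB.trans (map_subtype_le _)
  have nm : ∀ {P U : Subgroup G}, Side P U → ∀ a ∈ P, U.map (MulAut.conj a).toMonoidHom = U :=
    fun h a ha => eq_of_le_of_card_ge (by rintro _ ⟨v, hv, rfl⟩; exact h.norm a ha v hv)
      (card_map_of_injective (MulAut.conj a).injective).ge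
  have hV := sA.cardV
  have ne : ¬ V ≤ W := fun l => by
    obtain rfl := eq_of_le_of_card_ge l (sB.cardV.trans hV.symm).le
    rw [hcore V VC (nm sA) (nm sB), card_bot] at hV
    omega
  have hZ1 : Z ≤ V ⊓ W := by
    rw [hZ]
    rintro _ ⟨z, ⟨-, hz⟩, rfl⟩
    have k : ∀ v ∈ (S : Subgroup ↥(A ⊓ B)).map (A ⊓ B).subtype, (z : G) * v = v * z := by
      rintro _ ⟨v, hv, rfl⟩
      exact congrArg Subtype.val (hz v hv).symm
    exact ⟨sA.cent _ z.2.1 fun v hv => k v (lA hv), sB.cent _ z.2.2 fun v hv => k v (lB hv)⟩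
  have hZ2 : Z ≠ ⊥ := fun e => by
    have : Nontrivial (S : Subgroup ↥(A ⊓ B)) := (nontrivial_iff_ne_bot _).2 fun e => by
      rw [e, Subgroup.map_bot, le_bot_iff] at lA
      rw [lA, card_bot] at hV
      omega
    obtain ⟨z, hz, z1⟩ := (bot_or_exists_ne_one _).resolve_left S.2.bot_lt_center.ne'
    have m : ((z : ↥(A ⊓ B)) : G) ∈ Z := hZ ▸ ⟨z, ⟨z.2, fun v hv =>
      congrArg Subtype.val (mem_center_iff.1 hz ⟨v, hv⟩)⟩, rfl⟩
    exact z1 (Subtype.ext (Subtype.ext (by simpa [e] using m)))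
  have c1 : Nat.card (V ⊓ W : Subgroup G) ∣ 3 ^ 2 := (card_dvd_of_le inf_le_left).trans (hV ▸ dvd_rfl)
  have c2 : Nat.card (V ⊓ W : Subgroup G) ≠ 9 := fun e =>
    ne (inf_eq_left.1 (eq_of_le_of_card_ge inf_le_left (by omega)))
  have c3 := card_dvd_of_le hZ1
  have c4 : Nat.card Z ≠ 1 := fun e => hZ2 (card_eq_one.1 e)
  obtain ⟨i, hi, c5⟩ := (Nat.dvd_prime_pow Nat.prime_three).1 c1
  have c6 : Nat.card (V ⊓ W : Subgroup G) = 3 := by
    interval_cases i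
    exacts [absurd (Nat.dvd_one.1 (c3.trans c5.dvd)) c4, c5, absurd c5 c2]
  have c7 : Z = V ⊓ W := eq_of_le_of_card_ge hZ1
    (c6.trans (((Nat.dvd_prime Nat.prime_three).1 (c6 ▸ c3)).resolve_left c4).symm).le
  exact Amal.main ⟨sA, sB, VC.trans inf_le_right, WC.trans inf_le_left, c6,
    fun g hg => hNZ (c7 ▸ mem_normalizer_fintype hg)⟩ hgen

end Cfsg.Agent.S3348
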