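import Cfsg.Statements.S3366
import Cfsg.Agent.Recog.P43XD
import Cfsg.Agent.Recog.U42Main

set_option autoImplicit false
open Cfsg

namespace Cfsg.Agent.S3366

open Cfsg.Lib.Recog

/-- Let X be a finite group with O₃(X) extraspecial of order 27 and exponent 3, X/O₃(X) isomorphic to SL(2,3), O₂(X) = 1, and a Sylow 3-subgroup of X containing an elementary abelian subgroup of order 27. Then X is isomorphic to the centralizer in PSp(4,3) of a 3-central element of order 3 (an element of order 3 in the centre of a Sylow 3-subgroup). -/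
theorem result {X : Type*} [Group X] [Finite X]
    (hR : Cfsg.IsExtraspecial 3 (Cfsg.pCore 3 X)) (hRcard : Nat.card (Cfsg.pCore 3 X) = 27)
    (hRexp : ∀ r ∈ Cfsg.pCore 3 X, r ^ 3 = 1)
    (e : X ⧸ Cfsg.pCore 3 X ≃* Matrix.SpecialLinearGroup (Fin 2) (ZMod 3))
    (hO2 : Cfsg.pCore 2 X = ⊥)
    (hE : ∃ E : Subgroup X, IsMulCommutative E ∧ (∀ a ∈ E, a ^ 3 = 1) ∧ Nat.card E = 27)
    (F : Type*) [Field F] [Fintype F] (hF : Fintype.card F = 3) :
    ∃ (c : Cfsg.PSp 2 F) (S : Sylow 3 (Cfsg.PSp 2 F)), orderOf c = 3 ∧ c ∈ (S : Subgroup (Cfsg.PSp 2 F)) ∧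
      c ∈ Subgroup.centralizer ((S : Subgroup (Cfsg.PSp 2 F)) : Set (Cfsg.PSp 2 F)) ∧
      Nonempty (X ≃* Subgroup.centralizer ({c} : Set (Cfsg.PSp 2 F))) := by
  obtain ⟨E, hE1, hE2, hE3⟩ := hE
  obtain ⟨ψ⟩ := P43.nonempty_equiv_X (R := pCore 3 X)
    ((e.trans P43.Q.matEquiv.symm).toMonoidHom.comp (QuotientGroup.mk' _))
    ((e.trans P43.Q.matEquiv.symm).surjective.comp (QuotientGroup.mk'_surjective _))
    (fun g => by simp) hR hRcard hRexp (fun t h1 h2 => by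
      have hn : (Subgroup.zpowers t).Normal := ⟨fun y hy g => by
        rw [Subgroup.mem_center_iff.1 (Subgroup.zpowers_le.2 (Subgroup.mem_center_iff.2 h2) hy) g,
          mul_inv_cancel_right]; exact hy⟩
      have h3 := Cfsg.Lib.Solv.le_pCore hn (p := 2) (fun y => ⟨1, Subtype.ext (by
        rcases U42.eq_or_of_mem_zpowers h1 y.2 with e | e <;> simp [e, pow_two, h1])⟩)
      rw [hO2] at h3
      exact h3 (Subgroup.mem_zpowers t))
    (fun u hu v hv => congrArg Subtype.val (hE1.is_comm.comm ⟨u, hu⟩ ⟨v, hv⟩)) hE2 hE3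
  obtain ⟨f⟩ := U42.nonempty_psp_equiv hF
  let D := Cfsg.Lib.Recog.P43.xdP.map f
  obtain ⟨S, hS⟩ := D.isSylowIn.exists_sylow_eq
  refine ⟨D.φ Cfsg.Lib.Recog.P43.X.a, S, orderOf_eq_prime D.a_cube D.a_ne, ?_, ?_,
    ⟨ψ.symm.trans ((MonoidHom.ofInjective D.inj).trans (MulEquiv.subgroupCongr D.range))⟩⟩
  · rw [hS]; exact Subgroup.mem_map_of_mem _ (by decide : Cfsg.Lib.Recog.P43.X.InS _)
  · rw [hS, Subgroup.mem_centralizer_iff]
    rintro _ ⟨p, -, rfl⟩
    exact D.comm_a p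

end Cfsg.Agent.S3366
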