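import Cfsg.Statements.S3685
import Cfsg.Agent.Perm.TW
import Cfsg.Agent.Local.Dihedral
import Cfsg.Agent.Local.CubicCoset

set_option autoImplicit false
open Cfsg

namespace Cfsg.Agent.S3685

open Subgroup Cfsg.Lib.Perm Cfsg.Lib.Solv Cfsg.Lib.Trans Cfsg.Lib.Local MulAction

set_option linter.unusedSectionVars false

section
variable {G : Type*} [Group G] [Finite G] {H K : Subgroup G}

theorem relIndex_core (e : K.relIndex H = 3) : (coreIn H K).relIndex (H ⊓ K) ∣ 2 := by
  simpa [e] using relIndex_coreIn_inf_dvd H K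

theorem res_norm (e : K.relIndex H = 3) : H ≤ normalizer (resOf 2 (H ⊓ K) : Set G) := by
  have : Fact (Nat.Prime 2) := Nat.fact_prime_two
  have hle : coreIn H K ≤ H ⊓ K := le_inf (coreIn_le_left _ _) (coreIn_le_right _ _)
  have h1 : resOf 2 (H ⊓ K) ≤ coreIn H K := by
    refine MSS.resOf_le_of_pow_mem fun g hg => ⟨1, ?_⟩
    have hn : ((coreIn H K).subgroupOf (H ⊓ K)).Normal :=
      normal_subgroupOf_of_le_normalizer (inf_le_left.trans (le_normalizer_coreIn _ _))
    obtain ⟨c, hc⟩ := relIndex_core e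
    have := pow_index_mem ((coreIn H K).subgroupOf (H ⊓ K)) ⟨g, hg⟩
    rw [pow_one, hc, pow_mul]
    exact pow_mem this c
  rw [← MSS.resOf_eq_of_le h1 hle]
  exact MSS.le_normalizer_resOf (le_normalizer_coreIn _ _)

theorem sylow (h : PrimPair H K) (e : K.relIndex H = 3) : IsSylowIn 2 (H ⊓ K) H := by
  have : Fact (Nat.Prime 2) := Nat.fact_prime_two
  refine ⟨inf_le_left, MSS.resOf_eq_bot_iff.1 (h.eq_bot ((MSS.resOf_le _).trans inf_le_left)
    (res_norm e) (inf_comm K H ▸ res_norm (h.relIndex_eq.trans e))), ?_⟩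
  rw [inf_relIndex_left, e]; decide

theorem core_eq (h : PrimPair H K) (e : K.relIndex H = 3) : pCoreOf 2 H = coreIn H K := by
  have : Fact (Nat.Prime 2) := Nat.fact_prime_two
  have hs := sylow h e
  exact le_antisymm (le_coreIn (MSS.pCoreOf_le _) ((MSS.pCoreOf_le_of_isSylowIn hs).trans inf_le_right)
    (MSS.self_le_normalizer_pCoreOf _)) (MSS.le_pCoreOf (coreIn_le_left _ _) (le_normalizer_coreIn _ _)
    (hs.isPGroup.to_le (le_inf (coreIn_le_left _ _) (coreIn_le_right _ _))))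

theorem card_H (e : K.relIndex H = 3) : Nat.card H = 3 * Nat.card (H ⊓ K : Subgroup G) := by
  rw [← card_inf_mul_relIndex K H, e, inf_comm, mul_comm]

theorem card_T (h : PrimPair H K) (e : K.relIndex H = 3) (h0 : H ⊓ K ≠ ⊥) :
    Nat.card (H ⊓ K : Subgroup G) = 2 * Nat.card (pCoreOf 2 H) := by
  have : Fact (Nat.Prime 2) := Nat.fact_prime_two
  have hle : coreIn H K ≤ H ⊓ K := le_inf (coreIn_le_left _ _) (coreIn_le_right _ _)
  have h1 := card_mul_relIndex_of_le hle
  rcases (Nat.dvd_prime Nat.prime_two).1 (relIndex_core e) with h2 | h2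
  · exfalso
    have h3 : pCoreOf 2 H = H ⊓ K := by
      rw [core_eq h e]; exact le_antisymm hle (relIndex_eq_one.1 h2)
    have h4 : pCoreOf 2 K ≤ pCoreOf 2 H := by
      rw [h3, inf_comm]; exact MSS.pCoreOf_le_of_isSylowIn (sylow h.symm (h.relIndex_eq.trans e))
    exact h0 (h3 ▸ h.pCoreOf_eq_bot_iff.1 (h.symm.pCoreOf_eq_bot_of_le h4))
  · rw [core_eq h e, ← h1, h2, mul_comm]

theorem eq_of_lt (e : K.relIndex H = 3) {L : Subgroup G} (h1 : H ⊓ K ≤ L) {x : G} (hx : x ∈ H)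
    (hx3 : orderOf x = 3) (hxL : x ∈ L) (hT : IsPGroup 2 (H ⊓ K : Subgroup G)) : H ≤ L := by
  have : Fact (Nat.Prime 2) := Nat.fact_prime_two
  have h2 := relIndex_mul_relIndex (H ⊓ K) (H ⊓ L) H (le_inf inf_le_left h1) inf_le_left
  rw [inf_relIndex_left H K, e] at h2
  rcases (Nat.dvd_prime Nat.prime_three).1 (Dvd.intro _ h2) with h3 | h3
  · exfalso
    obtain ⟨k, hk⟩ := IsPGroup.iff_orderOf.1 hT ⟨x, relIndex_eq_one.1 h3 ⟨hx, hxL⟩⟩
    rw [orderOf_mk, hx3] at hk
    exact absurd ((Nat.prime_three.eq_one_or_self_of_dvd 2 (by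
      rw [hk]; exact dvd_pow_self 2 (by rintro rfl; simp at hk)))) (by decide)
  · rw [h3] at h2
    exact (relIndex_eq_one.1 (show (H ⊓ L).relIndex H = 1 by omega)).trans inf_le_right

theorem exists_three (h : PrimPair H K) (e : K.relIndex H = 3)
    (hc : ¬ H ⊓ centralizer (pCoreOf 2 H : Set G) ≤ pCoreOf 2 H) :
    ∃ x ∈ H, orderOf x = 3 ∧ x ∈ centralizer (pCoreOf 2 H : Set G) := by
  have : Fact (Nat.Prime 2) := Nat.fact_prime_two
  have : Fact (Nat.Prime 3) := Nat.fact_prime_three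
  have h3 : 3 ∣ Nat.card (H ⊓ centralizer (pCoreOf 2 H : Set G) : Subgroup G) := by
    by_contra hn
    refine hc (MSS.le_pCoreOf inf_le_left (le_normalizer_inf_centralizer le_normalizer
      (MSS.self_le_normalizer_pCoreOf H)) ?_)
    obtain ⟨k, hk⟩ := IsPGroup.iff_card.1 (sylow h e).isPGroup
    have h1 := card_dvd_of_le (inf_le_left : H ⊓ centralizer (pCoreOf 2 H : Set G) ≤ H)
    rw [card_H e, hk] at h1
    obtain ⟨j, -, hj⟩ := (Nat.dvd_prime_pow Nat.prime_two).1 (Nat.Coprime.dvd_of_dvd_mul_left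
      ((Nat.prime_three.coprime_iff_not_dvd.2 hn).symm) h1)
    exact IsPGroup.of_card hj
  obtain ⟨x, hx⟩ := exists_prime_orderOf_dvd_card' 3 h3
  exact ⟨x, x.2.1, by rw [orderOf_coe, hx], x.2.2⟩

theorem not_cent (h : PrimPair H K) (e : K.relIndex H = 3) (h0 : H ⊓ K ≠ ⊥) :
    ¬ H ≤ centralizer (Amal.omZ 2 (H ⊓ K) : Set G) := by
  have : Fact (Nat.Prime 2) := Nat.fact_prime_two
  intro hc
  obtain ⟨g, hg⟩ := h.conj
  have s1 := (sylow h e).cj g
  rw [← hg] at s1
  have s2 := sylow h.symm (h.relIndex_eq.trans e)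
  rw [inf_comm] at s2
  obtain ⟨k, hk, e1⟩ := s2.exists_cj_eq s1
  have e2 : cj k (cj g H) = K := by rw [← hg, cj_eq_of_mem hk]
  have e3 : K ≤ centralizer (Amal.omZ 2 (H ⊓ K) : Set G) := by
    rw [← e1, ← Amal.cj_omZ, ← Amal.cj_omZ, ← cj_centralizer, ← cj_centralizer]
    exact e2.ge.trans (cj_mono _ (cj_mono _ hc))
  exact Amal.omZ_ne_bot (sylow h e).isPGroup h0 (h.eq_bot ((Amal.omZ_le _).trans inf_le_left)
    (hc.trans (centralizer_le_normalizer _)) (e3.trans (centralizer_le_normalizer _)))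

theorem charP_iff (h : PrimPair H K) (hc : H ⊓ centralizer (pCoreOf 2 H : Set G) ≤ pCoreOf 2 H) :
    K ⊓ centralizer (pCoreOf 2 K : Set G) ≤ pCoreOf 2 K := by
  obtain ⟨g, rfl⟩ := h.conj
  rw [MSS.pCoreOf_cj, ← cj_centralizer, ← cj_inf]
  exact cj_mono _ hc

theorem norm_D (h : PrimPair H K) (e : K.relIndex H = 3)
    (hc : ¬ H ⊓ centralizer (pCoreOf 2 H : Set G) ≤ pCoreOf 2 H) :
    H ≤ normalizer ((pCoreOf 2 H ⊓ pCoreOf 2 K : Subgroup G) : Set G) := by
  obtain ⟨x, hx, hx3, hxc⟩ := exists_three h e hc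
  refine eq_of_lt e (le_normalizer_inf (inf_le_left.trans (MSS.self_le_normalizer_pCoreOf H))
    (inf_le_right.trans (MSS.self_le_normalizer_pCoreOf K))) hx hx3 ?_ (sylow h e).isPGroup
  exact centralizer_le_normalizer _ (centralizer_le (SetLike.coe_subset_coe.2 inf_le_left) hxc)

theorem gen_two {A : Subgroup G} (e : Nat.card A = 2) : ∃ s : G, orderOf s = 2 ∧ zpowers s = A := by
  obtain ⟨s, hs⟩ := exists_prime_orderOf_dvd_card' (G := A) 2 e.symm.dvd
  refine ⟨s, by rw [orderOf_coe, hs], eq_of_le_of_card_ge (zpowers_le.2 s.2) ?_⟩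
  rw [Nat.card_zpowers, orderOf_coe, hs, e]

theorem dih (h : PrimPair H K) (e : K.relIndex H = 3) (h0 : H ⊓ K ≠ ⊥) (hA : pCoreOf 2 H ≠ ⊥)
    (hc : ¬ H ⊓ centralizer (pCoreOf 2 H : Set G) ≤ pCoreOf 2 H) :
    Nonempty (H ≃* DihedralGroup 6) := by
  classical
  have : Fact (Nat.Prime 2) := Nat.fact_prime_two
  have e' := h.relIndex_eq.trans e
  have hD : pCoreOf 2 H ⊓ pCoreOf 2 K = ⊥ := h.eq_bot (inf_le_left.trans (MSS.pCoreOf_le _))
    (norm_D h e hc) (inf_comm (pCoreOf 2 K) _ ▸ norm_D h.symm e' fun h1 => hc (charP_iff h.symm h1))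
  have hAT : pCoreOf 2 H ≤ H ⊓ K := MSS.pCoreOf_le_of_isSylowIn (sylow h e)
  have hBT : pCoreOf 2 K ≤ H ⊓ K := inf_comm K H ▸ MSS.pCoreOf_le_of_isSylowIn (sylow h.symm e')
  have c1 : Nat.card (pCoreOf 2 H) = 2 := by
    have h1 := relIndex_dvd_of_le_of_le_normalizer hAT
      (inf_le_right.trans (MSS.self_le_normalizer_pCoreOf (p := 2) K))
    rw [← inf_relIndex_right, inf_comm, hD, relIndex_bot_left, core_eq h.symm e', inf_comm] at h1
    exact ((Nat.dvd_prime Nat.prime_two).1 (h1.trans (relIndex_core e'))).resolve_left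
      (by rwa [card_eq_one])
  have c2 : Nat.card H = 12 := by rw [card_H e, card_T h e h0, c1]
  obtain ⟨a, ha, ea⟩ := gen_two c1
  obtain ⟨b, hb, eb⟩ := gen_two (h.card_pCoreOf.trans c1)
  obtain ⟨x, hx, hx3, hxc⟩ := exists_three h e hc
  have haA : a ∈ pCoreOf 2 H := ea ▸ mem_zpowers a
  have hbB : b ∈ pCoreOf 2 K := eb ▸ mem_zpowers b
  have hxa : Commute a x := hxc a haA
  have hy : orderOf (a * x) = 6 := by
    rw [hxa.orderOf_mul_eq_mul_orderOf_of_coprime (by rw [ha, hx3]; decide), ha, hx3]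
  have hyH : a * x ∈ H := mul_mem (hAT haA).1 hx
  have hbH : b ∈ H := (hBT hbB).1
  have hn : H ≤ normalizer (zpowers (a * x) : Set G) := by
    rw [← normal_subgroupOf_iff_le_normalizer (zpowers_le.2 hyH)]
    refine normal_of_index_eq_two ?_
    have := card_mul_relIndex_of_le (zpowers_le.2 hyH)
    rw [Nat.card_zpowers, hy, c2] at this
    change relIndex _ _ = 2
    omega
  have hnc : b * (a * x) * b⁻¹ ≠ a * x := by
    intro e1
    have h1 : (a * x) ^ 4 = x := by
      rw [hxa.mul_pow, show a ^ 4 = (a ^ 2) ^ 2 by group, ← ha, pow_orderOf_eq_one, one_pow, one_mul,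
        pow_succ, ← hx3, pow_orderOf_eq_one, one_mul]
    have h2 : Commute b x := h1 ▸ (Commute.pow_right (mul_inv_eq_iff_eq_mul.1 e1) 4)
    have h3 : pCoreOf 2 K = ⊥ := by
      refine h.eq_bot (hBT.trans inf_le_left) (eq_of_lt e
        (inf_le_right.trans (MSS.self_le_normalizer_pCoreOf K)) hx hx3 ?_ (sylow h e).isPGroup)
        (MSS.self_le_normalizer_pCoreOf K)
      refine centralizer_le_normalizer _ ?_
      rw [← eb]
      rintro _ ⟨j, rfl⟩
      exact (h2.zpow_left j).eq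
    exact hA (h.pCoreOf_eq_bot_iff.1 h3)
  have hinv : b * (a * x) * b⁻¹ = (a * x)⁻¹ := by
    obtain ⟨j, hj, ej⟩ := Finset.mem_image.1 (mem_zpowers_iff_mem_range_orderOf.1
      (conj_mem_of_mem_normalizer (hn hbH) (mem_zpowers _)))
    have ho : orderOf ((a * x) ^ j) = 6 := by
      rw [ej, ← hy]; exact (MulAut.conj b).orderOf_eq _
    rw [Finset.mem_range, hy] at hj
    rw [orderOf_pow, hy] at ho
    interval_cases j <;> simp at ho
    · exact absurd (by simpa using ej.symm) hnc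
    · rw [← ej, eq_inv_iff_mul_eq_one, ← pow_succ]
      exact orderOf_dvd_iff_pow_eq_one.1 hy.dvd
  have hb2 : b * b = 1 := by rw [← pow_two, ← hb, pow_orderOf_eq_one]
  have hbi : b⁻¹ = b := inv_eq_of_mul_eq_one_left hb2
  have ht : orderOf (b * (a * x)) = 2 := by
    refine orderOf_eq_prime ?_ fun e1 => ?_
    · rw [pow_two, ← mul_assoc, show b * (a * x) * b = b * (a * x) * b⁻¹ by rw [hbi], hinv,
        inv_mul_cancel]
    · rw [← orderOf_inv, ← eq_inv_of_mul_eq_one_left e1, hb] at hy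
      omega
  obtain ⟨f⟩ := dih_closure_mulEquiv hb ht
  rw [← mul_assoc b b, hb2, one_mul, hy] at f
  have hle : closure {b, b * (a * x)} ≤ H := by
    rw [closure_le]; rintro _ (rfl | rfl)
    exacts [hbH, mul_mem hbH hyH]
  have := eq_of_le_of_card_ge hle (by rw [Nat.card_congr f.toEquiv, DihedralGroup.nat_card, c2])
  exact ⟨(MulEquiv.subgroupCongr this.symm).trans f⟩

theorem sym3 (h : PrimPair H K) (e : K.relIndex H = 3) (h0 : H ⊓ K ≠ ⊥) (hA : pCoreOf 2 H = ⊥) :
    Nonempty (H ≃* Equiv.Perm (Fin 3)) := by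
  classical
  have c2 : Nat.card H = 6 := by rw [card_H e, card_T h e h0, hA, card_bot]
  have c3 : Nat.card (H ⧸ K.subgroupOf H) = 3 := e
  have f : (H ⧸ K.subgroupOf H) ≃ Fin 3 := Finite.equivFinOfCardEq c3
  have hk : (toPermHom H (H ⧸ K.subgroupOf H)).ker = ⊥ := by
    rw [← normalCore_eq_ker]
    rw [core_eq h e, coreIn, map_eq_bot_iff_of_injective _ H.subtype_injective] at hA
    exact hA
  have hb : Function.Bijective (toPermHom H (H ⧸ K.subgroupOf H)) := by
    rw [Nat.bijective_iff_injective_and_card]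
    have := Fintype.ofFinite (H ⧸ K.subgroupOf H)
    exact ⟨(MonoidHom.ker_eq_bot_iff _).1 hk, by rw [c2, Nat.card_perm, c3]; rfl⟩
  exact ⟨(MulEquiv.ofBijective _ hb).trans f.permCongrHom⟩

theorem s3 (h : PrimPair H K) (e : K.relIndex H = 3) (h0 : H ⊓ K ≠ ⊥) : Amal.S3Pair H (H ⊓ K) := by
  have : Fact (Nat.Prime 2) := Nat.fact_prime_two
  exact ⟨inferInstance, ⟨(sylow h e).toSylow, (sylow h e).map_toSylow⟩, by
    rw [card_H e, card_T h e h0]; omega⟩

end


/-- Let a finite group G act faithfully and primitively on a set Ω, and suppose the stabilizer of a point a has an orbit of length 3. Then the stabilizer of a is isomorphic to one of: the cyclic group of order 3, the symmetric group of degree 3, the dihedral group of order 12, the symmetric group of degree 4, or the direct product of the symmetric group of degree 4 with a group of order 2. -/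
theorem result {G Ω : Type*} [Group G] [Finite G] [MulAction G Ω] [FaithfulSMul G Ω] [Finite Ω]
    (hprim : MulAction.IsPreprimitive G Ω) (a b : Ω) (h3 : Nat.card (MulAction.orbit (MulAction.stabilizer G a) b) = 3) :
    Nonempty (MulAction.stabilizer G a ≃* Multiplicative (ZMod 3)) ∨ Nonempty (MulAction.stabilizer G a ≃* Equiv.Perm (Fin 3)) ∨
      Nonempty (MulAction.stabilizer G a ≃* DihedralGroup 6) ∨ Nonempty (MulAction.stabilizer G a ≃* Equiv.Perm (Fin 4)) ∨
      Nonempty (MulAction.stabilizer G a ≃* Equiv.Perm (Fin 4) × Multiplicative (ZMod 2)) := by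
  have h := primPair_stabilizer hprim (a := a) (b := b) (by omega)
  have : Nontrivial Ω := ⟨a, b, fun e => h.ne (e ▸ rfl)⟩
  have hco := IsPreprimitive.isCoatom_stabilizer_of_isPreprimitive G a
  have hcore := normalCore_stabilizer_eq_bot (G := G) a
  rw [card_orbit_stabilizer] at h3
  set H := stabilizer G a with hH
  set K := stabilizer G b with hK
  by_cases h0 : H ⊓ K = ⊥
  · left
    have : Fact (Nat.Prime 3) := Nat.fact_prime_three
    exact ⟨mulEquivOfPrimeCardEq (p := 3) (by rw [card_H h3, h0, card_bot]) (by simp)⟩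
  by_cases hA : pCoreOf 2 H = ⊥
  · exact Or.inr (Or.inl (sym3 h h3 h0 hA))
  by_cases hc : H ⊓ centralizer (pCoreOf 2 H : Set G) ≤ pCoreOf 2 H
  swap
  · exact Or.inr (Or.inr (Or.inl (dih h h3 h0 hA hc)))
  have e' := h.relIndex_eq.trans h3
  have h0' : K ⊓ H ≠ ⊥ := by rwa [inf_comm]
  rcases Amal.amalgam_S4 (M₁ := H) (M₂ := K)
    (hco.2 _ (lt_of_le_of_ne le_sup_left fun e => h.not_le (e ▸ le_sup_right)))
    (fun N h1 h2 => le_bot_iff.1 (hcore ▸ normal_le_normalCore.2 (h1.trans inf_le_left)))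
    (s3 h h3 h0) (inf_comm K H ▸ s3 h.symm e' h0') hc (charP_iff h hc) (not_cent h h3 h0)
    (inf_comm K H ▸ not_cent h.symm e' h0') with ⟨f, -⟩ | ⟨⟨f⟩, -⟩
  · exact Or.inr (Or.inr (Or.inr (Or.inl f)))
  · exact Or.inr (Or.inr (Or.inr (Or.inr ⟨f.trans MulEquiv.prodComm⟩)))

end Cfsg.Agent.S3685
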