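import Cfsg.Statements.S3390
import Cfsg.Agent.Perm.PlaneOW
import Cfsg.Agent.S3224

set_option autoImplicit false
open Cfsg

namespace Cfsg.Agent.S3390

open MulAction Cfsg.Lib.Perm Cfsg.Lib.Perm.Plane Cfsg.Lib.Block

section

variable {G Ω : Type*} [Group G] [Finite G] [MulAction G Ω] [Finite Ω]

theorem exists_invol_conj {t u : G} (ht : t * t = 1) (hu : u * u = 1)
    (h : ∀ z : G, z ∈ Subgroup.zpowers (t * u) → z * z = 1 → Commute z t → Commute z u → z = 1) :
    ∃ k : ℕ, t * (t * u) ^ k * (t * (t * u) ^ k) = 1 ∧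
      t * (t * u) ^ k * t * (t * (t * u) ^ k) = u := by
  have hti : t⁻¹ = t := inv_eq_of_mul_eq_one_left ht
  have hui : u⁻¹ = u := inv_eq_of_mul_eq_one_left hu
  have h1 : ∀ k : ℕ, t * (t * u) ^ k * t = ((t * u) ^ k)⁻¹ := fun k => by
    have := conj_pow (a := t) (b := t * u) (i := k)
    rw [hti, ← mul_assoc t t u, ht, one_mul] at this
    rw [← this, ← inv_pow, mul_inv_rev, hti, hui]
  rcases Nat.even_or_odd' (orderOf (t * u)) with ⟨k, hk | hk⟩
  · exfalso
    have h2 : (t * u) ^ k * (t * u) ^ k = 1 := by rw [← pow_add, ← two_mul, ← hk, pow_orderOf_eq_one]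
    have h3 : Commute ((t * u) ^ k) t := by
      have := h1 k
      rw [inv_eq_of_mul_eq_one_left h2] at this
      change _ * _ = _ * _
      rw [← this, mul_assoc, ht, mul_one, this]
    have h4 : Commute ((t * u) ^ k) u := by
      have := h3.mul_right ((Commute.refl (t * u)).pow_left k)
      rwa [← mul_assoc, ht, one_mul] at this
    have h5 := orderOf_dvd_of_pow_eq_one (h _ (Subgroup.npow_mem_zpowers _ k) h2 h3 h4)
    have h6 := orderOf_pos (t * u)
    have := Nat.le_of_dvd (by omega) h5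
    omega
  · refine ⟨k + 1, by rw [← mul_assoc, h1, inv_mul_cancel], ?_⟩
    rw [mul_assoc, ← mul_assoc t t, ht, one_mul, mul_assoc, ← pow_add,
      show k + 1 + (k + 1) = 2 * k + 1 + 1 by ring, ← hk, pow_succ, pow_orderOf_eq_one, one_mul,
      ← mul_assoc, ht, one_mul]

theorem frob_core (N : Subgroup G) [hN : N.Normal] (α : Ω)
    (F3 : ∀ g : G, g ≠ 1 → ∀ a b c : Ω, a ≠ b → g • a = a → g • b = b → g • c = c → c = a ∨ c = b)
    (hst : stabilizer G α ≤ N)
    (I1 : ∀ u ∈ N, u * u = 1 → u ≠ 1 →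
      ∃ a b : Ω, a ∈ orbit N α ∧ b ∉ orbit N α ∧ u • a = a ∧ u • b = b)
    {t : G} (htα : t • α = α) (ht : t * t = 1) (ht1 : t ≠ 1) {γ : Ω} (hγ : γ ∈ orbit N α)
    (hγα : γ ≠ α) {d : G} (hdα : d • α = α) (hdγ : d • γ = γ) : d = 1 := by
  classical
  have hin : ∀ g ∈ N, ∀ x, x ∈ orbit N α → g • x ∈ orbit N α := fun g hg x ⟨k, hk⟩ =>
    ⟨⟨g, hg⟩ * k, hk ▸ mul_smul g (k : G) α⟩
  have U1 : ∀ u ∈ N, u * u = 1 → u ≠ 1 → ∀ x y, x ∈ orbit N α → y ∈ orbit N α → u • x = x →
      u • y = y → x = y := fun u hu h1 h2 x y hx hy h3 h4 => by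
    obtain ⟨a, b, ha, hb, h5, h6⟩ := I1 u hu h1 h2
    have hab : a ≠ b := fun e => hb (e ▸ ha)
    exact ((F3 u h2 a b x hab h5 h6 h3).resolve_right fun e => hb (e ▸ hx)).trans
      ((F3 u h2 a b y hab h5 h6 h4).resolve_right fun e => hb (e ▸ hy)).symm
  have hα := mem_orbit_self (M := N) α
  have comm : ∀ (z u : G) (x : Ω), Commute z u → u • x = x → u • z • x = z • x :=
    fun z u x h hx => by rw [← mul_smul, ← h.eq, mul_smul, hx]
  obtain ⟨n, hn⟩ := hγ
  change (n : G) • α = γ at hn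
  have hγ : γ ∈ orbit N α := ⟨n, hn⟩
  obtain ⟨hu, hu1⟩ := conj_invol ht ht1 (n : G)
  have huN := hN.conj_mem t (hst htα) n
  have huγ : ((n : G) * t * (n : G)⁻¹) • γ = γ := by
    rw [← hn, mul_smul, inv_smul_smul, mul_smul, htα]
  generalize (n : G) * t * (n : G)⁻¹ = u at hu hu1 huN huγ
  have step1 : ∀ s : G, s • α = α → s * s = 1 → s ≠ 1 →
      ∃ w : G, w * w = 1 ∧ w * s * w = u ∧ w • α = γ ∧ w • γ = α := fun s hsα hs hs1 => by
    have hsN := hst hsα
    obtain ⟨k, h1, h2⟩ := exists_invol_conj hs hu fun z hz hzz hzs hzu => by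
      by_contra hz1
      have hzN : z ∈ N := (Subgroup.zpowers_le.2 (mul_mem hsN huN)) hz
      exact hγα (U1 z hzN hzz hz1 _ _ hγ hα
        (U1 u huN hu hu1 _ _ (hin z hzN _ hγ) hγ (comm z u γ hzu huγ) huγ)
        (U1 s hsN hs hs1 _ _ (hin z hzN _ hα) hα (comm z s α hzs hsα) hsα))
    have hwN : s * (s * u) ^ k ∈ N := mul_mem hsN (pow_mem (mul_mem hsN huN) k)
    generalize s * (s * u) ^ k = w at h1 h2 hwN
    have h3 : w • α = γ := U1 u huN hu hu1 _ _ (hin w hwN _ hα) hγ (by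
      rw [← h2, mul_smul, ← mul_smul w w, h1, one_smul, mul_smul, hsα]) huγ
    exact ⟨w, h1, h2, h3, by rw [← h3, ← mul_smul, h1, one_smul]⟩
  have step2 : ∀ s : G, s • α = α → s * s = 1 → s ≠ 1 →
      ∃ e : G, e • α = α ∧ e • γ = γ ∧ e * t * e⁻¹ = s := fun s hsα hs hs1 => by
    obtain ⟨w, h1, h2, h3, h4⟩ := step1 t htα ht ht1
    obtain ⟨w', h1', h2', h3', h4'⟩ := step1 s hsα hs hs1
    refine ⟨w' * w, by rw [mul_smul, h3, h4'], by rw [mul_smul, h4, h3'], ?_⟩
    rw [mul_inv_rev, inv_eq_of_mul_eq_one_left h1, inv_eq_of_mul_eq_one_left h1']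
    calc w' * w * t * (w * w') = w' * (w * t * w) * w' := by simp only [mul_assoc]
      _ = w' * w' * s * (w' * w') := by rw [h2, ← h2']; simp only [mul_assoc]
      _ = s := by rw [h1', one_mul, mul_one]
  have step3 : ∀ (e : G) (δ : Ω), δ ∈ orbit N α → δ ≠ α → e • α = α → e • δ = δ → Commute t e →
      e = 1 := fun e δ hδ hδα h1 h2 h3 => by
    by_contra he
    rcases F3 e he α δ (t • δ) hδα.symm h1 h2 (comm t e δ h3 h2) with h | h
    · exact hδα (MulAction.injective t (h.trans htα.symm))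
    · exact hδα (U1 t (hst htα) ht ht1 _ _ hδ hα h htα)
  by_contra hd1
  obtain ⟨hs, hs1⟩ := conj_invol ht ht1 d
  have hsα : (d * t * d⁻¹) • α = α := by
    rw [mul_smul, inv_smul_eq_iff.2 hdα.symm, mul_smul, htα, hdα]
  have hnc : ¬ Commute (d * t * d⁻¹) t := fun hc => by
    obtain ⟨a, b, ha, hb, h5, h6⟩ := I1 t (hst htα) ht ht1
    have hb' : ∀ g ∈ N, g • b ∉ orbit N α := fun g hg h => hb (by
      have := hin _ (inv_mem hg) _ h
      rwa [inv_smul_smul] at this)
    have hαb : α ≠ b := fun e => hb (e ▸ hα)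
    have h7 : (d * t * d⁻¹) • b = b := (F3 t ht1 α b _ hαb htα h6 (comm _ t b hc h6)).resolve_left
      fun e => hb' _ (hst hsα) (e ▸ hα)
    have h8 : d • b = b := (F3 _ hs1 α b (d • b) hαb hsα h7 (by
      rw [mul_smul, inv_smul_smul, mul_smul, h6])).resolve_left fun e => hb' _ (hst hdα) (e ▸ hα)
    rcases F3 d hd1 α γ b hγα.symm hdα hdγ h8 with e | e
    · exact hαb e.symm
    · exact hb (e ▸ hγ)
  have := Fintype.ofFinite G
  have := Fintype.ofFinite Ω
  let M := stabilizer G α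
  let O : Finset Ω := Finset.univ.filter fun x => x ∈ orbit M γ
  let C : Finset G := Finset.univ.filter fun c => c ∈ M ∧ Commute c t
  let B : Ω → Finset G := fun x => Finset.univ.filter fun g => g ∈ M ⊓ stabilizer G x ∧ g ≠ 1
  have hO : ∀ x ∈ O, x ∈ orbit N α ∧ x ≠ α := fun x hx => by
    obtain ⟨m, rfl⟩ := (Finset.mem_filter.1 hx).2
    exact ⟨hin m (hst m.2) _ hγ, fun e => hγα (MulAction.injective (m : G) (e.trans m.2.symm))⟩
  have hOC : O.card ≤ C.card := by
    refine Finset.card_le_card_of_surjOn (fun c => c • γ) fun x hx => ?_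
    obtain ⟨m, rfl⟩ := (Finset.mem_filter.1 hx).2
    obtain ⟨h1, h2⟩ := conj_invol ht ht1 (m : G)⁻¹
    obtain ⟨e, h3, h4, h5⟩ := step2 _ (mul_mem (mul_mem (inv_mem m.2) htα) (inv_mem (inv_mem m.2)))
      h1 h2
    refine ⟨m * e, Finset.mem_coe.2 (Finset.mem_filter.2 ⟨Finset.mem_univ _,
      mul_mem m.2 h3, ?_⟩), by
        change ((m : G) * e) • γ = (m : G) • γ
        rw [mul_smul, h4]⟩
    change (m : G) * e * t = t * (m * e)
    rw [mul_inv_eq_iff_eq_mul] at h5
    rw [mul_assoc, h5]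
    group
  have hsub : ∀ H : Subgroup G, Nat.card H =
      (Finset.univ.filter fun g => g ∈ H ∧ g ≠ 1).card + 1 := fun H => by
    have e : (Finset.univ.filter fun g => g ∈ H ∧ g ≠ 1) =
        (Finset.univ.filter fun g => g ∈ H).erase 1 := by
      ext g; simp [and_comm]
    rw [e, Finset.card_erase_add_one (by simp), Nat.card_eq_fintype_card, Fintype.card_subtype]
  have hB : ∀ x ∈ O, (B x).card = (B γ).card := fun x hx => by
    obtain ⟨m, rfl⟩ := (Finset.mem_filter.1 hx).2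
    have h1 := card_eq_ncard_orbit_mul M γ
    have h2 := card_eq_ncard_orbit_mul M (m • γ)
    rw [orbit_smul, h1] at h2
    have h3 := Nat.eq_of_mul_eq_mul_left
      ((Set.ncard_pos (Set.toFinite _)).2 ⟨γ, mem_orbit_self γ⟩) h2
    rw [hsub, hsub] at h3
    exact (Nat.succ_injective h3).symm
  have hU : (O.biUnion B).card = O.card * (B γ).card := by
    rw [Finset.card_biUnion, Finset.sum_congr rfl hB, Finset.sum_const, smul_eq_mul]
    intro x hx y hy hxy
    rw [Function.onFun, Finset.disjoint_left]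
    intro g h1 h2
    simp only [B, Finset.mem_filter, Finset.mem_univ, true_and] at h1 h2
    exact (F3 g h1.2 α x y (hO x hx).2.symm h1.1.1 h1.1.2 h2.1.2).elim (hO y hy).2 hxy.symm
  have hM : (Finset.univ.filter fun g => g ∈ M).card = O.card * ((B γ).card + 1) := by
    rw [← hsub, ← Fintype.card_subtype, ← Nat.card_eq_fintype_card, card_eq_ncard_orbit_mul M γ,
      ← Set.ncard_coe_finset O]
    congr 2
    ext x; simp [O]
  have hdis : Disjoint (insert (d * t * d⁻¹) C) (O.biUnion B) := by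
    rw [Finset.disjoint_left]
    intro g h1 h2
    obtain ⟨x, hx, h2⟩ := Finset.mem_biUnion.1 h2
    simp only [B, Finset.mem_filter, Finset.mem_univ, true_and] at h2
    rcases Finset.mem_insert.1 h1 with rfl | h1
    · exact (hO x hx).2 (U1 _ (hst hsα) hs hs1 _ _ (hO x hx).1 hα h2.1.2 hsα)
    · exact h2.2 (step3 g x (hO x hx).1 (hO x hx).2 h2.1.1 h2.1.2
        (Finset.mem_filter.1 h1).2.2.symm)
  have hle : (insert (d * t * d⁻¹) C ∪ O.biUnion B) ⊆ Finset.univ.filter fun g => g ∈ M := by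
    intro g hg
    refine Finset.mem_filter.2 ⟨Finset.mem_univ _, ?_⟩
    rcases Finset.mem_union.1 hg with h | h
    · rcases Finset.mem_insert.1 h with rfl | h
      · exact hsα
      · exact (Finset.mem_filter.1 h).2.1
    · obtain ⟨x, -, h⟩ := Finset.mem_biUnion.1 h
      exact (Finset.mem_filter.1 h).2.1.1
  have h9 := Finset.card_le_card hle
  rw [Finset.card_union_of_disjoint hdis, hU, hM, Finset.card_insert_of_notMem
    fun h => hnc (Finset.mem_filter.1 h).2.2, mul_add] at h9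
  omega

theorem maxClass_of_fix
    (F3 : ∀ g : G, g ≠ 1 → ∀ a b c : Ω, a ≠ b → g • a = a → g • b = b → g • c = c → c = a ∨ c = b)
    {S : Subgroup G} (hS : IsPGroup 2 S) {γ : Ω} (h2 : Nat.card ↥(S ⊓ stabilizer G γ) = 2)
    (h4 : 4 ≤ Nat.card S) :
    (∃ n, Nonempty (S ≃* DihedralGroup n)) ∨ IsQuasiDihedral S ∨ Nat.card S = 4 := by
  have : Nontrivial ↥(S ⊓ stabilizer G γ) := Finite.one_lt_card_iff_nontrivial.1 (by omega)
  obtain ⟨⟨t, htS, htγ⟩, ht1⟩ := exists_ne (1 : ↥(S ⊓ stabilizer G γ))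
  have ht1' : t ≠ 1 := fun e => ht1 (Subtype.ext e)
  have ht2 : t ^ 2 = 1 := congrArg Subtype.val (h2 ▸ pow_card_eq_one' (x := (⟨t, htS, htγ⟩ : ↥(S ⊓ stabilizer G γ))) :
    (⟨t, htS, htγ⟩ : ↥(S ⊓ stabilizer G γ)) ^ 2 = 1)
  have hto : orderOf (⟨t, htS⟩ : S) = 2 :=
    orderOf_eq_prime (Subtype.ext ht2) fun e => ht1' (congrArg Subtype.val e)
  refine Cfsg.Agent.S3224.result hS ⟨t, htS⟩ hto ?_
  set C := Subgroup.centralizer ({⟨t, htS⟩} : Set S) with hC
  have h5 := card_eq_ncard_orbit_mul C γ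
  have h6 : (orbit C γ).ncard ≤ 2 := by
    by_contra h
    obtain ⟨a, b, c, ha, hb, hc, hab, hac, hbc⟩ :=
      (Set.two_lt_ncard_iff (Set.toFinite _)).1 (not_le.1 h)
    have key : ∀ x ∈ orbit C γ, t • x = x := by
      rintro _ ⟨c, rfl⟩
      have := congrArg Subtype.val (Subgroup.mem_centralizer_singleton_iff.1 c.2)
      change t • ((c : S) : G) • γ = ((c : S) : G) • γ
      rw [← mul_smul]
      change (c : S).1 * t = t * (c : S).1 at this
      rw [← this, mul_smul, show t • γ = γ from htγ]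
    exact (F3 t ht1' a b c hab (key a ha) (key b hb) (key c hc)).elim hac.symm hbc.symm
  have h7 : Nat.card ↥(C ⊓ stabilizer S γ) ≤ 2 := by
    rw [← h2]
    exact Nat.card_le_card_of_injective
      (fun x : ↥(C ⊓ stabilizer S γ) => (⟨x.1, x.1.2, x.2.2⟩ : ↥(S ⊓ stabilizer G γ)))
      fun x y e => Subtype.ext (Subtype.ext (Subtype.ext_iff.1 e :))
  have h8 : Nat.card C ≤ 4 := h5 ▸ Nat.mul_le_mul h6 h7
  have h9 : 2 < Nat.card C := by
    have : Nontrivial S := Finite.one_lt_card_iff_nontrivial.1 (by omega)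
    have := hS.center_nontrivial
    obtain ⟨⟨z, hz⟩, hz1⟩ := exists_ne (1 : Subgroup.center S)
    by_cases hzt : z = ⟨t, htS⟩
    · have : C = ⊤ := by
        rw [eq_top_iff]
        intro x _
        rw [hC, Subgroup.mem_centralizer_singleton_iff, ← hzt]
        exact Subgroup.mem_center_iff.1 hz x
      rw [this, Subgroup.card_top]
      omega
    · have := Fintype.ofFinite C
      rw [Nat.card_eq_fintype_card, Fintype.two_lt_card_iff]
      exact ⟨1, ⟨⟨t, htS⟩, Subgroup.mem_centralizer_singleton_iff.2 rfl⟩,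
        ⟨z, Subgroup.mem_centralizer_singleton_iff.2 (Subgroup.mem_center_iff.1 hz _).symm⟩,
        fun e => ht1' (congrArg (fun x : C => ((x : S) : G)) e).symm,
        fun e => hz1 (Subtype.ext (congrArg Subtype.val e).symm),
        fun e => hzt (congrArg Subtype.val e).symm⟩
  obtain ⟨k, hk⟩ := IsPGroup.iff_card.1 (hS.to_subgroup C)
  rw [hk] at h8 h9 ⊢
  rcases k with _ | _ | _ | k
  · omega
  · omega
  · rfl
  · have := Nat.one_le_two_pow (n := k)
    rw [pow_succ, pow_succ, pow_succ] at h8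
    omega

end


/-- Let G be a finite group acting faithfully and transitively on a finite set Ω with fixity 2 (every non-identity element fixes at most two points, and some fixes exactly two). Let α ∈ Ω and S a Sylow 2-subgroup of G. Then one of the following holds: the stabilizer S_α of α in S is trivial; S is dihedral or semidihedral and either |S_α| = 2 or |S : S_α| = 2; |S| ≥ 4, S has exactly one orbit of size 2 on Ω, every other S-orbit is regular, and G has a normal subgroup of index 2 or of index |S| which is a Frobenius group; or S ≤ G_α. -/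
theorem result {G : Type*} [Group G] [Finite G] {Ω : Type*} [Fintype Ω] [MulAction G Ω] [FaithfulSMul G Ω] (htr : MulAction.IsPretransitive G Ω)
    (hfix : ∀ g : G, g ≠ 1 → Nat.card (MulAction.fixedBy Ω g) ≤ 2) (hex : ∃ g : G, g ≠ 1 ∧ Nat.card (MulAction.fixedBy Ω g) = 2) (α : Ω) (S : Sylow 2 G) :
    (S : Subgroup G) ⊓ MulAction.stabilizer G α = ⊥ ∨
    (((∃ n : ℕ, Nonempty (↥(S : Subgroup G) ≃* DihedralGroup n)) ∨ Cfsg.IsQuasiDihedral ↥(S : Subgroup G)) ∧
       (Nat.card ↥((S : Subgroup G) ⊓ MulAction.stabilizer G α) = 2 ∨ ((S : Subgroup G) ⊓ MulAction.stabilizer G α).relIndex (S : Subgroup G) = 2)) ∨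
    (4 ≤ Nat.card (S : Subgroup G) ∧
       (∃ ω : Ω, Nat.card (MulAction.orbit ↥(S : Subgroup G) ω) = 2 ∧
          ∀ ω' : Ω, ω' ∉ MulAction.orbit ↥(S : Subgroup G) ω → Nat.card (MulAction.orbit ↥(S : Subgroup G) ω') = Nat.card (S : Subgroup G)) ∧
       ∃ N : Subgroup G, N.Normal ∧ (N.index = 2 ∨ N.index = Nat.card (S : Subgroup G)) ∧ (∃ H : Subgroup ↥N, Cfsg.IsFrobeniusComplement H)) ∨
    (S : Subgroup G) ≤ MulAction.stabilizer G α := by
  classical
  have F3 : ∀ g : G, g ≠ 1 → ∀ a b c : Ω, a ≠ b → g • a = a → g • b = b → g • c = c →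
      c = a ∨ c = b := fun g hg a b c hab ha hb hc => by
    by_contra! h
    have h1 := hfix g hg
    rw [Nat.card_coe_set_eq] at h1
    exact absurd ((Set.two_lt_ncard_iff (Set.toFinite (fixedBy Ω g))).2
      ⟨a, b, c, ha, hb, hc, hab, h.1.symm, h.2.symm⟩) (not_lt.2 h1)
  refine or_iff_not_imp_left.2 fun hT1 => ?_
  rw [← or_assoc]
  refine or_iff_not_imp_right.2 fun hSα => ?_
  set T := (S : Subgroup G) ⊓ stabilizer G α with hT
  have hlt : T < S := lt_of_le_of_ne inf_le_left fun e => hSα (e ▸ inf_le_right)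
  obtain ⟨n, ⟨hnS, hnN⟩, hnT⟩ := SetLike.exists_of_lt (lt_inf_normalizer_of_lt S.isPGroup' hlt)
  have hβ : n • α ≠ α := fun e => hnT ⟨hnS, e⟩
  have hTβ : ∀ t ∈ T, t • n • α = n • α := smul_fixed_of_mem_normalizer hnN fun t ht => ht.2
  have hc := card_eq_ncard_orbit_mul (S : Subgroup G) α
  rw [← hT] at hc
  obtain ⟨j, hj⟩ := IsPGroup.iff_card.1 (S.isPGroup'.to_le hlt.le)
  have hj0 : j ≠ 0 := by
    rintro rfl
    exact hT1 (Subgroup.card_eq_one.1 hj)
  have hT2 : 2 ≤ Nat.card T := hj ▸ Nat.le_of_dvd (by positivity) (dvd_pow_self 2 hj0)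
  have hsub : ({α, n • α} : Set Ω) ⊆ orbit (S : Subgroup G) α := by
    rintro x (rfl | rfl)
    · exact mem_orbit_self _
    · exact ⟨⟨n, hnS⟩, rfl⟩
  have hpair := Set.ncard_pair hβ.symm
  by_cases hO : (orbit (S : Subgroup G) α).ncard = 2
  swap
  · obtain ⟨k, hk⟩ := S.isPGroup'.card_orbit α
    rw [Nat.card_coe_set_eq] at hk
    have h1 := Set.ncard_sdiff_add_ncard_of_subset hsub
    have h2 : Nat.card T ∣ (orbit (S : Subgroup G) α \ {α, n • α}).ncard := by
      refine dvd_ncard_of_orbits T _ _ ?_ ?_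
      · rintro t ht _ ⟨⟨s, rfl⟩, hx⟩
        refine ⟨⟨⟨t, ht.1⟩ * s, mul_smul t (s : G) α⟩, ?_⟩
        rintro (e | e)
        · exact hx (Or.inl (MulAction.injective t (e.trans ht.2.symm)))
        · exact hx (Or.inr (MulAction.injective t (e.trans (hTβ t ht).symm)))
      · intro x hx
        have h3 : T ⊓ stabilizer G x = ⊥ := by
          rw [eq_bot_iff]
          intro t ht
          by_contra ht1
          exact hx.2 (F3 t ht1 _ _ x hβ.symm ht.1.2 (hTβ t ht.1) ht.2)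
        rw [card_eq_ncard_orbit_mul T x, h3, Subgroup.card_bot, mul_one]
    have h4 : 4 ∣ (orbit (S : Subgroup G) α).ncard := by
      rcases k with _ | _ | k
      · omega
      · omega
      · rw [hk, pow_succ, pow_succ, mul_assoc]
        exact dvd_mul_left _ _
    have h5 : Nat.card T = 2 := by
      rcases j with _ | _ | j
      · exact absurd rfl hj0
      · exact hj
      · have : 4 ∣ Nat.card T := by
          rw [hj, pow_succ, pow_succ, mul_assoc]
          exact dvd_mul_left _ _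
        have := this.trans h2
        omega
    have h6 : 4 ≤ (orbit (S : Subgroup G) α).ncard := Nat.le_of_dvd (by omega) h4
    refine Or.inl ⟨?_, Or.inl h5⟩
    exact (or_assoc.2 (maxClass_of_fix F3 S.isPGroup' h5 (by rw [hc, h5]; omega))).resolve_right
      (by rw [hc, h5]; omega)
  have hOeq := Set.eq_of_subset_of_ncard_le hsub (by rw [hO, hpair])
  have hidx : T.relIndex S = 2 := by
    have := (T.subgroupOf S).index_mul_card
    rw [Nat.card_congr (Subgroup.subgroupOfEquivOfLe hlt.le).toEquiv, hc, hO] at this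
    exact Nat.eq_of_mul_eq_mul_right Nat.card_pos this
  have h4 : 4 ≤ Nat.card (S : Subgroup G) := by rw [hc, hO]; omega
  have hmul : ∀ x ∈ (S : Subgroup G), ∀ y ∈ (S : Subgroup G), x * y ∈ T ↔ (x ∈ T ↔ y ∈ T) :=
    fun x hx y hy => Subgroup.mul_mem_iff_of_index_two hidx (a := ⟨x, hx⟩) (b := ⟨y, hy⟩)
  have hmove : ∀ s ∈ (S : Subgroup G), s ∉ T → s • α ≠ α ∧ s • n • α ≠ n • α := fun s hs hsT =>
    ⟨fun e => hsT ⟨hs, e⟩, fun e => by
      have h1 : s * n ∈ T := (hmul s hs n hnS).2 (iff_of_false hsT hnT)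
      rw [← mul_smul, show (s * n) • α = α from h1.2] at e
      exact hβ e.symm⟩
  by_cases hex' : ∃ s ∈ (S : Subgroup G), s ∉ T ∧ ∃ γ : Ω, s • γ = γ
  · obtain ⟨s, hs, hsT, γ, hγ⟩ := hex'
    have h1 : ∀ t ∈ T, t • γ = γ → t = 1 := fun t ht h => by
      by_contra ht1
      rcases F3 t ht1 _ _ γ hβ.symm ht.2 (hTβ t ht) h with e | e
      · exact (hmove s hs hsT).1 (e ▸ hγ)
      · exact (hmove s hs hsT).2 (e ▸ hγ)
    have hs1 : s ≠ 1 := fun e => hsT (e ▸ one_mem _)
    have h2 : Nat.card ↥((S : Subgroup G) ⊓ stabilizer G γ) = 2 := by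
      rw [Nat.card_eq_two_iff' 1]
      refine ⟨⟨s, hs, hγ⟩, fun e => hs1 (congrArg Subtype.val e), fun x hx => Subtype.ext ?_⟩
      have h3 : (x : G) ∉ T := fun h => hx (Subtype.ext (h1 x h x.2.2))
      exact mul_inv_eq_one.1 (h1 _ ((hmul _ x.2.1 _ (inv_mem hs)).2
        (iff_of_false h3 fun h => hsT (inv_inv s ▸ inv_mem h))) (mul_mem (show (x : G) ∈ stabilizer G γ from x.2.2)
          (inv_mem (show s ∈ stabilizer G γ from hγ))))
    refine Or.inl ⟨?_, Or.inr hidx⟩
    rcases maxClass_of_fix F3 S.isPGroup' h2 h4 with h | h | h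
    · exact Or.inl h
    · exact Or.inr h
    have h5 : Nat.card T = 2 := by rw [hc, hO] at h; omega
    have h6 : ∀ t ∈ T, t * t = 1 := fun t ht => by
      rw [← sq]
      exact congrArg Subtype.val (h5 ▸ pow_card_eq_one' (x := (⟨t, ht⟩ : T)) :
        (⟨t, ht⟩ : T) ^ 2 = 1)
    have hss : s * s = 1 := h1 _ ((hmul s hs s hs).2 Iff.rfl) (by rw [mul_smul, hγ, hγ])
    have : Nontrivial (S : Subgroup G) := Finite.one_lt_card_iff_nontrivial.1 (by omega)
    have : IsKleinFour (S : Subgroup G) := ⟨h, (Monoid.exponent_eq_prime_iff Nat.prime_two).2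
      fun x hx => orderOf_eq_prime (Subtype.ext ?_) hx⟩
    · exact Or.inl ⟨2, IsKleinFour.nonempty_mulEquiv⟩
    change (x : G) ^ 2 = 1
    rw [sq]
    by_cases hxT : (x : G) ∈ T
    · exact h6 _ hxT
    · have h7 : (x : G) * s ∈ T := (hmul _ x.2 s hs).2 (iff_of_false hxT hsT)
      have h8 : s * x ∈ T := (hmul s hs _ x.2).2 (iff_of_false hsT hxT)
      obtain ⟨t, -, ht⟩ := (Nat.card_eq_two_iff' (1 : T)).1 h5
      by_cases h9 : (x : G) * s = 1
      · rw [eq_inv_of_mul_eq_one_left h9, ← mul_inv_rev, hss, inv_one]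
      · have h10 : s * x ≠ 1 := fun e => h9 (mul_eq_one_comm.1 e)
        have h11 : (x : G) * s = s * x := congrArg Subtype.val
          ((ht ⟨_, h7⟩ fun e => h9 (congrArg Subtype.val e)).trans
            (ht ⟨_, h8⟩ fun e => h10 (congrArg Subtype.val e)).symm)
        have h12 := h6 _ h7
        rwa [mul_assoc, ← mul_assoc s, ← h11, mul_assoc, hss, mul_one] at h12
  have hmemT : ∀ s ∈ (S : Subgroup G), ∀ γ : Ω, s • γ = γ → s ∈ T := fun s hs γ h => by
    by_contra h'
    exact hex' ⟨s, hs, h', γ, h⟩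
  obtain ⟨t, htT, ht1, ht, -⟩ := exists_central (S.isPGroup'.to_le hlt.le) hT1
  rw [sq] at ht
  refine Or.inr ⟨h4, ⟨α, by rw [Nat.card_coe_set_eq, hO], fun ω hω => ?_⟩, ?_⟩
  · have h3 : (S : Subgroup G) ⊓ stabilizer G ω = ⊥ := by
      rw [eq_bot_iff]
      intro s hs
      by_contra hs1
      have h1 := hmemT s hs.1 ω hs.2
      exact hω (hsub (F3 s hs1 _ _ ω hβ.symm h1.2 (hTβ s h1) hs.2))
    rw [card_eq_ncard_orbit_mul (S : Subgroup G) ω, h3, Subgroup.card_bot, mul_one,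
      Nat.card_coe_set_eq]
  have hfoc : (S : Subgroup G).focalSubgroupOf ≤ T.subgroupOf S := by
    refine Subgroup.comap_mono ((Subgroup.closure_le _).2 ?_)
    rintro _ ⟨h1, x, hx, u, rfl⟩
    have h2 : u * x⁻¹ * u⁻¹ ∈ (S : Subgroup G) := by
      have := mul_mem (inv_mem hx) h1
      simpa only [commutatorElement_def, mul_assoc, inv_mul_cancel_left] using this
    have h3 := (hmul x hx _ h2).2 ⟨fun h => hmemT _ h2 (u • α) (by
      rw [mul_smul, inv_smul_smul, mul_smul, (inv_mem h).2]), fun h => hmemT _ hx (u⁻¹ • α) (by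
      have := (inv_mem h).2
      rw [smul_eq_iff_eq_inv_smul, ← mul_smul, eq_comm, ← smul_left_cancel_iff u, smul_inv_smul,
        ← mul_smul, ← mul_assoc]
      exact h.2)⟩
    simpa only [commutatorElement_def, mul_assoc, SetLike.mem_coe] using h3
  let N := ((T.subgroupOf S).map (QuotientGroup.mk' _)).comap (S : Subgroup G).transferFocal
  have hNi : N.index = 2 := by
    rw [Subgroup.index_comap_of_surjective _ (Subgroup.transferFocal_surjective S),
      Subgroup.index_map_eq _ (QuotientGroup.mk'_surjective _) (by rwa [QuotientGroup.ker_mk'])]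
    exact hidx
  have hNn : N.Normal := Subgroup.normal_of_index_eq_two hNi
  have hNS : ∀ s ∈ (S : Subgroup G), s ∈ N ↔ s ∈ T := fun s hs => by
    have e := Subgroup.transferFocal_eq_pow (S : Subgroup G) ⟨s, hs⟩
    rw [Subgroup.mem_comap, e, ← QuotientGroup.mk_pow, ← QuotientGroup.mk'_apply,
      ← Subgroup.mem_comap, Subgroup.comap_map_eq, QuotientGroup.ker_mk', sup_eq_left.2 hfoc,
      Subgroup.mem_subgroupOf, Subgroup.coe_pow]
    obtain ⟨k, hk⟩ := Nat.not_even_iff_odd.1 fun e => S.not_dvd_index e.two_dvd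
    rw [hk, pow_succ, pow_mul, hmul _ (pow_mem (pow_mem hs 2) k) s hs,
      iff_true_left (pow_mem (by rw [sq]; exact (hmul s hs s hs).2 Iff.rfl) k)]
  have hconj : ∀ x : G, (∃ k, x ^ 2 ^ k = 1) → ∃ g : G, g * x * g⁻¹ ∈ (S : Subgroup G) := by
    rintro x ⟨k, hk⟩
    obtain ⟨g, -, hg⟩ := (isSylowIn_of_sylow_le S le_top).exists_conj_le (isPGroup_zpowers k hk)
      le_top
    exact ⟨g, hg ⟨x, Subgroup.mem_zpowers x, rfl⟩⟩
  have hst : stabilizer G α ≤ N := fun x hx => by
    obtain ⟨a, k, ⟨i, rfl⟩, hk⟩ := Nat.exists_eq_two_pow_mul_odd (orderOf_pos x).ne'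
    obtain ⟨g, hg⟩ := hconj (x ^ (2 * i + 1))
      ⟨a, by rw [← pow_mul, mul_comm, ← hk, pow_orderOf_eq_one]⟩
    have h1 := (hNS _ hg).2 (hmemT _ hg (g • α) (by
      rw [mul_smul, inv_smul_smul, mul_smul, show x ^ (2 * i + 1) • α = α from pow_mem hx _]))
    have h2 := hNn.conj_mem _ h1 g⁻¹
    simp only [mul_assoc, inv_mul_cancel_left, inv_inv, inv_mul_cancel, mul_one] at h2
    rwa [pow_succ, pow_mul, Subgroup.mul_mem_iff_of_index_two hNi,
      iff_true_left (pow_mem (Subgroup.sq_mem_of_index_two hNi x) i)] at h2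
  have horb : ∀ g : G, g • α ∈ orbit N α ↔ g ∈ N := fun g =>
    ⟨fun ⟨k, hk⟩ => by
      have h1 : (k : G)⁻¹ * g ∈ N := hst (by
        rw [mem_stabilizer_iff, mul_smul, inv_smul_eq_iff]
        exact hk.symm)
      simpa using mul_mem k.2 h1, fun h => ⟨⟨g, h⟩, rfl⟩⟩
  have I1 : ∀ u ∈ N, u * u = 1 → u ≠ 1 →
      ∃ a b : Ω, a ∈ orbit N α ∧ b ∉ orbit N α ∧ u • a = a ∧ u • b = b := fun u hu hu2 _ => by
    obtain ⟨g, hg⟩ := hconj u ⟨1, by rw [pow_one, sq, hu2]⟩
    have h1 := (hNS _ hg).1 (hNn.conj_mem u hu g)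
    have h2 : u • g⁻¹ • α = g⁻¹ • α := by
      rw [eq_inv_smul_iff, ← mul_smul, ← mul_smul]
      exact h1.2
    have h3 : u • (g⁻¹ * n) • α = (g⁻¹ * n) • α := by
      rw [mul_smul, eq_inv_smul_iff, ← mul_smul, ← mul_smul]
      exact hTβ _ h1
    have h4 := Subgroup.mul_mem_iff_of_index_two hNi (a := g⁻¹) (b := n)
    have h5 : n ∉ N := fun h => hnT ((hNS n hnS).1 h)
    by_cases h6 : g⁻¹ ∈ N
    · exact ⟨_, _, (horb _).2 h6, fun h => h5 ((h4.1 ((horb _).1 h)).1 h6), h2, h3⟩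
    · exact ⟨_, _, (horb _).2 (h4.2 (iff_of_false h6 h5)), fun h => h6 ((horb _).1 h), h3, h2⟩
  refine ⟨N, hNn, Or.inl hNi, (stabilizer G α).subgroupOf N, fun e => ?_, fun e => ?_,
    fun g hg => ?_⟩
  · have : (⟨t, hst htT.2⟩ : N) ∈ (stabilizer G α).subgroupOf N := htT.2
    rw [e, Subgroup.mem_bot] at this
    exact ht1 (congrArg Subtype.val this)
  · refine ht1 (eq_of_smul_eq_smul fun x : Ω => ?_)
    obtain ⟨g, rfl⟩ := htr.exists_smul_eq α x
    have h1 : g⁻¹ * t * g⁻¹⁻¹ ∈ stabilizer G α :=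
      (Subgroup.subgroupOf_eq_top.1 e) (hNn.conj_mem t (hst htT.2) g⁻¹)
    rw [mem_stabilizer_iff, inv_inv, mul_smul, mul_smul, inv_smul_eq_iff] at h1
    rw [h1, one_smul]
  · rw [eq_bot_iff]
    rintro x ⟨h1, h2⟩
    refine Subtype.ext (frob_core N α F3 hst I1 htT.2 ht ht1 ((horb g).2 g.2) hg h1 ?_)
    have h3 : ((g⁻¹ * x * g : N) : G) ∈ stabilizer G α := by
      have := Subgroup.mem_pointwise_smul_iff_inv_smul_mem.1 h2
      simpa [Subgroup.mem_subgroupOf] using this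
    rw [mem_stabilizer_iff, Subgroup.coe_mul, Subgroup.coe_mul, Subgroup.coe_inv, mul_smul,
      mul_smul, inv_smul_eq_iff] at h3
    exact h3

end Cfsg.Agent.S3390
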