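import Cfsg.Statements.S3421
import Cfsg.Agent.Recog.TriOrd
import Cfsg.Agent.S2475
import Cfsg.Agent.Class.PGL2Sub
import Cfsg.Agent.Perm.Spectrum

set_option autoImplicit false
open Cfsg

namespace Cfsg.Agent.S3421

open Cfsg.Lib.Recog.Tri in
/-- Let F be a finite field with more than 3 elements. A finite group G is isomorphic to PSL(2, F) if and only if G has the same set of element orders and the same order as PSL(2, F). -/
theorem result {G : Type*} [Group G] [Finite G] {F : Type*} [Field F] [Fintype F] (hF : 3 < Fintype.card F) :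
    Nonempty (G ≃* Matrix.ProjectiveSpecialLinearGroup (Fin 2) F) ↔
      (Set.range (orderOf : G → ℕ) = Set.range (orderOf : Matrix.ProjectiveSpecialLinearGroup (Fin 2) F → ℕ) ∧
        Nat.card G = Nat.card (Matrix.ProjectiveSpecialLinearGroup (Fin 2) F)) := by
  refine ⟨fun ⟨e⟩ => ⟨Lib.Perm.range_orderOf_congr e, Nat.card_congr e.toEquiv⟩, fun ⟨h1, h2⟩ => ?_⟩
  obtain ⟨p, hp⟩ := CharP.exists F
  obtain ⟨n, hp', hn⟩ := FiniteField.card F p
  have := Fact.mk hp'
  rw [S2475.result p hF] at h1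
  have h3 := Lib.Class.gcd_mul_card_PSL2 (F := F)
  rw [← h2, Nat.card_eq_fintype_card (α := F)] at h3
  have h4 := fun g : G => h1.le ⟨g, rfl⟩
  obtain ⟨x, hx⟩ := h1.ge (Or.inr (Or.inl dvd_rfl))
  obtain ⟨y, hy⟩ := h1.ge (Or.inr (Or.inr dvd_rfl))
  have hpq : p ∣ Fintype.card F := hn ▸ dvd_pow_self p n.ne_zero
  obtain ⟨k, hk | hk⟩ := (Fintype.card F).even_or_odd'
  · obtain rfl : p = 2 := ((Nat.prime_dvd_prime_iff_eq Nat.prime_two hp').1
      (Nat.prime_two.dvd_of_dvd_pow (n := n) ⟨k, hn ▸ hk⟩)).symm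
    have h5 : Nat.gcd 2 (Fintype.card F - 1) = 1 := Nat.coprime_two_left.2 ⟨k - 1, by omega⟩
    rw [h5] at h3 h4
    simp only [hk, Nat.div_one, one_mul, Set.mem_ofPred_eq] at h3 h4
    exact psl2_even (by omega) (hk.symm.trans hn) (by rw [h3]; ac_rfl) h4 hk
  have h5 : Nat.gcd 2 (Fintype.card F - 1) = 2 := Nat.gcd_eq_left ⟨k, by omega⟩
  have h6 : (2 * k + 1 + 1) / 2 = k + 1 := by omega
  rw [h5] at h3 h4 hx hy
  simp only [hk, Nat.add_sub_cancel, Nat.mul_div_cancel_left k two_pos, h6,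
    Set.mem_ofPred_eq] at h3 h4 hx hy hpq
  rcases k.even_or_odd with he | he
  · exact OddHyp.psl2 (q := 2 * k + 1) ⟨he.two_dvd, by ring, Or.inl rfl, by omega, by linarith,
      fun g => (h4 g).imp_left (dvd_trans · hpq), hx, hy⟩ hp' (hk.symm.trans hn) hk
  · exact OddHyp.psl2 (q := 2 * k + 1) ⟨he.add_one.two_dvd, by ring, Or.inr rfl, by omega,
      by linarith, fun g => (h4 g).imp (dvd_trans · hpq) Or.symm, hy, hx⟩ hp' (hk.symm.trans hn) hk

end Cfsg.Agent.S3421
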