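import Cfsg.Statements.S3427
import Cfsg.Agent.Perm.O6048
import Cfsg.Agent.Perm.Spectrum
import Cfsg.Agent.Gold.TFKP
import Cfsg.Agent.Known.G2Spec
import Cfsg.Agent.Chev.TwoElt
import Cfsg.Agent.S1011
import Cfsg.Agent.S2475

set_option autoImplicit false
open Cfsg

namespace Cfsg.Agent.S3427

open Subgroup Cfsg.Lib Cfsg.Lib.Perm Cfsg.Lib.Perm.O6048 Cfsg.Lib.PrimeOne

/-- The condition on the element orders. -/
def Sp (G : Type*) [Group G] : Prop := ∀ g : G, orderOf g ∣ 7 ∨ orderOf g ∣ 8 ∨ orderOf g ∣ 12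

variable {G : Type*} [Group G] [Finite G]

omit [Finite G] in
theorem Sp.sub (h : Sp G) (K : Subgroup G) : Sp K := fun g => orderOf_coe g ▸ h g

theorem Sp.cent (h : Sp G) (h7 : ¬ 7 ^ 2 ∣ Nat.card G) {x : G} (hx : orderOf x = 7) :
    centralizer ({x} : Set G) = zpowers x :=
  centralizer_eq_zpowers (by norm_num) h7 (fun s hs hs7 g h1 h2 => by
    rcases h g with e | e | e
    · exact hs7 ((Nat.prime_dvd_prime_iff_eq hs (by norm_num)).1 (h1.trans e))
    · exact absurd (h2.trans e) (by norm_num)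
    · exact absurd (h2.trans e) (by norm_num)) hx

theorem Sp.modEq (h : Sp G) (h7 : ¬ 7 ^ 2 ∣ Nat.card G) {x : G} (hx : orderOf x = 7)
    {Q : Subgroup G} (hQ : ¬ 7 ∣ Nat.card Q) (hn : x ∈ normalizer (Q : Set G)) :
    Nat.card Q % 7 = 1 := by
  have : Finite (ConjAct G) := ‹Finite G›
  have h1 := Plane.ncard_modEq_fixed_elt (p := 7) (g := ConjAct.toConjAct x) (by
    rw [← map_pow, ← hx, pow_orderOf_eq_one, map_one]) (Q : Set G) fun y hy =>
      (mem_normalizer_iff.1 hn y).1 hy
  have h2 : {y | y ∈ (Q : Set G) ∧ ConjAct.toConjAct x • y = y} = {1} := by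
    ext y
    refine ⟨fun hy => ?_, by rintro rfl; exact ⟨Q.one_mem, smul_one _⟩⟩
    have h3 : y ∈ zpowers x := h.cent h7 hx ▸ mem_centralizer_singleton_iff.2
      (mul_inv_eq_iff_eq_mul.1 hy.2).symm
    have h4 := orderOf_dvd_of_mem_zpowers h3
    rw [hx, Nat.dvd_prime (by norm_num)] at h4
    exact orderOf_eq_one_iff.1 (h4.resolve_right fun e =>
      hQ (e ▸ Subgroup.orderOf_dvd_natCard Q hy.1))
  rwa [h2, Set.ncard_singleton] at h1

theorem Sp.card_normal (h : Sp G) (hd : Nat.card G ∣ 12096) (h7 : 7 ∣ Nat.card G)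
    (N : Subgroup G) [N.Normal] (hN : ¬ 7 ∣ Nat.card N) :
    Nat.card N = 1 ∨ Nat.card N = 8 ∨ Nat.card N = 64 := by
  have h49 : ¬ 7 ^ 2 ∣ Nat.card G := fun e => absurd (e.trans hd) (by norm_num)
  obtain ⟨Q⟩ : Nonempty (Sylow 3 N) := inferInstance
  have h1 := Q.normalizer_sup_eq_top
  set R := (Q : Subgroup N).map N.subtype
  have hR : Nat.card R = Nat.card (Q : Subgroup N) := card_map_of_injective N.subtype_injective
  have h2 : 7 ∣ Nat.card (normalizer (R : Set G)) := by
    have h3 := relIndex_sup_right (normalizer (R : Set G)) N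
    rw [h1, relIndex_top_right] at h3
    rw [← card_mul_index N, h3] at h7
    exact (((Nat.Prime.dvd_mul (by norm_num)).1 h7).resolve_left hN).trans (relIndex_dvd_card _ _)
  obtain ⟨x, hx⟩ := exists_prime_orderOf_dvd_card' 7 h2
  rw [← orderOf_coe] at hx
  have h3 := h.modEq h49 hx (fun e => hN (e.trans (hR ▸ card_subgroup_dvd_card _))) x.2
  have h4 := h.modEq h49 hx hN (by rw [normalizer_eq_top]; trivial)
  have h5 := (card_subgroup_dvd_card N).trans hd
  have h6 : ¬ 3 ∣ Nat.card N := fun e => by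
    have h8 := Q.dvd_card_of_dvd_card e
    obtain ⟨k, hk⟩ := Q.isPGroup'.exists_card_eq
    have h9 := (card_subgroup_dvd_card (Q : Subgroup N)).trans h5
    rw [hR, hk] at h3
    rw [hk] at h8 h9
    have : k < 4 := lt_of_not_ge fun e => absurd ((pow_dvd_pow 3 e).trans h9) (by norm_num)
    interval_cases k <;> omega
  rw [show 12096 = 2 ^ 6 * (3 ^ 3 * 7) by norm_num] at h5
  obtain ⟨k, hk, e⟩ := (Nat.dvd_prime_pow Nat.prime_two).1 (Nat.Coprime.dvd_of_dvd_mul_right
    (Nat.Coprime.mul_right (((Nat.Prime.coprime_iff_not_dvd Nat.prime_three).2 h6).symm.pow_right _)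
      ((Nat.Prime.coprime_iff_not_dvd (by norm_num)).2 hN).symm) h5)
  rw [e] at h4 ⊢
  interval_cases k <;> omega

theorem kills : ∀ n ∈ [12096, 4032, 2016, 1512, 756, 252, 189, 63], kill 111 n = true := by
  decide +kernel

theorem Sp.exists_normal (h : Sp G) (hG : Nat.card G = 12096) :
    ∃ K : Subgroup G, K.Normal ∧ IsSimpleGroup K ∧ Nat.card K = 6048 := by
  obtain ⟨P⟩ : Nonempty (Sylow 7 G) := inferInstance
  have hP : Nat.card P = 7 :=
    Block.PS.card_sylow_eq (by rw [hG]; norm_num) (by rw [hG]; norm_num) P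
  have hP' : Nat.card (P : Subgroup G) = 7 := hP
  obtain ⟨x, hxP, hx1⟩ := exists_ne_one hP
  have hx := orderOf_of_mem hP hxP hx1
  have hC := h.cent (not_sq_dvd hP) hx
  rw [centralizer_singleton_eq hP hxP hx1, zpowers_eq hP hxP hx1] at hC
  have hN : Nat.card (normalizer ((P : Subgroup G) : Set G)) = 42 := by
    have h1 := index_centralizer (P := P)
    have h2 := card_sylow_modEq_one 7 G
    have h3 := card_mul_index (P : Subgroup G)
    have h4 := Block.PS.relIndex_dvd P hP
    have h5 := card_mul_index (normalizer ((P : Subgroup G) : Set G))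
    rw [show (normalizer ((P : Subgroup G) : Set G)).index = _ from
      P.card_eq_index_normalizer.symm] at h5
    nth_rw 1 [hC] at h1
    rw [hP', hG] at h3
    generalize (centralizer ((P : Subgroup G) : Set G)).relIndex
      (normalizer ((P : Subgroup G) : Set G)) = e at *
    have h6 := Nat.le_of_dvd (by norm_num) h4
    unfold Nat.ModEq at h2
    have h7 : Nat.card (Sylow 7 G) = 288 := by interval_cases e <;> omega
    rw [h7] at h5
    omega
  let K := normalClosure ((P : Subgroup G) : Set G)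
  have hPK : (P : Subgroup G) ≤ K := le_normalClosure
  have h7 : 7 ∣ Nat.card K := hP' ▸ card_dvd_of_le hPK
  have hK : Nat.card K = 12096 ∨ Nat.card K = 6048 ∨ Nat.card K = 4032 ∨ Nat.card K = 2016 := by
    have h1 := relIndex_sup_right (normalizer ((P : Subgroup G) : Set G)) K
    rw [show normalizer ((P : Subgroup G) : Set G) ⊔ K = ⊤ from P.normalizer_sup_eq_top' hPK,
      relIndex_top_right] at h1
    have h2 : K.index ∣ 42 := h1 ▸ hN ▸ relIndex_dvd_card _ _
    have h3 := card_mul_index K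
    have h4 := Nat.le_of_dvd (by norm_num) h2
    generalize K.index = i at *
    interval_cases i <;> omega
  have : Nontrivial K := Finite.one_lt_card_iff_nontrivial.1 (by omega)
  obtain ⟨N, hNn, hNt, hS⟩ := Gold.TF.exists_normal_simple_quotient K
  have hKd : Nat.card K ∣ 12096 := hG ▸ card_subgroup_dvd_card K
  have hN7 : ¬ 7 ∣ Nat.card N := fun e => hNt <| by
    obtain ⟨y, hy⟩ := exists_prime_orderOf_dvd_card' 7 e
    rw [← orderOf_coe] at hy
    obtain ⟨Q⟩ : Nonempty (Sylow 7 K) := inferInstance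
    have hQ : Nat.card Q = 7 := Block.PS.card_sylow_eq h7
      (fun e => absurd (e.trans hKd) (by norm_num)) Q
    obtain ⟨c, hc, hc1⟩ := exists_conj_mem hQ hy
    have h1 : (Q : Subgroup K) ≤ N := by
      rw [← zpowers_eq hQ hc hc1, zpowers_le]
      exact hNn.conj_mem _ y.2 c
    have h2 : K ≤ N.map K.subtype := by
      refine (closure_le _).2 fun w hw => ?_
      obtain ⟨u, hu, e⟩ := Group.mem_conjugatesOfSet_iff.1 hw
      have hwK : w ∈ K := subset_closure hw
      refine ⟨⟨w, hwK⟩, ?_, rfl⟩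
      by_cases hu1 : u = 1
      · obtain rfl : 1 = w := by simpa [hu1] using e
        exact N.one_mem
      obtain ⟨d, hd, -⟩ := exists_conj_mem hQ (x := ⟨w, hwK⟩) (by
        obtain ⟨b, rfl⟩ := isConj_iff.1 e
        rw [orderOf_mk, ← orderOf_of_mem hP hu hu1]
        exact (MulAut.conj b).orderOf_eq u)
      simpa [mul_assoc] using hNn.conj_mem _ (h1 hd) d⁻¹
    exact top_le_iff.1 fun w _ => by simpa using h2 w.2
  have h1 := (h.sub K).card_normal hKd h7 N hN7
  have h2 := N.card_eq_card_quotient_mul_card_subgroup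
  have kl : ∀ n ∈ [12096, 4032, 2016, 1512, 756, 252, 189, 63], Nat.card (K ⧸ N) ≠ n := by
    intro n hn
    refine card_ne_of_kill (B := 111) ?_ (kills n hn)
    simp only [List.mem_cons, List.not_mem_nil, or_false] at hn
    rcases hn with rfl | rfl | rfl | rfl | rfl | rfl | rfl | rfl <;> norm_num
  have h504 : Nat.card (K ⧸ N) ≠ 504 := fun e => by
    have := Fintype.ofFinite (GaloisField 2 3)
    have hF : Fintype.card (GaloisField 2 3) = 8 := by
      rw [← Nat.card_eq_fintype_card, GaloisField.card 2 _ (by omega)]; rfl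
    obtain ⟨f⟩ := S1011.result e hF
    obtain ⟨y, hy⟩ := (S2475.result (F := GaloisField 2 3) 2 (by omega)).ge
      (show 9 ∈ _ from Or.inr (Or.inr (by rw [hF]; decide)))
    obtain ⟨u, hu⟩ := QuotientGroup.mk_surjective (f.symm y)
    have h3 := orderOf_map_dvd (QuotientGroup.mk' N) u
    rw [QuotientGroup.mk'_apply, hu, MulEquiv.orderOf_eq, hy] at h3
    rcases h.sub K u with e | e | e <;> exact absurd (h3.trans e) (by norm_num)
  simp only [List.mem_cons, List.not_mem_nil, or_false, forall_eq_or_imp, forall_eq] at kl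
  have h3 : Nat.card N = 1 ∧ Nat.card K = 6048 := by
    rcases h1 with h1 | h1 | h1 <;> rw [h1] at h2 ⊢ <;> omega
  obtain rfl := card_eq_one.1 h3.1
  exact ⟨K, inferInstance, (QuotientGroup.quotientBot (G := K)).symm.isSimpleGroup, h3.2⟩

theorem Sp.equiv (h : Sp G) (hG : Nat.card G = 12096) {E : Type*} [Field E] [Fintype E]
    (hE : Fintype.card E = 9) (hA : Nat.card (MulAut (PSU 3 E 3)) ≤ 12096) :
    Nonempty (G ≃* MulAut (PSU 3 E 3)) := by
  obtain ⟨K, hKn, hS, hK⟩ := h.exists_normal hG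
  obtain ⟨e⟩ := nonempty_equiv hK hE
  obtain ⟨x, hx⟩ := exists_prime_orderOf_dvd_card' (G := K) 7 (by rw [hK]; norm_num)
  have hC := h.cent (by rw [hG]; norm_num) ((orderOf_coe x).trans hx)
  have hi : Function.Injective (MulAut.conjNormal : G →* MulAut K) := by
    refine (injective_iff_map_eq_one _).2 fun g hg => ?_
    have h1 : ∀ y : K, g * y * g⁻¹ = y := fun y => congrArg Subtype.val (DFunLike.congr_fun hg y)
    have h2 : g ∈ K := zpowers_le.2 x.2
      (hC ▸ mem_centralizer_singleton_iff.2 (mul_inv_eq_iff_eq_mul.1 (h1 x)))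
    rcases (inferInstance : (center K).Normal).eq_bot_or_eq_top with h3 | h3
    · exact congrArg Subtype.val (h3.le (mem_center_iff.2 fun y =>
        Subtype.ext (mul_inv_eq_iff_eq_mul.1 (h1 y)).symm) : (⟨g, h2⟩ : K) ∈ (⊥ : Subgroup K))
    · exact (O6048.not_comm hK ⟨⟨fun a b => mem_center_iff.1 (h3.ge (mem_top b)) a⟩⟩).elim
  exact ⟨(MulEquiv.ofBijective _ (hi.bijective_of_nat_card_le
    (by rw [hG, Nat.card_congr (MulAut.congr e).toEquiv]; exact hA))).trans (MulAut.congr e)⟩


/-- Let F be the field with 2 elements and let M be the Chevalley group of type G₂ over F (a non-simple group of order 12096 whose derived subgroup, of index 2, is isomorphic to PSU(3, 3)). A finite group G is isomorphic to M if and only if G has the same set of element orders and the same order as M. -/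
theorem result {G : Type*} [Group G] [Finite G] {F : Type*} [Field F] [Fintype F] (hF : Fintype.card F = 2) :
    Nonempty (G ≃* ↥(Cfsg.Lie.chevG2.group F)) ↔
      (Set.range (orderOf : G → ℕ) = Set.range (orderOf : ↥(Cfsg.Lie.chevG2.group F) → ℕ) ∧ Nat.card G = Nat.card ↥(Cfsg.Lie.chevG2.group F)) := by
  refine ⟨fun ⟨e⟩ => ⟨range_orderOf_congr e, Nat.card_congr e.toEquiv⟩, fun ⟨h1, h2⟩ => ?_⟩
  obtain ⟨e, -⟩ := Chev.exists_equiv_g2_two hF
  have hM : Nat.card (Lie.chevG2.group F) = 12096 :=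
    (Nat.card_congr e.toEquiv).trans Chev.card_GamU33
  have : Finite (Lie.chevG2.group F) := Nat.finite_of_card_ne_zero (by rw [hM]; norm_num)
  have : CharP F 2 := charP_of_card_eq_prime hF
  have hs : Sp (Lie.chevG2.group F) := fun g => by
    have := Known.orderOf_G2_dvd F 2 g
    rw [hF] at this
    rcases this with e | e | e | e | e | ⟨-, e⟩ | ⟨e, -⟩
    · exact Or.inr (Or.inr (e.trans (by norm_num)))
    · exact Or.inl e
    · exact Or.inr (Or.inr (e.trans (by norm_num)))
    · exact Or.inr (Or.inr (e.trans (by norm_num)))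
    · exact Or.inr (Or.inr (e.trans (by norm_num)))
    · exact Or.inr e
    · omega
  have hs' : Sp G := fun g => by
    obtain ⟨m, hm⟩ := h1.le ⟨g, rfl⟩
    exact hm ▸ hs m
  have := Fintype.ofFinite (GaloisField 3 2)
  have hE : Fintype.card (GaloisField 3 2) = 9 := by
    rw [← Nat.card_eq_fintype_card, GaloisField.card 3 _ (by omega)]; rfl
  obtain ⟨f⟩ := Chev.nonempty_commutator_g2_two hF hE
  have hA : Nat.card (MulAut (PSU 3 (GaloisField 3 2) 3)) ≤ 12096 := by
    rw [← Nat.card_congr (MulAut.congr f).toEquiv, ← hM]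
    refine Nat.card_le_card_of_surjective (MulAut.conjNormal (H := commutator _)) fun β => ?_
    obtain ⟨g, hg⟩ := Chev.exists_conj_g2_two hF β
    exact ⟨g, MulEquiv.ext fun k => Subtype.ext (hg k).symm⟩
  obtain ⟨e1⟩ := hs'.equiv (h2.trans hM) hE hA
  obtain ⟨e2⟩ := hs.equiv hM hE hA
  exact ⟨e1.trans e2.symm⟩

end Cfsg.Agent.S3427
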