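import Cfsg.Statements.S3496
import Cfsg.Agent.Perm.ExtPrimAb
import Cfsg.Agent.Perm.Semilin
import Cfsg.Agent.Perm.SocleDer
import Cfsg.Agent.Solv.ElemAb
import Cfsg.Agent.S3495

set_option autoImplicit false
open Cfsg

namespace Cfsg.Agent.S3496

theorem lin {r : ℕ} [Fact r.Prime] {V : Type*} [AddCommGroup V] [Module (ZMod r) V] [Finite V]
    [Nontrivial V] {H : Type*} [Group H] [Finite H] (ρ : H →* Module.End (ZMod r) V)
    (hρ : Function.Injective ρ) (A : Subgroup H) [A.Normal] [IsMulCommutative A]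
    (hirr : ∀ W : Submodule (ZMod r) V, (∀ a ∈ A, ∀ v ∈ W, ρ a v ∈ W) → W = ⊥ ∨ W = ⊤)
    (hCA : Subgroup.centralizer (A : Set H) ≤ A) {q : ℕ} (hq : q.Prime) (hA0 : A ≠ ⊥)
    (hexp : ∀ a ∈ A, a ^ q = 1) {p d : ℕ} (hp : p.Prime) (hV : Nat.card V = p ^ d) :
    Nat.card A = q ∧ (∀ i : ℕ, 0 < i → i < d → ¬ q ∣ p ^ i - 1) ∧
      (∃ h : H, A ⊔ Subgroup.zpowers h = ⊤) ∧ Nat.card H ∣ q * d := by
  classical
  obtain ⟨F, _, _, e, h1, h2, h3⟩ := Cfsg.Lib.Perm.exists_semilinear ρ A hirr
  choose a σ h3 using h3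
  have := Fact.mk hp
  have := Fact.mk hq
  have hF : Fintype.card F = p ^ d := by
    rw [← hV, ← Nat.card_eq_fintype_card, Nat.card_congr e.toEquiv]
  have : CharP F p := charP_of_card_eq_prime_pow hF
  let _ : Algebra (ZMod p) F := ZMod.algebra F p
  have h4 : ∀ g x, e (ρ g (e.symm x)) = a g * σ g x := fun g x => by rw [h3, e.apply_symm_apply]
  have hmul : ∀ g h x, a (g * h) * σ (g * h) x = a g * σ g (a h) * σ g (σ h x) := fun g h x => by
    rw [← h4, map_mul, Module.End.mul_apply, h3, h4, map_mul, mul_assoc]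
  have hone : ∀ x, a 1 * σ 1 x = x := fun x => by rw [← h4]; simp
  have hone' : a 1 = 1 := by simpa using hone 1
  have hmul' : ∀ g h, a (g * h) = a g * σ g (a h) := fun g h => by simpa using hmul g h 1
  have ha0 : ∀ g, a g ≠ 0 := fun g e0 => by
    have := hmul' g g⁻¹
    rw [mul_inv_cancel, hone', e0, zero_mul] at this
    exact one_ne_zero this
  let φ : H →* (F ≃ₐ[ZMod p] F) := MonoidHom.mk'
    (fun g => AlgEquiv.ofRingEquiv (f := σ g) fun x => DFunLike.congr_fun
      (RingHom.ext_zmod ((σ g : F →+* F).comp (algebraMap (ZMod p) F)) (algebraMap _ _)) x)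
    (fun g h => AlgEquiv.ext fun x => by
      have := hmul g h x
      rw [← hmul'] at this
      exact mul_left_cancel₀ (ha0 _) this)
  have hφ : ∀ g, φ g = 1 ↔ ∀ x, σ g x = x := fun g => AlgEquiv.ext_iff
  have hσ : ∀ g ∈ A, ∀ x, σ g x = x := fun g hg x => by
    obtain ⟨c, hc⟩ := h1 g hg
    have e1 := fun x => (h4 g x).symm.trans (hc _)
    simp only [e.apply_symm_apply] at e1
    have e2 := e1 1
    rw [map_one, mul_one, mul_one] at e2
    exact mul_left_cancel₀ (ha0 g) (by rw [e1, e2])
  have hinj : ∀ g h, (∀ v, e (ρ g v) = e (ρ h v)) → g = h := fun g h hh =>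
    hρ (LinearMap.ext fun v => e.injective (hh v))
  have hker : φ.ker = A := by
    refine le_antisymm (fun g hg => hCA fun m hm => hinj _ _ fun v => ?_)
      fun g hg => (hφ g).2 (hσ g hg)
    have hg' := (hφ g).1 hg
    simp only [map_mul, Module.End.mul_apply, h3, hg', hσ m hm]
    ring
  let ψ : A →* F :=
    { toFun := fun g => a g
      map_one' := hone'
      map_mul' := fun g h => by rw [Subgroup.coe_mul, hmul', hσ g g.2] }
  have hψ : Function.Injective ψ := fun g h hh => Subtype.ext (hinj _ _ fun v => by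
    rw [h3, h3, hσ g g.2, hσ h h.2]
    exact congrArg (· * e v) hh)
  have hA : Nat.card A = q := by
    have := isCyclic_of_injective_ringHom ψ hψ
    obtain ⟨x, hx⟩ := IsCyclic.exists_generator (α := A)
    rw [← orderOf_eq_card_of_forall_mem_zpowers hx]
    refine orderOf_eq_prime (Subtype.ext (hexp x x.2)) fun e1 => hA0 ?_
    rw [eq_bot_iff]
    intro y hy
    have := hx ⟨y, hy⟩
    rw [e1, Subgroup.zpowers_one_eq_bot] at this
    exact congrArg Subtype.val (Subgroup.mem_bot.1 this)
  refine ⟨hA, fun i hi hid ⟨k, hk⟩ => ?_, ?_, ?_⟩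
  · have hpi : p ^ i = q * k + 1 := by have := Nat.one_le_pow i p hp.pos; omega
    have hall : ∀ x : F, x ^ p ^ i = x := by
      intro x
      have : x ∈ (iterateFrobenius F p i).eqLocus (RingHom.id F) := by
        refine (Subring.closure_le (t := (iterateFrobenius F p i).eqLocus (RingHom.id F))).2 ?_
          (h2 ▸ Subring.mem_top x)
        rintro c ⟨g, hg, hc⟩
        have e1 := (h4 g 1).symm.trans (hc _)
        rw [map_one, mul_one, e.apply_symm_apply, mul_one] at e1
        have e2 : a g ^ q = 1 := by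
          have := map_pow ψ ⟨g, hg⟩ q
          rw [show (⟨g, hg⟩ : A) ^ q = 1 from Subtype.ext (hexp g hg), map_one] at this
          exact this.symm
        show c ^ p ^ i = c
        rw [← e1, hpi, pow_succ, pow_mul, e2, one_pow, one_mul]
      exact this
    have h5 := (FiniteField.forall_pow_eq_one_iff F (p ^ i - 1)).1 fun x => by
      apply mul_left_cancel (a := x)
      rw [← pow_succ', mul_one, Nat.sub_add_cancel (Nat.one_le_pow i p hp.pos)]
      exact Units.ext (by simpa using hall x)
    rw [hF] at h5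
    have h6 := Nat.pow_lt_pow_right hp.one_lt hid
    have h7 := Nat.one_lt_pow hi.ne' hp.one_lt
    have := Nat.le_of_dvd (Nat.sub_pos_of_lt h7) h5
    generalize p ^ i = x at *
    generalize p ^ d = y at *
    omega
  · obtain ⟨⟨_, h, rfl⟩, hy⟩ := IsCyclic.exists_generator (α := φ.range)
    refine ⟨h, eq_top_iff.2 fun g _ => ?_⟩
    obtain ⟨k, hk⟩ := hy ⟨φ g, g, rfl⟩
    have hk' : φ h ^ k = φ g := congrArg Subtype.val hk
    rw [show g = g * (h ^ k)⁻¹ * h ^ k by group]
    refine Subgroup.mul_mem_sup ?_ ⟨k, rfl⟩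
    rw [← hker, MonoidHom.mem_ker, map_mul, map_inv, map_zpow, hk', mul_inv_cancel]
  · rw [← A.card_mul_index, hA, ← hker, Subgroup.index_ker]
    refine Nat.mul_dvd_mul_left q ?_
    have h5 := FiniteField.pow_finrank_eq_card p F
    rw [hF] at h5
    rw [← Nat.pow_right_injective hp.two_le h5, ← IsGalois.card_aut_eq_finrank]
    exact Subgroup.card_subgroup_dvd_card _

open Cfsg.Lib.Perm Cfsg.Lib.Perm.Socle Cfsg.Lib.Solv MulAction in
/-- The soluble extremely primitive groups. Let a finite solvable group G act faithfully and primitively on a finite set Ω with p ^ d points (p prime), with non-trivial point stabilizers each acting primitively on every one of its orbits. Then there is a prime q such that every orbit of a point stabilizer G_α other than {α} has exactly q points, q divides p ^ d − 1 but no p ^ i − 1 with 0 < i < d, and G_α has a normal subgroup T of order q with G_α generated by T and one further element and the order of G_α dividing q·d (so G_α is cyclic of order q, or an extension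 of T by a cyclic group of order dividing d). -/
theorem result {G : Type*} [Group G] [Finite G] {Ω : Type*} [Fintype Ω] [MulAction G Ω] [FaithfulSMul G Ω] [Group.IsSolvable G] (p d : ℕ) (hp : p.Prime) (hcard : Fintype.card Ω = p ^ d)
    (hprim : MulAction.IsPreprimitive G Ω) (hH : ∀ α : Ω, MulAction.stabilizer G α ≠ ⊥) (hep : ∀ (α : Ω) (ω : Ω), MulAction.IsPreprimitive (MulAction.stabilizer G α) (MulAction.orbit (MulAction.stabilizer G α) ω)) (α : Ω) :
    ∃ q : ℕ, q.Prime ∧ (∀ ω : Ω, ω ≠ α → Nat.card (MulAction.orbit (MulAction.stabilizer G α) ω) = q) ∧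
      q ∣ p ^ d - 1 ∧ (∀ i : ℕ, 0 < i → i < d → ¬ q ∣ p ^ i - 1) ∧
      ∃ T : Subgroup G, T ≤ MulAction.stabilizer G α ∧ MulAction.stabilizer G α ≤ Subgroup.normalizer (T : Set G) ∧ Nat.card T = q ∧
        (∃ h : G, MulAction.stabilizer G α = T ⊔ Subgroup.zpowers h) ∧ Nat.card (MulAction.stabilizer G α) ∣ q * d := by
  have h := EP.of hprim hep
  have hcomm : ∀ {K : Type _} [Group K] [Finite K] [Group.IsSolvable K] {M : Subgroup K},
      MinN M → IsMulCommutative M := fun {K} _ _ _ M hM => by
    by_contra hna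
    obtain ⟨T, hT⟩ := exists_factor hM.ne
    exact hT.not_isSolvable hM hna inferInstance
  obtain ⟨N, hN, -⟩ := exists_minN (⊤ : Subgroup G) fun e => hH α (by
    rw [eq_bot_iff, ← e]; exact le_top)
  have := hN.normal
  have hNc := hcomm hN
  obtain ⟨r, hr, hNr⟩ := exists_prime_pow_eq_one_of_minNormal N hN.ne hN.min hNc
  have htr := exists_smul_of_normal hprim hN.normal hN.ne
  have hreg : ∀ n ∈ N, ∀ a : Ω, n • a = a → n = 1 := fun n hn a ha =>
    eq_one_of_comm_of_fix htr (fun m hm => setLike_mul_comm hm hn) ha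
  obtain ⟨A, hA, -⟩ := exists_minN (⊤ : Subgroup (stabilizer G α)) fun e => hH α (by
    rw [eq_bot_iff]
    intro x hx
    have : (⟨x, hx⟩ : stabilizer G α) ∈ (⊤ : Subgroup (stabilizer G α)) := trivial
    rw [e, Subgroup.mem_bot] at this
    exact congrArg Subtype.val this)
  have := hA.normal
  have hAc := hcomm hA
  have hc : ∀ x ∈ A, ∀ y ∈ A, x * y = y * x := fun x hx y hy => setLike_mul_comm hx hy
  obtain ⟨q, hq, hAq⟩ := exists_prime_pow_eq_one_of_minNormal A hA.ne hA.min hAc
  have hTn : stabilizer G α ≤ Subgroup.normalizer (A.map (stabilizer G α).subtype : Set G) :=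
    fun g hg => Subgroup.mem_normalizer_fintype (map_stab_norm A g hg)
  have hirr := (Cfsg.Agent.S3495.result hprim hH hep N hNc r hr hNr
    ⟨fun a b => by obtain ⟨n, hn, e⟩ := htr a b; exact ⟨⟨n, hn⟩, e⟩⟩
    (stabilizer_eq_bot_of hreg) α _ (map_stab_ne hA.ne) (map_stab_le A) hTn).2
  have := Fact.mk hr
  have : ElemAb r N := ElemAb.of_subgroup hNr
  have : Nontrivial N := (Subgroup.nontrivial_iff_ne_bot N).2 hN.ne
  have hNcard : Nat.card N = p ^ d := by
    rw [← hcard, ← Nat.card_eq_fintype_card]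
    refine Nat.card_eq_of_bijective (fun x : N => (x : G) • α) ⟨fun x y e => ?_, fun ω => ?_⟩
    · have := hreg _ (y⁻¹ * x).2 α (by
        rw [Subgroup.coe_mul, mul_smul, show (x : G) • α = (y : G) • α from e]; simp)
      exact (inv_mul_eq_one.1 (Subtype.ext this)).symm
    · obtain ⟨k, hk, e⟩ := htr α ω
      exact ⟨⟨k, hk⟩, e⟩
  obtain ⟨h1, h2, ⟨x, h3⟩, h4⟩ := lin
    (Vec.rep r ((MulAut.conjNormal (H := N)).comp (stabilizer G α).subtype))
    ((Vec.rep_injective_iff _).2 ((injective_iff_map_eq_one _).2 fun g hg => Subtype.ext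
      (eq_one_of_comm_of_fix htr (fun n hn => by
        have := congrArg (fun f : MulAut N => ((f ⟨n, hn⟩ : N) : G)) hg
        exact (mul_inv_eq_iff_eq_mul.1 this).symm) g.2))) A (fun W hW => by
      rcases hirr (((Vec.subEquiv r N).symm W).map N.subtype) (Subgroup.map_subtype_le _) (by
        rintro _ ⟨a, ha, rfl⟩
        refine Subgroup.mem_normalizer_fintype ?_
        rintro _ ⟨n, hn, rfl⟩
        exact ⟨_, hW a ha _ hn, rfl⟩) with e | e
      · left
        rw [Subgroup.map_eq_bot_iff_of_injective _ (Subgroup.subtype_injective _)] at e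
        simpa using e
      · right
        rw [eq_top_iff]
        intro v _
        obtain ⟨n, hn, e'⟩ : ((Vec.toMul v : N) : G) ∈
          ((Vec.subEquiv r N).symm W).map N.subtype := by rw [e]; exact (Vec.toMul v).2
        rw [show n = Vec.toMul v from Subtype.ext e'] at hn
        exact hn)
    (h.centralizer_le hA.ne hc) hq hA.ne hAq hp hNcard
  have hT : Nat.card (A.map (stabilizer G α).subtype) = q := by
    rw [Subgroup.card_map_of_injective (Subgroup.subtype_injective _), h1]
  refine ⟨q, hq, fun ω hω => ?_, ?_, h2, _, map_stab_le A, hTn, hT, ⟨x, ?_⟩, h4⟩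
  · rw [h.card_orbit (map_stab_le A) (map_stab_norm A) (map_stab_ne hA.ne) (map_stab_comm hc) hω,
      hT]
  · have := h.card_dvd (map_stab_le A) (map_stab_norm A) (map_stab_ne hA.ne) (map_stab_comm hc)
    rwa [hT, Nat.card_eq_fintype_card, hcard] at this
  · have := congrArg (Subgroup.map (stabilizer G α).subtype) h3
    rw [Subgroup.map_sup, MonoidHom.map_zpowers, ← MonoidHom.range_eq_map,
      Subgroup.range_subtype] at this
    exact this.symm

end Cfsg.Agent.S3496
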