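import Cfsg.Statements.S3501
import Cfsg.Agent.Perm.SocleDer

set_option autoImplicit false
open Cfsg

namespace Cfsg.Agent.S3501

open Cfsg.Lib.Perm Cfsg.Lib.Perm.Socle MulAction in
/-- Let a finite group G act faithfully and primitively on a finite set Ω with at least two points, and suppose G is not almost simple (it has no non-abelian simple normal subgroup with trivial centralizer). Then the derangements of G form a single conjugacy class if and only if G is sharply 2-transitive (2-transitive, and no non-identity element fixes two points). -/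
theorem result {G : Type*} [Group G] [Finite G] {Ω : Type*} [Fintype Ω] [MulAction G Ω] [FaithfulSMul G Ω] (hΩ : 2 ≤ Fintype.card Ω) (hprim : MulAction.IsPreprimitive G Ω) (hnas : ¬ ∃ T : Subgroup G, T.Normal ∧ IsSimpleGroup T ∧ ¬ IsMulCommutative T ∧ Subgroup.centralizer (T : Set G) = ⊥) :
    Nat.card {c : ConjClasses G // ∃ g : G, ConjClasses.mk g = c ∧ ∀ ω : Ω, g • ω ≠ ω} = 1 ↔ (MulAction.IsMultiplyPretransitive G Ω 2 ∧ ∀ g : G, g ≠ 1 → ∀ a b : Ω, a ≠ b → g • a = a → g • b ≠ b) := by
  have : Nontrivial Ω := Fintype.one_lt_card_iff_nontrivial.1 hΩ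
  refine ⟨fun hκ => ?_, fun h => card_derCl_of_sharp (isSharp2_of_two h.1 h.2)⟩
  obtain ⟨N, hN⟩ := exists_minN_top hprim
  by_cases hc : IsMulCommutative N
  swap
  · have := three_le_card_derCl hprim hnas hN hc
    change Nat.card (DerCl G Ω) = 1 at hκ
    omega
  have hsub : Subsingleton (DerCl G Ω) := (Nat.card_eq_one_iff_unique.1 hκ).1
  have hconj : ∀ x y : G, (∀ ω : Ω, x • ω ≠ ω) → (∀ ω : Ω, y • ω ≠ ω) → IsConj x y :=
    fun x y hx hy => (derCl_eq_iff hx hy).1 (Subsingleton.elim _ _)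
  refine ⟨two_trans_of_conj hprim hN hc fun n hn n' hn' h1 h1' =>
    hconj _ _ (der_of_mem hprim hN hc hn h1) (der_of_mem hprim hN hc hn' h1'), ?_⟩
  intro g hg a b hab ha hb
  refine hg (eq_one_of_fix_le_one (fun h1 => fix_le_one hprim hN hc (fun x hx => ?_) h1) hab ha hb)
  obtain ⟨⟨n, hn⟩, h1⟩ := (Subgroup.ne_bot_iff_exists_ne_one).1 hN.ne
  have h1' : n ≠ 1 := fun e => h1 (Subtype.ext e)
  obtain ⟨c, rfl⟩ := isConj_iff.1 (hconj n x (der_of_mem hprim hN hc hn h1') hx)
  exact hN.normal.conj_mem n hn c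

end Cfsg.Agent.S3501
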