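import Cfsg.Statements.S3520
import Cfsg.Agent.Perm.SocleDer

set_option autoImplicit false
open Cfsg

namespace Cfsg.Agent.S3520

open Cfsg.Lib.Perm Cfsg.Lib.Perm.Socle MulAction in
/-- Let a finite group G act faithfully and primitively on a finite set Ω with at least two points, suppose G is not almost simple (no non-abelian simple normal subgroup with trivial centralizer), and suppose the derangements of G form exactly two conjugacy classes. Then either Ω has 3 points and G has order 3; or G has a non-trivial abelian normal subgroup N acting regularly, every non-identity element of G fixes at most one point (so, when n > 3, G is a Frobenius group with kernel N), the number n of points is odd and a point stabilizer has order (n − 1)/2; or G is 2-transitive with a non-trivial abelian regular normal subgroup and some non-identity element fixes at least two points (a non-Frobenius 2-transitive affine group). -/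
theorem result {G : Type*} [Group G] [Finite G] {Ω : Type*} [Fintype Ω] [MulAction G Ω] [FaithfulSMul G Ω] (hΩ : 2 ≤ Fintype.card Ω) (hprim : MulAction.IsPreprimitive G Ω) (hnas : ¬ ∃ T : Subgroup G, T.Normal ∧ IsSimpleGroup T ∧ ¬ IsMulCommutative T ∧ Subgroup.centralizer (T : Set G) = ⊥)
    (hκ : Nat.card {c : ConjClasses G // ∃ g : G, ConjClasses.mk g = c ∧ ∀ ω : Ω, g • ω ≠ ω} = 2) (α : Ω) :
    (Fintype.card Ω = 3 ∧ Nat.card G = 3) ∨
    ((∃ N : Subgroup G, N.Normal ∧ N ≠ ⊥ ∧ IsMulCommutative N ∧ ∀ ω : Ω, MulAction.stabilizer N ω = ⊥) ∧ (∀ g : G, g ≠ 1 → Nat.card (MulAction.fixedBy Ω g) ≤ 1) ∧ ¬ 2 ∣ Fintype.card Ω ∧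
        2 * Nat.card (MulAction.stabilizer G α) = Fintype.card Ω - 1) ∨
    ((∃ N : Subgroup G, N.Normal ∧ N ≠ ⊥ ∧ IsMulCommutative N ∧ ∀ ω : Ω, MulAction.stabilizer N ω = ⊥) ∧ MulAction.IsMultiplyPretransitive G Ω 2 ∧ ∃ g : G, g ≠ 1 ∧ 2 ≤ Nat.card (MulAction.fixedBy Ω g)) := by
  classical
  have : Nontrivial Ω := Fintype.one_lt_card_iff_nontrivial.1 hΩ
  change Nat.card (DerCl G Ω) = 2 at hκ
  obtain ⟨N, hN⟩ := exists_minN_top hprim
  by_cases hc : IsMulCommutative N
  swap
  · have := three_le_card_derCl hprim hnas hN hc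
    omega
  have htr := exists_smul_of_normal hprim hN.normal hN.ne
  have hreg : ∀ n ∈ N, ∀ a : Ω, n • a = a → n = 1 := fun n hn a ha =>
    eq_one_of_comm_normal hprim hN.normal hN.ne hc hn ha
  have hNN : ∃ N : Subgroup G, N.Normal ∧ N ≠ ⊥ ∧ IsMulCommutative N ∧
      ∀ ω : Ω, MulAction.stabilizer N ω = ⊥ := ⟨N, hN.normal, hN.ne, hc, stabilizer_eq_bot_of hreg⟩
  right
  by_cases hall : ∀ n ∈ N, ∀ n' ∈ N, n ≠ 1 → n' ≠ 1 → IsConj n n'
  · right
    have h2 := two_trans_of_conj hprim hN hc hall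
    refine ⟨hNN, h2, ?_⟩
    by_contra hcon
    push Not at hcon
    have := card_derCl_of_sharp (isSharp2_of_two h2 fun g hg a b hab ha hb =>
      hg (eq_one_of_fix_le_one (fun h1 => Nat.le_of_lt_succ (hcon g h1)) hab ha hb))
    omega
  left
  push Not at hall
  obtain ⟨n₁, hn₁, n₂, hn₂, h₁, h₂, hnc⟩ := hall
  have d₁ := der_of_mem hprim hN hc hn₁ h₁
  have d₂ := der_of_mem hprim hN hc hn₂ h₂
  have hcases : ∀ x : G, (∀ ω : Ω, x • ω ≠ ω) → IsConj n₁ x ∨ IsConj n₂ x := by
    intro x hx
    by_contra hcon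
    push Not at hcon
    have hinj : Function.Injective ![derCl n₁ d₁, derCl n₂ d₂, derCl x hx] := by
      have e₁ := (derCl_eq_iff d₁ d₂).not.2 hnc
      have e₂ := (derCl_eq_iff d₁ hx).not.2 hcon.1
      have e₃ := (derCl_eq_iff d₂ hx).not.2 hcon.2
      generalize derCl n₁ d₁ = A at *
      generalize derCl n₂ d₂ = B at *
      generalize derCl x hx = C at *
      intro i j hij
      fin_cases i <;> fin_cases j <;>
        first | rfl | exact absurd hij e₁ | exact absurd hij e₂ | exact absurd hij e₃ | exact absurd hij.symm e₁ | exact absurd hij.symm e₂ | exact absurd hij.symm e₃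
    have := Nat.card_le_card_of_injective _ hinj
    simp only [Nat.card_eq_fintype_card, Fintype.card_fin] at this
    omega
  have hfix : ∀ g : G, g ≠ 1 → Nat.card (MulAction.fixedBy Ω g) ≤ 1 := fun g h1 =>
    fix_le_one hprim hN hc (fun x hx => by
      rcases hcases x hx with h | h
      · obtain ⟨c, rfl⟩ := isConj_iff.1 h
        exact hN.normal.conj_mem _ hn₁ c
      · obtain ⟨c, rfl⟩ := isConj_iff.1 h
        exact hN.normal.conj_mem _ hn₂ c) h1
  let n : Fin 2 → G := ![n₁, n₂]
  have hn : ∀ i, n i ∈ N := fun i => by fin_cases i <;> simpa [n]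
  have hd : ∀ i, n i • α ≠ α := fun i => by fin_cases i <;> simp [n, d₁, d₂]
  have hnconj : ∀ i j, IsConj (n i) (n j) → i = j := by
    intro i j hij
    fin_cases i <;> fin_cases j
    · rfl
    · exact absurd hij hnc
    · exact absurd hij.symm hnc
    · rfl
  let f : Fin 2 × stabilizer G α → {ω : Ω // ω ≠ α} := fun x =>
    ⟨(x.2 : G) • n x.1 • α, fun e => hd x.1 (by
      have h2 : (x.2 : G) • α = α := x.2.2
      exact smul_left_cancel (x.2 : G) (e.trans h2.symm))⟩
  have hsm : ∀ (h : stabilizer G α) (m : G), (h : G) • m • α = ((h : G) * m * (h : G)⁻¹) • α := by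
    intro h m
    have h2 : (h : G)⁻¹ • α = α := (h⁻¹).2
    rw [mul_smul, mul_smul, h2]
  have hbij : Function.Bijective f := by
    constructor
    · rintro ⟨i, h⟩ ⟨j, h'⟩ e
      have e1 : (h : G) • n i • α = (h' : G) • n j • α := congrArg Subtype.val e
      have e2 := e1
      rw [hsm, hsm, ← inv_smul_eq_iff, ← mul_smul] at e2
      have e3 := hreg _ (N.mul_mem (N.inv_mem (hN.normal.conj_mem _ (hn j) h'))
        (hN.normal.conj_mem _ (hn i) h)) α (by rw [mul_smul, inv_smul_eq_iff, ← hsm, ← hsm, e1])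
      rw [inv_mul_eq_one] at e3
      have hij : i = j := hnconj i j (isConj_iff.2 ⟨(h' : G)⁻¹ * h, by
        rw [show ((h' : G)⁻¹ * h) * n i * ((h' : G)⁻¹ * h)⁻¹ =
          (h' : G)⁻¹ * ((h : G) * n i * (h : G)⁻¹) * h' by group, ← e3]; group⟩)
      subst hij
      have e4 : (h' : G)⁻¹ * h = 1 := eq_one_of_fix_le_one (hfix _) (hd i).symm (h'⁻¹ * h).2
        (by rw [mul_smul, e1, inv_smul_smul])
      rw [inv_mul_eq_one] at e4
      exact Prod.ext rfl (Subtype.ext e4.symm)
    · rintro ⟨ω, hω⟩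
      obtain ⟨m, hm, rfl⟩ := htr α ω
      have hm1 : m ≠ 1 := fun e => hω (by rw [e, one_smul])
      obtain ⟨i, hi⟩ : ∃ i, IsConj (n i) m := by
        rcases hcases m (der_of_mem hprim hN hc hm hm1) with h | h
        · exact ⟨0, h⟩
        · exact ⟨1, h⟩
      obtain ⟨g, hg⟩ := isConj_iff.1 hi
      obtain ⟨k, hk, hkg⟩ := htr (g • α) α
      refine ⟨(i, ⟨k * g, by rw [mem_stabilizer_iff, mul_smul, hkg]⟩), Subtype.ext ?_⟩
      show _ • n i • α = m • α
      rw [hsm]
      have e : k * m = m * k := congrArg Subtype.val (hc.is_comm.comm (⟨k, hk⟩ : N) ⟨m, hm⟩)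
      congr 1
      show k * g * n i * (k * g)⁻¹ = m
      rw [show k * g * n i * (k * g)⁻¹ = k * (g * n i * g⁻¹) * k⁻¹ by group, hg, e]; group
  have hcard := Nat.card_eq_of_bijective f hbij
  rw [Nat.card_prod, Nat.card_eq_fintype_card (α := {ω : Ω // ω ≠ α}), Fintype.card_subtype_compl,
    Fintype.card_subtype_eq] at hcard
  simp only [Nat.card_eq_fintype_card (α := Fin 2), Fintype.card_fin] at hcard
  exact ⟨hNN, hfix, by omega, hcard⟩

end Cfsg.Agent.S3520
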