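import Cfsg.Statements.S3549
import Cfsg.Agent.Perm.Derange

set_option autoImplicit false
open Cfsg

namespace Cfsg.Agent.S3549

open Cfsg.Lib.Perm.Derange MulAction Finset
open scoped Pointwise


/-- Let G act faithfully, transitively but imprimitively on a finite set with n points, and let D be the subgroup generated by the derangements. Then the index of D in G is at most √n − 1. -/
theorem result {G Ω : Type*} [Group G] [Finite G] [MulAction G Ω] [FaithfulSMul G Ω] [Finite Ω]
    (htrans : MulAction.IsPretransitive G Ω) (himp : ¬ MulAction.IsPreprimitive G Ω) :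
    ((Subgroup.closure {g : G | ∀ ω : Ω, g • ω ≠ ω}).index : ℝ) ≤ Real.sqrt (Nat.card Ω) - 1 := by
  obtain ⟨B, hB, hnt⟩ : ∃ B : Set Ω, IsBlock G B ∧ ¬ IsTrivialBlock B := by
    by_contra! h
    exact himp ⟨fun {B} hB => h B hB⟩
  rw [IsTrivialBlock, not_or, Set.not_subsingleton_iff] at hnt
  obtain ⟨a, ha⟩ := hnt.1.nonempty
  have h1 := hB.ncard_block_mul_ncard_orbit_eq ⟨a, ha⟩
  have h2 : (der G Ω).index ∣ (B \ {a}).ncard :=
    index_dvd_ncard (a := a) (by simp) fun g hg x hx =>
      ⟨hB.smul_eq_of_mem ha (hg.symm ▸ ha) ▸ Set.smul_mem_smul_set hx.1,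
        fun h => hx.2 (smul_left_cancel g (h.trans hg.symm))⟩
  rw [Set.ncard_diff_singleton_of_mem ha] at h2
  have h3 : 1 < B.ncard := (Set.one_lt_ncard_iff_nontrivial).mpr hnt.1
  have h4 := Nat.le_of_dvd (by omega) h2
  have : Nonempty (orbit G B) := ⟨⟨B, mem_orbit_self B⟩⟩
  have h5 := index_dvd_card_sub_one (G := G) (Ω := orbit G B)
  have h6 : der G (orbit G B) ≤ der G Ω := by
    refine Subgroup.closure_mono fun g hg ω hω => ?_
    obtain ⟨k, rfl⟩ := exists_smul_eq G a ω
    refine hg ⟨k • B, mem_orbit B k⟩ (Subtype.ext ?_)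
    exact (hB.translate k).smul_eq_of_mem (Set.smul_mem_smul_set ha)
      (hω.symm ▸ Set.smul_mem_smul_set ha)
  have h7 : 1 < (orbit G B).ncard := by
    obtain ⟨b, hb⟩ := (Set.ne_univ_iff_exists_notMem B).mp hnt.2
    obtain ⟨k, rfl⟩ := exists_smul_eq G a b
    refine (Set.one_lt_ncard_iff_nontrivial).mpr ⟨B, mem_orbit_self B, k • B, mem_orbit B k, ?_⟩
    intro h
    exact hb (h ▸ Set.smul_mem_smul_set ha)
  rw [Nat.card_coe_set_eq] at h5
  have h8 := Nat.le_of_dvd (by omega) ((Subgroup.index_dvd_of_le h6).trans h5)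
  have h9 : ((der G Ω).index + 1) ^ 2 ≤ Nat.card Ω := by
    rw [← h1, sq]
    exact Nat.mul_le_mul (by omega) (by omega)
  rw [le_sub_iff_add_le]
  apply Real.le_sqrt_of_sq_le
  exact_mod_cast h9

end Cfsg.Agent.S3549
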