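import Cfsg.Statements.S3554

set_option autoImplicit false
open Cfsg

namespace Cfsg.Agent.S3554

open MulAction


/-- Let G act faithfully and transitively on a finite set and suppose G has a non-trivial cyclic normal subgroup. Then some element of G of prime order fixes no point. -/
theorem result {G Ω : Type*} [Group G] [Finite G] [MulAction G Ω] [FaithfulSMul G Ω] [Finite Ω]
    (htrans : MulAction.IsPretransitive G Ω) (C : Subgroup G) (hC : C.Normal) (hC1 : C ≠ ⊥) (hcyc : IsCyclic ↥C) :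
    ∃ g : G, (orderOf g).Prime ∧ ∀ ω : Ω, g • ω ≠ ω := by
  obtain ⟨p, hp, hpd⟩ := Nat.exists_prime_and_dvd (n := Nat.card C)
    (fun h => hC1 (Subgroup.card_eq_one.mp h))
  have := Fact.mk hp
  obtain ⟨c, hc⟩ := exists_prime_orderOf_dvd_card' p hpd
  refine ⟨c, by rw [Subgroup.orderOf_coe, hc]; exact hp, fun ω hω => ?_⟩
  have hc1 : (c : G) = 1 := by
    refine eq_of_smul_eq_smul (α := Ω) fun b => ?_
    obtain ⟨k, rfl⟩ := exists_smul_eq G ω b
    obtain ⟨m, hm⟩ := (MulAut.conjNormal (H := C) k⁻¹).toMonoidHom.map_cyclic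
    have h3 : (k⁻¹ * c * k⁻¹⁻¹) • ω = ω :=
      (hm c ▸ zpow_mem (show c ∈ stabilizer C ω from hω) m :
        (MulAut.conjNormal (H := C) k⁻¹).toMonoidHom c ∈ stabilizer C ω)
    rw [inv_inv, mul_smul, mul_smul, inv_smul_eq_iff] at h3
    rw [h3, one_smul]
  rw [← Subgroup.orderOf_coe, hc1, orderOf_one] at hc
  exact hp.one_lt.ne hc

end Cfsg.Agent.S3554
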