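import Cfsg.Statements.S3555
import Cfsg.Agent.Perm.Derange

set_option autoImplicit false
open Cfsg

namespace Cfsg.Agent.S3555

open Cfsg.Lib.Perm.Derange MulAction Finset
open scoped Pointwise

theorem sum_sq_le (G Ω : Type*) [Group G] [Fintype G] [MulAction G Ω] [Finite Ω] :
    ∑ g : G, Nat.card (fixedBy Ω (g * g)) ≤
      ∑ g : G, Nat.card (fixedBy Ω g) * Nat.card (fixedBy Ω g) := by
  classical
  have := Fintype.ofFinite Ω
  have h1 : ∀ g : G, Nat.card (fixedBy Ω (g * g)) =
      ∑ x : Ω × Ω, if g • x = x.swap then 1 else 0 := by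
    intro g
    rw [← card_filter, ← Fintype.card_subtype, ← Nat.card_eq_fintype_card]
    refine Nat.card_congr ⟨fun x => ⟨(x.1, g • x.1), Prod.ext rfl ?_⟩, fun x => ⟨x.1.1, ?_⟩,
      fun x => rfl, fun x => Subtype.ext (Prod.ext rfl (congrArg Prod.fst x.2))⟩
    · exact (mul_smul g g x.1).symm.trans x.2
    · have h2 := congrArg Prod.fst x.2
      have h3 := congrArg Prod.snd x.2
      exact (mul_smul g g x.1.1).trans ((congrArg (g • ·) h2).trans h3)
  have h2 : ∀ g : G, Nat.card (fixedBy Ω g) * Nat.card (fixedBy Ω g) =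
      ∑ x : Ω × Ω, if g • x = x then 1 else 0 := by
    intro g
    rw [← card_fixedBy_prod, ← card_filter, ← Fintype.card_subtype, ← Nat.card_eq_fintype_card]
    rfl
  simp only [h1, h2]
  rw [sum_comm]
  conv_rhs => rw [sum_comm]
  refine sum_le_sum fun x _ => ?_
  by_cases h : ∃ k : G, k • x = x.swap
  · obtain ⟨k, hk⟩ := h
    rw [← Equiv.sum_comp (Equiv.mulLeft k)]
    simp [mul_smul, ← hk]
  · push Not at h
    simp [h]

theorem fix_le_one {G Ω : Type*} [Group G] [Finite G] [MulAction G Ω] [FaithfulSMul G Ω] [Finite Ω]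
    [IsPretransitive G Ω] (hinv : ∀ g : G, (∀ ω : Ω, g • ω ≠ ω) → orderOf g = 2) {g : G}
    {a b : Ω} (hab : a ≠ b) (ha : g • a = a) (hb : g • b = b) : g = 1 := by
  classical
  have := Fintype.ofFinite G
  have : Nonempty Ω := ⟨a⟩
  have h1 := sum_sq_le G Ω
  have h2 := burnside G Ω
  rw [card_quotient_eq_one, one_mul] at h2
  set n := Nat.card Ω with hn
  have h3 : ∀ g : G, Nat.card (fixedBy Ω g) ≤ n := fun g => Finite.card_subtype_le _
  -- pointwise inequality
  have h4 : ∀ g ∈ (univ : Finset G), Nat.card (fixedBy Ω g) * Nat.card (fixedBy Ω g) + n ≤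
      Nat.card (fixedBy Ω (g * g)) + n * Nat.card (fixedBy Ω g) := by
    intro g _
    by_cases h : ∀ ω : Ω, g • ω ≠ ω
    · have : IsEmpty (fixedBy Ω g) := ⟨fun x => h x x.2⟩
      rw [← sq g, ← hinv g h, pow_orderOf_eq_one, fixedBy_one_eq_univ, Nat.card_univ,
        Nat.card_of_isEmpty]
      simp [hn]
    · push Not at h
      obtain ⟨ω, hω⟩ := h
      have : Nonempty (fixedBy Ω g) := ⟨⟨ω, hω⟩⟩
      have h5 : 0 < Nat.card (fixedBy Ω g) := Nat.card_pos
      have h6 : Nat.card (fixedBy Ω g) ≤ Nat.card (fixedBy Ω (g * g)) :=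
        Nat.card_mono (Set.toFinite _) fun x hx => by
          rw [mem_fixedBy] at hx ⊢
          rw [mul_smul, hx, hx]
      have h7 := h3 g
      nlinarith
  have h5 := sum_le_sum h4
  have h8 := (sum_eq_sum_iff_of_le h4).mp (le_antisymm h5 (by
    simp only [sum_add_distrib, ← mul_sum, h2, sum_const, card_univ, ← Nat.card_eq_fintype_card,
      smul_eq_mul]
    rw [mul_comm]
    omega)) g (mem_univ g)
  by_contra hg
  have h9 : 1 < Nat.card (fixedBy Ω g) := Finite.one_lt_card_iff_nontrivial.mpr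
    ⟨⟨a, ha⟩, ⟨b, hb⟩, fun h => hab (congrArg Subtype.val h)⟩
  have h10 : Nat.card (fixedBy Ω g) < n := by
    refine lt_of_le_of_ne (h3 g) fun h => hg ?_
    rw [Nat.card_coe_set_eq, hn, ← Set.eq_univ_iff_ncard] at h
    exact fixedBy_eq_univ_iff_eq_one.mp h
  have h6 : Nat.card (fixedBy Ω g) ≤ Nat.card (fixedBy Ω (g * g)) :=
    Nat.card_mono (Set.toFinite _) fun x hx => by
      rw [mem_fixedBy] at hx ⊢
      rw [mul_smul, hx, hx]
  nlinarith


/-- Let G act faithfully and transitively on a finite set and suppose every element of G fixing no point is an involution. Then either G is an elementary abelian 2-group, or G is a Frobenius group whose Frobenius kernel is an elementary abelian 2-group: G has a Frobenius complement H, and the elements lying in no conjugate of H, together with the identity, pairwise commute and square to the identity. -/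
theorem result {G Ω : Type*} [Group G] [Finite G] [MulAction G Ω] [FaithfulSMul G Ω] [Finite Ω]
    (htrans : MulAction.IsPretransitive G Ω) (hinv : ∀ g : G, (∀ ω : Ω, g • ω ≠ ω) → orderOf g = 2) :
    (IsMulCommutative G ∧ ∀ g : G, g ^ 2 = 1) ∨
    (∃ H : Subgroup G, Cfsg.IsFrobeniusComplement H ∧
      (∀ x ∈ Cfsg.frobeniusKernel H, x ^ 2 = 1) ∧
      ∀ x ∈ Cfsg.frobeniusKernel H, ∀ y ∈ Cfsg.frobeniusKernel H, x * y = y * x) := by
  have hsq : ∀ g : G, (∀ ω : Ω, g • ω ≠ ω) → g ^ 2 = 1 := fun g hg => by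
    rw [← hinv g hg, pow_orderOf_eq_one]
  have hcomm : ∀ x y : G, x ^ 2 = 1 → y ^ 2 = 1 → (x * y) ^ 2 = 1 → x * y = y * x := by
    intro x y hx hy hxy
    rw [sq] at hx hy hxy
    rw [eq_inv_of_mul_eq_one_left hxy, mul_inv_rev,
      ← mul_eq_one_iff_eq_inv.mp hx, ← mul_eq_one_iff_eq_inv.mp hy]
  by_cases h : ∀ g : G, g ≠ 1 → ∀ ω : Ω, g • ω ≠ ω
  · left
    have h1 : ∀ g : G, g ^ 2 = 1 := fun g => by
      by_cases hg : g = 1
      · simp [hg]
      · exact hsq g (h g hg)
    exact ⟨⟨⟨fun x y => hcomm x y (h1 _) (h1 _) (h1 _)⟩⟩, h1⟩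
  right
  push Not at h
  obtain ⟨g, hg, a, hga⟩ := h
  have hconj : ∀ k x : G, x ∈ MulAut.conj k • stabilizer G a ↔ x • k • a = k • a := by
    intro k x
    rw [← mem_stabilizer_iff, stabilizer_smul_eq_stabilizer_map_conj]
    rfl
  have hker : ∀ x ∈ Cfsg.frobeniusKernel (stabilizer G a), x = 1 ∨ ∀ ω : Ω, x • ω ≠ ω := by
    intro x hx
    refine hx.imp id fun h ω => ?_
    obtain ⟨k, rfl⟩ := exists_smul_eq G a ω
    exact fun h' => h k ((hconj k x).mpr h')
  have hker2 : ∀ x ∈ Cfsg.frobeniusKernel (stabilizer G a), x ^ 2 = 1 := by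
    intro x hx
    rcases hker x hx with rfl | h
    · simp
    · exact hsq x h
  refine ⟨stabilizer G a, ⟨fun h => hg ?_, fun h => hg ?_, fun k hk => ?_⟩, hker2, ?_⟩
  · exact (Subgroup.eq_bot_iff_forall _).mp h g hga
  · refine eq_of_smul_eq_smul (α := Ω) fun b => ?_
    obtain ⟨k, rfl⟩ := exists_smul_eq G a b
    rw [one_smul, show k • a = a from (h ▸ Subgroup.mem_top k : k ∈ stabilizer G a), hga]
  · rw [Subgroup.eq_bot_iff_forall]
    intro x hx
    exact fix_le_one hinv (fun h => hk (Eq.symm h)) hx.1 ((hconj k x).mp hx.2)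
  · intro x hx y hy
    refine hcomm x y (hker2 x hx) (hker2 y hy) ?_
    rcases hker x hx with rfl | hx'
    · simpa using hker2 y hy
    rcases hker y hy with rfl | hy'
    · simpa using hker2 x hx
    by_cases hxy : ∀ ω : Ω, (x * y) • ω ≠ ω
    · exact hsq _ hxy
    push Not at hxy
    obtain ⟨ω, hω⟩ := hxy
    have hx2 := hker2 x hx
    have hy2 := hker2 y hy
    rw [sq] at hx2 hy2
    rw [fix_le_one hinv (hy' ω) ?_ hω, one_pow]
    rw [← mul_smul, mul_assoc, hy2, mul_one, ← hω, ← mul_smul, ← mul_assoc, hx2, one_mul, hω]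

end Cfsg.Agent.S3555
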