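import Cfsg.Statements.S3556
import Cfsg.Agent.Perm.SocleDer

set_option autoImplicit false
open Cfsg

namespace Cfsg.Agent.S3556

open Cfsg.Lib.Perm Cfsg.Lib.Perm.Socle MulAction in
/-- Let G act faithfully and primitively on a finite set with at least two points, and suppose that for some fixed prime p every element of G fixing no point has order a power of p. Then G is of affine type (it has a regular normal subgroup that is an elementary abelian r-group for some prime r) or almost simple (it has a non-abelian simple normal subgroup with trivial centralizer). -/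
theorem result {G Ω : Type*} [Group G] [Finite G] [MulAction G Ω] [FaithfulSMul G Ω] [Finite Ω]
    (hprim : MulAction.IsPreprimitive G Ω) (hΩ : 2 ≤ Nat.card Ω) (p : ℕ) (hp : p.Prime)
    (hder : ∀ g : G, (∀ ω : Ω, g • ω ≠ ω) → ∃ k : ℕ, orderOf g = p ^ k) :
    (∃ (N : Subgroup G) (r : ℕ), r.Prime ∧ N.Normal ∧ Cfsg.IsElementaryAbelian r N ∧
      MulAction.IsPretransitive N Ω ∧ ∀ a : Ω, MulAction.stabilizer N a = ⊥) ∨
    (∃ T : Subgroup G, T.Normal ∧ IsSimpleGroup ↥T ∧ ¬ IsMulCommutative ↥T ∧
      Subgroup.centralizer (T : Set G) = ⊥) := by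
  have : Nontrivial Ω := Finite.one_lt_card_iff_nontrivial.1 hΩ
  obtain ⟨N, hN⟩ := exists_minN_top hprim
  have := hN.normal
  by_cases hc : IsMulCommutative N
  · left
    obtain ⟨r, hr, hexp⟩ := exists_prime_pow_eq_one_of_minNormal N hN.ne hN.min hc
    refine ⟨N, r, hr, hN.normal, ⟨hc, hexp⟩, ⟨fun a b => ?_⟩, stabilizer_eq_bot_of fun n hn a ha =>
      eq_one_of_comm_normal hprim hN.normal hN.ne hc hn ha⟩
    obtain ⟨n, hn, h⟩ := exists_smul_of_normal hprim hN.normal hN.ne a b
    exact ⟨⟨n, hn⟩, h⟩
  · right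
    by_contra hnas
    obtain ⟨q, x, hq, hinj, hdvd, hd, -⟩ := exists_three_der hprim hnas hN hc
    have key : ∀ i, q i = p := fun i => by
      obtain ⟨k, hk⟩ := hder _ (hd i)
      have := hdvd i
      rw [hk] at this
      exact (Nat.prime_dvd_prime_iff_eq (hq i) hp).1 ((hq i).dvd_of_dvd_pow this)
    exact absurd (hinj ((key 0).trans (key 1).symm)) (by decide)

end Cfsg.Agent.S3556
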