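import Cfsg.Statements.S3557
import Cfsg.Agent.Perm.PlaneOW

set_option autoImplicit false
open Cfsg

namespace Cfsg.Agent.S3557

open MulAction Cfsg.Lib.Perm Cfsg.Lib.Perm.Plane Cfsg.Lib.Block

theorem exists_central_mem {K : Type*} [Group K] [Finite K] {p : ℕ} [hp : Fact p.Prime]
    (hK : IsPGroup p K) (N : Subgroup K) [hN : N.Normal] (h1 : N ≠ ⊥) :
    ∃ z ∈ N, z ≠ 1 ∧ z ^ p = 1 ∧ ∀ g : K, g * z = z * g := by
  have : Finite (ConjAct K) := Finite.of_equiv K ConjAct.toConjAct.toEquiv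
  have h := ncard_modEq_fixed ((hK.of_equiv ConjAct.toConjAct).to_subgroup ⊤) (N : Set K)
    fun h _ x hx => hN.conj_mem x hx (ConjAct.ofConjAct h)
  have hd : p ∣ (N : Set K).ncard := by
    obtain ⟨k, hk⟩ := IsPGroup.iff_card.1 (hK.to_subgroup N)
    rw [← Nat.card_coe_set_eq, SetLike.coe_sort_coe, hk]
    refine dvd_pow_self p fun h0 => h1 (Subgroup.card_eq_one.1 ?_)
    rw [hk, h0, pow_zero]
  have hd' := (h.dvd_iff (dvd_refl p)).1 hd
  have hone : (1 : K) ∈ {x | x ∈ (N : Set K) ∧ ∀ h ∈ (⊤ : Subgroup (ConjAct K)), h • x = x} :=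
    ⟨N.one_mem, fun h _ => smul_one h⟩
  have hlt := hp.out.one_lt.trans_le
    (Nat.le_of_dvd ((Set.ncard_pos (Set.toFinite _)).2 ⟨1, hone⟩) hd')
  obtain ⟨z, hz, hz1⟩ := Set.exists_ne_of_one_lt_ncard hlt 1
  obtain ⟨k, hk⟩ := hK z
  obtain ⟨j, h2, h3⟩ := exists_pow_prime_order k hz1 hk
  refine ⟨z ^ j, pow_mem hz.1 j, h2, h3, fun g => ?_⟩
  have := hz.2 (ConjAct.toConjAct g) trivial
  rw [ConjAct.smul_def, ConjAct.ofConjAct_toConjAct, mul_inv_eq_iff_eq_mul] at this
  exact (Commute.pow_right this j).eq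


/-- Let G act faithfully and transitively on a finite set with 2p² points, p a prime, and suppose G is 2-closed: every permutation of the set which, on each ordered pair of points, agrees with some element of G, is itself induced by an element of G. Then some element of G of prime order fixes no point. -/
theorem result {G Ω : Type*} [Group G] [Finite G] [MulAction G Ω] [FaithfulSMul G Ω] [Finite Ω]
    (htrans : MulAction.IsPretransitive G Ω) (p : ℕ) (hp : p.Prime) (hcard : Nat.card Ω = 2 * p ^ 2)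
    (hcl : ∀ σ : Equiv.Perm Ω, (∀ a b : Ω, ∃ g : G, σ a = g • a ∧ σ b = g • b) → ∃ g : G, ∀ a : Ω, σ a = g • a) :
    ∃ g : G, (orderOf g).Prime ∧ ∀ ω : Ω, g • ω ≠ ω := by
  classical
  have := Fact.mk hp
  have hpos : 0 < p ^ 2 := pow_pos hp.pos 2
  obtain ⟨Q, hQ⟩ := exists_isSylowIn p (⊤ : Subgroup G)
  have horb : ∀ x : Ω, p ^ 2 ∣ (orbit Q x).ncard := fun x => by
    refine pow_dvd_ncard_orbit hQ x ?_
    have : orbit (⊤ : Subgroup G) x = Set.univ := by
      ext y
      obtain ⟨g, hg⟩ := htrans.exists_smul_eq x y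
      exact ⟨fun _ => trivial, fun _ => ⟨⟨g, trivial⟩, hg⟩⟩
    rw [this, Set.ncard_univ, hcard]
    exact dvd_mul_left _ _
  have hle : ∀ x : Ω, p ^ 2 ≤ (orbit Q x).ncard := fun x =>
    Nat.le_of_dvd ((Set.ncard_pos (Set.toFinite _)).2 ⟨x, mem_orbit_self x⟩) (horb x)
  obtain ⟨x₀⟩ : Nonempty Ω := (Nat.card_pos_iff.1 (by omega)).1
  have hpp : p < p ^ 2 := by nlinarith [hp.one_lt]
  have hQ1 : Q ≠ ⊥ := fun e => by
    have h1 := (horb x₀).trans (Dvd.intro _ (card_eq_ncard_orbit_mul Q x₀).symm)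
    rw [e, Subgroup.card_bot, Nat.dvd_one] at h1
    have := hp.one_lt
    omega
  obtain ⟨z, hz, hz1, hzp, hzc⟩ := exists_central hQ.isPGroup hQ1
  by_cases hfpf : ∀ ω : Ω, z • ω ≠ ω
  · exact ⟨z, (orderOf_eq_prime hzp hz1).symm ▸ hp, hfpf⟩
  push Not at hfpf
  obtain ⟨b, hb⟩ := hfpf
  obtain ⟨a, ha⟩ : ∃ a : Ω, z • a ≠ a := by
    by_contra! h
    exact hz1 (eq_of_smul_eq_smul fun x : Ω => by rw [h, one_smul])
  have hfix : ∀ x ∈ orbit Q b, z • x = x := by
    rintro _ ⟨g, rfl⟩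
    change z • (g : G) • b = (g : G) • b
    rw [← mul_smul, ← hzc g g.2, mul_smul, hb]
  have hmove : ∀ x ∈ orbit Q a, z • x ≠ x := by
    rintro _ ⟨g, rfl⟩ h
    change z • (g : G) • a = (g : G) • a at h
    rw [← mul_smul, ← hzc g g.2, mul_smul] at h
    exact ha (MulAction.injective _ h)
  have hdisj : Disjoint (orbit Q a) (orbit Q b) :=
    Set.disjoint_left.2 fun x h1 h2 => hmove x h1 (hfix x h2)
  have hun := Set.ncard_union_eq hdisj
  have hle2 := Set.ncard_le_ncard (Set.subset_univ (orbit Q a ∪ orbit Q b))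
  rw [Set.ncard_univ, hcard] at hle2
  have hca : (orbit Q a).ncard = p ^ 2 := by have := hle a; have := hle b; omega
  have hcb : (orbit Q b).ncard = p ^ 2 := by have := hle a; have := hle b; omega
  have hall : ∀ x, x ∉ orbit Q a → x ∈ orbit Q b := fun x hx => by
    have := Set.eq_of_subset_of_ncard_le (Set.subset_univ (orbit Q a ∪ orbit Q b))
      (by rw [Set.ncard_univ, hcard, hun, hca, hcb]; omega)
    exact (this.ge (Set.mem_univ x)).resolve_left hx
  let H : Subgroup Q :=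
    { carrier := {g | ∃ i : ℤ, (g : G) • a = z ^ i • a}
      one_mem' := ⟨0, by simp⟩
      mul_mem' := fun {g h} ⟨i, hi⟩ ⟨j, hj⟩ => ⟨j + i, by
        have hc : Commute (g : G) (z ^ j) := Commute.zpow_right (hzc g g.2) j
        rw [Subgroup.coe_mul, mul_smul, hj, ← mul_smul, hc.eq, mul_smul, hi, zpow_add, mul_smul]⟩
      inv_mem' := fun {g} ⟨i, hi⟩ => ⟨-i, by
        have hc : Commute (g : G) (z ^ (-i)) := Commute.zpow_right (hzc g g.2) _
        rw [Subgroup.coe_inv, inv_smul_eq_iff, ← mul_smul, hc.eq, mul_smul, hi, ← mul_smul,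
          ← zpow_add, neg_add_cancel, zpow_zero, one_smul]⟩ }
  have hzo : (orbit (Subgroup.zpowers z) a).ncard = p := by
    have h1 := card_eq_ncard_orbit_mul (Subgroup.zpowers z) a
    rw [Nat.card_zpowers, orderOf_eq_prime hzp hz1] at h1
    refine ((Nat.dvd_prime hp).1 (Dvd.intro _ h1.symm)).resolve_left fun h => ?_
    obtain ⟨y, hy⟩ := Set.ncard_eq_one.1 h
    have e1 : z • a ∈ orbit (Subgroup.zpowers z) a := ⟨⟨z, Subgroup.mem_zpowers z⟩, rfl⟩
    have e2 : a ∈ orbit (Subgroup.zpowers z) a := mem_orbit_self a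
    rw [hy] at e1 e2
    exact ha (e1.trans e2.symm)
  have hHi : H.index = p := by
    have h1 := card_eq_ncard_mul_card_inf_stabilizer H a (orbit (Subgroup.zpowers z) a) fun x =>
      ⟨fun ⟨⟨_, i, rfl⟩, h⟩ => ⟨⟨z ^ i, zpow_mem hz i⟩, ⟨i, rfl⟩, h⟩,
        fun ⟨g, ⟨i, hi⟩, h⟩ => ⟨⟨z ^ i, i, rfl⟩, hi.symm.trans h⟩⟩
    have h2 : H ⊓ stabilizer Q a = stabilizer Q a :=
      inf_eq_right.2 fun g hg => ⟨0, by rw [zpow_zero, one_smul]; exact hg⟩
    have h3 := index_stabilizer Q a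
    have h4 := (stabilizer Q a).index_mul_card
    have h5 := H.index_mul_card
    rw [h1, h2, hzo, ← h4, h3, hca, sq, mul_assoc] at h5
    exact Nat.eq_of_mul_eq_mul_right (Nat.mul_pos hp.pos Nat.card_pos) h5
  have hHn : H.Normal := by
    refine Subgroup.normal_of_index_eq_minFac_card ?_
    obtain ⟨k, hk⟩ := IsPGroup.iff_card.1 hQ.isPGroup
    rw [hHi, hk, hp.pow_minFac]
    rintro rfl
    exact hQ1 (Subgroup.card_eq_one.1 (by rw [hk, pow_zero]))
  have hH : ∀ h ∈ H, ∀ x ∈ orbit Q a, ∃ i : ℤ, (h : G) • x = z ^ i • x := by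
    rintro h hh _ ⟨g, rfl⟩
    obtain ⟨i, hi⟩ := hHn.conj_mem h hh g⁻¹
    refine ⟨i, ?_⟩
    have hc : Commute (g : G) (z ^ i) := Commute.zpow_right (hzc g g.2) i
    change (h : G) • (g : G) • a = z ^ i • (g : G) • a
    rw [← mul_smul (z ^ i), ← hc.eq, mul_smul, ← hi]
    simp [mul_smul]
  let φ := (toPermHom Q (orbit Q b)).rangeRestrict
  have hφ : Function.Surjective φ := MonoidHom.rangeRestrict_surjective _
  have hφa : ∀ (g : Q) (x : orbit Q b), ((φ g : Equiv.Perm (orbit Q b)) x : Ω) = (g : G) • x.1 :=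
    fun _ _ => rfl
  have hφe : ∀ g h : Q, φ g = φ h → ∀ x ∈ orbit Q b, (g : G) • x = (h : G) • x :=
    fun g h e x hx => by rw [← hφa g ⟨x, hx⟩, e, hφa]
  have := hHn.map φ hφ
  obtain ⟨_, ⟨q, hq, rfl⟩, hq1, hqp, hqc⟩ := exists_central_mem (hQ.isPGroup.of_surjective φ hφ)
    (H.map φ) fun e => by
      have h1 : H ≤ stabilizer Q b := fun g hg => by
        have h2 : φ g = φ 1 := by
          rw [map_one, ← Subgroup.mem_bot, ← e]
          exact Subgroup.mem_map_of_mem φ hg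
        have := hφe g 1 h2 b (mem_orbit_self b)
        rwa [Subgroup.coe_one, one_smul] at this
      have h2 := Subgroup.index_dvd_of_le h1
      rw [index_stabilizer, hcb, hHi] at h2
      exact absurd (Nat.le_of_dvd hp.pos h2) (by omega)
  have hqmove : ∀ x ∈ orbit Q b, (q : G) • x ≠ x := by
    rintro _ ⟨g, rfl⟩ h
    refine hq1 (Subtype.ext (Equiv.ext fun ⟨_, k, rfl⟩ => Subtype.ext ?_))
    have h1 := hφe _ _ ((map_mul φ _ _).trans ((hqc (φ (k * g⁻¹))).trans (map_mul φ _ _).symm)) _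
      (mem_orbit b g)
    change (((k * g⁻¹ : Q) : G) * q) • (g : G) • b = ((q : G) * (k * g⁻¹ : Q)) • (g : G) • b at h1
    change (q : G) • (g : G) • b = (g : G) • b at h
    rw [mul_smul, h] at h1
    simp only [Subgroup.coe_mul, Subgroup.coe_inv, mul_smul, inv_smul_smul] at h1
    exact h1.symm
  have hin : ∀ g ∈ Q, ∀ x, x ∈ orbit Q a ↔ g • x ∈ orbit Q a := fun g hg x =>
    ⟨fun ⟨k, hk⟩ => ⟨⟨g, hg⟩ * k, hk ▸ mul_smul g (k : G) a⟩, fun ⟨k, hk⟩ =>
      ⟨(⟨g, hg⟩ : Q)⁻¹ * k, by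
        change (g⁻¹ * k) • a = x
        rw [mul_smul, inv_smul_eq_iff]
        exact hk⟩⟩
  let f : Ω → Ω := fun x => if x ∈ orbit Q a then z • x else (q : G) • x
  have hf : Function.Injective f := fun x y e => by
    simp only [f] at e
    split_ifs at e with h1 h2 h2
    · exact MulAction.injective z e
    · exact absurd ((hin q q.2 y).2 (e ▸ (hin z hz x).1 h1)) h2
    · exact absurd ((hin q q.2 x).2 (e ▸ (hin z hz y).1 h2)) h1
    · exact MulAction.injective _ e
  have key : ∀ x y, x ∈ orbit Q a → y ∉ orbit Q a → ∃ g : G, f x = g • x ∧ f y = g • y := by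
    intro x y hx hy
    obtain ⟨i, hi⟩ := hH q hq x hx
    refine ⟨z ^ (1 - i) * q, ?_, ?_⟩
    · simp only [f, if_pos hx]
      rw [mul_smul, hi, ← mul_smul, ← zpow_add, sub_add_cancel, zpow_one]
    · simp only [f, if_neg hy]
      rw [mul_smul]
      exact (zpow_mem (show z ∈ stabilizer G _ from
        hfix _ (hall _ fun h => hy ((hin q q.2 y).2 h))) (1 - i)).symm
  obtain ⟨g, hg⟩ := hcl (Equiv.ofBijective f (Finite.injective_iff_bijective.1 hf)) fun x y => by
    change ∃ g : G, f x = g • x ∧ f y = g • y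
    by_cases hx : x ∈ orbit Q a <;> by_cases hy : y ∈ orbit Q a
    · exact ⟨z, if_pos hx, if_pos hy⟩
    · exact key x y hx hy
    · obtain ⟨g, h1, h2⟩ := key y x hy hx
      exact ⟨g, h2, h1⟩
    · exact ⟨q, if_neg hx, if_neg hy⟩
  change ∀ x, f x = g • x at hg
  have hgm : ∀ ω : Ω, g • ω ≠ ω := fun ω => by
    rw [← hg]
    simp only [f]
    split_ifs with h
    · exact hmove ω h
    · exact hqmove ω (hall ω h)
  have hpow : ∀ (k : ℕ) (x : Ω), g ^ k • x = if x ∈ orbit Q a then z ^ k • x else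
      (q : G) ^ k • x := fun k x => by
    induction k with
    | zero => simp
    | succ k ih =>
      rw [pow_succ', mul_smul, ih, ← hg]
      split_ifs with h
      · simp only [f]
        rw [if_pos ((hin _ (pow_mem hz k) x).1 h), pow_succ', mul_smul]
      · simp only [f]
        rw [if_neg fun h' => h ((hin _ (pow_mem q.2 k) x).2 h'), pow_succ', mul_smul]
  have hgp : g ^ p = 1 := eq_of_smul_eq_smul fun x : Ω => by
    rw [hpow]
    split_ifs with h
    · rw [hzp]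
    · exact hφe (q ^ p) 1 (by rw [map_pow, hqp, map_one]) x (hall x h)
  exact ⟨g, (orderOf_eq_prime hgp fun e => hgm a (by rw [e, one_smul])).symm ▸ hp, hgm⟩

end Cfsg.Agent.S3557
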