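import Cfsg.Statements.S3571
import Cfsg.Agent.Perm.AltDer
import Cfsg.Agent.S2119
import Cfsg.Agent.S5057
import Cfsg.Agent.Known.SylowCount
import Mathlib.GroupTheory.SpecificGroups.ZGroup

set_option autoImplicit false
open Cfsg

namespace Cfsg.Agent.S3571

open Equiv Equiv.Perm MulAction Subgroup

theorem no_small {U : Type*} [Group U] [Finite U] (h : ∀ u : U, orderOf u ≤ 5)
    (hU : Nat.card U = 15 ∨ Nat.card U = 30) : False := by
  have : IsZGroup U := IsZGroup.of_squarefree (by rcases hU with e | e <;> rw [e] <;> decide +kernel)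
  have h1 := IsZGroup.isCyclic_commutator (G := U)
  obtain ⟨c, hc⟩ := IsCyclic.exists_ofOrder_eq_natCard (α := commutator U)
  obtain ⟨a, ha⟩ := IsCyclic.exists_ofOrder_eq_natCard (α := Abelianization U)
  obtain ⟨u, rfl⟩ := QuotientGroup.mk_surjective a
  have h2 : Nat.card (commutator U) ≤ 5 := by rw [← hc, ← orderOf_coe]; exact h _
  have h3 : (commutator U).index ≤ 5 :=
    ha.ge.trans ((Nat.le_of_dvd (orderOf_pos u) (orderOf_map_dvd Abelianization.of u)).trans (h u))
  have h4 := (commutator U).card_mul_index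
  have h5 := Lib.Known.SC.relIndex_centralizer_dvd_totient (commutator U)
  rw [normalizer_eq_top, relIndex_top_right] at h5
  have h6 := (centralizer (commutator U : Set U)).index_dvd_card
  have h7 : (centralizer (commutator U : Set U)).index = 1 ∧ 1 < Nat.card (commutator U) := by
    generalize Nat.card (commutator U) = x at *
    generalize (commutator U).index = y at *
    have h8 : x * y = 15 := by
      have := Nat.mul_le_mul h2 h3
      omega
    rw [← h4, h8] at h6
    have h9 : x.totient ∣ 4 ∧ 1 < x := by interval_cases x <;> first | omega | decide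
    exact ⟨Nat.eq_one_of_dvd_coprimes (by norm_num : Nat.Coprime 4 15) (h5.trans h9.1) h6, h9.2⟩
  have h8 : commutator U ≤ center U := by
    rw [index_eq_one, centralizer_eq_top_iff_subset] at h7
    exact h7.1
  have h9 := (Abelianization.of (G := U)).isMulCommutative_of_isCyclic_of_ker_le_center
    ((Abelianization.ker_of U).le.trans h8)
  have h10 : commutator U = ⊥ := by
    rw [commutator_def, commutator_eq_bot_iff_le_centralizer]
    exact fun a _ b _ => h9.is_comm.comm b a
  rw [h10, card_bot] at h7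
  exact lt_irrefl _ h7.2

theorem six {T Ω : Type*} [Group T] [Finite T] [MulAction T Ω] [FaithfulSMul T Ω] [Finite Ω]
    [IsPretransitive T Ω] (eT : T ≃* alternatingGroup (Fin 6)) (hΩ : 2 ≤ Nat.card Ω)
    (r : ℕ) (hr : r.Prime) (hrd : r ∣ Nat.card Ω)
    (hmax : ∀ s : ℕ, s.Prime → s ∣ Nat.card Ω → s ≤ r) :
    ∃ g : T, orderOf g = r ∧ ∀ ω : Ω, g • ω ≠ ω := by
  classical
  have := Fact.mk hr
  have := Fintype.ofFinite Ω
  have hT : Nat.card T = 360 := by
    rw [Nat.card_congr eT.toEquiv, nat_card_alternatingGroup, Nat.card_fin]; rfl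
  have k : ∀ ω : Ω, Nat.card (stabilizer T ω) * Nat.card Ω = 360 := fun ω => by
    rw [← index_stabilizer_of_transitive T ω, card_mul_index, hT]
  obtain ⟨ω⟩ : Nonempty Ω := (Nat.card_pos_iff.1 (by omega)).1
  by_cases h0 : r ∣ Nat.card (stabilizer T ω)
  swap
  · obtain ⟨g, hg⟩ := exists_prime_orderOf_dvd_card' (G := T) r
      (hrd.trans (Dvd.intro_left _ ((k ω).trans hT.symm)))
    refine ⟨g, hg, fun a ha => h0 ?_⟩
    rw [Nat.eq_of_mul_eq_mul_right (by omega) ((k ω).trans (k a).symm), ← hg]
    exact (stabilizer T a).orderOf_dvd_natCard ha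
  have h1 : r * r ∣ 360 := k ω ▸ Nat.mul_dvd_mul h0 hrd
  have h2 : r = 2 ∨ r = 3 := by
    have h3 : r ≤ 18 := by
      have := Nat.le_of_dvd (by norm_num) h1
      nlinarith
    interval_cases r <;> first | omega | exact absurd hr (by norm_num)
  have h3 : 360 ∣ (Nat.card Ω).factorial := by
    rw [← hT, ← Nat.card_perm]
    exact card_dvd_of_injective (toPermHom T Ω) toPerm_injective
  have h5 : ¬ 5 ∣ Nat.card Ω := fun h => by
    have := hmax 5 Nat.prime_five h
    omega
  have h6 : ¬ 3 ∣ Nat.card Ω ∨ r = 3 := by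
    by_contra! h
    have := hmax 3 Nat.prime_three h.1
    omega
  have h7 : Nat.card Ω = 6 ∧ r = 3 ∨ Nat.card (stabilizer T ω) = 15 ∨
      Nat.card (stabilizer T ω) = 30 := by
    have h8 := k ω
    generalize Nat.card (stabilizer T ω) = x at *
    generalize Nat.card Ω = y at *
    have h9 : y ∣ 72 := Nat.Coprime.dvd_of_dvd_mul_left
      ((Nat.Prime.coprime_iff_not_dvd Nat.prime_five).2 h5).symm ⟨x, by rw [mul_comm y, h8]⟩
    have h10 : y ∈ Nat.divisors 72 := Nat.mem_divisors.2 ⟨h9, by norm_num⟩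
    rw [show Nat.divisors 72 = {1, 2, 3, 4, 6, 8, 9, 12, 18, 24, 36, 72} by decide] at h10
    simp only [Finset.mem_insert, Finset.mem_singleton] at h10
    rcases h10 with rfl | rfl | rfl | rfl | rfl | rfl | rfl | rfl | rfl | rfl | rfl | rfl <;>
      rcases h2 with rfl | rfl <;> first | omega | exact absurd h3 (by decide)
  rcases h7 with ⟨h7, rfl⟩ | h7
  · have h8 : alternatingGroup Ω ≤ (toPermHom T Ω).range := alternatingGroup_le_of_index_le_two (by
      have h9 := (toPermHom T Ω).range.card_mul_index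
      rw [← Nat.card_congr ((toPermHom T Ω).ofInjective toPerm_injective).toEquiv, hT,
        Nat.card_perm, h7, show Nat.factorial 6 = 720 from rfl] at h9
      omega)
    rw [Nat.card_eq_fintype_card] at h7
    obtain ⟨σ, hσ⟩ := (exists_with_cycleType_iff Ω (m := {3, 3})).2 ⟨by simp [h7], by simp⟩
    have h9 : orderOf σ = 3 := by rw [← lcm_cycleType, hσ]; rfl
    obtain ⟨g, rfl⟩ := h8 (mem_alternatingGroup.2
      (Lib.Perm.AltDer.sign_of_odd (h9 ▸ (by decide : Odd 3))))
    refine ⟨g, (orderOf_injective _ toPerm_injective g).symm.trans h9, fun a => ?_⟩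
    have h10 : (toPermHom T Ω g).support = Finset.univ :=
      Finset.eq_univ_of_card _ (by rw [← sum_cycleType, hσ, h7]; rfl)
    exact mem_support.1 (h10 ▸ Finset.mem_univ a)
  · refine (no_small (fun u => ?_) h7).elim
    rw [← orderOf_coe, ← eT.orderOf_eq]
    have := S5057.orderOf_cases (eT u)
    omega

/-- Let G be an almost simple group whose socle is an alternating group of degree m ≥ 5 (G has a normal subgroup T isomorphic to that alternating group with trivial centralizer), acting faithfully and primitively on a finite set Ω with at least two points, and let r be the largest prime divisor of the number of points. Then G contains an element of order r fixing no point. -/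
theorem result {G Ω : Type*} [Group G] [Finite G] [MulAction G Ω] [FaithfulSMul G Ω] [Finite Ω]
    (T : Subgroup G) (hT : T.Normal) (hTc : Subgroup.centralizer (T : Set G) = ⊥) (m : ℕ) (hm : 5 ≤ m)
    (eT : ↥T ≃* ↥(alternatingGroup (Fin m))) (hprim : MulAction.IsPreprimitive G Ω) (hΩ : 2 ≤ Nat.card Ω)
    (r : ℕ) (hr : r.Prime) (hrd : r ∣ Nat.card Ω) (hmax : ∀ s : ℕ, s.Prime → s ∣ Nat.card Ω → s ≤ r) :
    ∃ g : G, orderOf g = r ∧ ∀ ω : Ω, g • ω ≠ ω := by
  have hne : T ≠ ⊥ := fun h => by
    have h1 := Nat.card_congr eT.toEquiv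
    have := alternatingGroup.nontrivial_of_three_le_card (α := Fin m) (by simp; omega)
    rw [h, card_bot] at h1
    exact (Finite.one_lt_card (α := alternatingGroup (Fin m))).ne h1
  have hfix : fixedPoints T Ω ≠ .univ := fun h => hne (eq_bot_iff.2 fun t ht =>
    eq_of_smul_eq_smul (α := Ω) fun a => by
      rw [one_smul]; exact (h ▸ Set.mem_univ a : a ∈ fixedPoints T Ω) ⟨t, ht⟩)
  have htr : IsPretransitive T Ω := IsQuasiPreprimitive.isPretransitive_of_normal hfix
  by_cases h6 : m = 6
  · subst h6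
    obtain ⟨g, hg, h⟩ := six eT hΩ r hr hrd hmax
    exact ⟨g, (orderOf_coe g).trans hg, h⟩
  let e := MulEquiv.ofBijective _ (S2119.result m (by omega) h6)
  let ψ : G →* Perm (Fin m) := (e.symm.toMonoidHom.comp (MulAut.congr eT).toMonoidHom).comp
    (MulAut.conjNormal : G →* MulAut T)
  have hψ : Function.Injective ψ := (injective_iff_map_eq_one _).2 fun g hg => by
    have h1 : MulAut.conjNormal (H := T) g = 1 :=
      (MulAut.congr eT).map_eq_one_iff.1 (e.symm.map_eq_one_iff.1 hg)
    refine mem_bot.1 (hTc ▸ fun t ht => ?_)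
    have h2 := congrArg (fun f : MulAut T => (f ⟨t, ht⟩ : G)) h1
    exact (mul_inv_eq_iff_eq_mul.1 h2).symm
  have hT' : ∀ t : T, ψ t = eT t := fun t => e.symm_apply_eq.2 (MulEquiv.ext fun a => by
    obtain ⟨a, rfl⟩ := eT.surjective a
    have h1 : MulAut.conjNormal (t : G) a = t * a * t⁻¹ := rfl
    refine Subtype.ext ?_
    simp [e, h1])
  have : Nontrivial Ω := Finite.one_lt_card_iff_nontrivial.1 hΩ
  obtain ⟨ω⟩ : Nonempty Ω := inferInstance
  rw [← index_stabilizer_of_transitive G ω] at hrd hmax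
  obtain ⟨g, hg, h⟩ := Lib.Perm.AltDer.core hm hψ (fun σ hσ => ⟨eT.symm ⟨σ, hσ⟩, by simp [hT']⟩)
    (IsPreprimitive.isCoatom_stabilizer_of_isPreprimitive G ω) hr hrd hmax fun hle => hfix (by
      refine Set.eq_univ_of_forall fun a t => ?_
      obtain ⟨x, rfl⟩ := exists_smul_eq G ω a
      obtain ⟨y, hy, h1⟩ := hle (eT ⟨_, hT.conj_mem' _ t.2 x⟩).2
      rw [← hT'] at h1
      obtain rfl := hψ h1
      have h2 : (x⁻¹ * t * x) • ω = ω := hy
      rwa [mul_smul, mul_smul, inv_smul_eq_iff] at h2)
  refine ⟨g, hg, fun a ha => ?_⟩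
  obtain ⟨x, rfl⟩ := exists_smul_eq G ω a
  exact h x⁻¹ (by rw [mem_stabilizer_iff, inv_inv, mul_smul, mul_smul, ha, inv_smul_smul])

end Cfsg.Agent.S3571
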