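import Cfsg.Statements.S3579
import Cfsg.Agent.El2.Cov
import Cfsg.Agent.El2.LN
import Cfsg.Agent.El2.LK
import Cfsg.Agent.El2.St
import Cfsg.Agent.El2.C0
import Cfsg.Agent.El2.PreX
import Cfsg.Agent.El2.Rep
import Cfsg.Agent.El2.OneX
import Cfsg.Agent.El2.B1
import Cfsg.Agent.El2.B2
import Cfsg.Agent.El2.B3
import Cfsg.Agent.El2.B4
import Cfsg.Agent.El2.B5
import Cfsg.Agent.El2.A0
import Cfsg.Agent.El2.A1a
import Cfsg.Agent.El2.A1b
import Cfsg.Agent.El2.Cyc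
import Cfsg.Agent.El2.IrrA
import Cfsg.Agent.El2.IrrB
import Cfsg.Agent.El2.Wit
import Cfsg.Agent.El2.TTx
import Cfsg.Agent.El2.D2a
import Cfsg.Agent.El2.D2e
import Cfsg.Agent.El2.D2p
import Cfsg.Agent.El2.D2j
import Cfsg.Agent.El2.D2f
import Cfsg.Agent.El2.D1a
import Cfsg.Agent.El2.D1b
import Cfsg.Agent.El2.D1c
import Cfsg.Agent.El2.D1d
import Cfsg.Agent.El2.D1e

set_option autoImplicit false
open Cfsg

namespace Cfsg.Agent.S3579

open MulAction Cfsg.Agent.El2 in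
theorem main {G Ω : Type*} [Group G] [Finite G] [MulAction G Ω] [Finite Ω] {p q : ℕ}
    (h : El G Ω p q) : False := by
  classical
  haveI : Fact p.Prime := ⟨h.hp⟩
  obtain ⟨P⟩ : Nonempty (Sylow p G) := inferInstance
  by_cases ho : ∀ ω : Ω, Nat.card (orbit (P : Subgroup G) ω) = p
  · exact h.c0 P ho
  push Not at ho
  obtain ⟨γ0, hγ0⟩ := ho
  obtain ⟨P0, Γ, hpre⟩ := h.exists_pre P γ0 ((h.orb P γ0).resolve_left hγ0)
  have h1 := hpre.one
  by_cases hB : ∀ ω : Ω, ∃ y ∈ P0, y • ω ≠ ω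
  · obtain ⟨hd, z, hz, hzc, hzF, hzΓ⟩ := h1.b1 hB
    obtain ⟨hV, hQ⟩ := h1.b3 hB hd hz hzc hzF (h1.b2 hB hd hz hzc hzF hzΓ)
    exact h1.b5 hB hzF hV (h1.b4 hB hd hz hzF hzΓ hV hQ)
  push Not at hB
  obtain ⟨β, hβ⟩ := hB
  have h2 := h1.a0 β hβ
  have hX : ∀ ω ω' : Ω, ∃ x ∈ Subgroup.normalClosure (P0 : Set G), x • ω = ω' := by
    by_contra hn
    exact h.a1b (Subgroup.normalClosure (P0 : Set G))
      (h2.a1a _ (fun y hy => Subgroup.subset_normalClosure hy) hn)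
  rcases h2.dich with hr | hd
  · have h3 := h2.thr (h2.tt_of hX fun S hS f hf y hy hne => h2.irrA hr S hS f hf y hy hne)
    obtain ⟨ha, hN⟩ := h3.aone hr (h3.cent hr)
    have hF : 1 < Γᶜ.ncard := by
      rw [h1.cardF]
      have e : 2 * q - p = 1 := by omega
      rw [e, mul_one]
      exact h.hp.one_lt
    obtain ⟨a, b, hA, hb, hab⟩ := (Set.one_lt_ncard_iff (Set.toFinite _)).1 hF
    obtain ⟨d, hd, ho, he⟩ := h3.orbp ha hA hb hab (hN a hA b hb hab)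
    exact h3.last (h2.reg_cyc hr).1 ha hA hb (hN a hA b hb hab) hd ho he
  · have h3 := h2.thr (h2.tt_of hX fun S hS f hf y hy hne => h2.irrB hd S hS f hf y hy hne)
    obtain ⟨γ, hγ, h33⟩ := h3.three_pts hd
    obtain ⟨c, hc, hcB, b, hb, hbΓ, hb1, hb3⟩ := h3.jor hd hγ h33
    exact h3.frat hd hγ hc hcB hb hbΓ hb1 hb3

/-- Let G act faithfully and transitively on a finite set with 2pq points, where p and q are distinct odd primes. Then G contains an element of prime order fixing no point (G is not elusive). -/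
theorem result {G Ω : Type*} [Group G] [Finite G] [MulAction G Ω] [FaithfulSMul G Ω] [Finite Ω]
    (htrans : MulAction.IsPretransitive G Ω) (p q : ℕ) (hp : p.Prime) (hq : q.Prime) (hp2 : p ≠ 2) (hq2 : q ≠ 2)
    (hpq : p ≠ q) (hcard : Nat.card Ω = 2 * p * q) :
    ∃ g : G, (orderOf g).Prime ∧ ∀ ω : Ω, g • ω ≠ ω := by
  by_contra hc
  push Not at hc
  have hf : ∀ g : G, (∀ ω : Ω, g • ω = ω) → g = 1 := fun g hg =>
    FaithfulSMul.eq_of_smul_eq_smul (α := Ω) fun ω => by rw [hg ω, one_smul]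
  have h3 : ∀ r : ℕ, r.Prime → r ≠ 2 → 3 ≤ r := fun r hr h2 => by
    have := hr.two_le
    omega
  rcases lt_or_gt_of_ne hpq with hlt | hlt
  · exact main (G := G) (Ω := Ω) (p := q) (q := p)
      ⟨htrans, hf, hq, hp, h3 p hp hp2, hlt, by rw [hcard]; ring, hc⟩
  · exact main (G := G) (Ω := Ω) (p := p) (q := q)
      ⟨htrans, hf, hp, hq, h3 q hq hq2, hlt, hcard, hc⟩

end Cfsg.Agent.S3579
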