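import Cfsg.Statements.S3583
import Cfsg.Agent.Recog.ClsL2B
import Cfsg.Agent.S2507
import Cfsg.Agent.S2508

set_option autoImplicit false
open Cfsg

namespace Cfsg.Agent.S3583

/-- Let F be a finite field with q elements, where either q is even and q > 2, or q is odd and q ≥ 7, and let G be a finite group whose set of conjugacy class sizes equals that of PSL(2,F). Then G is the direct product of a normal subgroup isomorphic to PSL(2,F) and a central (hence abelian) subgroup: there are subgroups N and A of G with N normal and isomorphic to PSL(2,F), A contained in the centre, N ∩ A = 1 and NA = G. -/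
theorem result {F : Type*} [Field F] [Fintype F]
    (hq : (2 ∣ Fintype.card F ∧ 2 < Fintype.card F) ∨ (¬ 2 ∣ Fintype.card F ∧ 7 ≤ Fintype.card F))
    {G : Type*} [Group G] [Finite G]
    (h : Set.range (fun g : G => (Subgroup.centralizer ({g} : Set G)).index) = Set.range (fun g : (Matrix.ProjectiveSpecialLinearGroup (Fin 2) F) => (Subgroup.centralizer ({g} : Set (Matrix.ProjectiveSpecialLinearGroup (Fin 2) F))).index)) :
    ∃ N A : Subgroup G, N.Normal ∧ A ≤ Subgroup.center G ∧ N ⊓ A = ⊥ ∧ N ⊔ A = ⊤ ∧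
      Nonempty (N ≃* Matrix.ProjectiveSpecialLinearGroup (Fin 2) F) := by
  open Cfsg.Lib.Recog.ClsL2 in
  rcases hq with ⟨⟨k, hk⟩, h2⟩ | ⟨h2, h7⟩
  · rw [S2507.result ⟨k, hk⟩ (by omega)] at h
    obtain ⟨k, rfl⟩ : ∃ j, k = j + 1 := ⟨k - 1, by omega⟩
    obtain ⟨p, hp⟩ := CharP.exists F
    obtain ⟨n, hp', hn⟩ := FiniteField.card F p
    obtain rfl : p = 2 := ((Nat.prime_dvd_prime_iff_eq Nat.prime_two hp').1
      (Nat.prime_two.dvd_of_dvd_pow (n := n) ⟨_, hn ▸ hk⟩)).symm
    refine (cs_of_range Nat.prime_two n.ne_zero (hk.symm.trans hn) ?_ (by simp) ?_ (Or.inl rfl)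
      (one_dvd _) (by omega) (by omega) (h.trans ?_)).main_even hk
    · rw [show 2 * (k + 1) = 1 + (2 * k + 1) by ring]; simp
    · rw [show 2 * (k + 1) + 1 = 2 + (2 * k + 1) by ring, Nat.coprime_add_self_right]; simp
    · rw [hk, show 2 * (k + 1) - 1 = 2 * k + 1 by omega, show (2 * (k + 1)) ^ 2 - 1 =
        (2 * k + 1) * (2 * (k + 1) + 1) from Nat.sub_eq_of_eq_add (by ring), one_mul]
      ext; simp only [Set.mem_insert_iff, Set.mem_singleton_iff]; tauto
  · obtain ⟨h1, h3⟩ := S2508.result h2 h7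
    rcases (by omega : Fintype.card F % 4 = 1 ∨ Fintype.card F % 4 = 3) with e | e
    · obtain ⟨k, hk⟩ : ∃ k, Fintype.card F = 2 * k + (2 * k + 1) := ⟨Fintype.card F / 4, by omega⟩
      refine main_odd (Dvd.intro _ rfl) (by omega) hk (Or.inl rfl) (h.trans ((h1 e).trans ?_))
      rw [hk, show (2 * k + (2 * k + 1)) ^ 2 - 1 = 2 * (2 * (2 * k) * (2 * k + 1)) from
        Nat.sub_eq_of_eq_add (by ring), show 2 * k + (2 * k + 1) - 1 = 2 * (2 * k) by omega,
        show (2 * k + (2 * k + 1)) * (2 * k + (2 * k + 1) + 1) =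
          2 * ((2 * k + (2 * k + 1)) * (2 * k + 1)) by ring, Nat.mul_div_cancel_left _ two_pos,
        Nat.mul_div_cancel_left _ two_pos]
      ext; simp only [Set.mem_insert_iff, Set.mem_singleton_iff]; tauto
    · obtain ⟨k, hk⟩ : ∃ k, Fintype.card F = 2 * (k + 1) + (2 * k + 1) :=
        ⟨Fintype.card F / 4, by omega⟩
      refine main_odd (Dvd.intro _ rfl) (by omega) hk (Or.inr (by ring))
        (h.trans ((h3 e).trans ?_))
      rw [hk, show 2 * (k + 1) + (2 * k + 1) - 1 = 2 * (2 * k + 1) by omega,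
        show (2 * (k + 1) + (2 * k + 1)) ^ 2 - 1 = 2 * (2 * (2 * (k + 1)) * (2 * k + 1)) from
        Nat.sub_eq_of_eq_add (by ring),
        show 2 * (k + 1) + (2 * k + 1) + 1 = 2 * (2 * (k + 1)) by omega,
        mul_left_comm _ 2 (2 * k + 1), Nat.mul_div_cancel_left _ two_pos,
        Nat.mul_div_cancel_left _ two_pos]
      ext; simp only [Set.mem_insert_iff, Set.mem_singleton_iff]; tauto

end Cfsg.Agent.S3583
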