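import Cfsg.Statements.S3584
import Cfsg.Agent.S3583

set_option autoImplicit false
open Cfsg

namespace Cfsg.Agent.S3584

/-- Let F be a finite field with q elements, q odd and q ≥ 7, and let G be a finite group whose set of conjugacy class sizes equals that of PSL(2,F). Then G modulo its centre is isomorphic to PSL(2,F). -/
theorem result {F : Type*} [Field F] [Fintype F]
    (hodd : ¬ 2 ∣ Fintype.card F) (h7 : 7 ≤ Fintype.card F)
    {G : Type*} [Group G] [Finite G]
    (h : Set.range (fun g : G => (Subgroup.centralizer ({g} : Set G)).index) = Set.range (fun g : (Matrix.ProjectiveSpecialLinearGroup (Fin 2) F) => (Subgroup.centralizer ({g} : Set (Matrix.ProjectiveSpecialLinearGroup (Fin 2) F))).index)) :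
    Nonempty (G ⧸ Subgroup.center G ≃* Matrix.ProjectiveSpecialLinearGroup (Fin 2) F) := by
  obtain ⟨N, A, _, hA, -, h2, ⟨e⟩⟩ := S3583.result (Or.inr ⟨hodd, h7⟩) h
  have hs : IsSimpleGroup N := by
    have := Matrix.ProjectiveSpecialLinearGroup.rank_two_simple (F := F)
      (by rw [Nat.card_eq_fintype_card]; omega)
    exact e.isSimpleGroup
  let f := (QuotientGroup.mk' (Subgroup.center G)).comp N.subtype
  refine ⟨(MulEquiv.ofBijective f ⟨?_, fun y => ?_⟩).symm.trans e⟩
  · rw [← MonoidHom.ker_eq_bot_iff]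
    refine (f.normal_ker.eq_bot_or_eq_top).resolve_right fun h3 => ?_
    have h4 : commutator N = ⊥ := (commutator_eq_bot_iff N).2 ⟨⟨fun a b => Subtype.ext
      (Subgroup.mem_center_iff.1 ((QuotientGroup.eq_one_iff (b : G)).1
        (show b ∈ f.ker from h3 ▸ Subgroup.mem_top b)) a)⟩⟩
    have h5 := map_commutator_eq N e.toMonoidHom
    rw [h4, Subgroup.map_bot, MonoidHom.range_eq_top.2 e.surjective] at h5
    exact bot_ne_top (h5.trans (Lib.Recog.ClsL2.psl2_perfect (by omega)))
  · obtain ⟨y, rfl⟩ := QuotientGroup.mk_surjective y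
    obtain ⟨a, ha, b, hb, rfl⟩ := Subgroup.mem_sup_of_normal_left.1 (h2 ▸ Subgroup.mem_top y)
    exact ⟨⟨a, ha⟩, (QuotientGroup.mk_mul_of_mem a (hA hb)).symm⟩

end Cfsg.Agent.S3584
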