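import Cfsg.Statements.S3601
import Cfsg.Agent.Crit.Frob13
import Cfsg.Agent.S0491
import Cfsg.Agent.S0242
import Cfsg.Agent.S0243

set_option autoImplicit false
open Cfsg

namespace Cfsg.Agent.S3601

open Cfsg.Lib.Crit Matrix

theorem card_psl2 {F : Type} [Field F] [Fintype F] (hF : Fintype.card F = 5 ∨
    Fintype.card F = 7 ∨ Fintype.card F = 8 ∨ Fintype.card F = 17) :
    ∃ p, (p = 5 ∨ p = 7 ∨ p = 17) ∧ p ∣ Nat.card (ProjectiveSpecialLinearGroup (Fin 2) F) := by
  rcases hF with hF | hF | hF | hF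
  all_goals
    have h := Cfsg.Agent.S0243.result hF 2 le_rfl
    simp only [Fin.prod_univ_two, Fin.val_zero, Fin.val_one] at h
    norm_num at h
  · exact ⟨5, by simp, by omega⟩
  · exact ⟨7, by simp, by omega⟩
  · exact ⟨7, by simp, by omega⟩
  · exact ⟨17, by simp, by omega⟩

theorem card_sl3 {F : Type} [Field F] [Fintype F] (hF : Fintype.card F = 3) :
    Nat.card (SpecialLinearGroup (Fin 3) F) = 5616 := by
  have h := Cfsg.Agent.S0242.result hF 3 (by norm_num)
  simp only [Fin.prod_univ_three, Fin.val_zero, Fin.val_one, Fin.val_two] at h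
  norm_num at h
  omega

theorem psl3_equiv {F : Type} [Field F] [Fintype F] (hF : Fintype.card F = 3) :
    Nonempty (ProjectiveSpecialLinearGroup (Fin 3) F ≃* SpecialLinearGroup (Fin 3) F) := by
  have h := Cfsg.Agent.S0243.result hF 3 (by norm_num)
  simp only [Fin.prod_univ_three, Fin.val_zero, Fin.val_one, Fin.val_two] at h
  norm_num at h
  have h1 := Subgroup.card_eq_card_quotient_mul_card_subgroup
    (Subgroup.center (SpecialLinearGroup (Fin 3) F))
  have h2 : Nat.card (SpecialLinearGroup (Fin 3) F ⧸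
    Subgroup.center (SpecialLinearGroup (Fin 3) F)) = 5616 := by
    change Nat.card (ProjectiveSpecialLinearGroup (Fin 3) F) = 5616
    omega
  rw [card_sl3 hF, h2] at h1
  have h3 : Subgroup.center (SpecialLinearGroup (Fin 3) F) = ⊥ :=
    Subgroup.eq_bot_of_card_eq _ (by omega)
  exact ⟨(QuotientGroup.quotientMulEquivOfEq h3).trans QuotientGroup.quotientBot⟩

theorem sl3_orders {F : Type} [Field F] [Fintype F] (hF : Fintype.card F = 3) :
    (∃ k : SpecialLinearGroup (Fin 3) F, orderOf k = 6) ∧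
      (∃ k : SpecialLinearGroup (Fin 3) F, orderOf k = 8) ∧
      ∃ k : SpecialLinearGroup (Fin 3) F, orderOf k = 13 := by
  have e := ZMod.ringEquivOfPrime F Nat.prime_three hF
  have hinj : Function.Injective (SpecialLinearGroup.map (n := Fin 3) (e : ZMod 3 →+* F)) := by
    intro a b hab
    ext i j
    exact e.injective (congrFun (congrFun (congrArg Subtype.val hab) i) j)
  let a : SpecialLinearGroup (Fin 3) (ZMod 3) :=
    ⟨!![2, 1, 0; 0, 2, 0; 0, 0, 1], by rw [det_fin_three]; decide⟩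
  let b : SpecialLinearGroup (Fin 3) (ZMod 3) :=
    ⟨!![1, 1, 0; 1, 0, 0; 0, 0, 2], by rw [det_fin_three]; decide⟩
  have ha : orderOf a = 6 := by
    rw [orderOf_eq_iff (by norm_num)]
    refine ⟨Subtype.ext (by decide +kernel), fun m h1 h2 h => ?_⟩
    have := congrArg Subtype.val h
    revert this
    interval_cases m <;> decide +kernel
  have hb : orderOf b = 8 := by
    rw [orderOf_eq_iff (by norm_num)]
    refine ⟨Subtype.ext (by decide +kernel), fun m h1 h2 h => ?_⟩
    have := congrArg Subtype.val h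
    revert this
    interval_cases m <;> decide +kernel
  refine ⟨⟨_, (orderOf_injective _ hinj a).trans ha⟩, ⟨_, (orderOf_injective _ hinj b).trans hb⟩,
    ?_⟩
  have := fact13
  exact exists_prime_orderOf_dvd_card' 13 (by rw [card_sl3 hF]; norm_num)

/-- A finite group is critical with respect to a set Ω of natural numbers when its set of element orders is Ω while no proper section has Ω as its set of element orders. A finite group critical with respect to {1, 2, 3, 4, 6, 8, 13} (the set of element orders of SL(3,3) = PSL(3,3)) is isomorphic either to SL(3,3) or to a Frobenius group with elementary abelian kernel of order 13⁴ whose complement H has a unique subgroup Z of order 2 with H/Z isomorphic to the symmetric group of degree 4. -/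
theorem result {G : Type*} [Group G] [Finite G]
    (hcrit : Set.range (orderOf : G → ℕ) = ({1, 2, 3, 4, 6, 8, 13} : Set ℕ) ∧
      ∀ (H : Subgroup G) (N : Subgroup ↥H) [N.Normal], (H ≠ ⊤ ∨ N ≠ ⊥) → Set.range (orderOf : (↥H ⧸ N) → ℕ) ≠ ({1, 2, 3, 4, 6, 8, 13} : Set ℕ)) :
    (∃ (F : Type) (_ : Field F) (_ : Fintype F), Fintype.card F = 3 ∧ Nonempty (G ≃* Matrix.SpecialLinearGroup (Fin 3) F)) ∨
      ∃ (K H : Subgroup G), K.Normal ∧ IsMulCommutative K ∧ (∀ x ∈ K, x ^ 13 = 1) ∧ Nat.card K = 13 ^ 4 ∧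
        K ⊓ H = ⊥ ∧ K ⊔ H = ⊤ ∧ (∀ h ∈ H, h ≠ 1 → ∀ x ∈ K, h * x * h⁻¹ = x → x = 1) ∧
        ∃ (Z : Subgroup ↥H) (_ : Z.Normal), Nat.card Z = 2 ∧ (∀ Z' : Subgroup ↥H, Nat.card Z' = 2 → Z' = Z) ∧
          Nonempty (↥H ⧸ Z ≃* Equiv.Perm (Fin 4)) := by
  obtain ⟨h, hc⟩ := hcrit
  replace h : Sp G := h
  by_cases hs : Group.IsSolvable G
  · right
    refine h.frobenius fun H hH => by_contra fun hne => hc H ⊥ (Or.inl hne) ?_
    rw [← show Set.range (orderOf : H → ℕ) = _ from hH]
    ext n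
    constructor
    · rintro ⟨k, rfl⟩
      exact ⟨QuotientGroup.quotientBot k, MulEquiv.orderOf_eq _ _⟩
    · rintro ⟨k, rfl⟩
      exact ⟨QuotientGroup.quotientBot.symm k, MulEquiv.orderOf_eq _ _⟩
  left
  have h3 : (Nat.card G).primeFactors.card ≤ 3 := by
    refine (Finset.card_le_card (t := {2, 3, 13}) fun p hp => ?_).trans (by decide)
    rcases h.prime (Nat.prime_of_mem_primeFactors hp) (Nat.dvd_of_mem_primeFactors hp) with
      rfl | rfl | rfl <;> simp
  obtain ⟨H, N, hN, F, _, _, hF⟩ := Cfsg.Agent.S0491.result hs h3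
  have hd : Nat.card (H ⧸ N) ∣ Nat.card G :=
    (Subgroup.card_quotient_dvd_card N).trans (Subgroup.card_subgroup_dvd_card H)
  rcases hF with ⟨hF, ⟨e⟩⟩ | ⟨hF, ⟨e⟩⟩
  · exfalso
    obtain ⟨p, hp, hpd⟩ := card_psl2 hF
    rw [← Nat.card_congr e.toEquiv] at hpd
    have := h.prime (p := p) (by rcases hp with rfl | rfl | rfl <;> norm_num) (hpd.trans hd)
    omega
  obtain ⟨e'⟩ := psl3_equiv hF
  replace e := e.trans e'
  obtain ⟨⟨a, ha⟩, ⟨b, hb⟩, c, hc'⟩ := sl3_orders hF
  have hS : Sp (H ⧸ N) := h.of_dvd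
    (fun k => by
      obtain ⟨g, rfl⟩ := QuotientGroup.mk_surjective k
      exact ⟨g, (orderOf_map_dvd (QuotientGroup.mk' N) g).trans (Subgroup.orderOf_coe g).symm.dvd⟩)
    ⟨e.symm a, (MulEquiv.orderOf_eq _ _).trans ha⟩ ⟨e.symm b, (MulEquiv.orderOf_eq _ _).trans hb⟩
    ⟨e.symm c, (MulEquiv.orderOf_eq _ _).trans hc'⟩
  have h1 : H = ⊤ := by_contra fun hne => hc H N (Or.inl hne) hS
  have h2 : N = ⊥ := by_contra fun hne => hc H N (Or.inr hne) hS
  subst h1 h2
  exact ⟨F, inferInstance, inferInstance, hF,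
    ⟨(Subgroup.topEquiv.symm.trans QuotientGroup.quotientBot.symm).trans e⟩⟩

end Cfsg.Agent.S3601
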