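import Cfsg.Statements.S3641
import Cfsg.Agent.Solv.Factor
import Cfsg.Agent.Solv.CoprimeSylow
import Cfsg.Agent.Solv.PGroupBasic
import Cfsg.Agent.S0730
import Cfsg.Agent.S0731
import Cfsg.Agent.S2475
import Cfsg.Agent.Class.FieldIso
import Cfsg.Agent.Class.PGL2Sub
import Cfsg.Agent.Known.PSL2Basic

set_option autoImplicit false
open Cfsg

namespace Cfsg.Agent.S3641

open Subgroup MulAction Pointwise Cfsg.Lib.Solv

section Zass

variable {X Ω : Type*} [Group X] [Finite X] [MulAction X Ω] [Finite Ω]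

/-- The permutation data of a group with `18` Sylow `17`-subgroups. -/
structure Data (U : Ω → Subgroup X) : Prop where
  faith : FaithfulSMul X Ω
  card : Nat.card Ω = 18
  cardU : ∀ a, Nat.card (U a) = 17
  fix : ∀ a, U a ≤ stabilizer X a
  conj : ∀ (g : X) a, MulAut.conj g • U a = U (g • a)
  tr : ∀ a b c, b ≠ a → c ≠ a → ∃ u ∈ U a, u • b = c

namespace Data

variable {U : Ω → Subgroup X}

omit [Finite X] in
theorem exists_ne (h : Data U) (a b : Ω) : ∃ c, c ≠ a ∧ c ≠ b := by
  classical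
  by_contra hc
  push Not at hc
  have : (Set.univ : Set Ω) ⊆ {a, b} := fun c _ => by
    by_cases h1 : c = a
    · exact Or.inl h1
    · exact Or.inr (hc c h1)
  have h1 := (Set.ncard_le_ncard this).trans (Set.ncard_insert_le a {b})
  rw [Set.ncard_univ, h.card, Set.ncard_singleton] at h1
  omega

theorem eq_zpowers (h : Data U) {a : Ω} {u : X} (hu : u ∈ U a) (hu1 : u ≠ 1) : U a = zpowers u := by
  have := Fact.mk (show Nat.Prime 17 by norm_num)
  have h1 := (eq_bot_or_eq_top_of_prime_card ((zpowers u).subgroupOf (U a))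
    (hp := ⟨by rw [h.cardU]; norm_num⟩)).resolve_left fun h0 => hu1 (by
      have : (⟨u, hu⟩ : U a) ∈ (zpowers u).subgroupOf (U a) := mem_zpowers u
      rw [h0, mem_bot] at this
      exact congrArg Subtype.val this)
  exact le_antisymm (subgroupOf_eq_top.mp h1) (zpowers_le.mpr hu)

theorem reg (h : Data U) {a b : Ω} {u : X} (hu : u ∈ U a) (hb : b ≠ a) (e : u • b = b) : u = 1 := by
  by_contra hu1
  obtain ⟨c, hca, hcb⟩ := h.exists_ne a b
  obtain ⟨v, hv, rfl⟩ := h.tr a b c hb hca
  rw [h.eq_zpowers hu hu1] at hv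
  exact hcb ((zpowers_le (H := stabilizer X b)).mpr e hv)

theorem three (h : Data U) (g : X) (a b c : Ω) (hab : a ≠ b) (hbc : b ≠ c) (hac : a ≠ c)
    (ha : g • a = a) (hb : g • b = b) (hc : g • c = c) : g = 1 := by
  have := h.faith
  obtain ⟨u, hu, rfl⟩ := h.tr a b c hab.symm hac.symm
  have hu1 : u ≠ 1 := by rintro rfl; exact hbc (one_smul X b).symm
  have h1 : g * u * g⁻¹ ∈ U a := by
    have := conj_mem_conj_smul g hu
    rwa [h.conj, ha] at this
  have h2 := h.reg (mul_mem (inv_mem hu) h1) hab.symm (by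
    rw [mul_smul, mul_smul, mul_smul, inv_smul_eq_iff.mpr hb.symm, hc, inv_smul_smul])
  have h3 : Commute g u := by
    rw [inv_mul_eq_one, eq_mul_inv_iff_mul_eq] at h2
    exact h2.symm
  refine FaithfulSMul.eq_of_smul_eq_smul (α := Ω) fun d => ?_
  rw [one_smul]
  by_cases hd : d = a
  · rw [hd, ha]
  obtain ⟨v, hv, rfl⟩ := h.tr a b d hab.symm hd
  rw [h.eq_zpowers hu hu1] at hv
  obtain ⟨i, rfl⟩ := hv
  rw [← mul_smul, (h3.zpow_right i).eq, mul_smul, hb]

omit [Finite X] in
theorem exists_smul (h : Data U) (a b : Ω) : ∃ c, ∃ u ∈ U c, u • a = b := by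
  obtain ⟨c, h1, h2⟩ := h.exists_ne a b
  exact ⟨c, h.tr c a b h1.symm h2.symm⟩

omit [Finite X] in
theorem two (h : Data U) : IsMultiplyPretransitive X Ω 2 := by
  rw [is_two_pretransitive_iff]
  intro a b c d hab hcd
  obtain ⟨-, g, -, rfl⟩ := h.exists_smul a c
  obtain ⟨u, hu, e⟩ := h.tr (g • a) (g • b) d (by simpa using hab.symm) hcd.symm
  exact ⟨u * g, by rw [mul_smul]; exact h.fix _ hu, by rw [mul_smul, e]⟩

omit [Finite X] in
theorem index_stab (h : Data U) (a : Ω) : (stabilizer X a).index = 18 := by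
  have : IsPretransitive X Ω := ⟨fun a b => by
    obtain ⟨-, g, -, e⟩ := h.exists_smul a b; exact ⟨g, e⟩⟩
  rw [index_stabilizer_of_transitive, h.card]

theorem card_eq (h : Data U) {a b : Ω} (hab : b ≠ a) :
    Nat.card X = 306 * Nat.card (stabilizer X a ⊓ stabilizer X b : Subgroup X) := by
  have h1 : ((stabilizer X a : Subgroup X) : Set X) =
      (U a : Set X) * ((stabilizer X a ⊓ stabilizer X b : Subgroup X) : Set X) := by
    apply Set.Subset.antisymm
    · intro g hg
      obtain ⟨u, hu, e⟩ := h.tr a b (g • b) hab (fun e => hab (by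
        rw [← show g • a = a from hg] at e; simpa using e))
      exact ⟨u, hu, u⁻¹ * g, ⟨(stabilizer X a).mul_mem (inv_mem (h.fix a hu)) hg,
        show (u⁻¹ * g) • b = b by rw [mul_smul, ← e, inv_smul_smul]⟩, by simp⟩
    · exact mul_subset (h.fix a) inf_le_left
  have h2 := card_mul_card_inf_of_coe_eq_mul h1
  have h3 : U a ⊓ (stabilizer X a ⊓ stabilizer X b) = ⊥ :=
    eq_bot_iff.mpr fun u hu => h.reg hu.1 hab hu.2.2
  rw [h3, card_bot, mul_one, h.cardU] at h2
  rw [← (stabilizer X a).card_mul_index, h2, h.index_stab]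
  ring

theorem card_le (h : Data U) {a b : Ω} (hab : b ≠ a) :
    Nat.card (stabilizer X a ⊓ stabilizer X b : Subgroup X) ≤ 18 := by
  obtain ⟨c, hca, hcb⟩ := h.exists_ne a b
  rw [← h.card]
  refine Nat.card_le_card_of_injective (fun g => (g : X) • c) fun g k e => Subtype.ext ?_
  exact (inv_mul_eq_one.mp (h.three _ a b c hab.symm hcb.symm hca.symm
    (mul_mem (inv_mem k.2) g.2).1 (mul_mem (inv_mem k.2) g.2).2
    (by rw [mul_smul]; exact inv_smul_eq_iff.mpr e))).symm

theorem zass (h : Data U) : IsZassenhausGroup X Ω := by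
  have hp : Fact (Nat.Prime 2) := ⟨Nat.prime_two⟩
  have hne : Nonempty Ω := (Nat.card_pos_iff.mp (by rw [h.card]; norm_num)).1
  obtain ⟨a⟩ := hne
  obtain ⟨b, hba, -⟩ := h.exists_ne a a
  refine ⟨h.faith, h.two, h.three, ?_, fun N hN htr => ?_⟩
  · by_contra hcon
    push Not at hcon
    have h1 : stabilizer X a ⊓ stabilizer X b = ⊥ := eq_bot_iff.mpr fun g hg => by
      by_contra hg1
      exact hcon g hg1 a b hba.symm hg.1 hg.2
    have h2 := h.card_eq hba
    rw [h1, card_bot] at h2
    obtain ⟨P⟩ : Nonempty (Sylow 2 X) := inferInstance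
    have h3 : Nat.card P = 2 := by
      rw [P.card_eq_multiplicity, h2]; decide +kernel
    have h4 := (isCyclic_of_prime_card h3).isComplement' (by rw [h2]; norm_num)
    obtain ⟨N, hN, h4⟩ : ∃ N : Subgroup X, N.Normal ∧ N.IsComplement' P := ⟨_, inferInstance, h4⟩
    have h5 : ∀ c, U c ≤ N := fun c => le_of_coprime_card_index (by
      rw [h.cardU, h4.symm.index_eq_card, h3]; norm_num)
    have : IsPretransitive N Ω := ⟨fun a b => by
      obtain ⟨c, g, hg, e⟩ := h.exists_smul a b; exact ⟨⟨g, h5 c hg⟩, e⟩⟩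
    have h6 := (stabilizer N a).index_dvd_card
    have h7 := h4.card_mul_card
    rw [index_stabilizer_of_transitive, h.card] at h6
    rw [h3, h2] at h7
    omega
  · by_contra hcon
    push Not at hcon
    have h1 : Nat.card N = 18 := by
      rw [← (stabilizer N a).card_mul_index, index_stabilizer_of_transitive, hcon a, card_bot,
        h.card]
    have := Fact.mk Nat.prime_three
    obtain ⟨t, ht⟩ := exists_prime_orderOf_dvd_card' (G := N) 2 (by rw [h1]; norm_num)
    obtain ⟨s, hs⟩ := exists_prime_orderOf_dvd_card' (G := N) 3 (by rw [h1]; norm_num)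
    have h2 : ∀ n : N, (n : X) • a = a → n = 1 := fun n hn => by
      have : n ∈ stabilizer N a := hn
      rwa [hcon a] at this
    obtain ⟨u, hu, e⟩ := h.tr a ((t : X) • a) ((s : X) • a)
      (fun e => by rw [h2 t e, orderOf_one] at ht; omega)
      (fun e => by rw [h2 s e, orderOf_one] at hs; omega)
    have h3 := h2 (s⁻¹ * ⟨u * t * u⁻¹, hN.conj_mem _ t.2 u⟩) (by
      simp only [coe_mul, coe_inv, mul_smul]
      rw [inv_smul_eq_iff.mpr (h.fix a hu).symm, e, inv_smul_smul])
    have h4 : (s : X) = MulAut.conj u t := congrArg Subtype.val (inv_mul_eq_one.mp h3)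
    have h5 := congrArg orderOf h4
    rw [MulEquiv.orderOf_eq, orderOf_coe, orderOf_coe] at h5
    omega

theorem iso (h : Data U) {F : Type*} [Field F] [Fintype F] (hF : Fintype.card F = 17) :
    (Nat.card X = 2448 ∧ Nonempty (X ≃* Matrix.ProjectiveSpecialLinearGroup (Fin 2) F)) ∨
    (Nat.card X = 4896 ∧ Nonempty (X ≃* Matrix.ProjGenLinGroup (Fin 2) F)) := by
  classical
  have hne : Nonempty Ω := (Nat.card_pos_iff.mp (by rw [h.card]; norm_num)).1
  obtain ⟨a⟩ := hne
  obtain ⟨b, hba, -⟩ := h.exists_ne a a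
  have := Fact.mk (show Nat.Prime 17 by norm_num)
  have := h.faith
  have hc := isCyclic_of_prime_card (h.cardU a)
  rcases Cfsg.Agent.S0731.result h.zass a (U a) (h.fix a)
    ((normal_subgroupOf_iff_le_normalizer (h.fix a)).mpr fun g hg =>
      mem_normalizer_iff_conj_smul_eq.mpr (by rw [h.conj, show g • a = a from hg]))
    inferInstance (fun y z hy hz => by
      obtain ⟨u, hu, e⟩ := h.tr a y z hy hz
      refine ⟨⟨u, hu⟩, e, fun v hv => Subtype.ext (inv_mul_eq_one.mp (h.reg
        (mul_mem (inv_mem hu) v.2) hy (by rw [mul_smul, hv, ← e, inv_smul_smul]))).symm⟩) with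
    ⟨h3, hs⟩ | ⟨K, _, _, hK, ⟨e⟩⟩
  · right
    have := Fintype.ofFinite Ω
    let φ := MonoidHom.ofInjective (f := toPermHom X Ω) toPerm_injective
    obtain ⟨K, _, _, hK, ⟨e⟩⟩ := Cfsg.Agent.S0730.result (α := Ω) (p := 17) (f := 1) (by norm_num)
      (by norm_num) odd_one (by rw [← Nat.card_eq_fintype_card, h.card]; norm_num)
      (toPermHom X Ω).range ⟨fun x y => by
        obtain ⟨g, e⟩ := h3.exists_smul_eq x y
        exact ⟨φ g, by rw [← e]; ext i; rfl⟩⟩ (fun x => eq_bot_iff.mpr fun g hg => by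
        obtain ⟨g, rfl⟩ := φ.surjective g
        have h1 : g ∈ stabilizer X x := by
          rw [mem_stabilizer_iff] at hg ⊢
          rw [← hg]; ext i; rw [hg]; exact DFunLike.congr_fun hg i
        rw [hs x, mem_bot] at h1
        rw [h1, map_one]; exact one_mem _)
    obtain ⟨σ⟩ := Cfsg.Lib.Class.nonempty_ringEquiv_of_card_eq (F := K) (K := F) (by rw [hK, hF]; rfl)
    have e' := (φ.trans e).trans (Cfsg.Lib.Class.pglEquiv (Fin 2) σ)
    refine ⟨?_, ⟨e'⟩⟩
    rw [Nat.card_congr e'.toEquiv, Cfsg.Lib.Class.card_PGL2, Nat.card_eq_fintype_card, hF]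
  · left
    have h1 := Cfsg.Lib.Known.GL2.two_mul_card_PSL2 (F := K) (Ring.two_ne_zero hK)
    rw [← Nat.card_congr e.toEquiv] at h1
    have h2 := h.card_eq hba
    have h3 := h.card_le hba
    have h4 : Fintype.card K = 17 := by
      generalize Fintype.card K = q at h1
      generalize Nat.card (stabilizer X a ⊓ stabilizer X b : Subgroup X) = d at h2 h3
      have h5 : 0 < Nat.card X := Nat.card_pos
      have h6 : q < 24 := by
        by_contra h7
        have : 24 * 23 * 25 ≤ q * (q - 1) * (q + 1) :=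
          Nat.mul_le_mul (Nat.mul_le_mul (by omega) (by omega)) (by omega)
        omega
      interval_cases q <;> omega
    obtain ⟨σ⟩ := Cfsg.Lib.Class.nonempty_ringEquiv_of_card_eq (F := K) (K := F) (by rw [h4, hF])
    rw [h4] at h1
    exact ⟨by omega, ⟨e.trans (Cfsg.Lib.Class.pslEquiv (Fin 2) σ)⟩⟩

theorem sylow_two (h : Data U) (hX : Nat.card X = 2448 ∨ Nat.card X = 4896) :
    153 ≤ Nat.card (Sylow 2 X) := by
  have hp : Fact (Nat.Prime 2) := ⟨Nat.prime_two⟩
  have hne : Nonempty Ω := (Nat.card_pos_iff.mp (by rw [h.card]; norm_num)).1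
  obtain ⟨a⟩ := hne
  obtain ⟨b, hba, -⟩ := h.exists_ne a a
  have h2 := h.card_eq hba
  set D := stabilizer X a ⊓ stabilizer X b with hD
  have hDp : IsPGroup 2 D := by
    rcases hX with e | e
    · exact IsPGroup.of_card (n := 3) (by omega)
    · exact IsPGroup.of_card (n := 4) (by omega)
  obtain ⟨S, hS⟩ := hDp.exists_le_sylow
  have hc : Nat.card S = 2 * Nat.card D := by
    rw [S.card_eq_multiplicity]
    rcases hX with e | e
    · rw [e, show Nat.card D = 8 by omega]; decide +kernel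
    · rw [e, show Nat.card D = 16 by omega]; decide +kernel
  set N := normalizer (S : Set X) with hN
  have key : ∀ x ∈ N, (x • a = a ∨ x • a = b) ∧ (x • b = a ∨ x • b = b) := by
    intro x hx
    have h3 : MulAut.conj x • D ≤ S :=
      (conj_smul_mono x hS).trans (conj_smul_eq_of_mem_normalizer hx).le
    have h4 := card_mul_card_le_of_le hS h3
    have h5 : D ⊓ MulAut.conj x • D ≠ ⊥ := fun h0 => by
      rw [h0, card_bot, card_conj_smul, hc] at h4
      have : 8 ≤ Nat.card D := by omega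
      nlinarith
    obtain ⟨⟨g, hg, hg'⟩, hg1⟩ := ne_bot_iff_exists_ne_one.mp h5
    replace hg1 : g ≠ 1 := fun e => hg1 (Subtype.ext e)
    have h6 : ∀ c, (x⁻¹ * g * x) • c = c → x • c = a ∨ x • c = b := fun c hc => by
      by_contra h7
      push Not at h7
      rw [mul_smul, mul_smul, inv_smul_eq_iff] at hc
      exact hg1 (h.three g a b _ hba.symm h7.2.symm h7.1.symm hg.1 hg.2 hc)
    exact ⟨h6 a (mem_conj_smul.mp hg').1, h6 b (mem_conj_smul.mp hg').2⟩
  have h3 : Nat.card N ≤ 2 * Nat.card D := by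
    rw [← (stabilizer N a).card_mul_index, mul_comm, index_stabilizer]
    refine Nat.mul_le_mul ?_ ?_
    · refine (Set.ncard_le_ncard (t := {a, b}) ?_).trans (Set.ncard_insert_le a {b} |>.trans (by simp))
      rintro _ ⟨x, rfl⟩
      exact (key x x.2).1
    · refine Nat.card_le_card_of_injective (fun x => ⟨((x : N) : X), x.2, ?_⟩)
        fun x y e => Subtype.ext (Subtype.ext (congrArg (fun z : D => (z : X)) e))
      refine ((key x x.1.2).2.resolve_left fun e => hba ?_)
      exact smul_left_cancel _ (e.trans (show ((x : N) : X) • a = a from x.2).symm)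
  have h4 := N.card_mul_index
  rw [S.card_eq_index_normalizer, ← hN]
  have h5 : 0 < Nat.card D := Nat.card_pos
  by_contra h6
  have : Nat.card N * N.index ≤ 2 * Nat.card D * 152 := Nat.mul_le_mul h3 (by omega)
  omega

theorem sylow_three (h : Data U) (hX : Nat.card X = 2448 ∨ Nat.card X = 4896) {r : X}
    (hr : orderOf r = 9) : 136 ≤ Nat.card (Sylow 3 X) := by
  have hp : Fact (Nat.Prime 3) := ⟨Nat.prime_three⟩
  have hne : Nonempty Ω := (Nat.card_pos_iff.mp (by rw [h.card]; norm_num)).1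
  obtain ⟨a⟩ := hne
  have hc : Nat.card (zpowers r) = 9 := by rw [Nat.card_zpowers, hr]
  let R : Sylow 3 X := Sylow.ofCard (zpowers r) (by
    rw [hc]; rcases hX with e | e <;> rw [e] <;> decide +kernel)
  have hfix : ∀ (i : ℕ) (c : Ω), r ^ i • c = c → 9 ∣ i := fun i c e => by
    have h1 := orderOf_dvd_natCard (stabilizer X c) e
    have h2 := (stabilizer X c).card_mul_index
    rw [h.index_stab] at h2
    have h3 : orderOf (r ^ i) ∣ 9 := hr ▸ orderOf_pow_dvd i
    have h4 : (Nat.card (stabilizer X c)).Coprime 9 := by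
      rcases hX with e | e
      · rw [show Nat.card (stabilizer X c) = 136 by omega]; norm_num
      · rw [show Nat.card (stabilizer X c) = 272 by omega]; norm_num
    rw [← hr, orderOf_dvd_iff_pow_eq_one, ← orderOf_eq_one_iff]
    exact Nat.eq_one_of_dvd_coprimes h4 h1 h3
  set C := centralizer (zpowers r : Set X) with hC
  have hC18 : Nat.card C ∣ 18 := by
    rw [← h.card]
    have : IsCancelSMul C Ω := isCancelSMul_iff_stabilizer_eq_bot.mpr fun c =>
      eq_bot_iff.mpr fun g hg => by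
        have h1 : ∀ i : ℕ, (g : X) • r ^ i • c = r ^ i • c := fun i => by
          rw [← mul_smul, ← g.2 _ (pow_mem (mem_zpowers r) i), mul_smul, show (g : X) • c = c from hg]
        refine Subtype.ext (h.three g c (r ^ 1 • c) (r ^ 2 • c) (fun e => ?_) (fun e => ?_)
          (fun e => ?_) hg (h1 1) (h1 2))
        · exact absurd (hfix 1 c e.symm) (by norm_num)
        · rw [pow_succ r 1, mul_smul, smul_left_cancel_iff, ← pow_one r] at e
          exact absurd (hfix 1 c e.symm) (by norm_num)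
        · exact absurd (hfix 2 c e.symm) (by norm_num)
    rw [Nat.card_congr (MulAction.selfEquivOrbitsQuotientProd (G := C)
      (isCancelSMul_iff_stabilizer_eq_bot.mp this)), Nat.card_prod]
    exact dvd_mul_left _ _
  set N := normalizer (zpowers r : Set X) with hN
  have h1 : C.relIndex N ∣ 6 := by
    have h2 := (zpowers r).normalizerMonoidHom.range.card_subgroup_dvd_card
    rw [← index_ker, normalizerMonoidHom_ker, IsCyclic.card_mulAut, hc] at h2
    exact h2
  have h2 : Nat.card N ∣ 18 * 6 := by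
    rw [← card_mul_relIndex_of_le (centralizer_le_normalizer _ : C ≤ N)]
    exact Nat.mul_dvd_mul hC18 h1
  have h3 := N.card_mul_index
  have h4 := card_sylow_modEq_one 3 X
  have h5 : Nat.card (Sylow 3 X) = N.index := R.card_eq_index_normalizer
  rw [h5] at h4 ⊢
  have h6 := Nat.le_of_dvd (by norm_num) h2
  generalize Nat.card N = n at *
  generalize N.index = m at *
  unfold Nat.ModEq at h4
  interval_cases n <;> omega

end Data

end Zass

theorem le_normalizer_of_card_le {G X : Type*} [Group G] [Finite G] [Group X] [Finite X]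
    (f : G →* X) (hf : Function.Surjective f) {p : ℕ} [Fact p.Prime]
    (h : Nat.card (Sylow p G) ≤ Nat.card (Sylow p X)) (P : Sylow p G) :
    f.ker ≤ normalizer (P : Set G) := by
  intro k hk
  have h1 := ((Sylow.mapSurjective_surjective hf p).bijective_of_nat_card_le h).1
  rw [← Sylow.smul_eq_iff_mem_normalizer]
  apply h1
  ext1
  rw [Sylow.coe_mapSurjective, Sylow.coe_mapSurjective, coe_sylow_smul, map_conj_smul,
    MonoidHom.mem_ker.mp hk, conj_one_smul]

theorem exists_sylow_subgroupOf {G : Type*} [Group G] [Finite G] (K : Subgroup G) [K.Normal]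
    {p : ℕ} [Fact p.Prime] (P : Sylow p G) :
    ∃ P' : Sylow p K, (P' : Subgroup K) = (P : Subgroup G).subgroupOf K := by
  refine ⟨P.isPGroup'.comap_subtype.toSylow fun hd => P.not_dvd_index (hd.trans ?_), rfl⟩
  have h2 := card_sup_mul_card_inf_of_le_normalizer (H := P) (N := K) le_normalizer_of_normal
  rw [← card_mul_relIndex_of_le (le_sup_right : (P : Subgroup G) ≤ K ⊔ P),
    ← card_inf_mul_relIndex (P : Subgroup G) K, inf_comm K] at h2
  have : 0 < Nat.card (P ⊓ K : Subgroup G) * Nat.card P := Nat.mul_pos Nat.card_pos Nat.card_pos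
  have h3 : (P : Subgroup G).relIndex K = (P : Subgroup G).relIndex (K ⊔ P) :=
    Nat.eq_of_mul_eq_mul_left this (by linarith)
  exact h3.dvd.trans (relIndex_dvd_index_of_le le_sup_right)

/-- If `K` normalises every Sylow `p`-subgroup then a Sylow `r`-subgroup `Q ≤ K` whose
number of conjugates has `p`-part too small is normalised by a Sylow `p`-subgroup of `K`. -/
theorem not_dvd_of_le {G : Type*} [Group G] [Finite G] {K : Subgroup G} [K.Normal] {p r : ℕ}
    [hp : Fact p.Prime] [Fact r.Prime] (hK : ∀ P : Sylow p G, K ≤ normalizer (P : Set G))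
    (Q : Sylow r G) (hQ : (Q : Subgroup G) ≤ K)
    (h : ∀ a, p ^ a ∣ Nat.card (Sylow r G) → p ^ a ≡ 1 [MOD r] → a = 0) :
    ¬ p ∣ Nat.card (Sylow r G) := by
  obtain ⟨P⟩ : Nonempty (Sylow p G) := inferInstance
  set T := (P : Subgroup G) ⊓ K with hT
  set N := normalizer (Q : Set G) with hN
  have hQN : (Q : Subgroup G) ≤ N := le_normalizer
  have hTK : K ≤ normalizer (T : Set G) := le_normalizer_inf (hK P) le_normalizer
  have hNK : N ⊔ K = ⊤ := by
    obtain ⟨Q', hQ'⟩ := Coprime.exists_sylow_map_eq hQ Q.isPGroup'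
      (fun hd => Q.not_dvd_index (hd.trans (relIndex_dvd_index_of_le hQ)))
    rw [hN, ← Sylow.coe_coe, ← hQ']
    exact Sylow.normalizer_sup_eq_top Q'
  have h1 : Nat.card (Sylow r G) = N.relIndex K := by
    rw [Q.card_eq_index_normalizer, ← hN]
    have h2 := card_sup_mul_card_inf_of_le_normalizer (H := N) (N := K) le_normalizer_of_normal
    rw [sup_comm, hNK, card_top, ← N.card_mul_index, ← card_inf_mul_relIndex N K, inf_comm K N] at h2
    have : 0 < Nat.card (N ⊓ K : Subgroup G) * Nat.card N := Nat.mul_pos Nat.card_pos Nat.card_pos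
    exact Nat.eq_of_mul_eq_mul_left this (by linarith)
  have h2 : N.relIndex T ∣ N.relIndex K := by
    have h3 := card_sup_mul_card_inf_of_le_normalizer (H := N ⊓ K) (N := T) (inf_le_right.trans hTK)
    have h4 : T ⊓ (N ⊓ K) = N ⊓ T := by
      rw [inf_left_comm, inf_eq_left.mpr (inf_le_right : T ≤ K)]
    rw [h4, ← card_inf_mul_relIndex N T, ← card_mul_relIndex_of_le (le_sup_right : N ⊓ K ≤ _)] at h3
    have : 0 < Nat.card (N ⊓ K : Subgroup G) * Nat.card (N ⊓ T : Subgroup G) :=
      Nat.mul_pos Nat.card_pos Nat.card_pos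
    have h5 : (N ⊓ K).relIndex (T ⊔ N ⊓ K) = N.relIndex T :=
      Nat.eq_of_mul_eq_mul_left this (by linarith)
    rw [← h5, ← inf_relIndex_right N K, ← relIndex_mul_relIndex _ _ _ (le_sup_right : N ⊓ K ≤ T ⊔ _)
      (sup_le inf_le_right inf_le_right)]
    exact dvd_mul_right _ _
  obtain ⟨a, ha⟩ : ∃ a, N.relIndex T = p ^ a :=
    (P.isPGroup'.to_inf_left (K := K)).index (N.subgroupOf T)
  have h3 : N.relIndex T ≡ 1 [MOD r] := by
    have hQT : (Q : Subgroup G) ≤ normalizer (T : Set G) := hQ.trans hTK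
    set Y := T ⊔ (Q : Subgroup G) with hY
    obtain ⟨Q', hQ'⟩ := Coprime.exists_sylow_map_eq (le_sup_right : (Q : Subgroup G) ≤ Y)
      Q.isPGroup' (fun hd => Q.not_dvd_index (hd.trans (relIndex_dvd_index_of_le le_sup_right)))
    have h4 := card_sylow_modEq_one r Y
    rw [Q'.card_eq_index_normalizer, ← relIndex_map_subtype, ← Sylow.coe_coe, map_subtype_normalizer,
      hQ', Sylow.coe_coe, ← hN, inf_relIndex_left] at h4
    have h5 := card_sup_mul_card_inf_of_le_normalizer hQT
    have h6 := card_sup_mul_card_inf_of_le_normalizer (H := Q) (N := N ⊓ T)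
      (le_normalizer_inf (hQN.trans le_normalizer) hQT)
    have h7 : N ⊓ T ⊔ Q = N ⊓ Y := by
      rw [inf_comm N Y, hY, sup_inf_assoc_of_le_normalizer' hQT hQN, inf_comm]
    rw [h7, inf_assoc, inf_eq_right.mpr (inf_le_right.trans hQN)] at h6
    rw [← hY, ← card_inf_mul_relIndex N Y, ← card_inf_mul_relIndex N T] at h5
    have : 0 < Nat.card (N ⊓ T : Subgroup G) * Nat.card Q := Nat.mul_pos Nat.card_pos Nat.card_pos
    rwa [Nat.eq_of_mul_eq_mul_left this (show _ * N.relIndex T = _ * N.relIndex Y by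
      rw [mul_right_comm, ← h5, ← h6, mul_right_comm])]
  rw [ha] at h2 h3
  rw [h a (h1 ▸ h2) h3, pow_zero, relIndex_eq_one] at ha
  rw [h1]
  intro hd
  obtain ⟨P', hP'⟩ := exists_sylow_subgroupOf K P
  refine P'.not_dvd_index (hd.trans (index_dvd_of_le ?_))
  rw [hP']
  exact fun x hx => ha ⟨hx, x.2⟩


theorem transitive_of_card {G : Type*} [Group G] [Finite G] [Fact (Nat.Prime 17)]
    (n17 : Nat.card (Sylow 17 G) = 18) (a b c : Sylow 17 G) (hb : b ≠ a) (hc : c ≠ a) :
    ∃ u ∈ (a : Subgroup G), u • b = c := by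
  obtain ⟨k, hk⟩ := a.isPGroup'.card_orbit b
  have h1 : orbit (a : Subgroup G) b ⊆ {a}ᶜ := by
    rintro _ ⟨u, rfl⟩ (e : (u : G) • b = a)
    rw [smul_eq_iff_eq_inv_smul, Sylow.smul_eq_iff_mem_normalizer.mpr
      (le_normalizer (inv_mem u.2))] at e
    exact hb e
  have h2 : ({a}ᶜ : Set (Sylow 17 G)).ncard = 17 := by
    have := Set.ncard_add_ncard_compl ({a} : Set (Sylow 17 G))
    rw [Set.ncard_singleton, n17] at this
    omega
  have h3 := Set.ncard_le_ncard h1
  rw [Nat.card_coe_set_eq] at hk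
  have hk0 : k ≠ 0 := by
    rintro rfl
    obtain ⟨d, hd⟩ := Set.ncard_eq_one.mp hk
    have h4 : b ∈ fixedPoints (a : Subgroup G) (Sylow 17 G) := fun u => by
      have h5 : u • b ∈ ({d} : Set (Sylow 17 G)) := hd ▸ mem_orbit b u
      have h6 : b ∈ ({d} : Set (Sylow 17 G)) := hd ▸ mem_orbit_self b
      exact h5.trans h6.symm
    rw [IsPGroup.sylow_mem_fixedPoints_iff a.isPGroup'] at h4
    exact hb (Sylow.ext (a.is_maximal' b.isPGroup' h4))
  have h4 : 17 ≤ 17 ^ k := Nat.le_self_pow hk0 17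
  have h5 := Set.eq_of_subset_of_ncard_le h1 (by omega)
  obtain ⟨u, hu⟩ : c ∈ orbit (a : Subgroup G) b := h5 ▸ hc
  exact ⟨u, u.2, hu⟩

theorem data_of_card {G : Type*} [Group G] [Finite G] [Fact (Nat.Prime 17)]
    (n17 : Nat.card (Sylow 17 G) = 18) :
    Data (fun a : Sylow 17 G => (a : Subgroup G).map (toPermHom G (Sylow 17 G)).rangeRestrict) := by
  set f := (toPermHom G (Sylow 17 G)).rangeRestrict with hfdef
  have hf : Function.Surjective f := MonoidHom.rangeRestrict_surjective _
  have htr := transitive_of_card n17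
  refine ⟨inferInstance, n17, fun a => ?_, ?_, fun g a => ?_, fun a b c hb hc => ?_⟩
  · obtain ⟨k, hk⟩ := IsPGroup.iff_card.mp (a.isPGroup'.map f)
    have h1 := (card_subgroup_dvd_card ((a : Subgroup G).map f)).trans
      (card_subgroup_dvd_card (toPermHom G (Sylow 17 G)).range)
    rw [Nat.card_perm, n17, hk] at h1
    have h2 : k < 2 := by
      by_contra h2
      exact absurd ((pow_dvd_pow 17 (not_lt.mp h2)).trans h1) (by decide +kernel)
    have h3 : k ≠ 0 := by
      rintro rfl
      have := Fintype.ofFinite (Sylow 17 G)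
      obtain ⟨b, c, d, h4, h5, h6⟩ := Fintype.two_lt_card_iff.mp (show 2 < Fintype.card
        (Sylow 17 G) by rw [← Nat.card_eq_fintype_card]; omega)
      have key : ∀ b c : Sylow 17 G, b ≠ a → c ≠ a → b = c := fun b c hb hc => by
        obtain ⟨u, hu, rfl⟩ := htr a b c hb hc
        have h7 := mem_map_of_mem f hu
        rw [card_eq_one.mp hk, mem_bot] at h7
        show b = f u • b
        rw [h7, one_smul]
      by_cases hb : b = a
      · exact h6 (key c d (hb ▸ h4.symm) (hb ▸ h5.symm))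
      by_cases hc : c = a
      · exact h5 (key b d hb (hc ▸ h6.symm))
      · exact h4 (key b c hb hc)
    rw [hk, show k = 1 by omega, pow_one]
  · rintro a _ ⟨u, hu, rfl⟩
    exact Sylow.smul_eq_iff_mem_normalizer.mpr (le_normalizer hu)
  · obtain ⟨g, rfl⟩ := hf g
    rw [← map_conj_smul, ← coe_sylow_smul]
    rfl
  · obtain ⟨u, hu, e⟩ := htr a b c hb hc
    exact ⟨f u, mem_map_of_mem f hu, e⟩

theorem eq_bot_of_normalizes {G : Type*} [Group G] [Finite G] (hZ : center G = ⊥)
    (K : Subgroup G) [K.Normal]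
    (hall : ∀ (r : ℕ) [Fact r.Prime], ∀ P : Sylow r G, K ≤ normalizer (P : Set G)) : K = ⊥ := by
  by_contra h0
  obtain ⟨s, hs, hd⟩ := Nat.exists_prime_and_dvd (fun h => h0 (card_eq_one.mp h))
  have := Fact.mk hs
  obtain ⟨S⟩ : Nonempty (Sylow s G) := inferInstance
  obtain ⟨S', hS'⟩ := exists_sylow_subgroupOf K S
  have h1 : (S : Subgroup G) ⊓ K ≠ ⊥ := fun h1 => S'.ne_bot_of_dvd_card hd (by
    rw [hS', eq_bot_iff]
    intro x hx
    exact Subtype.ext (mem_bot.mp (h1 ▸ (⟨hx, x.2⟩ : (x : G) ∈ (S : Subgroup G) ⊓ K))))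
  have h2 := PG.inf_centralizer_ne_bot_of_isNilpotent S.isPGroup'.isNilpotent inf_le_left
    (le_normalizer_inf le_normalizer le_normalizer_of_normal) h1
  obtain ⟨⟨z, ⟨hzS, hzK⟩, hzC⟩, hz1⟩ := ne_bot_iff_exists_ne_one.mp h2
  refine hz1 (Subtype.ext (mem_bot.mp (hZ ▸ ?_)))
  have h5 : ((S : Subgroup G) ⊓ K).Normal := by
    rw [← normalizer_eq_top_iff, eq_top_iff, ← Sylow.normalizer_sup_eq_top S']
    refine sup_le ?_ (le_normalizer_inf (hall s S) le_normalizer)
    rw [hS', subgroupOf_map_subtype]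
  have h3 : centralizer ({z} : Set G) = ⊤ := by
    rw [← index_eq_one]
    by_contra h4
    obtain ⟨r, hr, hrd⟩ := Nat.exists_prime_and_dvd h4
    have := Fact.mk hr
    by_cases hrs : r = s
    · subst hrs
      exact S.not_dvd_index (hrd.trans (index_dvd_of_le fun x hx =>
        mem_centralizer_singleton_iff.mpr (hzC x hx)))
    obtain ⟨P⟩ : Nonempty (Sylow r G) := inferInstance
    refine P.not_dvd_index (hrd.trans (index_dvd_of_le fun x hx =>
      mem_centralizer_singleton_iff.mpr ?_))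
    exact le_centralizer_of_disjoint (H := P) (K := (S : Subgroup G) ⊓ K)
      le_normalizer_of_normal (inf_le_right.trans (hall r P))
      (disjoint_iff.mp (IsPGroup.disjoint_of_ne r s hrs _ _ P.isPGroup'
        S.isPGroup'.to_inf_left)) hx z ⟨hzS, hzK⟩ |>.symm
  exact mem_center_iff.mpr fun g => mem_centralizer_singleton_iff.mp (h3 ▸ mem_top g)

theorem normalizes_all {G : Type*} [Group G] [Finite G] (K : Subgroup G) [K.Normal]
    [p2 : Fact (Nat.Prime 2)] [p3 : Fact (Nat.Prime 3)] [p17 : Fact (Nat.Prime 17)]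
    (hmem : ∀ r : ℕ, r.Prime → r ∣ Nat.card G → Nat.card (Sylow r G) = 18 ∨
      Nat.card (Sylow r G) = 136 ∨ Nat.card (Sylow r G) = 153)
    (hX : K.index = 2448 ∨ K.index = 4896)
    (k2 : ∀ P : Sylow 2 G, K ≤ normalizer (P : Set G))
    (k3 : ∀ P : Sylow 3 G, K ≤ normalizer (P : Set G))
    (k17 : ∀ P : Sylow 17 G, K ≤ normalizer (P : Set G))
    (r : ℕ) [hr : Fact r.Prime] (P : Sylow r G) : K ≤ normalizer (P : Set G) := by
  by_cases h2 : r = 2
  · subst h2; exact k2 P
  by_cases h3 : r = 3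
  · subst h3; exact k3 P
  by_cases h17 : r = 17
  · subst h17; exact k17 P
  by_cases hd : r ∣ Nat.card G
  swap
  · have : (P : Subgroup G) = ⊥ := card_eq_one.mp (P.isPGroup'.card_eq_or_dvd.resolve_right
      fun h => hd (h.trans (card_subgroup_dvd_card _)))
    rw [← Sylow.coe_coe, this]
    exact le_normalizer_of_normal
  exfalso
  have hPK : (P : Subgroup G) ≤ K := le_of_coprime_card_index
    (coprime_card_of_isPGroup P.isPGroup' (by
      have h4 : (2 ^ 5 * 3 ^ 2 * 17).Coprime r :=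
        (((Nat.coprime_primes p2.out hr.out).mpr (Ne.symm h2)).pow_left 5).mul_left
          (((Nat.coprime_primes p3.out hr.out).mpr (Ne.symm h3)).pow_left 2) |>.mul_left
          ((Nat.coprime_primes p17.out hr.out).mpr (Ne.symm h17))
      exact h4.coprime_dvd_left (by rcases hX with e | e <;> rw [e] <;> norm_num)))
  have h4 := (Nat.modEq_iff_dvd' Nat.card_pos).mp (card_sylow_modEq_one r G).symm
  rcases hmem r hr.out hd with e | e | e <;> rw [e] at h4
  · exact h17 ((Nat.prime_dvd_prime_iff_eq hr.out p17.out).mp h4)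
  · obtain rfl : r = 5 := by
      rcases (hr.out.dvd_mul (m := 3 ^ 3) (n := 5)).mp h4 with h | h
      · exact absurd ((Nat.prime_dvd_prime_iff_eq hr.out p3.out).mp (hr.out.dvd_of_dvd_pow h)) h3
      · exact (Nat.prime_dvd_prime_iff_eq hr.out (by norm_num)).mp h
    refine not_dvd_of_le k2 P hPK (fun a ha hm => ?_) (by rw [e]; norm_num)
    rw [e] at ha
    have : a < 4 := by
      by_contra h6
      exact absurd ((pow_dvd_pow 2 (not_lt.mp h6)).trans ha) (by norm_num)
    unfold Nat.ModEq at hm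
    interval_cases a <;> omega
  · obtain rfl : r = 19 := by
      rcases (hr.out.dvd_mul (m := 2 ^ 3) (n := 19)).mp h4 with h | h
      · exact absurd ((Nat.prime_dvd_prime_iff_eq hr.out p2.out).mp (hr.out.dvd_of_dvd_pow h)) h2
      · exact (Nat.prime_dvd_prime_iff_eq hr.out (by norm_num)).mp h
    refine not_dvd_of_le k3 P hPK (fun a ha hm => ?_) (by rw [e]; norm_num)
    rw [e] at ha
    have : a < 3 := by
      by_contra h6
      exact absurd ((pow_dvd_pow 3 (not_lt.mp h6)).trans ha) (by norm_num)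
    unfold Nat.ModEq at hm
    interval_cases a <;> omega


/-- Let G be a finite group with trivial centre whose set of Sylow numbers (numbers of Sylow r-subgroups, r over the prime divisors of its order) is exactly {18, 136, 153}. Then G is isomorphic to PSL(2, 17) or to PGL(2, 17). -/
theorem result {G : Type*} [Group G] [Finite G] (hZ : Subgroup.center G = ⊥) (hNS : {c : ℕ | ∃ r : ℕ, r.Prime ∧ r ∣ Nat.card G ∧ c = Nat.card (Sylow r G)} = ({18, 136, 153} : Set ℕ))
    {F : Type*} [Field F] [Fintype F] (hF : Fintype.card F = 17) :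
    Nonempty (G ≃* Matrix.ProjectiveSpecialLinearGroup (Fin 2) F) ∨ Nonempty (G ≃* (GL (Fin 2) F ⧸ Subgroup.center (GL (Fin 2) F))) := by
  have hmem : ∀ r : ℕ, r.Prime → r ∣ Nat.card G → Nat.card (Sylow r G) = 18 ∨
      Nat.card (Sylow r G) = 136 ∨ Nat.card (Sylow r G) = 153 := fun r hr hd => by
    have : Nat.card (Sylow r G) ∈ ({18, 136, 153} : Set ℕ) := hNS ▸ ⟨r, hr, hd, rfl⟩
    simpa using this
  have h18 : 18 ∣ Nat.card G ∧ 136 ∣ Nat.card G := by
    have h1 : ∀ c ∈ ({18, 136, 153} : Set ℕ), c ∣ Nat.card G := fun c hc => by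
      rw [← hNS] at hc
      obtain ⟨r, hr, -, rfl⟩ := hc
      have := Fact.mk hr
      exact Sylow.card_dvd_index (Classical.arbitrary _) |>.trans (index_dvd_card _)
    exact ⟨h1 18 (by simp), h1 136 (by simp)⟩
  have p2 : Fact (Nat.Prime 2) := ⟨Nat.prime_two⟩
  have p3 : Fact (Nat.Prime 3) := ⟨Nat.prime_three⟩
  have p17 : Fact (Nat.Prime 17) := ⟨by norm_num⟩
  have n2 : Nat.card (Sylow 2 G) = 153 := by
    have h1 := card_sylow_modEq_one 2 G
    have h2 := hmem 2 p2.out (by omega)
    unfold Nat.ModEq at h1; omega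
  have n3 : Nat.card (Sylow 3 G) = 136 := by
    have h1 := card_sylow_modEq_one 3 G
    have h2 := hmem 3 p3.out (by omega)
    unfold Nat.ModEq at h1; omega
  have n17 : Nat.card (Sylow 17 G) = 18 := by
    have h1 := card_sylow_modEq_one 17 G
    have h2 := hmem 17 p17.out (by omega)
    unfold Nat.ModEq at h1; omega
  let f := (toPermHom G (Sylow 17 G)).rangeRestrict
  have hf : Function.Surjective f := MonoidHom.rangeRestrict_surjective _
  have hD := data_of_card n17
  have hiso := hD.iso hF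
  have hX := hiso.imp And.left And.left
  obtain ⟨r, hr⟩ : ∃ r : (toPermHom G (Sylow 17 G)).range, orderOf r = 9 := by
    have hc : CharP F 17 := charP_of_card_eq_prime hF
    obtain ⟨x, hx⟩ : 9 ∈ Set.range (orderOf : Matrix.ProjectiveSpecialLinearGroup (Fin 2) F → ℕ) := by
      rw [Cfsg.Agent.S2475.result 17 (by omega), hF]
      exact Or.inr (Or.inr (by norm_num))
    rcases hiso with ⟨-, ⟨e⟩⟩ | ⟨-, ⟨e⟩⟩
    · exact ⟨e.symm x, by rw [MulEquiv.orderOf_eq, hx]⟩
    · exact ⟨e.symm (Cfsg.Lib.Class.pslEquivPsl2 F x), by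
        rw [MulEquiv.orderOf_eq, orderOf_coe, MulEquiv.orderOf_eq, hx]⟩
  have k2 := le_normalizer_of_card_le f hf (n2 ▸ hD.sylow_two hX)
  have k3 := le_normalizer_of_card_le f hf (n3 ▸ hD.sylow_three hX hr)
  have k17 : ∀ P : Sylow 17 G, f.ker ≤ normalizer (P : Set G) := fun P k hk => by
    rw [← Sylow.smul_eq_iff_mem_normalizer]
    show f k • P = P
    rw [MonoidHom.mem_ker.mp hk, one_smul]
  have hK : f.ker = ⊥ := eq_bot_of_normalizes hZ _ (normalizes_all _ hmem (by
    rwa [index_ker, MonoidHom.range_eq_top.mpr hf, card_top]) k2 k3 k17)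
  have e := MulEquiv.ofBijective f ⟨(MonoidHom.ker_eq_bot_iff f).mp hK, hf⟩
  exact hiso.imp (fun ⟨_, ⟨e'⟩⟩ => ⟨e.trans e'⟩) (fun ⟨_, ⟨e'⟩⟩ => ⟨e.trans e'⟩)

end Cfsg.Agent.S3641
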