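import Cfsg.Statements.S3642
import Cfsg.Agent.Inst.S0422
import Cfsg.Agent.Cond.S3642

set_option autoImplicit false
open Cfsg

namespace Cfsg.Agent.S3642

/-- Let M be one of the Mathieu groups M₁₁, M₂₂, M₂₃, M₂₄ and let G be a finite group of the same order as M whose character degree graph equals that of M (same set of primes dividing some irreducible complex character degree, and the same pairs of distinct primes whose product divides some degree). Then G is isomorphic to M. -/
theorem result {M : Type*} [Group M] [Finite M] (hM : Cfsg.Spor.IsoM11 M ∨ Cfsg.Spor.IsoM22 M ∨ Cfsg.Spor.IsoM23 M ∨ Cfsg.Spor.IsoM24 M)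
    {G : Type*} [Group G] [Finite G] (hcard : Nat.card G = Nat.card M) (hΔ : Cfsg.degreePrimes G = Cfsg.degreePrimes M ∧ Cfsg.degreeGraph G = Cfsg.degreeGraph M) :
    Nonempty (G ≃* M) := by
  revert M hM G hcard hΔ
  exact @Cfsg.Agent.Gate.S3642.out Cfsg.Agent.Cond.S3642

end Cfsg.Agent.S3642
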