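import Cfsg.Statements.S4774
import Cfsg.Agent.Known.PSL2Deg

set_option autoImplicit false
open Cfsg

namespace Cfsg.Agent.S4774

open Cfsg.Lib.Known Cfsg.Lib.Known.GL2 Matrix Cfsg.Lib.Char

/-- Let F be a finite field of odd characteristic t with q > 5 elements and let S be isomorphic to PSL(2,F) or to SL(2,F). Then the vertices of the character degree graph of S are the primes dividing q(q²−1); the prime t is adjacent to no vertex; two distinct primes dividing q² − 1 are adjacent exactly when one of them is 2, or both divide q + 1, or both divide q − 1. -/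
theorem result (F : Type*) [Field F] [Fintype F] (t : ℕ) [Fact t.Prime] [CharP F t] (ht : t ≠ 2) (q : ℕ) (hq : Fintype.card F = q) (h5 : 5 < q) {S : Type*} [Group S] [Finite S] (hS : Nonempty (S ≃* Matrix.ProjectiveSpecialLinearGroup (Fin 2) F) ∨ Nonempty (S ≃* Matrix.SpecialLinearGroup (Fin 2) F)) : Cfsg.degreePrimes S = {r : ℕ | r.Prime ∧ r ∣ q * (q ^ 2 - 1)} ∧ ∀ r s : ℕ, (Cfsg.degreeGraph S).Adj r s ↔ (r ≠ s ∧ r.Prime ∧ s.Prime ∧ r ∣ q ^ 2 - 1 ∧ s ∣ q ^ 2 - 1 ∧ (r = 2 ∨ s = 2 ∨ (r ∣ q + 1 ∧ s ∣ q + 1) ∨ (r ∣ q - 1 ∧ s ∣ q - 1))) := by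
  subst hq
  have h2 : (2 : F) ≠ 0 := two_ne_zero_of_charP t ht
  have he := Nat.odd_iff.1 (odd_card_of_two_ne_zero h2)
  obtain ⟨h3, h6⟩ := charDegrees_between (F := F) hS
  have d1 := h3 card_mem_charDegrees_PSL
  have d2 := h3 (card_add_one_mem_charDegrees_PSL (Or.inl h5))
  have d3 := h3 (card_sub_one_mem_charDegrees_PSL (by omega))
  have e : Fintype.card F ^ 2 - 1 = (Fintype.card F + 1) * (Fintype.card F - 1) := by
    rw [← Nat.sq_sub_sq]
  have t1 : 2 ∣ Fintype.card F + 1 := by omega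
  have t2 : 2 ∣ Fintype.card F - 1 := by omega
  obtain ⟨n, htp, hn⟩ := FiniteField.card F t
  refine ⟨Set.ext fun r => and_congr_right fun hr => ⟨?_, ?_⟩, fun r s => and_congr_right fun hrs =>
    and_congr_right fun hr => and_congr_right fun hs => ⟨?_, ?_⟩⟩
  · rintro ⟨d, hd, h⟩
    rw [e]
    rcases mem_charDegrees_SL (h6 hd) with rfl | rfl | rfl | rfl | ⟨-, rfl⟩ | ⟨-, rfl⟩
    · exact h.trans (one_dvd _)
    · exact h.mul_right _
    · exact (h.mul_right _).mul_left _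
    · exact (h.mul_left _).mul_left _
    · exact ((h.trans (Nat.div_dvd_of_dvd t1)).mul_right _).mul_left _
    · exact ((h.trans (Nat.div_dvd_of_dvd t2)).mul_left _).mul_left _
  · rw [e, hr.dvd_mul, hr.dvd_mul]
    rintro (h | h | h)
    exacts [⟨_, d1, h⟩, ⟨_, d2, h⟩, ⟨_, d3, h⟩]
  · rintro ⟨d, hd, h⟩
    have h1 := dvd_of_mul_right_dvd h
    have h1' := dvd_of_mul_left_dvd h
    rw [e]
    have k1 : r ∣ Fintype.card F + 1 → s ∣ Fintype.card F + 1 → _ := fun a b =>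
      (⟨a.mul_right _, b.mul_right _, Or.inr (Or.inr (Or.inl ⟨a, b⟩))⟩ :
        r ∣ (Fintype.card F + 1) * (Fintype.card F - 1) ∧
        s ∣ (Fintype.card F + 1) * (Fintype.card F - 1) ∧ (r = 2 ∨ s = 2 ∨
        (r ∣ Fintype.card F + 1 ∧ s ∣ Fintype.card F + 1) ∨
        (r ∣ Fintype.card F - 1 ∧ s ∣ Fintype.card F - 1)))
    have k2 : r ∣ Fintype.card F - 1 → s ∣ Fintype.card F - 1 → _ := fun a b =>
      (⟨a.mul_left _, b.mul_left _, Or.inr (Or.inr (Or.inr ⟨a, b⟩))⟩ :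
        r ∣ (Fintype.card F + 1) * (Fintype.card F - 1) ∧
        s ∣ (Fintype.card F + 1) * (Fintype.card F - 1) ∧ (r = 2 ∨ s = 2 ∨
        (r ∣ Fintype.card F + 1 ∧ s ∣ Fintype.card F + 1) ∨
        (r ∣ Fintype.card F - 1 ∧ s ∣ Fintype.card F - 1)))
    rcases mem_charDegrees_SL (h6 hd) with rfl | rfl | rfl | rfl | ⟨-, rfl⟩ | ⟨-, rfl⟩
    · exact absurd (Nat.dvd_one.1 h1) hr.ne_one
    · rw [hn] at h1 h1'
      exact absurd (((Nat.prime_dvd_prime_iff_eq hr htp).1 (hr.dvd_of_dvd_pow h1)).trans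
        ((Nat.prime_dvd_prime_iff_eq hs htp).1 (hs.dvd_of_dvd_pow h1')).symm) hrs
    · exact k1 h1 h1'
    · exact k2 h1 h1'
    · exact k1 (h1.trans (Nat.div_dvd_of_dvd t1)) (h1'.trans (Nat.div_dvd_of_dvd t1))
    · exact k2 (h1.trans (Nat.div_dvd_of_dvd t2)) (h1'.trans (Nat.div_dvd_of_dvd t2))
  · have hc := (Nat.coprime_primes hr hs).2 hrs
    rw [e, hr.dvd_mul, hs.dvd_mul]
    rintro ⟨h1, h1', rfl | rfl | h | h⟩
    · rcases h1' with h | h
      exacts [⟨_, d2, hc.mul_dvd_of_dvd_of_dvd t1 h⟩, ⟨_, d3, hc.mul_dvd_of_dvd_of_dvd t2 h⟩]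
    · rcases h1 with h | h
      exacts [⟨_, d2, hc.mul_dvd_of_dvd_of_dvd h t1⟩, ⟨_, d3, hc.mul_dvd_of_dvd_of_dvd h t2⟩]
    exacts [⟨_, d2, hc.mul_dvd_of_dvd_of_dvd h.1 h.2⟩, ⟨_, d3, hc.mul_dvd_of_dvd_of_dvd h.1 h.2⟩]

end Cfsg.Agent.S4774
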