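import Cfsg.Statements.S4775
import Cfsg.Agent.Known.SzTable2

set_option autoImplicit false
open Cfsg

namespace Cfsg.Agent.S4775

open Cfsg.Lib.Chev Cfsg.Lib.Char Cfsg.Lib.Known.SzChar in
theorem degrees {F : Type*} [Field F] [Fintype F] {τ : Tw F} {G : Type*} [Group G] (M : SzModel τ G)
    {m : ℕ} (hm : 1 ≤ m) (hF : Fintype.card F = 2 ^ (2 * m + 1)) :
    ∃ a a' : ℕ, a * a' = Fintype.card F ^ 2 + 1 ∧ ∀ d, d ∈ charDegrees G ↔
      d = 1 ∨ d = Fintype.card F ^ 2 ∨ d = Fintype.card F ^ 2 + 1 ∨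
      d = 2 ^ m * (Fintype.card F - 1) ∨ d = (Fintype.card F - 1) * a ∨
      d = (Fintype.card F - 1) * a' := by
  have := M.finite
  have := Fintype.ofFinite G
  obtain ⟨A, A', h⟩ := exists_pair M hm hF
  obtain ⟨W, W', hW, hW'⟩ := h.exists_rowW hF
  have hr : (2 : ℂ) ^ m ≠ 0 := by simp
  have h' : Pair M A A' (2 * 2 ^ m) := by convert h using 1; ring
  have hdeg : ∀ (χ : G → ℂ) (d : ℕ), χ 1 = d → charDegree χ = d := fun χ d h => by
    simp [charDegree, h]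
  have hq : ((Fintype.card F - 1 : ℕ) : ℂ) = Fintype.card F - 1 := by
    rw [Nat.cast_sub Fintype.card_pos, Nat.cast_one]
  have d1 : charDegree (St M) = Fintype.card F ^ 2 := hdeg _ _ (by simp [St_one])
  have d2 : ∀ χ, RowI M χ → charDegree χ = Fintype.card F ^ 2 + 1 := fun χ h =>
    hdeg _ _ (by simp [h.one])
  have d3 : ∀ ε χ, RowW M A A' 1 (2 ^ m) ε χ → charDegree χ = 2 ^ m * (Fintype.card F - 1) :=
    fun ε χ h => hdeg _ _ (by simp [h.one, hq])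
  have d4 : ∀ {A A' : Subgroup G} {s : ℂ}, Pair M A A' s → ∀ χ, RowY M A A' s χ →
      charDegree χ = (Fintype.card F - 1) * Nat.card A' := fun h χ hχ =>
    hdeg _ _ (by rw [hχ.one, Nat.cast_mul, hq, h.card'])
  refine ⟨Nat.card A, Nat.card A', ?_, fun d => ⟨?_, ?_⟩⟩
  · have : (Nat.card A : ℂ) * Nat.card A' = Fintype.card F ^ 2 + 1 := by
      rw [h.card, h.card']
      linear_combination -h.hs
    exact_mod_cast this
  · rintro ⟨⟨χ, hχ⟩, rfl⟩
    by_cases h1 : χ = fun _ => 1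
    · exact Or.inl (hdeg _ _ (by simp [h1]))
    by_cases h2 : χ = St M
    · exact Or.inr (Or.inl (h2 ▸ d1))
    by_cases h3 : χ = W
    · exact Or.inr (Or.inr (Or.inr (Or.inl (d3 _ _ (h3 ▸ hW)))))
    by_cases h4 : χ = W'
    · exact Or.inr (Or.inr (Or.inr (Or.inl (d3 _ _ (h4 ▸ hW')))))
    rcases h'.classify hr hW hW' hχ h1 h2 h3 h4 with h5 | h5 | h5
    · exact Or.inr (Or.inr (Or.inl (d2 _ h5)))
    · exact Or.inr (Or.inr (Or.inr (Or.inr (Or.inr (d4 h' _ h5)))))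
    · exact Or.inr (Or.inr (Or.inr (Or.inr (Or.inl (d4 h'.symm _ h5)))))
  · rintro (rfl | rfl | rfl | rfl | rfl | rfl)
    · exact ⟨⟨_, isIrrCharacter_one⟩, hdeg _ _ (by simp)⟩
    · exact ⟨⟨_, St_irr M⟩, d1⟩
    · obtain ⟨l, hl⟩ := M.exists_unit_ne_one
      obtain ⟨lam, hlam⟩ := exists_monoidHom_apply_ne_one_of_comm mul_comm hl
      have h1 := rowI_IB (M := M) (lam := lam) fun h => hlam (by simp [h])
      exact ⟨⟨_, h1.irr⟩, d2 _ h1⟩
    · exact ⟨⟨_, hW.irr⟩, d3 _ _ hW⟩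
    · obtain ⟨lam, hl⟩ := h.t'.exists_char
      have h1 : Pair M A' A (2 * -1 * 2 ^ m) := by convert h.symm using 1; ring
      have h2 := h1.rowY (Or.inr rfl) hr hW.symm hW'.symm hl
      exact ⟨⟨_, h2.irr⟩, d4 h1 _ h2⟩
    · obtain ⟨lam, hl⟩ := h.t.exists_char
      have h1 : Pair M A A' (2 * 1 * 2 ^ m) := by convert h using 1; ring
      have h2 := h1.rowY (Or.inl rfl) hr hW hW' hl
      exact ⟨⟨_, h2.irr⟩, d4 h1 _ h2⟩

/-- Let F be a finite field with q = 2^(2m+1) ≥ 8 elements and let S be isomorphic to the Suzuki group over F. Then the vertices of the character degree graph of S are 2 and the primes dividing (q − 1)(q² + 1); the primes dividing (q − 1)(q² + 1) are pairwise adjacent, and 2 is adjacent exactly to the primes dividing q − 1. -/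
theorem result (F : Type*) [Field F] [Fintype F] (m : ℕ) (hm : 1 ≤ m) (q : ℕ) (hq : Fintype.card F = q) (hqm : q = 2 ^ (2 * m + 1)) {S : Type*} [Group S] [Finite S] (hS : Nonempty (S ≃* ↥(Cfsg.Lie.Sz F (2 ^ (m + 1))))) : Cfsg.degreePrimes S = {r : ℕ | r.Prime ∧ (r = 2 ∨ r ∣ (q - 1) * (q ^ 2 + 1))} ∧ ∀ r s : ℕ, (Cfsg.degreeGraph S).Adj r s ↔ (r ≠ s ∧ r.Prime ∧ s.Prime ∧ ((r ∣ (q - 1) * (q ^ 2 + 1) ∧ s ∣ (q - 1) * (q ^ 2 + 1)) ∨ (r = 2 ∧ s ∣ q - 1) ∨ (s = 2 ∧ r ∣ q - 1))) := by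
  obtain ⟨e⟩ := hS
  obtain ⟨a, a', haa, hd⟩ := degrees ((Cfsg.Lib.Chev.lieSzModel hm (hq.trans hqm)).ofEquiv e) hm
    (hq.trans hqm)
  rw [hq] at haa hd
  have hq2 : 2 ∣ q := hqm ▸ dvd_pow_self 2 (by omega)
  have hq0 : 1 ≤ q := hqm ▸ Nat.one_le_two_pow
  have o1 : ¬ 2 ∣ q - 1 := by omega
  have o2 : ¬ 2 ∣ q ^ 2 + 1 := by
    have : 2 ∣ q ^ 2 := hq2.trans (dvd_pow_self q two_ne_zero)
    omega
  have hm2 : 2 ∣ 2 ^ m := dvd_pow_self 2 (by omega)
  have p2 : ∀ {r k : ℕ}, r.Prime → r ∣ 2 ^ k → r = 2 := fun hr h =>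
    (Nat.prime_dvd_prime_iff_eq hr Nat.prime_two).mp (hr.dvd_of_dvd_pow h)
  have pq : ∀ {r : ℕ}, r.Prime → r ∣ q ^ 2 → r = 2 := fun hr h =>
    p2 hr (hqm ▸ hr.dvd_of_dvd_pow h)
  have da : (q - 1) * a ∣ (q - 1) * (q ^ 2 + 1) := haa ▸ mul_dvd_mul_left _ (dvd_mul_right a a')
  have da' : (q - 1) * a' ∣ (q - 1) * (q ^ 2 + 1) := haa ▸ mul_dvd_mul_left _ (dvd_mul_left a' a)
  have e3 := (hd _).mpr (Or.inr (Or.inr (Or.inl rfl)))
  have e4 := (hd _).mpr (Or.inr (Or.inr (Or.inr (Or.inl rfl))))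
  have e5 := (hd _).mpr (Or.inr (Or.inr (Or.inr (Or.inr (Or.inl rfl)))))
  have e6 := (hd _).mpr (Or.inr (Or.inr (Or.inr (Or.inr (Or.inr rfl)))))
  constructor
  · ext r
    constructor
    · rintro ⟨hr, d, h1, h2⟩
      refine ⟨hr, ?_⟩
      rcases (hd d).mp h1 with rfl | rfl | rfl | rfl | rfl | rfl
      · exact absurd (Nat.dvd_one.mp h2) hr.ne_one
      · exact Or.inl (pq hr h2)
      · exact Or.inr (h2.mul_left _)
      · exact (hr.dvd_mul.mp h2).imp (p2 hr) fun h => h.mul_right _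
      · exact Or.inr (h2.trans da)
      · exact Or.inr (h2.trans da')
    · rintro ⟨hr, rfl | h⟩
      · exact ⟨hr, _, e4, hm2.mul_right _⟩
      · rcases hr.dvd_mul.mp h with h | h
        · exact ⟨hr, _, e4, h.mul_left _⟩
        · exact ⟨hr, _, e3, h⟩
  · intro r s
    constructor
    · rintro ⟨hrs, hr, hs, d, h1, h2⟩
      refine ⟨hrs, hr, hs, ?_⟩
      have h3 : r ∣ d := (dvd_mul_right r s).trans h2
      have h4 : s ∣ d := (dvd_mul_left s r).trans h2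
      rcases (hd d).mp h1 with rfl | rfl | rfl | rfl | rfl | rfl
      · exact absurd (Nat.dvd_one.mp h3) hr.ne_one
      · exact absurd ((pq hr h3).trans (pq hs h4).symm) hrs
      · exact Or.inl ⟨h3.mul_left _, h4.mul_left _⟩
      · rcases hr.dvd_mul.mp h3 with h5 | h5 <;> rcases hs.dvd_mul.mp h4 with h6 | h6
        · exact absurd ((p2 hr h5).trans (p2 hs h6).symm) hrs
        · exact Or.inr (Or.inl ⟨p2 hr h5, h6⟩)
        · exact Or.inr (Or.inr ⟨p2 hs h6, h5⟩)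
        · exact Or.inl ⟨h5.mul_right _, h6.mul_right _⟩
      · exact Or.inl ⟨h3.trans da, h4.trans da⟩
      · exact Or.inl ⟨h3.trans da', h4.trans da'⟩
    · rintro ⟨hrs, hr, hs, h⟩
      have hc : Nat.Coprime r s := (Nat.coprime_primes hr hs).mpr hrs
      refine ⟨hrs, hr, hs, ?_⟩
      suffices ∃ d ∈ charDegrees S, r ∣ d ∧ s ∣ d by
        obtain ⟨d, h1, h2, h3⟩ := this
        exact ⟨d, h1, hc.mul_dvd_of_dvd_of_dvd h2 h3⟩
      rcases h with ⟨h1, h2⟩ | ⟨rfl, h⟩ | ⟨rfl, h⟩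
      · rcases hr.dvd_mul.mp h1 with h1 | h1 <;> rcases hs.dvd_mul.mp h2 with h2 | h2
        · exact ⟨_, e4, h1.mul_left _, h2.mul_left _⟩
        · rcases hs.dvd_mul.mp (haa ▸ h2) with h2 | h2
          · exact ⟨_, e5, h1.mul_right _, h2.mul_left _⟩
          · exact ⟨_, e6, h1.mul_right _, h2.mul_left _⟩
        · rcases hr.dvd_mul.mp (haa ▸ h1) with h1 | h1
          · exact ⟨_, e5, h1.mul_left _, h2.mul_right _⟩
          · exact ⟨_, e6, h1.mul_left _, h2.mul_right _⟩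
        · exact ⟨_, e3, h1, h2⟩
      · exact ⟨_, e4, hm2.mul_right _, h.mul_left _⟩
      · exact ⟨_, e4, h.mul_left _, hm2.mul_right _⟩

end Cfsg.Agent.S4775
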