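import Cfsg.Statements.S3664
import Cfsg.Agent.Perm.SpecNorm
import Cfsg.Agent.Perm.FastF2
import Cfsg.Agent.Chev.SuzukiAut
import Cfsg.Agent.Chev.SuzukiPart
import Cfsg.Agent.Class.SpOrder
import Cfsg.Agent.S2469
import Cfsg.Agent.S2472
import Cfsg.Agent.S2474

set_option autoImplicit false
open Cfsg

namespace Cfsg.Agent.S3664

open Cfsg.Lib.Perm Cfsg.Lib.Chev Matrix

/-- The common prime graph. -/
def Gr (G : Type*) [Group G] : Prop :=
  (∀ p : ℕ, p.Prime → p ∣ Nat.card G → p ∈ [2, 3, 5, 7, 13]) ∧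
    (∀ n ∈ [6, 10, 13, 14, 15], n ∈ Set.range (orderOf : G → ℕ)) ∧
    ∀ n ∈ [21, 26, 35, 39, 65, 91], n ∉ Set.range (orderOf : G → ℕ)

theorem Gr.adj {G : Type*} [Group G] [Finite G] (h : Gr G) :
    (∀ p : ℕ, p.Prime → (p ∣ Nat.card G ↔ p ∈ [2, 3, 5, 7, 13])) ∧
    ∀ p q : ℕ, p.Prime → q.Prime → p ≠ q →
      ((∃ g : G, orderOf g = p * q) ↔ p * q ∈ [6, 10, 14, 15]) := by
  refine ⟨fun p hp => ⟨h.1 p hp, fun hm => ?_⟩, fun p q hp hq hpq => ⟨fun ⟨g, hg⟩ => ?_,
    fun hm => h.2.1 _ (by revert hm; generalize p * q = n; simp; omega)⟩⟩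
  · obtain ⟨n, hn, hd⟩ : ∃ n ∈ [6, 10, 13, 14, 15], p ∣ n := by
      revert hm; generalize p = p; revert p; decide
    obtain ⟨g, rfl⟩ := h.2.1 n hn
    exact hd.trans (orderOf_dvd_natCard g)
  · have h1 := hg ▸ orderOf_dvd_natCard g
    have h2 : p * q ∉ [21, 26, 35, 39, 65, 91] := fun hm => h.2.2 _ hm ⟨g, hg⟩
    have k : ∀ p ∈ [2, 3, 5, 7, 13], ∀ q ∈ [2, 3, 5, 7, 13], p ≠ q →
      p * q ∉ [21, 26, 35, 39, 65, 91] → p * q ∈ [6, 10, 14, 15] := by decide
    exact k p (h.1 p hp (dvd_of_mul_right_dvd h1)) q (h.1 q hq (dvd_of_mul_left_dvd h1)) hpq h2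

theorem Gr.same {G H : Type*} [Group G] [Finite G] [Group H] [Finite H] (h : Gr G) (h' : Gr H) :
    SamePrimeGraph G H :=
  ⟨fun p hp => (h.adj.1 p hp).trans (h'.adj.1 p hp).symm,
    fun p q hp hq hpq => (h.adj.2 p q hp hq hpq).trans (h'.adj.2 p q hp hq hpq).symm⟩

theorem prime_mem {p a b c : ℕ} (hp : p.Prime) (h : p ∣ 2 ^ a * 3 ^ b * 5 ^ c * 7 * 13) :
    p ∈ [2, 3, 5, 7, 13] := by
  simp only [hp.dvd_mul] at h
  rcases h with (((h | h) | h) | h) | h
  all_goals first
    | simp [(Nat.prime_dvd_prime_iff_eq hp (by norm_num)).1 (hp.dvd_of_dvd_pow h)]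
    | simp [(Nat.prime_dvd_prime_iff_eq hp (by norm_num)).1 h]

section Sp

open Cfsg.Lib.Known Cfsg.Lib.Class Polynomial Cfsg.Agent.S2362

theorem gr_psp {F : Type*} [Field F] [Fintype F] (hF : Fintype.card F = 3) : Gr (PSp 3 F) := by
  have : Fact (Nat.Prime 3) := ⟨Nat.prime_three⟩
  have : CharP F 3 := charP_of_card_eq_prime hF
  have hodd : Odd (Fintype.card F) := by rw [hF]; decide
  have h20 := two_ne_zero_of_odd_card hodd
  have o5 : orderOf ((Fintype.card F : ℕ) : ZMod 5) = 4 := by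
    rw [hF, orderOf_eq_iff (by norm_num)]; decide
  have o7 : orderOf ((Fintype.card F : ℕ) : ZMod 7) = 6 := by
    rw [hF, orderOf_eq_iff (by norm_num)]; decide
  have o13 : orderOf ((Fintype.card F : ℕ) : ZMod 13) = 3 := by
    rw [hF, orderOf_eq_iff (by norm_num)]; decide
  have e13 : 13 ∈ Set.range (orderOf : PSp 3 F → ℕ) :=
    torus_mem_spec_PSp (by norm_num) (by rw [hF]; norm_num) (by norm_num)
  have e14 : 14 ∈ Set.range (orderOf : PSp 3 F → ℕ) :=
    torus_mem_spec_PSp (by norm_num) (by rw [hF]; norm_num) (by norm_num)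
  have e10 : 5 * 2 ∈ Set.range (orderOf : PSp 3 F → ℕ) := by
    obtain ⟨θ, h0, h2, hθ, hd⟩ := exists_piece_prime (K := F) 3 Nat.prime_five (by norm_num)
      (by norm_num)
    have hs := noPM_piece h0 h2 one_pos
    have h4 := spReal_X_sub_one (F := F) one_pos
    refine mul_mem_spec_PSp_of_add h20 hs.spReal h4 (piece_ne_zero _ _) (by simp) ?_
      ((hs.spReal.add h4).dvd_tOrd_of_odd (by decide) (hθ ▸ (hs.spReal.add h4).isGLType.orderOf_dvd_gOrd
        (eig_add.mpr (Or.inl (eig_piece_self _ _))))) (by norm_num)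
    rw [elDeg_piece h0, elDeg_singleton, natDegree_X_sub_one, hd, o5]
    rfl
  have n26 : 26 ∉ Set.range (orderOf : PSp 3 F → ℕ) := fun h1 => by
    obtain ⟨σ, hσ, hd, h2⟩ := mem_spec_PSp_iff.mp h1
    obtain ⟨θ, e, t, h0, -, h8, he0, ht, rfl⟩ := hσ.exists_piece_of_prime_dvd 3 (r := 13)
      (by norm_num) (by norm_num) (by norm_num)
      ((show 13 ∣ 26 by norm_num).trans (h2 ▸ hσ.isGLType.tOrd_dvd_gOrd))
    rw [elDeg_add, elDeg_piece h0] at hd
    have h3 := two_mul_eta_le_pdeg h0 (r := 13) (by norm_num) (by norm_num) h8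
    rw [o13, show etaO 3 = 3 from rfl] at h3
    obtain rfl : e = 1 := by
      by_contra h5
      have := Nat.mul_le_mul_left (pdeg (RingHom.id F) θ) (show 2 ≤ e by omega)
      omega
    obtain rfl : t = 0 := by
      by_contra h
      have := ht.isGLType.1.elDeg_pos h
      omega
    rw [add_zero] at h2 hσ
    have h4 := (halfT_spec hodd h0 (k := 3) (by norm_num) (by norm_num) h8 (by omega)).1
    rw [hF, show halfT 3 3 13 = 13 from rfl] at h4
    refine absurd (h2 ▸ (hσ.isGLType.tOrd_dvd_iff' 3 (k := 13) (by norm_num)).mpr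
      ⟨?_, fun x hx => ?_⟩) (by norm_num)
    · suffices ∀ θ', Eig (piece (RingHom.id F) θ 1) θ' → θ' ^ 13 = θ ^ 13 from
        fun _ _ h h' => (this _ h).trans (this _ h').symm
      intro θ' h
      rw [pow_mul', pow_two, mul_self_eq_one_iff] at h4
      obtain ⟨j, rfl | rfl⟩ := (eig_piece_id h0).mp h <;> rcases h4 with h4 | h4 <;>
        simp [pow_right_comm θ _ 13, h4, hodd.pow.neg_one_pow]
    · rw [snd_of_mem_piece hx]
      exact Nat.ordProj_pos _ _
  have d : ∀ {n r : ℕ}, n ∈ Set.range (orderOf : PSp 3 F → ℕ) → r ∣ n → r ∣ Nat.card (PSp 3 F) :=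
    fun ⟨g, hg⟩ h => h.trans (hg ▸ orderOf_dvd_natCard g)
  have d5 := d e10 (r := 5) (by norm_num)
  have d7 := d e14 (r := 7) (by norm_num)
  have d13 := d e13 (r := 13) dvd_rfl
  refine ⟨fun p hp h => prime_mem (a := 10) (b := 9) (c := 1) hp ?_, ?_, ?_⟩
  · have h1 := h.trans (Subgroup.card_quotient_dvd_card _)
    rwa [card_symplecticGroup, hF, show spOrd 3 3 = 2 ^ 10 * 3 ^ 9 * 5 ^ 1 * 7 * 13 by
      decide +kernel] at h1
  · simp only [List.mem_cons, List.not_mem_nil, or_false, forall_eq_or_imp, forall_eq]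
    refine ⟨(S2474.two_char 3 hodd (by norm_num)).2, e10, e13, e14, ?_⟩
    by_contra h
    exact absurd ((S2472.result 3 3 (by norm_num) (by norm_num) 5 Nat.prime_five (by norm_num)
      (by norm_num) d5 4 2 o5.symm (by decide)).1 h) (by norm_num)
  · simp only [List.mem_cons, List.not_mem_nil, or_false, forall_eq_or_imp, forall_eq]
    exact ⟨(S2472.result 3 3 (by norm_num) (by norm_num) 7 (by norm_num) (by norm_num)
      (by norm_num) d7 6 3 o7.symm (by decide)).2 (by norm_num), n26,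
      (S2469.result 3 3 (by norm_num) (by norm_num) 5 7 (by norm_num) (by norm_num) (by norm_num)
        (by norm_num) (by norm_num) (by norm_num) (by norm_num) d5 d7 4 6 2 3 o5.symm o7.symm
        (by decide) (by decide) (by norm_num)).2 ⟨by norm_num, by rintro ⟨t, -, h⟩; omega⟩,
      (S2472.result 3 3 (by norm_num) (by norm_num) 13 (by norm_num) (by norm_num)
        (by norm_num) d13 3 3 o13.symm (by decide)).2 (by norm_num),
      (S2469.result 3 3 (by norm_num) (by norm_num) 5 13 (by norm_num) (by norm_num) (by norm_num)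
        (by norm_num) (by norm_num) (by norm_num) (by norm_num) d5 d13 4 3 2 3 o5.symm o13.symm
        (by decide) (by decide) (by norm_num)).2 ⟨by norm_num, by rintro ⟨t, -, h⟩; omega⟩,
      (S2469.result 3 3 (by norm_num) (by norm_num) 7 13 (by norm_num) (by norm_num) (by norm_num)
        (by norm_num) (by norm_num) (by norm_num) (by norm_num) d7 d13 6 3 3 3 o7.symm o13.symm
        (by decide) (by decide) (by norm_num)).2 ⟨by norm_num, by rintro ⟨t, -, h⟩; omega⟩⟩

end Sp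

/-- Elements of the field with eight elements by their codes. -/
abbrev e (n : ℕ) : T8 := T8.c n

/-- Four by four matrices. -/
abbrev M4 : Type := Matrix (Fin 4) (Fin 4) T8

theorem h8 : Fintype.card T8 = 2 ^ (2 * 1 + 1) := rfl

/-- The Suzuki group. -/
abbrev S : Type := Cfsg.Lie.Sz T8 (2 ^ (1 + 1))

/-- Its matrix model. -/
noncomputable abbrev M : SzModel (Tw.ofCard h8) S := lieSzModel le_rfl h8

instance instFiniteS : Finite S := M.finite

/-- The Suzuki group extended by the field automorphisms. -/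
abbrev K : Type := S ⋊[M.fieldAut] (T8 ≃+* T8)

/-- The Frobenius automorphism. -/
def φ : T8 ≃+* T8 where
  toFun x := x * x
  invFun x := x * x * (x * x)
  left_inv := by unfold Function.LeftInverse; decide +kernel
  right_inv := by unfold Function.RightInverse Function.LeftInverse; decide +kernel
  map_mul' := by decide +kernel
  map_add' := by decide +kernel

theorem card_aut : Nat.card (T8 ≃+* T8) = 3 := by
  let _ : Algebra (ZMod 2) T8 := ZMod.algebra T8 2
  rw [FieldAut.card_aut 2, finrank_zmod_two (by rw [Nat.card_eq_fintype_card, h8])]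

instance instFiniteAut : Finite (T8 ≃+* T8) := Nat.finite_of_card_ne_zero (by rw [card_aut]; decide)

instance instFiniteK : Finite K := Finite.of_equiv _ SemidirectProduct.equivProd.symm

theorem card_K : Nat.card K = 87360 := by
  rw [SemidirectProduct.card, M.card_G, card_aut]; rfl

theorem exists_el (A : M4) (h : Aᵀ * szJ T8 * A = szJ T8 ∧ Cfsg.Lie.star4 A = A.map (· ^ 4)) :
    ∃ g : S, M.ρ g = A := M.ρ_surj A (Tw.isSz_of_star _ h.1 h.2)

/-- The representation on the tensor product of the natural module and its twist. -/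
noncomputable def ρ : Representation ℤ K M4 where
  toFun g :=
    { toFun := fun X => M.ρ g.left * X.map g.right * ((M.ρ g.left).map φ)ᵀ
      map_add' := fun X Y => by rw [Matrix.map_add _ (map_add _), mul_add, add_mul]
      map_smul' := fun n X => by
        rw [Matrix.map_smul _ _ (map_zsmul g.right n), mul_smul_comm, smul_mul_assoc]; rfl }
  map_one' := LinearMap.ext fun X => by
    have : X.map (1 : T8 ≃+* T8) = X := rfl
    simp [this]
  map_mul' g h := LinearMap.ext fun X => by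
    have h1 : ∀ A : M4, (A.map g.right).map φ = (A.map φ).map g.right := fun A => by
      ext1 i j; exact (map_mul g.right _ _).symm
    have h2 : X.map (g.right * h.right) = (X.map h.right).map g.right := rfl
    have h3 : ∀ (τ : T8 ≃+* T8) (A B : M4), (A * B).map τ = A.map τ * B.map τ := fun τ A B =>
      Matrix.map_mul (f := (τ : T8 →+* T8))
    simp only [SemidirectProduct.mul_left, SemidirectProduct.mul_right, map_mul, M.ρ_fieldAut,
      LinearMap.coe_mk, AddHom.coe_mk, Module.End.mul_apply, h1, h2, h3, Matrix.transpose_mul,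
      Matrix.transpose_map, mul_assoc]

theorem ρ_inl (g : S) (X : M4) :
    ρ (SemidirectProduct.inl g) X = M.ρ g * X * ((M.ρ g).map φ)ᵀ := rfl

theorem orderOf_inl {g : S} {A : M4} (hg : M.ρ g = A) {p : ℕ} (hp : p.Prime) (h1 : A ^ p = 1)
    (h2 : A ≠ 1) : orderOf (SemidirectProduct.inl g : K) = p := by
  have := Fact.mk hp
  rw [orderOf_injective _ SemidirectProduct.inl_injective, ← orderOf_injective M.ρ M.ρ_inj, hg]
  exact orderOf_eq_prime h1 h2

theorem φ_cube : φ * φ * φ = 1 := RingEquiv.ext (by decide +kernel)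

theorem φ_ne : φ ≠ 1 := fun h => absurd (RingEquiv.congr_fun h (e 2)) (by decide +kernel)

theorem orderOf_three {g : S} {A : M4} (hg : M.ρ g = A)
    (h : A * A.map φ * (A.map φ).map φ = 1) : orderOf (⟨g, φ⟩ : K) = 3 := by
  have : Fact (Nat.Prime 3) := ⟨Nat.prime_three⟩
  refine orderOf_eq_prime ?_ fun h => φ_ne (congrArg SemidirectProduct.right h)
  rw [pow_three']
  refine SemidirectProduct.ext (M.ρ_inj ?_) φ_cube
  simp only [SemidirectProduct.mul_left, SemidirectProduct.mul_right, map_mul, M.ρ_fieldAut, hg,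
    SemidirectProduct.one_left, map_one, MulAut.mul_apply]
  exact h

theorem spec_S {g : K} (h : ¬ 3 ∣ orderOf g) : IsPrimePow (orderOf g) ∨ orderOf g = 1 := by
  have h1 : g.right = 1 := by
    have h2 : orderOf g.right ∣ orderOf g := orderOf_map_dvd SemidirectProduct.rightHom g
    have h3 := orderOf_dvd_natCard g.right
    rw [card_aut, Nat.dvd_prime Nat.prime_three] at h3
    exact orderOf_eq_one_iff.1 (h3.resolve_right fun e => h (e ▸ h2))
  have h2 : g = SemidirectProduct.inl g.left := SemidirectProduct.ext rfl h1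
  rw [h2, orderOf_injective _ SemidirectProduct.inl_injective]
  generalize g.left = x
  by_cases hx : x = 1
  · exact Or.inr (by simp [hx])
  refine Or.inl ?_
  obtain ⟨U, ⟨hU, hm⟩, -⟩ := M.existsUnique_part hx
  have h3 := Subgroup.orderOf_dvd_natCard _ hm
  have h4 : ∀ p k : ℕ, p.Prime → orderOf x ∣ p ^ k → IsPrimePow (orderOf x) := fun p k hp hd => by
    obtain ⟨j, -, hj⟩ := (Nat.dvd_prime_pow hp).1 hd
    exact ⟨p, j, hp.prime, Nat.pos_of_ne_zero (by rintro rfl; exact hx (by simpa using hj)), hj.symm⟩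
  rcases (M.isPart_iff le_rfl h8).1 hU with ⟨P, rfl⟩ | ⟨-, h | h | h⟩
  · exact h4 2 _ Nat.prime_two (P.card_eq_multiplicity ▸ h3)
  · exact h4 7 1 (by norm_num) (h3.trans (dvd_of_eq h))
  · exact h4 13 1 (by norm_num) (h3.trans (dvd_of_eq h))
  · exact h4 5 1 (by norm_num) (h3.trans (dvd_of_eq h))

theorem not_mem_K {r k : ℕ} (hr : r.Prime) (h2 : ¬ r ^ 2 ∣ 87360) {A B A' : M4}
    (hA : Aᵀ * szJ T8 * A = szJ T8 ∧ Cfsg.Lie.star4 A = A.map (· ^ 4))
    (hB : Bᵀ * szJ T8 * B = szJ T8 ∧ Cfsg.Lie.star4 B = B.map (· ^ 4)) (h1 : A ^ r = 1)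
    (hk : A ^ k = A') (h : A ≠ 1 ∧ B * B.map φ * (B.map φ).map φ = 1 ∧ B * A.map φ = A' * B ∧
      A' * B ≠ A * B) : r * 3 ∉ Set.range (orderOf : K → ℕ) := by
  obtain ⟨x, hx⟩ := exists_el A hA
  obtain ⟨y, hy⟩ := exists_el B hB
  refine mul_not_mem_range_orderOf_of_normalizes hr Nat.prime_three (card_K ▸ h2)
    (by rw [card_K]; norm_num) (orderOf_inl hx hr h1 h.1) (orderOf_three hy h.2.1) (k := k) ?_
    fun e => h.2.2.2 ?_
  · rw [mul_inv_eq_iff_eq_mul, ← map_pow SemidirectProduct.inl]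
    have h3 : M.ρ (x ^ k) = A' := by rw [map_pow, hx, hk]
    generalize x ^ k = z at h3
    refine SemidirectProduct.ext (M.ρ_inj ?_) (by simp)
    simpa [M.ρ_fieldAut, hx, hy, h3] using h.2.2.1
  · have := congrArg (fun z : K => M.ρ z.left) e
    simpa [M.ρ_fieldAut, hx, hy, h.2.2.1] using this

/-- An element of order five. -/
def A₅ : M4 := !![1, 1, 0, 1; 1, 0, 1, 0; 0, 1, 0, 0; 1, 0, 0, 0]
/-- An element of order seven. -/
def A₇ : M4 := !![e 7, 0, 0, 0; 0, e 2, 0, 0; 0, 0, e 5, 0; 0, 0, 0, e 4]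
/-- An element of order thirteen. -/
def A₁₃ : M4 := !![e 7, e 3, 0, 1; e 3, 0, 1, 0; 0, 1, 0, 0; 1, 0, 0, 0]

theorem pow5 : A₅ ^ 5 = 1 := by
  have h2 : A₅ * A₅ = !![1, 1, 1, 1; 1, 0, 0, 1; 1, 0, 1, 0; 1, 1, 0, 1] := by decide +kernel
  rw [show A₅ ^ 5 = A₅ * A₅ * (A₅ * A₅) * A₅ by simp only [pow_succ, pow_zero, one_mul, mul_assoc], h2]
  decide +kernel

theorem pow7 : A₇ ^ 7 = 1 := by
  have h3 : A₇ * A₇ * A₇ = !![e 2, 0, 0, 0; 0, e 3, 0, 0; 0, 0, e 6, 0; 0, 0, 0, e 5] := by decide +kernel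
  rw [show A₇ ^ 7 = A₇ * A₇ * A₇ * (A₇ * A₇ * A₇) * A₇ by
    simp only [pow_succ, pow_zero, one_mul, mul_assoc], h3]
  decide +kernel

theorem pow3 : A₁₃ ^ 3 = !![e 2, 1, e 2, e 7; 1, e 6, e 4, e 2; e 2, e 4, 0, e 3; e 7, e 2, e 3, e 7] := by rw [pow_three']; decide +kernel

theorem pow13 : A₁₃ ^ 13 = 1 := by
  have h6 : (!![e 2, 1, e 2, e 7; 1, e 6, e 4, e 2; e 2, e 4, 0, e 3; e 7, e 2, e 3, e 7] : M4) ^ 2 = !![e 2, e 2, e 2, e 2; e 2, 1, 1, e 2; e 2, 1, e 7, e 4; e 2, e 2, e 4, 1] := by rw [pow_two]; decide +kernel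
  rw [show 13 = 3 * 2 * 2 + 1 from rfl, pow_succ, pow_mul, pow_mul, pow3, h6, pow_two]
  decide +kernel

theorem fpf {g : K} (hg : orderOf g = 13) {X : M4} (h : ρ g X = X) : X = 0 := by
  obtain ⟨x, hx⟩ := exists_el A₁₃ (by decide +kernel)
  refine fpf_of_sq_not_dvd ρ (by norm_num) (by rw [card_K]; norm_num)
    (g₀ := SemidirectProduct.inl x) ?_ (fun X hX => ?_) hg h
  · rw [← map_pow, ← orderOf_inl hx (by norm_num) pow13 (by decide +kernel), pow_orderOf_eq_one,
      map_one]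
  · rw [ρ_inl, hx] at hX
    let C : M4 := !![0, 0, 0, 1; 0, 0, 1, 0; 0, 1, 0, e 5; 1, 0, e 5, e 3]
    have h1 : SemiconjBy X C A₁₃ := by
      rw [SemiconjBy, ← hX, mul_assoc, show (A₁₃.map φ)ᵀ * C = 1 by decide +kernel, mul_one, hX]
    have h2 := h1.mul_right h1
    have h3 := ((((h2.mul_right h2).add_right ((h2.mul_right h1).smul_right (e 3))).add_right
      (h2.smul_right (e 7))).add_right (h1.smul_right (e 3))).add_right (SemiconjBy.one_right X)
    rw [SemiconjBy, show C * C * (C * C) + e 3 • (C * C * C) + e 7 • (C * C) + e 3 • C + 1 = 0 by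
      decide +kernel, mul_zero, show A₁₃ * A₁₃ * (A₁₃ * A₁₃) + e 3 • (A₁₃ * A₁₃ * A₁₃) +
      e 7 • (A₁₃ * A₁₃) + e 3 • A₁₃ + 1 = !![e 7, e 7, e 5, 0; e 7, e 6, e 2, e 5; e 5, e 2, e 2, e 7; 0, e 5, e 7, e 3] by decide +kernel] at h3
    rw [← one_mul X, ← show (!![e 4, e 5, e 7, e 5; e 5, e 6, e 4, e 7; e 7, e 4, e 4, 1; e 5, e 7, 1, 0] : M4) * !![e 7, e 7, e 5, 0; e 7, e 6, e 2, e 5; e 5, e 2, e 2, e 7; 0, e 5, e 7, e 3] = 1 by decide +kernel, mul_assoc, ← h3, mul_zero]

theorem gr_aff : Gr (Aff ρ) := by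
  have hV : ∀ X : M4, 2 • X = 0 := fun X => by
    ext1 i j; exact CharTwo.two_nsmul (X i j)
  have hm := mem_range_orderOf_aff ρ Nat.prime_two hV
  obtain ⟨x5, h5⟩ := exists_el A₅ (by decide +kernel)
  obtain ⟨x7, h7⟩ := exists_el A₇ (by decide +kernel)
  obtain ⟨x13, h13⟩ := exists_el A₁₃ (by decide +kernel)
  have o5 := orderOf_inl h5 (by norm_num) pow5 (by decide +kernel)
  have o3 := orderOf_three (g := 1) (map_one _) (by simp)
  have k : ∀ n, ¬ 3 ∣ n → ¬ IsPrimePow n → n ≠ 1 → n ∉ Set.range (orderOf : K → ℕ) := by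
    rintro _ h1 h2 h3 ⟨g, rfl⟩
    exact (spec_S h1).elim h2 h3
  have k' : ∀ n, Odd n → n ∉ Set.range (orderOf : K → ℕ) →
      n ∉ Set.range (orderOf : Aff ρ → ℕ) := fun n h1 h2 h3 => by
    rcases (hm n).1 h3 with h | ⟨g, v, -, rfl⟩
    · exact h2 h
    · exact h1.not_two_dvd_nat (dvd_mul_left _ _)
  have np : ∀ p q : ℕ, p.Prime → q.Prime → p ≠ q → ¬ IsPrimePow (p * q) := fun p q hp hq h h' => by
    rcases ((Nat.coprime_primes hp hq).2 h).isPrimePow_dvd_mul h' |>.1 dvd_rfl with h1 | h1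
    · exact hq.ne_one (Nat.dvd_one.1 (Nat.dvd_of_mul_dvd_mul_left hp.pos (by simpa using h1)))
    · exact hp.ne_one (Nat.dvd_one.1 (Nat.dvd_of_mul_dvd_mul_right hq.pos (by simpa using h1)))
  refine ⟨fun p hp h => prime_mem (a := 54) (b := 1) (c := 1) hp ?_, ?_, ?_⟩
  · rw [card_aff, card_K] at h
    simpa [Matrix, Nat.card_eq_fintype_card, T8.card] using h
  · simp only [List.mem_cons, List.not_mem_nil, or_false, forall_eq_or_imp, forall_eq]
    refine ⟨two_mul_mem_range_orderOf_aff ρ hV o3 (by decide) one_ne_zero ?_,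
      two_mul_mem_range_orderOf_aff ρ hV o5 (by decide) (v := !![0, 0, 0, 1; 0, 0, 1, 0; 0, 1, 0, 0; 1, 0, 0, 0]) (by decide +kernel) ?_,
      (hm _).2 (Or.inl ⟨_, orderOf_inl h13 (by norm_num) pow13 (by decide +kernel)⟩),
      two_mul_mem_range_orderOf_aff ρ hV (orderOf_inl h7 (by norm_num) pow7 (by decide +kernel))
        (by decide) (v := !![0, 1, 0, 0; 0, 0, 0, 0; 0, 0, 0, 0; 0, 0, 0, 0]) (by decide +kernel) ?_, (hm _).2 (Or.inl ⟨SemidirectProduct.inl x5 *
        ⟨1, φ⟩, ?_⟩)⟩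
    · simp [ρ]
    · rw [ρ_inl, h5]; decide +kernel
    · rw [ρ_inl, h7]; decide +kernel
    · rw [Commute.orderOf_mul_eq_mul_orderOf_of_coprime ?_ (by rw [o5, o3]; norm_num), o5, o3]
      refine SemidirectProduct.ext (M.ρ_inj ?_) (by simp)
      simpa [M.ρ_fieldAut, h5] using show A₅ = A₅.map φ by decide +kernel
  · simp only [List.mem_cons, List.not_mem_nil, or_false, forall_eq_or_imp, forall_eq]
    refine ⟨k' _ (by decide) (not_mem_K (r := 7) (by norm_num) (by norm_num) (B := 1)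
      (by decide +kernel) (by decide +kernel) pow7 (pow_two _) (by decide +kernel)), fun h => ?_,
      k' _ (by decide) (k _ (by norm_num) (np 5 7 (by norm_num) (by norm_num) (by norm_num))
        (by norm_num)),
      k' _ (by decide) (not_mem_K (r := 13) (by norm_num) (by norm_num) (B := !![e 2, e 5, e 3, e 5; 0, e 3, e 4, e 6; 0, 0, e 6, e 4; 0, 0, 0, e 5])
        (by decide +kernel) (by decide +kernel) pow13 pow3 (by decide +kernel)),
      k' _ (by decide) (k _ (by norm_num) (np 5 13 (by norm_num) (by norm_num) (by norm_num))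
        (by norm_num)),
      k' _ (by decide) (k _ (by norm_num) (np 7 13 (by norm_num) (by norm_num) (by norm_num))
        (by norm_num))⟩
    rcases (hm _).1 h with h | ⟨g, v, hv, hg⟩
    · exact k _ (by norm_num) (np 2 13 (by norm_num) (by norm_num) (by norm_num)) (by norm_num) h
    · exact hv (fpf (by omega) (apply_repNorm ρ (pow_orderOf_eq_one g) v))


/-- The prime graph of a finite group has the prime divisors of its order as vertices, two distinct primes p, q being joined when the group has an element of order pq; two groups have the same prime graph when they have the same prime divisors and the same joined pairs. Let F be the field with 3 elements and L = PSp(6,F). There are finite groups of arbitrarily large order with the same prime graph as L (a prime graph shared by the orthogonal groups Ω₇(3) and PΩ⁺₈(3)). -/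
theorem result {F : Type*} [Field F] [Fintype F] (hF : Fintype.card F = 3) (N : ℕ) :
    ∃ (H : Type) (_ : Group H) (_ : Finite H), N < Nat.card H ∧
      ((∀ p : ℕ, p.Prime → (p ∣ Nat.card (Cfsg.PSp 3 F) ↔ p ∣ Nat.card H)) ∧
      (∀ p q : ℕ, p.Prime → q.Prime → p ≠ q → ((∃ g : (Cfsg.PSp 3 F), orderOf g = p * q) ↔ (∃ g : H, orderOf g = p * q)))) := by
  obtain ⟨H, _, _, h1, h2⟩ := exists_large_samePrimeGraph ((gr_psp hF).same gr_aff) (affTrans ρ)
    (affTrans_ne_bot ρ) (affTrans_isSolvable ρ) N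
  exact ⟨H, inferInstance, inferInstance, by rwa [Nat.card_eq_fintype_card], h2⟩

end Cfsg.Agent.S3664
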