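import Cfsg.Statements.S4812
import Cfsg.Agent.Known.PSL2Deg

set_option autoImplicit false
open Cfsg

namespace Cfsg.Agent.S4812

open Cfsg.Lib.Known Cfsg.Lib.Known.GL2 Matrix Cfsg.Lib.Char

/-- Let F be a finite field of characteristic 2 with q ≥ 4 elements and let S be isomorphic to PSL(2,F) or to SL(2,F). Then the vertices of the character degree graph of S are the primes dividing q(q²−1), and two distinct primes are adjacent exactly when both divide q + 1 or both divide q − 1; so the graph has the three connected components {2}, the primes dividing q + 1 and the primes dividing q − 1, each complete. -/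
theorem result (F : Type*) [Field F] [Fintype F] [CharP F 2] (q : ℕ) (hq : Fintype.card F = q) (h4 : 4 ≤ q) {S : Type*} [Group S] [Finite S] (hS : Nonempty (S ≃* Matrix.ProjectiveSpecialLinearGroup (Fin 2) F) ∨ Nonempty (S ≃* Matrix.SpecialLinearGroup (Fin 2) F)) : Cfsg.degreePrimes S = {r : ℕ | r.Prime ∧ r ∣ q * (q ^ 2 - 1)} ∧ ∀ r s : ℕ, (Cfsg.degreeGraph S).Adj r s ↔ (r ≠ s ∧ r.Prime ∧ s.Prime ∧ ((r ∣ q + 1 ∧ s ∣ q + 1) ∨ (r ∣ q - 1 ∧ s ∣ q - 1))) := by
  subst hq
  have h2 : (2 : F) = 0 := CharP.cast_eq_zero F 2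
  have he := Nat.even_iff.1 (even_card_of_two_eq_zero h2)
  obtain ⟨h3, h5⟩ := charDegrees_between (F := F) hS
  have d1 := h3 card_mem_charDegrees_PSL
  have d2 := h3 (card_add_one_mem_charDegrees_PSL (Or.inr ⟨h2, h4⟩))
  have d3 := h3 (card_sub_one_mem_charDegrees_PSL h4)
  have e : Fintype.card F ^ 2 - 1 = (Fintype.card F + 1) * (Fintype.card F - 1) := by
    rw [← Nat.sq_sub_sq]
  obtain ⟨n, -, hn⟩ := FiniteField.card F 2
  refine ⟨Set.ext fun r => and_congr_right fun hr => ⟨?_, ?_⟩, fun r s => and_congr_right fun hrs =>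
    and_congr_right fun hr => and_congr_right fun hs => ⟨?_, ?_⟩⟩
  · rintro ⟨d, hd, h⟩
    rw [e]
    rcases mem_charDegrees_SL (h5 hd) with rfl | rfl | rfl | rfl | h | h
    · exact h.trans (one_dvd _)
    · exact h.mul_right _
    · exact (h.mul_right _).mul_left _
    · exact (h.mul_left _).mul_left _
    · omega
    · omega
  · rw [e, hr.dvd_mul, hr.dvd_mul]
    rintro (h | h | h)
    exacts [⟨_, d1, h⟩, ⟨_, d2, h⟩, ⟨_, d3, h⟩]
  · rintro ⟨d, hd, h⟩
    have h1 := dvd_of_mul_right_dvd h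
    have h1' := dvd_of_mul_left_dvd h
    rcases mem_charDegrees_SL (h5 hd) with rfl | rfl | rfl | rfl | h | h
    · exact absurd (Nat.dvd_one.1 h1) hr.ne_one
    · rw [hn] at h1 h1'
      exact absurd (((Nat.prime_dvd_prime_iff_eq hr Nat.prime_two).1 (hr.dvd_of_dvd_pow h1)).trans
        ((Nat.prime_dvd_prime_iff_eq hs Nat.prime_two).1 (hs.dvd_of_dvd_pow h1')).symm) hrs
    · exact Or.inl ⟨h1, h1'⟩
    · exact Or.inr ⟨h1, h1'⟩
    · omega
    · omega
  · have hc := (Nat.coprime_primes hr hs).2 hrs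
    rintro (h | h)
    exacts [⟨_, d2, hc.mul_dvd_of_dvd_of_dvd h.1 h.2⟩, ⟨_, d3, hc.mul_dvd_of_dvd_of_dvd h.1 h.2⟩]

end Cfsg.Agent.S4812
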