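import Cfsg.Statements.S3668
import Cfsg.Agent.Perm.DegSec
import Cfsg.Agent.Perm.SmallOrd
import Cfsg.Agent.Perm.O5616
import Cfsg.Agent.PrimeOne.A7Char
import Cfsg.Agent.Char.Gallagher
import Cfsg.Agent.Class.PGL2Sub
import Cfsg.Agent.S0494
import Cfsg.Agent.S0495
import Cfsg.Agent.S0497
import Cfsg.Agent.S0498
import Cfsg.Agent.S0892
import Cfsg.Agent.S0981
import Cfsg.Agent.S0984
import Cfsg.Agent.S1011
import Cfsg.Agent.S1020
import Cfsg.Agent.S1021
import Cfsg.Agent.S4231
import Cfsg.Agent.S4774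
import Cfsg.Agent.S4812

set_option autoImplicit false
open Cfsg

namespace Cfsg.Agent.S3668

open Subgroup Cfsg.Lib Cfsg.Lib.Perm Cfsg.Lib.Perm.DegSec Cfsg.Lib.Perm.SmallOrd Cfsg.Lib.Known
  Cfsg.Lib.Char

abbrev L2 (F : Type) [Field F] : Type := Matrix.ProjectiveSpecialLinearGroup (Fin 2) F

/-- `S` is isomorphic to `PSL(2,q)`. -/
def IsL2 (S : Type*) [Group S] (q : ℕ) : Prop :=
  ∀ (F : Type) [Field F] [Fintype F], Fintype.card F = q → Nonempty (S ≃* L2 F)

theorem exists_field (t k : ℕ) [Fact t.Prime] (hk : k ≠ 0) : ∃ (F : Type) (_ : Field F)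
    (_ : Fintype F), CharP F t ∧ Fintype.card F = t ^ k :=
  ⟨GaloisField t k, inferInstance, Fintype.ofFinite _, inferInstance, by
    rw [← @Nat.card_eq_fintype_card _ (Fintype.ofFinite _), GaloisField.card t k hk]⟩

section
variable {S : Type*} [Group S] [Finite S] [IsSimpleGroup S]

omit [Finite S] [IsSimpleGroup S] in
theorem l2_of {q n : ℕ} {A : Type} [Group A] (h4 : 4 ≤ q)
    (hn : Nat.gcd 2 (q - 1) * n = q * (q - 1) * (q + 1))
    (h : ∀ (T : Type) [Group T] [Finite T] [IsSimpleGroup T], Nat.card T = n → Nonempty (T ≃* A))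
    (e : Nonempty (S ≃* A)) : IsL2 S q := fun F _ _ hF => by
  have h1 := Class.gcd_mul_card_PSL2 (F := F)
  rw [Nat.card_eq_fintype_card (α := F), hF, ← hn] at h1
  have : IsSimpleGroup (L2 F) := Matrix.ProjectiveSpecialLinearGroup.rank_two_simple
    (by rw [Nat.card_eq_fintype_card, hF]; exact h4)
  obtain ⟨f⟩ := h (L2 F) (Nat.eq_of_mul_eq_mul_left (Nat.gcd_pos_of_pos_left _ two_pos) h1)
  exact ⟨e.some.trans f.symm⟩

theorem l2_60 (h : Nat.card S = 60) : IsL2 S (2 ^ 2) :=
  l2_of (n := 60) (by norm_num) (by norm_num) (fun _ _ _ _ => S0494.result) (S0494.result h)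

theorem l2_360 (h : Nat.card S = 360) : IsL2 S (3 ^ 2) :=
  l2_of (n := 360) (by norm_num) (by norm_num) (fun _ _ _ _ => S0497.result) (S0497.result h)

theorem l2_168 (h : Nat.card S = 168) : IsL2 S (7 ^ 1) := fun _ _ _ => S0495.result h
theorem l2_504 (h : Nat.card S = 504) : IsL2 S (2 ^ 3) := fun _ _ _ => S1011.result h
theorem l2_660 (h : Nat.card S = 660) : IsL2 S (11 ^ 1) := fun _ _ _ =>
  S0498.result 11 (Or.inl rfl) (by rw [h]; rfl)
theorem l2_1092 (h : Nat.card S = 1092) : IsL2 S (13 ^ 1) := fun _ _ _ =>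
  S0498.result 13 (Or.inr rfl) (by rw [h]; rfl)
theorem l2_2448 (h : Nat.card S = 2448) : IsL2 S (17 ^ 1) := fun _ _ _ => S1020.result h
theorem l2_3420 (h : Nat.card S = 3420) : IsL2 S (19 ^ 1) := fun _ _ _ => S1021.result h
theorem l2_4080 (h : Nat.card S = 4080) : IsL2 S (2 ^ 4) := fun _ _ _ => S0981.result h

omit [IsSimpleGroup S] in
theorem IsL2.odd {t k : ℕ} (h : IsL2 S (t ^ k)) (ht : t.Prime) (h2 : t ≠ 2) (h5 : 5 < t ^ k) :
    (∀ r : ℕ, r.Prime → r ∣ t ^ k * ((t ^ k) ^ 2 - 1) → r ∈ degreePrimes S) ∧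
    ∀ r : ℕ, (degreeGraph S).Adj 2 r ↔ 2 ≠ r ∧ r.Prime ∧ r ∣ (t ^ k) ^ 2 - 1 ∧
      2 ∣ (t ^ k) ^ 2 - 1 := by
  have := Fact.mk ht
  obtain ⟨F, _, _, _, hF⟩ := exists_field t k (by rintro rfl; simp at h5)
  obtain ⟨h3, h4⟩ := S4774.result F t h2 _ hF h5 (Or.inl (h F hF))
  refine ⟨fun r h6 h7 => h3 ▸ ⟨h6, h7⟩, fun r => ?_⟩
  rw [h4]
  have := Nat.prime_two
  tauto

omit [IsSimpleGroup S] in
theorem IsL2.even {k : ℕ} (h : IsL2 S (2 ^ k)) (h4 : 4 ≤ 2 ^ k) :
    (∀ r : ℕ, r.Prime → r ∣ 2 ^ k * ((2 ^ k) ^ 2 - 1) → r ∈ degreePrimes S) ∧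
    ((degreeGraph S).Adj 2 3 → 2 ∣ 2 ^ k + 1 ∨ 2 ∣ 2 ^ k - 1) := by
  obtain ⟨F, _, _, _, hF⟩ := exists_field 2 k (by rintro rfl; simp at h4)
  obtain ⟨h3, h5⟩ := S4812.result F _ hF h4 (Or.inl (h F hF))
  refine ⟨fun r h6 h7 => h3 ▸ ⟨h6, h7⟩, ?_⟩
  rw [h5]
  tauto

omit [Finite S] [IsSimpleGroup S] in
theorem IsL2.equiv {t k : ℕ} (h : IsL2 S (t ^ k)) {G : Type*} [Group G] (h' : IsL2 G (t ^ k))
    (ht : t.Prime) (hk : k ≠ 0) : Nonempty (G ≃* S) := by
  have := Fact.mk ht
  obtain ⟨F, _, _, _, hF⟩ := exists_field t k hk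
  exact ⟨(h' F hF).some.trans (h F hF).some.symm⟩

theorem deg60 (h : Nat.card S = 60) : 3 ∈ charDegrees S ∧ 4 ∈ charDegrees S := by
  obtain ⟨F, _, _, _, hF⟩ := exists_field 2 2 two_ne_zero
  obtain ⟨e⟩ := l2_60 h F hF
  have h1 := GL2.charDegrees_subset_of_surjective e.toMonoidHom e.surjective
  have h2 := h1 (GL2.card_sub_one_mem_charDegrees_PSL (F := F) (by omega))
  have h3 := h1 (GL2.card_mem_charDegrees_PSL (F := F))
  rw [hF] at h2 h3
  exact ⟨h2, h3⟩

theorem six_le (h : Nat.card S = 2520) : 6 ≤ Nat.card (IrrCharacter S) := by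
  classical
  have := Fintype.ofFinite (ConjClasses S)
  let f : ConjClasses S → ℕ := Quotient.lift orderOf fun a b hab => by
    obtain ⟨c, rfl⟩ := isConj_iff.1 hab
    exact ((MulAut.conj c).orderOf_eq a).symm
  have h1 : ∀ g : S, orderOf g ∈ Finset.univ.image f := fun g =>
    Finset.mem_image_of_mem f (Finset.mem_univ (ConjClasses.mk g))
  have h2 : ∀ p : ℕ, p.Prime → p ∣ 2520 → p ∈ Finset.univ.image f := fun p hp hd => by
    have := Fact.mk hp
    obtain ⟨g, rfl⟩ := exists_prime_orderOf_dvd_card' (G := S) p (h ▸ hd)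
    exact h1 g
  obtain ⟨e⟩ := S0984.result h
  have h4 : 4 ∈ Finset.univ.image f := by
    have h3 := h1 (e.symm ⟨c[0, 1, 2, 3] * c[4, 5], Equiv.Perm.mem_alternatingGroup.2 (by decide)⟩)
    rwa [MulEquiv.orderOf_eq, orderOf_mk,
      orderOf_eq_prime_pow (p := 2) (n := 1) (by decide) (by decide)] at h3
  have h5 : ({1, 2, 3, 4, 5, 7} : Finset ℕ) ⊆ Finset.univ.image f := by
    intro n hn
    simp only [Finset.mem_insert, Finset.mem_singleton] at hn
    rcases hn with rfl | rfl | rfl | rfl | rfl | rfl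
    exacts [orderOf_one (G := S) ▸ h1 1, h2 _ (by norm_num) (by norm_num),
      h2 _ (by norm_num) (by norm_num), h4, h2 _ (by norm_num) (by norm_num),
      h2 _ (by norm_num) (by norm_num)]
  rw [card_irr_eq_card_conjClasses, Nat.card_eq_fintype_card]
  exact (Finset.card_le_card h5).trans Finset.card_image_le

theorem rho2520 (h : Nat.card S = 2520) :
    2 ∈ degreePrimes S ∧ 5 ∈ degreePrimes S ∧ 7 ∈ degreePrimes S := by
  classical
  have := Fintype.ofFinite S
  have key : ∀ (p e : ℕ) [Fact p.Prime] (P : Sylow p S), Nat.card P = p →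
      Nat.card (centralizer ((P : Subgroup S) : Set S)) = p →
      Nat.card (normalizer ((P : Subgroup S) : Set S)) = p * e → (∀ t, e * t + 1 = p → e + t = 5) →
      p ∈ degreePrimes S := by
    intro p e hp P h1 h2 h3 h4
    obtain ⟨X, Y, -, -, -, hX, hY, -, -, -, -, -, hR⟩ := Spor.CKit.selfCent_block P h1 h2 h3
    by_contra hn
    have h5 : Finset.univ ⊆ X ∪ Y := fun χ _ => by
      by_contra h6
      rw [Finset.mem_union, not_or] at h6
      exact hn ⟨hp.out, _, ⟨χ, rfl⟩, hR χ h6.1 h6.2⟩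
    have h6 := (Finset.card_le_card h5).trans (Finset.card_union_le X Y)
    have h7 := six_le h
    rw [Finset.card_univ, ← Nat.card_eq_fintype_card, hX, h4 _ hY] at h6
    omega
  obtain ⟨P⟩ : Nonempty (Sylow 5 S) := inferInstance
  obtain ⟨Q⟩ : Nonempty (Sylow 7 S) := inferInstance
  obtain ⟨-, χ, hχ, -⟩ := PrimeOne.A7.exists_chi h
  exact ⟨⟨Nat.prime_two, 6, ⟨χ, hχ⟩, by norm_num⟩,
    key 5 4 P (PrimeOne.A7.card_syl5 h P) (PrimeOne.A7.syl5 h P).1 (PrimeOne.A7.syl5 h P).2
      fun t ht => by omega,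
    key 7 3 Q (PrimeOne.A7.card_syl7 h Q) (PrimeOne.A7.syl7 h Q).1 (PrimeOne.A7.syl7 h Q).2
      fun t ht => by omega⟩

end

section
variable {G : Type*} [Group G] [Finite G]

omit [Finite G] in
theorem card_eq (K : Subgroup G) (N : Subgroup K) [N.Normal] :
    Nat.card (K ⧸ N) * Nat.card N * K.index = Nat.card G := by
  rw [← card_eq_card_quotient_mul_card_subgroup, card_mul_index]

theorem simple_of_le (N : Subgroup G) [N.Normal] [IsSimpleGroup (G ⧸ N)]
    (h : Nat.card G ≤ Nat.card (G ⧸ N)) : IsSimpleGroup G :=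
  (MulEquiv.ofBijective (QuotientGroup.mk' N)
    ((QuotientGroup.mk'_surjective N).bijective_of_nat_card_le h)).isSimpleGroup

/-- The simple section, or simplicity. -/
theorem simple_or (p r n : ℕ) [Fact p.Prime] (hn : Nat.card G = n) (hpG : p ∈ degreePrimes G)
    (hrG : r ∈ degreePrimes G) (h : r ≠ p ∧ ¬ p ^ 2 ∣ n ∧ n ≤ 6232 ∧
      ∀ d ∈ n.divisors, IsPrimePow d → d % p = 1 → r ∣ d ∧ ¬ r * d ∣ n) :
    IsSimpleGroup G ∨ ∃ (K : Subgroup G) (_ : K.Normal) (N : Subgroup K) (_ : N.Normal),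
      IsSimpleGroup (K ⧸ N) ∧ ¬ IsMulCommutative (K ⧸ N) ∧
      (∀ M : Subgroup K, M.Normal → ¬ p ∣ M.index → M = ⊤) ∧ Nat.card (K ⧸ N) ∈
        [60, 168, 360, 504, 660, 1092, 2448, 2520, 3420, 4080, 5616, 6048, 6072].filter
          fun m => p ∣ m ∧ m ∣ n ∧ m ≠ n := by
  subst hn
  obtain ⟨K, hK, N, hN, h1, h2, h3, h4⟩ := exists_section h.1 h.2.1 hpG hrG fun d hd h1 =>
    h.2.2.2 d (Nat.mem_divisors.2 ⟨h1, Nat.card_pos.ne'⟩) hd
  have h5 : Nat.card (K ⧸ N) ∣ Nat.card G :=
    (card_quotient_dvd_card N).trans (card_subgroup_dvd_card K)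
  by_cases h6 : Nat.card (K ⧸ N) = Nat.card G
  · have := simple_of_le N (h6 ▸ K.card_le_card_group)
    exact Or.inl (MulEquiv.ofBijective K.subtype (K.subtype_injective.bijective_of_nat_card_le
      (h6 ▸ Nat.le_of_dvd Nat.card_pos (card_quotient_dvd_card N)))).symm.isSimpleGroup
  · exact Or.inr ⟨K, hK, N, hN, h1, h2, h4, List.mem_filter.2
      ⟨card_mem h2 ((Nat.le_of_dvd Nat.card_pos h5).trans h.2.2.1), by simp [h3, h5, h6]⟩⟩

theorem simple_of (p r n : ℕ) [Fact p.Prime] (hn : Nat.card G = n) (hpG : p ∈ degreePrimes G)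
    (hrG : r ∈ degreePrimes G) (h : (r ≠ p ∧ ¬ p ^ 2 ∣ n ∧ n ≤ 6232 ∧
      ∀ d ∈ n.divisors, IsPrimePow d → d % p = 1 → r ∣ d ∧ ¬ r * d ∣ n) ∧
      ([60, 168, 360, 504, 660, 1092, 2448, 2520, 3420, 4080, 5616, 6048, 6072].filter
          fun m => p ∣ m ∧ m ∣ n ∧ m ≠ n) = []) : IsSimpleGroup G :=
  (simple_or p r n hn hpG hrG h.1).resolve_right fun ⟨_, _, _, _, _, _, _, e⟩ => by
    rw [h.2] at e
    exact List.not_mem_nil e

omit [Finite G] in
theorem pos_of_mem {d : ℕ} (h : d ∈ charDegrees G) : 0 < d := by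
  obtain ⟨χ, rfl⟩ := h
  exact Deg.deg_pos χ.2

omit [Finite G] in
theorem one_mem_deg : 1 ∈ charDegrees G := ⟨Block.Princ.triv G, PrimeOne.deg_triv⟩

theorem no_ten (L : Subgroup G) [L.Normal] (hG : Nat.card G = 360) (hL : L.index = 3) {a b d : ℕ}
    (ha : a ∈ charDegrees L) (hb : b ∈ charDegrees L) (h3 : 3 ∣ a) (h4 : 4 ∣ b)
    (hd : d ∈ charDegrees G) : ¬ 10 ∣ d := fun h => by
  obtain ⟨e, he, k, rfl, hk⟩ := exists_under L hd
  have hc : Nat.card L = 120 := by
    have := card_mul_index L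
    rw [hL] at this
    omega
  rw [hL] at hk
  have h1 : 10 ∣ e := (Nat.Coprime.coprime_dvd_right hk (by norm_num)).dvd_of_dvd_mul_left h
  have h2 : ∀ c ∈ charDegrees L, 0 < c ∧ c < 11 := fun c hc' => ⟨pos_of_mem hc', by
    have := sum_sq_le {c} (by simpa using hc')
    rw [Finset.sum_singleton, hc] at this
    nlinarith⟩
  have h5 := sum_sq_le (G := L) {1, a, b, e} (by simp [one_mem_deg, ha, hb, he])
  obtain rfl : e = 10 := by have := h2 e he; omega
  have h6 : a = 3 ∨ a = 6 ∨ a = 9 := by have := h2 a ha; omega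
  have h7 : b = 4 ∨ b = 8 := by have := h2 b hb; omega
  rw [hc] at h5
  rcases h6 with rfl | rfl | rfl <;> rcases h7 with rfl | rfl <;> exact absurd h5 (by decide)

theorem not_nine (K : Subgroup G) [K.Normal] [IsSimpleGroup K] (hG : Nat.card G = 360)
    (hK : Nat.card K = 60) : 9 ∉ charDegrees G := by
  rintro ⟨χ, hχ⟩
  obtain ⟨e⟩ := S0494.result hK
  set C := (MulAut.conjNormal : G →* MulAut K).ker with hC
  have h1 : C.index ∣ 240 := by
    rw [hC, index_ker]
    refine (card_subgroup_dvd_card _).trans ?_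
    rw [Nat.card_congr (MulAut.congr e).toEquiv]
    exact S4231.card_dvd 5 le_rfl
  have h2 : K ⊓ C = ⊥ := eq_bot_iff.2 fun g hg => by
    have h3 : ∀ y : K, g * y * g⁻¹ = y := fun y =>
      congrArg Subtype.val (DFunLike.congr_fun (MonoidHom.mem_ker.1 hg.2) y)
    rcases (inferInstance : (center K).Normal).eq_bot_or_eq_top with h4 | h4
    · exact congrArg Subtype.val (h4.le (mem_center_iff.2 fun y =>
        Subtype.ext (mul_inv_eq_iff_eq_mul.1 (h3 y)).symm) : (⟨g, hg.1⟩ : K) ∈ (⊥ : Subgroup K))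
    · exact (PrimeOne.not_comm_of_not_prime (G := K) (by rw [hK]; norm_num)
        ⟨⟨fun a b => mem_center_iff.1 (h4.ge (mem_top b)) a⟩⟩).elim
  have h3 : Nat.card C ∣ 6 := by
    have h4 := card_inf_mul_relIndex K C
    have h5 := card_mul_index K
    rw [h2, card_bot, one_mul] at h4
    rw [hK] at h5
    rw [← h4, ← show K.index = 6 by omega]
    exact relIndex_dvd_index_of_normal K C
  have h4 := card_mul_index C
  have h5 : Nat.card C = 3 ^ 1 * 1 ∨ Nat.card C = 3 ^ 1 * 2 := by
    have := Nat.le_of_dvd (by norm_num) h3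
    rw [hG] at h4
    clear hC h2
    generalize Nat.card C = c at *
    generalize C.index = i at *
    have h5 : i ≠ 360 ∧ i ≠ 180 := by constructor <;> rintro rfl <;> norm_num at h1
    interval_cases c <;> omega
  have h6 : Nat.card (Sylow 3 C) = 1 := by
    have h7 := card_sylow_modEq_one 3 C
    unfold Nat.ModEq at h7
    rcases h5 with h | h <;> have := Nat.le_of_dvd (by norm_num)
      (SC.card_sylow_dvd h (by norm_num)) <;> omega
  have : Subsingleton (Sylow 3 C) := (Nat.card_eq_one_iff_unique.1 h6).1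
  obtain ⟨T⟩ : Nonempty (Sylow 3 C) := inferInstance
  have h7 : Nat.card ((T : Subgroup C).map C.subtype) = 3 := by
    rw [card_map_of_injective C.subtype_injective]
    rcases h5 with h | h <;> exact SC.sylow_card_eq_pow T h (by norm_num)
  have := isCyclic_of_prime_card h7
  have h8 := Deg.ito χ.2 ((T : Subgroup C).map C.subtype) fun a ha b hb => congrArg Subtype.val
    (this.isMulCommutative.is_comm.comm (⟨a, ha⟩ : (T : Subgroup C).map C.subtype) ⟨b, hb⟩)
  have h9 := card_mul_index ((T : Subgroup C).map C.subtype)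
  rw [hχ] at h8
  rw [h7] at h9
  omega

theorem no360 (hG : Nat.card G = 360) {d : ℕ} (hd : d ∈ charDegrees G) (h10 : 10 ∣ d)
    (h6 : ∀ c ∈ charDegrees G, ¬ 6 ∣ c) (K : Subgroup G) [K.Normal] (N : Subgroup K) [N.Normal]
    [IsSimpleGroup (K ⧸ N)] (hc : ¬ IsMulCommutative (K ⧸ N))
    (hK : ∀ M : Subgroup K, M.Normal → ¬ 5 ∣ M.index → M = ⊤) (h : Nat.card (K ⧸ N) = 60) :
    False := by
  classical
  have h1 := card_eq K N
  have h2 : Nat.card N ∣ 6 := ⟨K.index, by rw [h, hG] at h1; linarith⟩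
  have hZ : N ≤ center K := by
    obtain ⟨P⟩ : Nonempty (Sylow 5 K) := inferInstance
    have h3 := le_centralizer_of (N := N) P.isPGroup' le_normalizer_of_normal
      (fun e => absurd (e.trans h2) (by norm_num)) fun c h3 h4 =>
        (by decide +kernel : ∀ c ∈ Nat.divisors 6, IsPrimePow c → c % 5 ≠ 1) c
          (Nat.mem_divisors.2 ⟨h4.trans h2, by norm_num⟩) h3
    exact centralizer_eq_top_iff_subset.1 (hK _ inferInstance fun e =>
      P.not_dvd_index (e.trans (index_dvd_of_le (le_centralizer_iff.1 h3))))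
  have hD : commutator K = ⊤ := hK _ inferInstance fun e => by
    have h3 : N ⊔ commutator K = ⊤ := by
      rw [← QuotientGroup.ker_mk' N, sup_comm, ← comap_map_eq, map_commutator_eq,
        QuotientGroup.range_mk', ← commutator_def, PrimeOne.commutator_eq_top hc, comap_top]
    rw [← relIndex_top_right, ← h3, relIndex_sup_right] at e
    exact absurd ((e.trans (relIndex_dvd_card _ _)).trans h2) (by norm_num)
  have h3 := S0892.result 5 (by norm_num) (by norm_num) (by norm_num) N hZ (hD ▸ le_top)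
    (S0494.result h).some
  have h4 := mem_of_quotient N (deg60 h).1
  have h5 := mem_of_quotient N (deg60 h).2
  rw [h, hG] at h1
  obtain h7 | h7 : Nat.card N = 1 ∨ Nat.card N = 2 := by have := Nat.card_pos (α := N); omega
  swap
  · exact no_ten K hG (by rw [h7] at h1; omega) h4 h5 dvd_rfl dvd_rfl hd h10
  have hi : K.index = 6 := by rw [h7] at h1; omega
  have hK60 : Nat.card K = 60 := by have := card_mul_index K; rw [hi] at this; omega
  have := simple_of_le N (by rw [h, hK60])
  by_cases hab : ∀ β : G ⧸ K → ℂ, IsIrrCharacter _ β → charDegree β = 1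
  · obtain ⟨T⟩ : Nonempty (Sylow 2 (G ⧸ K)) := inferInstance
    have hT : (T : Subgroup (G ⧸ K)).Normal := ⟨fun n hn g => by
      rwa [Deg.comm_of_forall_deg_eq_one hab g n, mul_inv_cancel_right]⟩
    have hle : K ≤ (T : Subgroup (G ⧸ K)).comap (QuotientGroup.mk' K) :=
      (QuotientGroup.ker_mk' K).ge.trans (ker_le_comap _ _)
    have e := subgroupOfEquivOfLe hle
    have h8 := GL2.charDegrees_subset_of_surjective e.toMonoidHom e.surjective
    obtain ⟨a, ha, ha'⟩ := exists_dvd_of_normal _ (h8 h4)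
    obtain ⟨b, hb, hb'⟩ := exists_dvd_of_normal _ (h8 h5)
    refine no_ten _ hG ?_ ha hb ha' hb' hd h10
    rw [index_comap_of_surjective _ (QuotientGroup.mk'_surjective K)]
    exact SC.sylow_index_eq T (k := 1) hi (by norm_num)
  push Not at hab
  obtain ⟨β, hβ, hβ1⟩ := hab
  have hβ2 : charDegree β = 2 := by
    have h8 : charDegree β ∈ charDegrees (G ⧸ K) := ⟨⟨β, hβ⟩, rfl⟩
    have h9 := sum_sq_le (G := G ⧸ K) {1, charDegree β} (by simp [one_mem_deg, h8])
    have := pos_of_mem h8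
    rw [Finset.sum_pair hβ1.symm, show Nat.card (G ⧸ K) = 6 from hi] at h9
    have : charDegree β < 3 := by nlinarith
    omega
  have := Fintype.ofFinite G
  obtain ⟨θ, hθ⟩ := h4
  obtain ⟨χ, hχ, hne⟩ := exists_irr_over θ.2
  obtain ⟨k, k1, k2⟩ := Deg.exists_deg_eq_mul_of_lies_over hχ θ.2 hne
  have k3 := h6 _ ⟨⟨χ, hχ⟩, rfl⟩
  have k4 : charDegree χ ≠ 9 := fun e => not_nine K hG hK60 ⟨⟨χ, hχ⟩, e⟩
  rw [hi] at k2
  rw [hθ] at k1
  have k5 : charDegree χ = 3 := by
    have := Nat.le_of_dvd (by norm_num) k2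
    simp only at k3
    interval_cases k <;> omega
  have k6 := gallagher_quotient_irr hχ.isCharacter (by
    rw [Deg.eq_of_classInner_ne_zero_of_deg_le (hχ.isCharacter.res K) θ.2 hne
      (by rw [Deg.deg_res, k5, hθ])]
    exact θ.2) hβ
  refine h6 6 ⟨⟨_, k6⟩, Deg.deg_eq ?_⟩ dvd_rfl
  simp only [QuotientGroup.mk_one, Deg.apply_one_eq hβ.isCharacter,
    Deg.apply_one_eq hχ.isCharacter, hβ2, k5]
  norm_num

theorem no2520 (hG : Nat.card G = 2520) (K : Subgroup G) [K.Normal] (N : Subgroup K) [N.Normal]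
    (h : Nat.card (K ⧸ N) = 168 ∨ Nat.card (K ⧸ N) = 504) : 5 ∉ degreePrimes G := by
  refine not_mem_of_card_sylow (by rw [hG]; norm_num) ?_
  have h1 := card_eq K N
  have h2 : Nat.card N * K.index ∣ 15 := by
    rw [mul_assoc, hG] at h1
    rcases h with h | h <;> rw [h] at h1
    exacts [dvd_of_eq (by omega), ⟨3, by omega⟩]
  have h3 : ∀ m : ℕ, m ∣ 15 → m ≡ 1 [MOD 5] → m = 1 := fun m h4 h5 => by
    have := Nat.le_of_dvd (by norm_num) h4
    unfold Nat.ModEq at h5
    interval_cases m <;> omega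
  by_cases h5 : 5 ∣ Nat.card N
  · obtain ⟨Q⟩ : Nonempty (Sylow 5 N) := inferInstance
    refine PrimeOne.card_sylow_eq_one_of_normal (N := K)
      (PrimeOne.card_sylow_eq_one_of_normal (N := N) (h3 _ ?_ (card_sylow_modEq_one 5 N)) ?_)
      fun e => absurd ((Nat.mul_dvd_mul h5 e).trans h2) (by norm_num)
    · exact Q.card_dvd_index.trans ((index_dvd_card _).trans ((Dvd.intro _ rfl).trans h2))
    · change ¬ 5 ∣ Nat.card (K ⧸ N)
      omega
  obtain ⟨P⟩ : Nonempty (Sylow 5 G) := inferInstance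
  have h6 : ¬ 5 ∣ Nat.card K := by
    rw [card_eq_card_quotient_mul_card_subgroup N, Nat.prime_five.dvd_mul]
    omega
  have h7 : Nat.card K ∣ 504 := ((Nat.prime_five.coprime_iff_not_dvd.2 h6).symm).dvd_of_dvd_mul_left
    ((card_subgroup_dvd_card K).trans (by rw [hG]))
  have h8 := le_centralizer_of (N := K) P.isPGroup' le_normalizer_of_normal h6 fun c h3 h4 =>
    (by decide +kernel : ∀ c ∈ Nat.divisors 504, IsPrimePow c → c % 5 ≠ 1) c
      (Nat.mem_divisors.2 ⟨h4.trans h7, by norm_num⟩) h3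
  refine h3 _ ?_ (card_sylow_modEq_one 5 G)
  rw [P.card_eq_index_normalizer]
  exact (index_dvd_of_le (h8.trans (centralizer_le_normalizer _))).trans
    ((Dvd.intro_left _ rfl).trans h2)

end

instance fact11 : Fact (Nat.Prime 11) := ⟨by norm_num⟩
instance fact17 : Fact (Nat.Prime 17) := ⟨by norm_num⟩
instance fact19 : Fact (Nat.Prime 19) := ⟨by norm_num⟩

/-- The character degree graph of a finite group has as vertices the primes dividing some irreducible complex character degree, two distinct primes being joined when their product divides some irreducible character degree; two groups have the same character degree graph when they have the same vertices and the same joined pairs. Let S be a finite non-abelian simple group of order less than 6000. If a finite group G has the same order as S and the same character degree graph as S, then G is isomorphic to S. -/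
theorem result {S : Type*} [Group S] [Finite S] [IsSimpleGroup S] (hS : ¬ IsMulCommutative S)
    (hlt : Nat.card S < 6000) {G : Type*} [Group G] [Finite G] (hcard : Nat.card G = Nat.card S) (hΓ : Cfsg.degreePrimes G = Cfsg.degreePrimes S ∧ Cfsg.degreeGraph G = Cfsg.degreeGraph S) :
    Nonempty (G ≃* S) := by
  have h := card_mem hS (by omega)
  obtain ⟨hv, he⟩ := hΓ
  simp only [List.mem_cons, List.not_mem_nil, or_false] at h
  rcases h with h | h | h | h | h | h | h | h | h | h | h | h | h <;> rw [h] at hcard hlt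
  · have h1 := ((l2_60 h).even (by norm_num)).1
    rw [← hv] at h1
    have := simple_of 5 2 _ hcard (h1 _ (by norm_num) (by norm_num))
      (h1 _ (by norm_num) (by norm_num)) (by decide +kernel)
    exact (l2_60 h).equiv (l2_60 hcard) (by norm_num) (by norm_num)
  · have h1 := ((l2_168 h).odd (by norm_num) (by norm_num) (by norm_num)).1
    rw [← hv] at h1
    have := simple_of 7 2 _ hcard (h1 _ (by norm_num) (by norm_num))
      (h1 _ (by norm_num) (by norm_num)) (by decide +kernel)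
    exact (l2_168 h).equiv (l2_168 hcard) (by norm_num) (by norm_num)
  · obtain ⟨h1, h2⟩ := (l2_360 h).odd (by norm_num) (by norm_num) (by norm_num)
    rw [← hv] at h1
    rw [← he] at h2
    have := (simple_or 5 2 _ hcard (h1 _ (by norm_num) (by norm_num))
      (h1 _ (by norm_num) (by norm_num)) (by decide +kernel)).resolve_right
      fun ⟨K, _, N, _, _, h3, h4, h5⟩ => by
        obtain ⟨-, -, -, d, hd, h6⟩ := (h2 5).2 (by norm_num)
        exact no360 hcard hd h6 (fun c hc h7 => absurd ((h2 3).1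
          ⟨by norm_num, Nat.prime_two, Nat.prime_three, c, hc, h7⟩) (by norm_num)) K N h3 h4
          (by simpa using h5)
    exact (l2_360 h).equiv (l2_360 hcard) (by norm_num) (by norm_num)
  · obtain ⟨h1, h2⟩ := (l2_504 h).even (by norm_num)
    rw [← hv] at h1
    rw [← he] at h2
    have := (simple_or 7 2 _ hcard (h1 _ (by norm_num) (by norm_num))
      (h1 _ (by norm_num) (by norm_num)) (by decide +kernel)).resolve_right
      fun ⟨K, _, N, _, _, _, _, h5⟩ => by
        obtain ⟨-, -, -, d, hd, h6⟩ := (((l2_168 (S := K ⧸ N) (by simpa using h5)).odd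
          (by norm_num) (by norm_num) (by norm_num)).2 3).2 (by norm_num)
        obtain ⟨c, hc, h7⟩ := exists_dvd_of_normal K (mem_of_quotient N hd)
        exact absurd (h2 ⟨by norm_num, Nat.prime_two, Nat.prime_three, c, hc, h6.trans h7⟩)
          (by norm_num)
    exact (l2_504 h).equiv (l2_504 hcard) (by norm_num) (by norm_num)
  · have h1 := ((l2_660 h).odd (by norm_num) (by norm_num) (by norm_num)).1
    rw [← hv] at h1
    have := simple_of 11 2 _ hcard (h1 _ (by norm_num) (by norm_num))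
      (h1 _ (by norm_num) (by norm_num)) (by decide +kernel)
    exact (l2_660 h).equiv (l2_660 hcard) (by norm_num) (by norm_num)
  · have h1 := ((l2_1092 h).odd (by norm_num) (by norm_num) (by norm_num)).1
    rw [← hv] at h1
    have := simple_of 13 2 _ hcard (h1 _ (by norm_num) (by norm_num))
      (h1 _ (by norm_num) (by norm_num)) (by decide +kernel)
    exact (l2_1092 h).equiv (l2_1092 hcard) (by norm_num) (by norm_num)
  · have h1 := ((l2_2448 h).odd (by norm_num) (by norm_num) (by norm_num)).1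
    rw [← hv] at h1
    have := simple_of 17 2 _ hcard (h1 _ (by norm_num) (by norm_num))
      (h1 _ (by norm_num) (by norm_num)) (by decide +kernel)
    exact (l2_2448 h).equiv (l2_2448 hcard) (by norm_num) (by norm_num)
  · have h1 := rho2520 h
    rw [← hv] at h1
    have := (simple_or 7 2 _ hcard h1.2.2 h1.1 (by decide +kernel)).resolve_right
      fun ⟨K, _, N, _, _, _, _, h5⟩ => no2520 hcard K N (by simpa using h5) h1.2.1
    exact ⟨(S0984.result hcard).some.trans (S0984.result h).some.symm⟩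
  · have h1 := ((l2_3420 h).odd (by norm_num) (by norm_num) (by norm_num)).1
    rw [← hv] at h1
    have := simple_of 19 2 _ hcard (h1 _ (by norm_num) (by norm_num))
      (h1 _ (by norm_num) (by norm_num)) (by decide +kernel)
    exact (l2_3420 h).equiv (l2_3420 hcard) (by norm_num) (by norm_num)
  · have h1 := ((l2_4080 h).even (by norm_num)).1
    rw [← hv] at h1
    have := simple_of 17 2 _ hcard (h1 _ (by norm_num) (by norm_num))
      (h1 _ (by norm_num) (by norm_num)) (by decide +kernel)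
    exact (l2_4080 h).equiv (l2_4080 hcard) (by norm_num) (by norm_num)
  · have := simple_of 13 3 _ hcard (hv ▸ ⟨by norm_num, O5616.exists_thirteen h⟩)
      (hv ▸ ⟨by norm_num, 12, O5616.twelve_mem h, by norm_num⟩) (by decide +kernel)
    exact ⟨(O5616.nonempty_equiv hcard (ZMod 3) rfl).some.trans
      (O5616.nonempty_equiv h (ZMod 3) rfl).some.symm⟩
  · omega
  · omega

end Cfsg.Agent.S3668
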