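import Cfsg.Statements.S3669
import Cfsg.Agent.S4812
import Cfsg.Agent.S4493
import Cfsg.Agent.Perm.SmallFields
import Cfsg.Agent.Class.A5Recog
import Cfsg.Agent.Class.PGL2Sub
import Cfsg.Agent.Char.Burnside
import Cfsg.Agent.Solv.MinNormal

set_option autoImplicit false
open Cfsg

namespace Cfsg.Agent.S3669

open Subgroup Cfsg.Lib.Perm Cfsg.Lib.Class

theorem solv {G : Type*} [Group G] [Finite G] (h1 : Nat.card G ∣ 60) (h2 : Nat.card G ≠ 60) :
    Group.IsSolvable G := by
  by_cases h : Nat.card G = 30
  · have := IsZGroup.of_squarefree (G := G) (by rw [h]; decide +kernel)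
    infer_instance
  have h3 : ∀ n ∈ Nat.divisors 60, n ≠ 60 → n ≠ 30 → n ∣ 12 ∨ n ∣ 20 ∨ n ∣ 15 := by decide
  have h4 : ∀ p q a b : ℕ, p.Prime → q.Prime → Nat.card G ∣ p ^ a * q ^ b → Group.IsSolvable G :=
    fun p q a b hp hq hd => Cfsg.Lib.Char.isSolvable_of_card_dvd hp hq G hd
  rcases h3 _ (Nat.mem_divisors.2 ⟨h1, by decide⟩) h2 h with h | h | h
  exacts [h4 2 3 2 1 Nat.prime_two Nat.prime_three h, h4 2 5 2 1 Nat.prime_two Nat.prime_five h,
    h4 3 5 1 1 Nat.prime_three Nat.prime_five h]

theorem five : 5 ∈ Cfsg.degreePrimes (alternatingGroup (Fin 5)) := by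
  have h := gcd_mul_card_PSL2 (F := F4)
  rw [Nat.card_eq_fintype_card (α := F4), card_F4] at h
  have : IsSimpleGroup (Matrix.ProjectiveSpecialLinearGroup (Fin 2) F4) :=
    Matrix.ProjectiveSpecialLinearGroup.rank_two_simple (by rw [Nat.card_eq_fintype_card, card_F4])
  obtain ⟨e⟩ := nonempty_mulEquiv_A5_of_isSimpleGroup
    (G := Matrix.ProjectiveSpecialLinearGroup (Fin 2) F4) (by simpa using h)
  have : CharP F4 2 := CharTwo.of_one_ne_zero_of_two_eq_zero one_ne_zero (by decide)
  rw [(Cfsg.Agent.S4812.result F4 4 card_F4 le_rfl (Or.inl ⟨e.symm⟩)).1]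
  exact ⟨Nat.prime_five, by decide⟩


/-- The character degree graph of a finite group has as vertices the primes dividing some irreducible complex character degree, two distinct primes being joined when their product divides some irreducible character degree; two groups have the same character degree graph when they have the same vertices and the same joined pairs. A finite group of order 60 with the same character degree graph as the alternating group A₅ (whose character degrees are 1, 3, 4, 5, so the graph has vertices 2, 3, 5 and no edges) is isomorphic to A₅. -/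
theorem result {G : Type*} [Group G] [Finite G] (hcard : Nat.card G = 60)
    (hΓ : Cfsg.degreePrimes G = Cfsg.degreePrimes (alternatingGroup (Fin 5)) ∧ Cfsg.degreeGraph G = Cfsg.degreeGraph (alternatingGroup (Fin 5))) : Nonempty (G ≃* alternatingGroup (Fin 5)) := by
  by_cases hs : IsSimpleGroup G
  · exact nonempty_mulEquiv_A5_of_isSimpleGroup hcard
  exfalso
  have : Nontrivial G := Finite.one_lt_card_iff_nontrivial.1 (by omega)
  obtain ⟨N, hN, h0, h1⟩ : ∃ N : Subgroup G, N.Normal ∧ N ≠ ⊥ ∧ N ≠ ⊤ := by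
    by_contra hn
    push Not at hn
    exact hs ⟨fun N hN => or_iff_not_imp_left.2 (hn N hN)⟩
  have := solv (G := N) (hcard ▸ card_subgroup_dvd_card N) fun e =>
    h1 (eq_top_of_card_eq _ (e.trans hcard.symm))
  have := solv (G := G ⧸ N) (hcard ▸ card_quotient_dvd_card N)
    (hcard ▸ (Cfsg.Lib.Solv.card_quotient_lt h0).ne)
  have hsol : Group.IsSolvable G := Group.isSolvable_of_ker_le_range N.subtype (QuotientGroup.mk' N)
    (by rw [QuotientGroup.ker_mk', range_subtype])
  have := Fact.mk Nat.prime_five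
  obtain ⟨P⟩ : Nonempty (Sylow 5 G) := inferInstance
  have hP : Nat.card P = 5 := by
    rw [Sylow.card_eq_multiplicity, hcard]; decide +kernel
  have hn : normalizer (P : Set G) = ⊤ := by
    by_contra hn
    obtain ⟨M, hM, hle⟩ := (eq_top_or_exists_le_coatom _).resolve_left hn
    have h2 := Cfsg.Lib.Solv.isPrimePow_index_of_isCoatom M hM
    have h3 := relIndex_mul_index hle
    have h4 := card_sylow_modEq_one 5 G
    rw [Sylow.card_eq_index_normalizer P] at h4
    have h5 : (normalizer (P : Set G)).index ∣ 12 := by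
      have := P.1.card_mul_index
      rw [hP, hcard] at this
      exact (index_dvd_of_le le_normalizer).trans (by rw [show P.1.index = 12 by omega])
    have h6 := card_sylow_modEq_one 5 M
    rw [Sylow.card_eq_index_normalizer (P.subtype (le_normalizer.trans hle)), ← Sylow.coe_coe, Sylow.coe_subtype,
      ← subgroupOf_normalizer_eq (le_normalizer.trans hle)] at h6
    have h7 : ∀ a ∈ Nat.divisors 12, ∀ b ∈ Nat.divisors 12, a * b % 5 = 1 → a % 5 = 1 → a * b ∣ 12 →
        b = 1 ∨ b = 6 := by decide
    rw [← h3] at h4 h5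
    rcases h7 _ (Nat.mem_divisors.2 ⟨(Dvd.intro _ rfl).trans h5, by decide⟩) _
      (Nat.mem_divisors.2 ⟨(Dvd.intro_left _ rfl).trans h5, by decide⟩) h4 h6 h5 with h | h
    · exact h2.ne_one h
    · rw [h] at h2; exact absurd h2 (by decide +kernel)
  obtain ⟨-, d, ⟨χ, rfl⟩, hd⟩ := hΓ.1 ▸ five
  have := isCyclic_of_prime_card hP
  refine (Cfsg.Agent.S4493.result hsol 5 Nat.prime_five).1 ⟨P, normalizer_eq_top_iff.1 hn,
    fun x hx y hy => ?_, P.isPGroup', P.not_dvd_index⟩ χ hd
  exact congrArg Subtype.val (IsCyclic.commGroup.mul_comm (⟨x, hx⟩ : P) ⟨y, hy⟩)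

end Cfsg.Agent.S3669
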