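import Cfsg.Statements.S3686
import Cfsg.Agent.Len.MxS42
import Cfsg.Agent.S3685

set_option autoImplicit false
open Cfsg

namespace Cfsg.Agent.S3686

/-- Let G be a finite insoluble group acting faithfully and primitively on a set Ω so that the stabilizer of a point a has an orbit of length 3. Then G is isomorphic to one of: the alternating or the symmetric group of degree 5, PGL(2, 7), PSL(2, 11), PSL(2, 13), PSL(2, p) for a prime p ≡ ±1 (mod 16), PSL(3, 3), or a group containing a normal subgroup of index 2 isomorphic to PSL(3, 3) with trivial centralizer. -/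
theorem result {G Ω : Type*} [Group G] [Finite G] [MulAction G Ω] [FaithfulSMul G Ω] [Finite Ω]
    (hsol : ¬ Group.IsSolvable G) (hprim : MulAction.IsPreprimitive G Ω) (a b : Ω) (h3 : Nat.card (MulAction.orbit (MulAction.stabilizer G a) b) = 3) :
    Nonempty (G ≃* alternatingGroup (Fin 5)) ∨ Nonempty (G ≃* Equiv.Perm (Fin 5)) ∨
      Nonempty (G ≃* GL (Fin 2) (ZMod 7) ⧸ Subgroup.center (GL (Fin 2) (ZMod 7))) ∨
      Nonempty (G ≃* Matrix.ProjectiveSpecialLinearGroup (Fin 2) (ZMod 11)) ∨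
      Nonempty (G ≃* Matrix.ProjectiveSpecialLinearGroup (Fin 2) (ZMod 13)) ∨
      (∃ p : ℕ, p.Prime ∧ (p % 16 = 1 ∨ p % 16 = 15) ∧ Nonempty (G ≃* Matrix.ProjectiveSpecialLinearGroup (Fin 2) (ZMod p))) ∨
      Nonempty (G ≃* Matrix.ProjectiveSpecialLinearGroup (Fin 3) (ZMod 3)) ∨
      (∃ N : Subgroup G, N.Normal ∧ N.index = 2 ∧ Subgroup.centralizer (N : Set G) = ⊥ ∧
        Nonempty (N ≃* Matrix.ProjectiveSpecialLinearGroup (Fin 3) (ZMod 3))) := by
  open Cfsg.Lib Cfsg.Lib.Len Cfsg.Lib.Trans MulAction in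
  have hba : b ≠ a := by
    rintro rfl
    have h1 : orbit (stabilizer G b) b = {b} := by
      ext x
      exact ⟨fun ⟨g, hg⟩ => hg ▸ g.2, fun hx => by rw [hx]; exact mem_orbit_self b⟩
    rw [h1] at h3
    simp at h3
  have : Nontrivial Ω := ⟨⟨b, a, hba⟩⟩
  have hco : IsCoatom (stabilizer G a) := (isCoatom_stabilizer_iff_preprimitive G a).2 hprim
  have hcore : ∀ N : Subgroup G, N.Normal → N ≤ stabilizer G a → N = ⊥ := fun N hN h =>
    eq_bot_iff.2 fun n hn => Subgroup.mem_bot.2 (eq_of_smul_eq_smul (α := Ω) fun x => by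
      obtain ⟨g, rfl⟩ := exists_smul_eq G a x
      have h1 : (g⁻¹ * n * g⁻¹⁻¹) • a = a := h (hN.conj_mem n hn g⁻¹)
      rw [inv_inv, mul_smul, mul_smul, inv_smul_eq_iff] at h1
      rw [h1, one_smul])
  have hW : ∀ k, Nat.card (stabilizer G a) = 2 ^ k * 3 → ∀ T, IsSylowIn 2 T (stabilizer G a) →
      ∃ g ∉ stabilizer G a, g ∈ Subgroup.normalizer (T : Set G) := fun k hk T hT => by
    have h1 : (stabilizer G a ⊓ stabilizer G b).relIndex (stabilizer G a) = 3 := by
      rw [Subgroup.inf_relIndex_left, ← h3, Nat.card_coe_set_eq, ← index_stabilizer]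
      rfl
    have h2 := card_mul_relIndex (show stabilizer G a ⊓ stabilizer G b ≤ _ from inf_le_left)
    rw [h1, hk] at h2
    have hP : IsPGroup 2 ↥(stabilizer G a ⊓ stabilizer G b) :=
      IsPGroup.of_card (n := k) (by omega)
    have h4 : IsSylowIn 2 (stabilizer G a ⊓ stabilizer G b) (stabilizer G a) :=
      ⟨inf_le_left, hP, by rw [h1]; norm_num⟩
    obtain ⟨g, rfl⟩ := exists_smul_eq G a b
    have h5 : IsSylowIn 2 (cj g⁻¹ (stabilizer G a ⊓ stabilizer G (g • a))) (stabilizer G a) :=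
      h4.of_card_ge (isPGroup_cj hP _) (cj_le_iff.2 fun t ht => by
        rw [mem_stabilizer_iff, inv_inv, mul_smul, mul_smul, inv_smul_eq_iff]
        exact ht.2) (card_cj _ _).ge
    obtain ⟨x, hx, h6⟩ := hT.exists_cj_eq h4
    obtain ⟨y, hy, h7⟩ := hT.exists_cj_eq h5
    refine ⟨y * g⁻¹ * x⁻¹, fun h8 => hba ?_, cj_eq_self_iff.1 ?_⟩
    · exact (Subgroup.inv_mem_iff _).1 (((stabilizer G a).mul_mem_cancel_left hy).1
        (((stabilizer G a).mul_mem_cancel_right (inv_mem hx)).1 h8))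
    · rw [cj_mul, cj_mul, ← h6, cj_inv_cj, h7, h6]
  rcases Cfsg.Agent.S3685.result hprim a b h3 with ⟨⟨e⟩⟩ | ⟨⟨e⟩⟩ | ⟨⟨e⟩⟩ | ⟨⟨e⟩⟩ | ⟨⟨e⟩⟩
  · exact (Mx.not_Z3 ⟨hco, hcore, Ngrp.isSolvable_congr e.symm inferInstance, hsol⟩ e).elim
  · refine Or.inl (Mx.case_S3 ⟨hco, hcore, Ngrp.isSolvable_congr e.symm ?_, hsol⟩ e)
    have := Class.isSolvable_S4
    exact Group.isSolvable_of_isSolvable_injective
      (Equiv.Perm.viaEmbeddingHom_injective (Fin.castLEEmb (show 3 ≤ 4 by norm_num)))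
  · have h1 : Group.IsSolvable (DihedralGroup 6) :=
      Class.isSolvable_of_commutators_commute (by decide +kernel)
    rcases Mx.case_D12 ⟨hco, hcore, Ngrp.isSolvable_congr e.symm h1, hsol⟩ e with h | h | h | h
    · exact Or.inr (Or.inl h)
    · exact Or.inr (Or.inr (Or.inl h))
    · exact Or.inr (Or.inr (Or.inr (Or.inl h)))
    · exact Or.inr (Or.inr (Or.inr (Or.inr (Or.inl h))))
  · rcases Mx.case_S4 ⟨hco, hcore, Ngrp.isSolvable_congr e.symm Class.isSolvable_S4, hsol⟩ e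
      (hW 3 (by rw [Nat.card_congr e.toEquiv, card_S4]; norm_num)) with h | h
    · exact Or.inr (Or.inr (Or.inr (Or.inr (Or.inr (Or.inl h)))))
    · exact Or.inr (Or.inr (Or.inr (Or.inr (Or.inr (Or.inr (Or.inl h))))))
  · have := Class.isSolvable_S4
    exact Or.inr (Or.inr (Or.inr (Or.inr (Or.inr (Or.inr (Or.inr
      (Mx.case_S42 ⟨hco, hcore, Ngrp.isSolvable_congr e.symm inferInstance, hsol⟩ e
        (hW 4 (by rw [Nat.card_congr e.toEquiv, Nat.card_prod, card_S4]; simp)))))))))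

end Cfsg.Agent.S3686
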