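import Cfsg.Statements.S3805
import Cfsg.Agent.Recog.Hayden

set_option autoImplicit false
open Cfsg

namespace Cfsg.Agent.S3805

/-- Let G be a finite group whose Sylow 3-subgroup T is elementary abelian of order 9 and self-centralizing, with N_G(T)/T a Klein four-group, and suppose that the centralizer of every nonidentity element of T lies in N_G(T). Then T is normal in G. -/
theorem result {G : Type*} [Group G] [Finite G]
    (T : Sylow 3 G) (hT : Cfsg.IsElementaryAbelian 3 (T : Subgroup G)) (hcard : Nat.card T = 9)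
    (hC : Subgroup.centralizer ((T : Subgroup G) : Set G) = T)
    [hn : ((T : Subgroup G).subgroupOf (Subgroup.normalizer ((T : Subgroup G) : Set G))).Normal]
    (hK : IsKleinFour (↥(Subgroup.normalizer ((T : Subgroup G) : Set G)) ⧸
      (T : Subgroup G).subgroupOf (Subgroup.normalizer ((T : Subgroup G) : Set G))))
    (hloc : ∀ t ∈ (T : Subgroup G), t ≠ 1 →
      Subgroup.centralizer ({t} : Set G) ≤ Subgroup.normalizer ((T : Subgroup G) : Set G)) :
    Subgroup.normalizer ((T : Subgroup G) : Set G) = ⊤ := by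
  have := Fact.mk Nat.prime_three
  set N := Subgroup.normalizer ((T : Subgroup G) : Set G) with hN
  let π := QuotientGroup.mk' ((T : Subgroup G).subgroupOf N)
  have hπ : ∀ x : N, π x = 1 ↔ (x : G) ∈ (T : Subgroup G) := fun x => QuotientGroup.eq_one_iff x
  have comm : ∀ u ∈ (T : Subgroup G), ∀ v ∈ (T : Subgroup G), u * v = v * u := fun u hu v hv =>
    congrArg Subtype.val (hT.1.is_comm.comm ⟨u, hu⟩ ⟨v, hv⟩)
  have h3 : ∀ x : N, π (x ^ 3) = π x ∧ x ^ 3 * x ^ 3 = 1 := fun x => by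
    refine ⟨by rw [map_pow, pow_three, IsKleinFour.mul_self, mul_one], Subtype.ext ?_⟩
    have := hT.2 _ ((hπ (x * x)).1 (by rw [map_mul, IsKleinFour.mul_self]))
    rw [Subgroup.coe_one, ← this]
    simp only [Subgroup.coe_pow, ← pow_two, ← pow_mul]
  have hnt : ∀ a : N ⧸ (T : Subgroup G).subgroupOf N, ∃ b, b ≠ 1 ∧ b ≠ a := fun a => by
    classical
    have := Fintype.ofFinite (N ⧸ (T : Subgroup G).subgroupOf N)
    by_contra! e
    have h4 := Finset.card_le_card (show Finset.univ ⊆ {1, a} from fun b _ => by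
      by_cases h : b = 1
      · simp [h]
      · simp [e b h])
    have h5 := Finset.card_le_two (a := 1) (b := a)
    rw [Finset.card_univ, IsKleinFour.card_four'] at h4
    omega
  obtain ⟨a, a1, -⟩ := hnt 1
  obtain ⟨c, c1, c2⟩ := hnt a
  obtain ⟨a, rfl⟩ := QuotientGroup.mk'_surjective _ a
  obtain ⟨c, rfl⟩ := QuotientGroup.mk'_surjective _ c
  obtain ⟨x, x1, x2⟩ : ∃ x : N, π x = π a ∧ x * x = 1 := ⟨_, h3 a⟩
  obtain ⟨y, y1, y2⟩ : ∃ y : N, π y = π c ∧ y * y = 1 := ⟨_, h3 c⟩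
  obtain ⟨z, z1, z2, z3⟩ : ∃ z : N, π z = π a * π c ∧ z * z = 1 ∧ x * z = z * x := by
    refine ⟨(x * y) ^ 3, by rw [(h3 _).1, map_mul, x1, y1], (h3 _).2, ?_⟩
    rw [← mul_inv_eq_iff_eq_mul, ← conj_pow, ← inv_eq_of_mul_eq_one_right (h3 (x * y)).2, ← inv_pow,
      ← mul_assoc, x2, one_mul, mul_inv_rev, inv_eq_of_mul_eq_one_right y2]
  have n1 : (x : G) ∉ (T : Subgroup G) := fun e => a1 (x1.symm.trans ((hπ x).2 e))
  have n2 : (z : G) ∉ (T : Subgroup G) := fun e => c2 (by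
    have := z1.symm.trans ((hπ z).2 e)
    exact (eq_inv_of_mul_eq_one_right this).trans (IsKleinFour.inv_eq_self _))
  have e3 : π (x * z) = π c := by rw [map_mul, x1, z1, ← mul_assoc, IsKleinFour.mul_self, one_mul]
  have n3 : (x : G) * z ∉ (T : Subgroup G) := fun e => c1 (e3.symm.trans ((hπ (x * z)).2 e))
  have norm : ∀ g ∈ N, ∃ u ∈ (T : Subgroup G), g = u ∨ g = u * x ∨ g = u * z ∨ g = u * (x * z) := by
    intro g hg
    have key : ∀ w : N, π ⟨g, hg⟩ = π w → g * (w : G)⁻¹ ∈ (T : Subgroup G) := fun w e =>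
      (hπ (⟨g, hg⟩ * w⁻¹)).1 (by rw [map_mul, map_inv, e, mul_inv_cancel])
    by_cases k1 : π ⟨g, hg⟩ = 1
    · exact ⟨g, (hπ _).1 k1, Or.inl rfl⟩
    by_cases k2 : π ⟨g, hg⟩ = π a
    · exact ⟨_, key x (k2.trans x1.symm), Or.inr (Or.inl (by simp))⟩
    by_cases k3 : π ⟨g, hg⟩ = π c
    · exact ⟨_, key (x * z) (k3.trans e3.symm), Or.inr (Or.inr (Or.inr (inv_mul_cancel_right g _).symm))⟩
    · exact ⟨_, key z ((IsKleinFour.eq_mul_of_ne_all a1 c1 c2.symm k1 k2 k3).trans z1.symm),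
        Or.inr (Or.inr (Or.inl (by simp)))⟩
  have x2' : (x : G) * x = 1 := congrArg Subtype.val x2
  have z2' : (z : G) * z = 1 := congrArg Subtype.val z2
  have z3' : (x : G) * z = z * x := congrArg Subtype.val z3
  by_cases k : ∃ u ∈ (T : Subgroup G), (z : G) * u * (z : G)⁻¹ ≠ u⁻¹
  · exact Cfsg.Lib.Recog.P43.hayden_aux (Cfsg.Lib.Trans.isSylowIn_top T) hcard comm hT.2 hC.le x.2
      z.2 x2' z2' z3' n1 n2 n3 k norm hloc
  · refine Cfsg.Lib.Recog.P43.hayden_aux (Cfsg.Lib.Trans.isSylowIn_top T) hcard comm hT.2 hC.le z.2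
      x.2 z2' x2' z3'.symm n2 n1 (z3' ▸ n3) ?_ (fun g hg => ?_) hloc
    · by_contra! k'
      push Not at k
      refine n3 (hC.le (Subgroup.mem_centralizer_iff.2 fun u hu => ?_))
      rw [eq_comm, ← mul_inv_eq_iff_eq_mul]
      calc (x : G) * z * u * ((x : G) * z)⁻¹ = x * (z * u * (z : G)⁻¹) * (x : G)⁻¹ := by group
        _ = u := by rw [k u hu, k' _ (Subgroup.inv_mem _ hu), inv_inv]
    · obtain ⟨u, hu, e⟩ := norm g hg
      rw [← z3']
      exact ⟨u, hu, by tauto⟩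

end Cfsg.Agent.S3805
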