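import Cfsg.Statements.S3806
import Cfsg.Agent.Solv.MaxUnif

set_option autoImplicit false
open Cfsg

namespace Cfsg.Agent.S3806

open Subgroup Cfsg.Lib.Solv Cfsg.Lib.Trans Cfsg.Lib.Fus.Ess

/-- Let p be a prime and S a finite p-group of order pⁿ (n ≥ 2) of maximal nilpotency class n − 1 whose sectional p-rank is exactly k (every section has p-rank at most k, and some section has p-rank k). If p ≥ k + 2 then the order of S is at most p^(2k). -/
theorem result {S : Type*} [Group S] [Finite S] (p : ℕ) [Fact p.Prime] (hS : IsPGroup p S) [Group.IsNilpotent S]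
    (n : ℕ) (hn : 2 ≤ n) (hcard : Nat.card S = p ^ n) (hmax : Group.nilpotencyClass S = n - 1)
    (k : ℕ) (hk : 1 ≤ k) (hsr : Cfsg.SectionalPRankLE p k S ∧ ¬ Cfsg.SectionalPRankLE p (k - 1) S)
    (hpk : k + 2 ≤ p) : Nat.card S ≤ p ^ (2 * k) := by

  have hp : p.Prime := Fact.out
  have hp1 := hp.one_lt
  obtain ⟨m, rfl⟩ : ∃ m, n = m + 2 := ⟨n - 2, by omega⟩
  have h : MC p m S :=
    ⟨hcard, (nilpotencyClass_eq_iff_lowerCentralSeries_ne_bot hcard).1 hmax⟩
  rw [hcard]
  refine Nat.pow_le_pow_right hp.pos ?_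
  by_contra hc
  have hs := PG.secRank_iff.1 hsr.1
  rcases Nat.lt_or_ge k 2 with hk2 | hk2
  · obtain rfl : k = 1 := by omega
    have h1 := hs ⊤ (gam S 1) le_rfl (fun x _ => h.pow_mem_gam (by omega) x)
    rw [relIndex_top_right] at h1
    have h2 := index_mul_card (gam S 1)
    rw [h.card_gam le_rfl, hcard] at h2
    have h3 : p ^ (m + 2) ≤ p ^ 1 * p ^ (m + 1 - 1) := h2 ▸ Nat.mul_le_mul_right _ h1
    rw [← pow_add, Nat.pow_le_pow_iff_right hp1] at h3
    omega
  · have h1 := hs (gam S (k - 1)) (gam S (2 * k)) ?_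
      (fun x hx => gam_anti (by omega) (h.pow_mem' (by omega) hx))
    · have h2 := PG.relIndex_mul_card (gam_anti (G := S) (show k - 1 ≤ 2 * k by omega))
      rw [h.card_gam (by omega), h.card_gam (by omega)] at h2
      have h3 : p ^ (m + 1 - (k - 1)) ≤ p ^ k * p ^ (m + 1 - 2 * k) :=
        h2 ▸ Nat.mul_le_mul_right _ h1
      rw [← pow_add, Nat.pow_le_pow_iff_right hp1] at h3
      omega
    · obtain ⟨x, hx, hx'⟩ := h.exists_not_mem (i := k - 1) (by omega) (by omega)
      have e := h.sup_zpowers (by omega) hx hx'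
      have h2 : ⁅gam S (k - 1 + 1), gam S (k - 1)⁆ ≤ gam S (2 * k) :=
        Subgroup.commutator_le.2 fun a ha b hb => comm_mem_gam ha hb (by omega)
      conv_lhs => rw [← e]
      refine commutator_sup_left_le (h2.trans' (commutator_mono le_rfl e.le)) ?_
      refine commutator_sup_right_le ?_ ?_
      · rw [Subgroup.commutator_comm]
        exact h2.trans' (commutator_mono le_rfl (le_sup_right.trans e.le))
      · refine Subgroup.commutator_le.2 ?_
        rintro _ ⟨a, rfl⟩ _ ⟨b, rfl⟩
        rw [commutatorElement_eq_one_iff_commute.2 (Commute.zpow_zpow_self x a b)]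
        exact one_mem _

end Cfsg.Agent.S3806
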