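import Cfsg.Statements.S3808
import Cfsg.Agent.Solv.ExtraSub

set_option autoImplicit false
open Cfsg

namespace Cfsg.Agent.S3808

open Cfsg.Lib.Solv Cfsg.Lib.Solv.PG Subgroup
open scoped commutatorElement

/-- Let S be a finite p-group with an extraspecial subgroup Q of index p. Then either Z(S) = Z(Q), or S = Q·Z(S) and Z(S) has order p². -/
theorem result {S : Type*} [Group S] [Finite S] (p : ℕ) [Fact p.Prime] (hS : IsPGroup p S) (Q : Subgroup S) (hQ : Cfsg.IsExtraspecial p ↥Q) (hQi : Q.index = p) :
    Subgroup.center S = (Subgroup.center ↥Q).map Q.subtype ∨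
      (Q ⊔ Subgroup.center S = ⊤ ∧ Nat.card (Subgroup.center S) = p ^ 2) := by
  have hp : p.Prime := Fact.out
  have := normal_of_index_eq_prime hS hQi
  have hc := isCoatom_of_index_prime (hQi ▸ hp : Q.index.Prime)
  have hZ := es_card_inf_centralizer hQ
  have h1 : Q ⊓ centralizer (Q : Set S) ≤ center S := le_center_of_card_eq_prime hS _ hZ
  have h2 : Q ⊓ center S = Q ⊓ centralizer (Q : Set S) :=
    le_antisymm (inf_le_inf_left _ (center_le_centralizer _)) (le_inf inf_le_left h1)
  rw [map_subtype_center]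
  by_cases h : center S ≤ Q
  · exact Or.inl (by rw [← h2, inf_eq_right.mpr h])
  · have h3 : Q ⊔ center S = ⊤ := hc.2 _ (left_lt_sup.mpr h)
    refine Or.inr ⟨h3, ?_⟩
    have h4 := card_sup_mul_card_inf (K := Q) (H := center S) le_normalizer_of_normal
    rw [h3, h2, hZ, card_top, ← Q.index_mul_card, hQi] at h4
    refine Nat.eq_of_mul_eq_mul_left (Nat.card_pos (α := Q)) ?_
    rw [← h4]; ring

end Cfsg.Agent.S3808
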