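import Cfsg.Statements.S3809
import Cfsg.Agent.Solv.ExtraSub

set_option autoImplicit false
open Cfsg

namespace Cfsg.Agent.S3809

open Cfsg.Lib.Solv Cfsg.Lib.Solv.PG Subgroup
open scoped commutatorElement

/-- Let S be a finite p-group with an extraspecial subgroup of index p. Then S has order p^(2+2n) for some n ≥ 1, derived length at most 3, and exponent dividing p³. -/
theorem result {S : Type*} [Group S] [Finite S] (p : ℕ) [Fact p.Prime] (hS : IsPGroup p S) (Q : Subgroup S) (hQ : Cfsg.IsExtraspecial p ↥Q) (hQi : Q.index = p) :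
    (∃ n : ℕ, 1 ≤ n ∧ Nat.card S = p ^ (2 + 2 * n)) ∧ derivedSeries S 3 = ⊥ ∧ ∀ x : S, x ^ (p ^ 3) = 1 := by
  obtain ⟨n, hn, hc⟩ := es_exists_card_eq hQ
  refine ⟨⟨n, hn, by rw [← Q.index_mul_card, hQi, hc]; ring⟩, ?_, fun x => ?_⟩
  · have h1 : derivedSeries S 1 ≤ Q := commutator_le_of_index_eq_prime hS hQi
    have h2 : derivedSeries S 2 ≤ Q ⊓ centralizer (Q : Set S) :=
      (commutator_mono h1 h1).trans (es_commutator_eq hQ).le
    rw [derivedSeries_succ, commutator_eq_bot_iff_le_centralizer]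
    exact (h2.trans inf_le_right).trans (centralizer_le (h2.trans inf_le_left))
  · rw [pow_succ, sq, pow_mul, pow_mul]
    exact es_pow_eq_one hQ (es_pow_mem hQ (pow_mem_of_index_eq_prime hS hQi x))

end Cfsg.Agent.S3809
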