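import Cfsg.Statements.S3810
import Cfsg.Agent.Solv.ExtraSub

set_option autoImplicit false
open Cfsg

namespace Cfsg.Agent.S3810

open Cfsg.Lib.Solv Cfsg.Lib.Solv.PG Subgroup
open scoped commutatorElement

/-- Let S be a finite p-group with an extraspecial subgroup of index p. Then S has an abelian subgroup of index p if and only if S has order p⁴. -/
theorem result {S : Type*} [Group S] [Finite S] (p : ℕ) [Fact p.Prime] (hS : IsPGroup p S) (Q : Subgroup S) (hQ : Cfsg.IsExtraspecial p ↥Q) (hQi : Q.index = p) :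
    (∃ A : Subgroup S, IsMulCommutative ↥A ∧ A.index = p) ↔ Nat.card S = p ^ 4 := by
  have hp : p.Prime := Fact.out
  refine ⟨fun ⟨A, hA, hAi⟩ => ?_, exists_abelian_index_prime_of_card_eq⟩
  have := normal_of_index_eq_prime hS hAi
  have hna := es_not_isMulCommutative hQ
  have h1 : (A.subgroupOf Q).index = p := by
    refine ((Nat.dvd_prime hp).mp (hAi ▸ relIndex_dvd_index_of_normal A Q)).resolve_left fun h => ?_
    exact hna (Cfsg.Lib.FT.BG4.isMulCommutative_of_le hA (relIndex_eq_one.mp h))
  have h2 := card_commutator_mul_card_center hQ.1.1 hna h1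
  rw [hQ.1.2.2, hQ.2] at h2
  rw [← Q.index_mul_card, ← (A.subgroupOf Q).index_mul_card, hQi, h1, ← h2]; ring

end Cfsg.Agent.S3810
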