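import Cfsg.Statements.S3811
import Cfsg.Agent.Solv.Cores
import Cfsg.Agent.Solv.Conj
import Cfsg.Agent.Solv.CoprimeBasic
import Cfsg.Agent.Solv.PGroupNormal

set_option autoImplicit false
open Cfsg

namespace Cfsg.Agent.S3811

open Subgroup Cfsg.Lib.Solv Pointwise

universe u

structure Soft (p : ℕ) {P : Type*} [Group P] (E : Subgroup P) : Prop where
  comm : IsMulCommutative E
  cent : centralizer (E : Set P) ≤ E
  idx : E.relIndex (normalizer (E : Set P)) = p

def Claim (p i : ℕ) : Prop :=
  ∀ (P : Type u) [Group P] [Finite P], IsPGroup p P → ∀ E K : Subgroup P, Soft p E → E ≤ K →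
    K ≠ ⊤ → E.relIndex K = p ^ i →
      K.relIndex (normalizer (K : Set P)) = p ∧ Group.nilpotencyClass K = i + 1

theorem class_congr {A B : Type*} [Group A] [Group B] [Group.IsNilpotent A] (e : A ≃* B) :
    Group.nilpotencyClass A = Group.nilpotencyClass B := by
  have : Group.IsNilpotent B := Group.nilpotent_of_surjective e.toMonoidHom e.surjective
  exact le_antisymm (Group.nilpotencyClass_le_of_surjective e.symm.toMonoidHom e.symm.surjective)
    (Group.nilpotencyClass_le_of_surjective e.toMonoidHom e.surjective)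

theorem index_centralizer_lt {G : Type*} [Group G] [Finite G] (N : Subgroup G) [hN : N.Normal]
    {x : G} (hx : x ∈ N) (h1 : x ≠ 1) : (centralizer ({x} : Set G)).index < Nat.card N := by
  classical
  let f : G ⧸ centralizer ({x} : Set G) → N := Quotient.lift
    (fun g : G => (⟨g * x * g⁻¹, hN.conj_mem x hx g⟩ : N)) (by
      intro a b hab
      have h := mem_centralizer_singleton_iff.1 (QuotientGroup.leftRel_apply.1 hab)
      refine Subtype.ext ?_
      change a * x * a⁻¹ = b * x * b⁻¹
      calc a * x * a⁻¹ = a * (x * (a⁻¹ * b)) * b⁻¹ := by group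
        _ = b * x * b⁻¹ := by rw [← h]; group)
  have hf : Function.Injective f := by
    intro a b hab
    obtain ⟨a, rfl⟩ := QuotientGroup.mk_surjective a
    obtain ⟨b, rfl⟩ := QuotientGroup.mk_surjective b
    have h : a * x * a⁻¹ = b * x * b⁻¹ := congrArg Subtype.val hab
    refine QuotientGroup.eq.2 (mem_centralizer_singleton_iff.2 ?_)
    calc a⁻¹ * b * x = a⁻¹ * (b * x * b⁻¹) * b := by group
      _ = x * (a⁻¹ * b) := by rw [← h]; group
  have hr : (1 : N) ∉ Set.range f := by
    rintro ⟨a, ha⟩
    obtain ⟨a, rfl⟩ := QuotientGroup.mk_surjective a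
    have h : a * x * a⁻¹ = 1 := congrArg Subtype.val ha
    exact h1 (by simpa using h)
  have := Fintype.ofFinite (G ⧸ centralizer ({x} : Set G))
  have := Fintype.ofFinite N
  rw [index, Nat.card_eq_fintype_card, Nat.card_eq_fintype_card]
  exact Fintype.card_lt_of_injective_of_notMem f hf hr

variable {p : ℕ} [hp : Fact p.Prime]

theorem norm_le {P : Type*} [Group P] [Finite P] (hP : IsPGroup p P) {X K : Subgroup P}
    (h : X.relIndex (normalizer (X : Set P)) = p) (hXK : X < K) : normalizer (X : Set P) ≤ K := by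
  have h1 := PG.lt_inf_normalizer (hP.to_subgroup K) hXK
  have h2 : Nat.card (normalizer (X : Set P)) = p * Nat.card X := by
    rw [← PG.relIndex_mul_card (le_normalizer : X ≤ _), h]
  have h3 := (PG.eq_or_eq_of_card_eq_prime_mul hp.out h2 h1.le inf_le_right).resolve_left h1.ne'
  exact h3 ▸ inf_le_left

theorem first {P : Type*} [Group P] [Finite P] (hP : IsPGroup p P) {E K : Subgroup P}
    [hKn : K.Normal] (hE : Soft p E) (hK : K = normalizer (E : Set P)) (hK1 : K ≠ ⊤) :
    K.index = p := by
  have := hE.comm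
  have hEK : E ≤ K := hK ▸ le_normalizer
  have hc : Nat.card K = p * Nat.card E := by
    rw [← PG.relIndex_mul_card hEK, hK, hE.idx]
  obtain ⟨g, -, hg⟩ := SetLike.not_le_iff_exists.1 (fun h => hK1 (top_le_iff.1 h) : ¬ ⊤ ≤ K)
  set F := MulAut.conj g • E with hF
  have hFE : F ≠ E := fun h => hg (hK ▸ Coprime.mem_normalizer_iff_conj_smul.2 h)
  have hFc : Nat.card F = Nat.card E := Coprime.card_conj_smul E g
  have hFK : F ≤ K := fun x hx => by
    have := hKn.conj_mem _ (hEK (Coprime.mem_conj_smul.1 hx)) g
    simpa [mul_assoc] using this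
  have hsup : E ⊔ F = K := by
    refine (PG.eq_or_eq_of_card_eq_prime_mul hp.out hc le_sup_left (sup_le hEK hFK)).resolve_left ?_
    intro h
    exact hFE (PG.eq_of_le_of_card_eq (h ▸ le_sup_right) hFc)
  have hD : Nat.card E = p * Nat.card (E ⊓ F : Subgroup P) := by
    have h := PG.card_sup_mul_card_inf (K := E) (H := F) (hK ▸ hFK)
    rw [hsup, hc, hFc, mul_comm p, mul_assoc] at h
    exact (Nat.eq_of_mul_eq_mul_left Nat.card_pos h).symm
  set Z := K ⊓ centralizer (K : Set P) with hZ
  have hZn : Z.Normal := inferInstance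
  have hZE : Z ≤ E := inf_le_right.trans ((centralizer_le hEK).trans hE.cent)
  have hDZ : E ⊓ F ≤ Z := by
    refine le_inf (inf_le_left.trans hEK) ?_
    rw [le_centralizer_iff, ← hsup, sup_le_iff]
    constructor
    · exact fun a ha b hb => PG.mul_comm_of_mem hb.1 ha
    · intro a ha b hb
      have h := PG.mul_comm_of_mem (Coprime.mem_conj_smul.1 hb.2) (Coprime.mem_conj_smul.1 ha)
      calc b * a = g * ((g⁻¹ * b * g) * (g⁻¹ * a * g)) * g⁻¹ := by group
        _ = a * b := by rw [h]; group
  have hZE' : Z ≠ E := by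
    intro h
    have h1 : K ≤ E := (le_centralizer_iff.1 (h ▸ inf_le_right : E ≤ centralizer (K : Set P))).trans
      hE.cent
    have h2 := card_le_of_le h1
    have h3 : 0 < Nat.card E := Nat.card_pos
    have := hp.out.two_le
    nlinarith
  have hZD := (PG.eq_or_eq_of_card_eq_prime_mul hp.out hD hDZ hZE).resolve_right hZE'
  rw [← hZD] at hD
  obtain ⟨e, he, heZ⟩ := SetLike.not_le_iff_exists.1 (fun h => hZE' (le_antisymm hZE h) : ¬ E ≤ Z)
  have hEe := PG.sup_zpowers_eq_of_card_eq_prime_mul hp.out hZE hD he heZ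
  set π := QuotientGroup.mk' Z with hπ
  have hπs : Function.Surjective π := QuotientGroup.mk'_surjective Z
  have hKn' : (K.map π).Normal := hKn.map π hπs
  have h1 := index_centralizer_lt (K.map π) (mem_map_of_mem π (hEK he))
    (fun h => heZ ((QuotientGroup.eq_one_iff e).1 h))
  have h2 : Nat.card (K.map π) = p * p := by
    have h := PG.relIndex_eq_of_card_eq_mul (inf_le_left : Z ≤ K) (n := p * p)
      (by rw [hc, hD, mul_assoc])
    rw [← h, ← relIndex_ker, hπ, QuotientGroup.ker_mk']
  have h3 : (centralizer ({π e} : Set (P ⧸ Z))).comap π ≤ K := by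
    intro x hx
    have hx' : π (x * e * x⁻¹ * e⁻¹) = 1 := by
      have := mem_centralizer_singleton_iff.1 (mem_comap.1 hx)
      rw [map_mul, map_mul, map_mul, this, map_inv, map_inv]
      group
    have hx2 : x * e * x⁻¹ ∈ E := by
      simpa using mul_mem (hZE ((QuotientGroup.eq_one_iff _).1 hx')) he
    rw [hK]
    refine mem_normalizer_fintype fun y hy => ?_
    rw [← hEe] at hy
    obtain ⟨z, hz, n, rfl⟩ := (PG.mem_sup_zpowers_iff (le_normalizer_of_normal (mem_top e) :
      e ∈ normalizer (Z : Set P))).1 hy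
    have : x * (z * e ^ n) * x⁻¹ = (x * z * x⁻¹) * (x * e * x⁻¹) ^ n := by
      rw [conj_zpow]; group
    rw [this]
    exact mul_mem (hZE (hZn.conj_mem z hz x)) (zpow_mem hx2 n)
  have h4 := index_dvd_of_le h3
  rw [index_comap_of_surjective _ hπs] at h4
  have h5 := Nat.le_of_dvd (Nat.pos_of_ne_zero index_ne_zero_of_finite) h4
  obtain ⟨k, hk⟩ := hP.index K
  have h6 : p ^ k < p ^ 2 := by rw [← hk, sq]; omega
  have h7 := (Nat.pow_lt_pow_iff_right hp.out.one_lt).1 h6
  have h8 : k ≠ 0 := by
    rintro rfl
    exact hK1 (index_eq_one.1 hk)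
  rw [hk, show k = 1 by omega, pow_one]

theorem step {i : ℕ} (ih : ∀ j ≤ i, Claim.{u} p j) {P : Type u} [Group P] [Finite P]
    (hP : IsPGroup p P) {E K : Subgroup P} [hKn : K.Normal] (hE : Soft p E) (hEK : E ≤ K)
    (hK1 : K ≠ ⊤) (hi : E.relIndex K = p ^ (i + 1)) :
    K.index = p ∧ Group.nilpotencyClass K = i + 2 := by
  have := hE.comm
  have hlt : E < K := by
    refine lt_of_le_of_ne hEK ?_
    rintro rfl
    rw [relIndex_self] at hi
    exact (Nat.one_lt_pow (Nat.succ_ne_zero i) hp.out.one_lt).ne hi
  set N := normalizer (E : Set P) with hN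
  have hNK : N ≤ K := norm_le hP hE.idx hlt
  have hNc : Nat.card N = p * Nat.card E := by
    rw [← PG.relIndex_mul_card (le_normalizer : E ≤ N), hE.idx]
  have hNi : N.relIndex K = p ^ i := by
    have h := relIndex_mul_relIndex E N K le_normalizer hNK
    rw [hE.idx, hi, pow_succ'] at h
    exact Nat.eq_of_mul_eq_mul_left hp.out.pos h
  set Z := K ⊓ centralizer (K : Set P) with hZ
  have hZn : Z.Normal := inferInstance
  have hZE : Z ≤ E := inf_le_right.trans ((centralizer_le hEK).trans hE.cent)
  have hcl : normalClosure (E : Set P) = K := by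
    have h1 : normalClosure (E : Set P) ≤ K := normalClosure_le_normal hEK
    by_contra hne
    have h2 := relIndex_mul_relIndex E _ K le_normalClosure h1
    rw [hi] at h2
    obtain ⟨j, hj, hj'⟩ := (Nat.dvd_prime_pow hp.out).1 (Dvd.intro _ h2)
    have hji : j ≤ i := by
      by_contra h
      have : j = i + 1 := by omega
      rw [hj', this] at h2
      have h3 := Nat.eq_of_mul_eq_mul_left (pow_pos hp.out.pos _) (h2.trans (mul_one _).symm)
      exact hne (le_antisymm h1 (relIndex_eq_one.1 h3))
    have h3 := (ih j hji P hP E _ hE le_normalClosure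
      (fun h => hK1 (top_le_iff.1 (h ▸ h1))) hj').1
    rw [normalizer_eq_top, relIndex_top_right] at h3
    exact hK1 ((PG.isCoatom_of_index_prime (h3 ▸ hp.out)).2 K (lt_of_le_of_ne h1 hne))
  set π := QuotientGroup.mk' Z with hπ
  have hπs : Function.Surjective π := QuotientGroup.mk'_surjective Z
  have hker : π.ker = Z := QuotientGroup.ker_mk' Z
  have hQ : IsPGroup p (P ⧸ Z) := hP.to_quotient Z
  have hKn' : (K.map π).Normal := hKn.map π hπs
  have hcm : ∀ X : Subgroup P, E ≤ X → (X.map π).comap π = X := fun X hX =>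
    comap_map_eq_self (hker.le.trans (hZE.trans hX))
  have hnorm : ∀ x : P, (∀ e ∈ E, π e * π x = π x * π e) → x ∈ N := by
    intro x hx
    refine mem_normalizer_fintype fun e he => ?_
    have hx' : π (x * e * x⁻¹ * e⁻¹) = 1 := by
      rw [map_mul, map_mul, map_mul, ← hx e he, map_inv, map_inv]
      group
    simpa using mul_mem (hZE ((QuotientGroup.eq_one_iff _).1 hx')) he
  obtain ⟨x, hx, hxE⟩ : ∃ x ∈ (K.map π ⊓ centralizer (K.map π : Set (P ⧸ Z))).comap π, x ∉ E := by
    by_contra h
    push Not at h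
    set Y := (K.map π ⊓ centralizer (K.map π : Set (P ⧸ Z))).comap π with hY
    have hYn : Y.Normal := inferInstance
    have h1 : K ≤ centralizer (Y : Set P) := by
      rw [← hcl]
      exact normalClosure_le_normal fun a ha b hb => PG.mul_comm_of_mem (h b hb) ha
    have h2 : Y ≤ Z := le_inf (fun y hy => hEK (h y hy)) (le_centralizer_iff.1 h1)
    have hK0 : K.map π ≠ ⊥ := by
      intro h0
      rw [Subgroup.map_eq_bot_iff, hker] at h0
      exact hlt.2 (h0.trans hZE)
    apply PG.inf_centralizer_ne_bot (hQ.to_subgroup _) (hQ.to_subgroup _) le_normalizer hK0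
    rw [← map_comap_eq_self_of_surjective hπs (K.map π ⊓ _), Subgroup.map_eq_bot_iff, hker]
    exact h2
  have hxN : x ∈ N := hnorm x fun e he => hx.2 _ (mem_map_of_mem π (hEK he))
  have hNx : E ⊔ zpowers x = N := PG.sup_zpowers_eq_of_card_eq_prime_mul hp.out le_normalizer hNc hxN hxE
  have hN1 : N.relIndex (normalizer (N : Set P)) = p := by
    rcases Nat.eq_zero_or_pos i with rfl | hi0
    · have hKN : K = N := le_antisymm (relIndex_eq_one.1 hNi) hNK
      rw [← hKN, normalizer_eq_top, relIndex_top_right]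
      exact first hP hE hKN hK1
    · exact (ih 1 hi0 P hP E N hE le_normalizer (fun h => hK1 (top_le_iff.1 (h ▸ hNK)))
        (by rw [hE.idx, pow_one])).1
  have hsoft : Soft p (N.map π) := by
    refine ⟨?_, ?_, ?_⟩
    · rw [← hNx, Subgroup.map_sup, MonoidHom.map_zpowers]
      exact PG.isMulCommutative_sup_zpowers (centralizer_le (map_mono hEK) hx.2)
    · intro y hy
      obtain ⟨y, rfl⟩ := hπs y
      exact mem_map_of_mem π (hnorm y fun e he => hy _ (mem_map_of_mem π (le_normalizer he)))
    · rw [← map_comap_eq_self_of_surjective hπs (normalizer _), ← relIndex_comap,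
        comap_normalizer_eq_of_surjective _ hπs, hcm N le_normalizer, hN1]
  obtain ⟨h1, h2⟩ := ih i le_rfl _ hQ _ (K.map π) hsoft (map_mono hNK)
    (fun h => hK1 (by rw [← hcm K hEK, h, comap_top]))
    (by rw [← relIndex_comap, hcm N le_normalizer, hNi])
  rw [normalizer_eq_top, relIndex_top_right, index_map_eq _ hπs (hker.le.trans inf_le_left)] at h1
  refine ⟨h1, ?_⟩
  have : Group.IsNilpotent K := (hP.to_subgroup K).isNilpotent
  have : Nontrivial K := (Subgroup.nontrivial_iff_ne_bot K).2 (ne_bot_of_gt hlt)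
  have hk2 : (π.subgroupMap K).ker = center K := by
    ext y
    rw [MonoidHom.mem_ker, Subtype.ext_iff, mem_center_iff]
    change π y = 1 ↔ _
    rw [← MonoidHom.mem_ker, hker]
    exact ⟨fun h g => Subtype.ext (h.2 g g.2),
      fun h => ⟨y.2, fun g hg => congrArg Subtype.val (h ⟨g, hg⟩)⟩⟩
  rw [Group.nilpotencyClass_eq_quotient_center_plus_one,
    class_congr ((QuotientGroup.quotientMulEquivOfEq hk2.symm).trans
      (QuotientGroup.quotientKerEquivOfSurjective _ (π.subgroupMap_surjective K))), h2]

theorem claim (i : ℕ) : Claim.{u} p i := by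
  induction i using Nat.strong_induction_on with
  | _ i ih =>
  intro P _ _ hP E K hE hEK hK1 hi
  have : Group.IsNilpotent P := hP.isNilpotent
  cases i with
  | zero =>
    obtain rfl : E = K := le_antisymm hEK (relIndex_eq_one.1 hi)
    refine ⟨hE.idx, ?_⟩
    have := hE.comm
    have hne : E ≠ ⊥ := by
      intro h
      have h1 := hE.cent
      rw [h] at h1 hK1
      exact hK1 (top_le_iff.1 fun x _ => h1 fun y hy => by
        rw [mem_bot.1 hy, mul_one, one_mul])
    have : Nontrivial E := (Subgroup.nontrivial_iff_ne_bot E).2 hne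
    have h1 : Group.nilpotencyClass E ≤ 1 := by
      open scoped IsMulCommutative in exact CommGroup.nilpotencyClass_le_one
    have h2 : Group.nilpotencyClass E ≠ 0 := fun h =>
      not_subsingleton E (Group.nilpotencyClass_zero_iff_subsingleton.1 h)
    omega
  | succ i =>
    have hlt : E < K := by
      refine lt_of_le_of_ne hEK ?_
      rintro rfl
      rw [relIndex_self] at hi
      exact (Nat.one_lt_pow (Nat.succ_ne_zero i) hp.out.one_lt).ne hi
    set G := normalizer (K : Set P) with hG
    have hKG : K ≤ G := le_normalizer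
    have hEG : E ≤ G := hEK.trans hKG
    have hsoft : Soft p (E.subgroupOf G) := by
      have := hE.comm
      refine ⟨inferInstance, ?_, ?_⟩
      · rw [← subgroupOf_centralizer hEG]
        exact comap_mono hE.cent
      · rw [← subgroupOf_normalizer_eq hEG,
          relIndex_subgroupOf ((norm_le hP hE.idx hlt).trans hKG), hE.idx]
    have hne : K.subgroupOf G ≠ ⊤ := by
      rw [Ne, subgroupOf_eq_top]
      exact (Group.normalizerCondition_of_isNilpotent K hK1.lt_top).2
    have hn : (K.subgroupOf G).Normal := normal_in_normalizer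
    obtain ⟨h1, h2⟩ := step (K := K.subgroupOf G) (fun j hj => ih j (Nat.lt_succ_of_le hj))
      (hP.to_subgroup G) hsoft
      (comap_mono hEK) hne (by rw [relIndex_subgroupOf hKG, hi])
    exact ⟨h1, by rw [← class_congr (subgroupOfEquivOfLe hKG), h2]⟩

/-- Let P be a finite p-group and E an abelian subgroup of P that contains its centralizer, has index p in its normalizer, and has index at least p² in P. Then the subgroups of P containing E are totally ordered by inclusion, each proper one has index p in its normalizer (so they form the normalizer tower of E, with all steps of index p), and the i-th member of the tower above E has nilpotency class i + 1 whenever it is a proper subgroup of P. -/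
theorem result {P : Type*} [Group P] [Finite P] (p : ℕ) [Fact p.Prime] (hP : IsPGroup p P)
    (E : Subgroup P) (hEab : IsMulCommutative ↥E) (hC : Subgroup.centralizer (E : Set P) ≤ E)
    (hN : (E.subgroupOf (Subgroup.normalizer (E : Set P))).index = p) (hidx : p ^ 2 ≤ E.index) :
    (∀ K L : Subgroup P, E ≤ K → E ≤ L → K ≤ L ∨ L ≤ K) ∧
      (∀ K : Subgroup P, E ≤ K → K ≠ ⊤ → (K.subgroupOf (Subgroup.normalizer (K : Set P))).index = p) ∧
      ∀ (i : ℕ) (K : Subgroup P) [Group.IsNilpotent ↥K], E ≤ K → K ≠ ⊤ → K.index * p ^ i = E.index →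
        Group.nilpotencyClass ↥K = i + 1 := by
  have hE : Soft p E := ⟨hEab, hC, hN⟩
  have h2 : ∀ K : Subgroup P, E ≤ K → K ≠ ⊤ →
      K.relIndex (Subgroup.normalizer (K : Set P)) = p := by
    intro K hEK hK
    obtain ⟨i, hi⟩ := (hP.to_subgroup K).index (E.subgroupOf K)
    exact (claim i P hP E K hE hEK hK hi).1
  refine ⟨fun K L hK hL => ?_, h2, fun i K _ hEK hK hi => ?_⟩
  · by_contra h
    push Not at h
    have h1 : K ⊓ L < K := lt_of_le_of_ne inf_le_left fun he => h.1 (inf_eq_left.1 he)
    have h3 : K ⊓ L < L := lt_of_le_of_ne inf_le_right fun he => h.2 (inf_eq_right.1 he)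
    have h4 := h2 (K ⊓ L) (le_inf hK hL) h1.ne_top
    have h5 := relIndex_eq_one.2 (le_inf (norm_le hP h4 h1) (norm_le hP h4 h3))
    exact (Fact.out : p.Prime).one_lt.ne' (h4.symm.trans h5)
  · refine (claim i P hP E K hE hEK hK ?_).2
    have h := relIndex_mul_index hEK
    rw [← hi, mul_comm] at h
    exact Nat.eq_of_mul_eq_mul_left (Nat.pos_of_ne_zero index_ne_zero_of_finite) h

end Cfsg.Agent.S3811
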