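import Cfsg.Statements.S3824
import Cfsg.Agent.Char.Burnside
import Cfsg.Agent.Solv.ClassSize

set_option autoImplicit false
open Cfsg Cfsg.Lib.Solv

namespace Cfsg.Agent.S3824

/-- Every finite group having an abelian subgroup whose index is a power of 2 is solvable. -/
theorem result {G : Type*} [Group G] [Finite G]
    (A : Subgroup G) (hA : IsMulCommutative A) (hidx : ∃ k : ℕ, A.index = 2 ^ k) : Group.IsSolvable G := by
  revert A
  refine card_induction (P := fun G _ _ => ∀ A : Subgroup G, IsMulCommutative A →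
    (∃ k : ℕ, A.index = 2 ^ k) → Group.IsSolvable G) ?_ G
  rintro G _ _ ih A hA ⟨k, hk⟩
  have hdvd : ∀ n : ℕ, n ∣ A.index → ∃ j, n = 2 ^ j := fun n hn => by
    rw [hk] at hn
    obtain ⟨j, -, hj⟩ := (Nat.dvd_prime_pow Nat.prime_two).1 hn
    exact ⟨j, hj⟩
  by_cases hs : IsSimpleGroup G
  · by_cases hA1 : A = ⊥
    · rw [hA1, Subgroup.index_bot] at hk
      have := (IsPGroup.of_card hk).isNilpotent
      infer_instance
    · obtain ⟨⟨z, hz⟩, hz1⟩ := Subgroup.ne_bot_iff_exists_ne_one.1 hA1
      have h := Cfsg.Lib.Char.prime_card_of_simple_of_center_index Nat.prime_two A hk (g := z)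
        (fun h => hz1 (Subtype.ext h))
        (fun h hh => congrArg Subtype.val (hA.is_comm.comm (⟨h, hh⟩ : A) ⟨z, hz⟩))
      have : Fact (Nat.card G).Prime := ⟨h⟩
      have : IsCyclic G := isCyclic_of_prime_card rfl
      exact Group.isSolvable_of_comm (IsCyclic.isMulCommutative (α := G)).is_comm.comm
  · rcases subsingleton_or_nontrivial G with h | h
    · infer_instance
    · rw [isSimpleGroup_iff] at hs
      push Not at hs
      obtain ⟨N, hN, hN1, hN2⟩ := hs h
      rw [Group.isSolvable_iff_subgroup_quotient N]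
      exact ⟨ih N (card_lt_of_ne_top hN2) (A.subgroupOf N) inferInstance
          (hdvd _ (ClassSize.relIndex_dvd_index_of_normal_right A N)),
        ih (G ⧸ N) (card_quotient_lt hN1) (A.map (QuotientGroup.mk' N)) inferInstance
          (hdvd _ (Subgroup.index_map_dvd A (QuotientGroup.mk'_surjective N)))⟩

end Cfsg.Agent.S3824
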