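import Cfsg.Statements.S3868
import Cfsg.Agent.Solv.MinNonClosed
import Cfsg.Agent.Local.PCoreOf
import Cfsg.Agent.Solv.SylowNumber

set_option autoImplicit false
open Cfsg

namespace Cfsg.Agent.S3868

open Cfsg.Lib.Solv
open scoped Pointwise

/-- Structure of the non-simple minimal non-p-closed groups. Call a finite group p-closed when its Sylow p-subgroups are normal, and minimal non-p-closed when it is not p-closed but every proper subgroup and every proper quotient is. If such a group G is not simple, then there is a prime q ≠ p such that G has order p · q^e, where e is the multiplicative order of q modulo p, and G has a normal subgroup A of order q^e that is elementary abelian and is a minimal normal subgroup of G (so G is the semidirect product of A by a group of order p acting irreducibly). -/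
theorem result {G : Type*} [Group G] [Finite G] {p : ℕ} [Fact p.Prime]
    (hnc : ¬ Cfsg.IsPClosed p G) (hsub : ∀ H : Subgroup G, H ≠ ⊤ → Cfsg.IsPClosed p ↥H)
    (hquo : ∀ (N : Subgroup G) [N.Normal], N ≠ ⊥ → Cfsg.IsPClosed p (G ⧸ N)) (hns : ¬ IsSimpleGroup G) :
    ∃ q : ℕ, q.Prime ∧ q ≠ p ∧ Nat.card G = p * q ^ orderOf (q : ZMod p) ∧
      ∃ A : Subgroup G, A.Normal ∧ Nat.card ↥A = q ^ orderOf (q : ZMod p) ∧ Cfsg.IsElementaryAbelian q A ∧
        ∀ B : Subgroup G, B.Normal → B ≤ A → B = ⊥ ∨ B = A := by
  open Cfsg.Lib.Local Cfsg.Lib.Trans in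
  have hp : p.Prime := Fact.out
  have hO : ∀ K : Subgroup G, K.Normal → IsPGroup p K → K = ⊥ := by
    intro K hK hKp
    by_contra h0
    apply hnc
    rw [← MSS.isPClosed_top_iff]
    refine MSS.isPClosed_of_map (QuotientGroup.mk' K) (by rwa [QuotientGroup.ker_mk']) ?_
    exact MSS.isPClosed_subgroup (hquo K h0) _
  have hnt : Nontrivial G := by
    by_contra h
    rw [not_nontrivial_iff_subsingleton] at h
    exact hnc (MSS.isPClosed_of_coprime (by simp))
  obtain ⟨N, hN, hNt⟩ := exists_isMinNormal_ne_top hns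
  haveI := hN.normal
  have hOn : ∀ K : Subgroup G, K.Normal → pCoreOf p K = ⊥ := fun K hK =>
    hO _ (normal_map_subtype_of_char _) (MSS.isPGroup_pCoreOf K)
  have hcop : ∀ K : Subgroup G, K.Normal → K ≠ ⊤ → (Nat.card K).Coprime p := by
    intro K hK hKt
    obtain ⟨T, hT⟩ := exists_isSylowIn (p := p) K
    have := MSS.isPClosed_subgroup_iff.1 (hsub K hKt) T hT.le hT.isPGroup
    rw [hOn K hK, le_bot_iff] at this
    exact (hp.coprime_iff_not_dvd.2 (hT.eq_bot_iff.1 this)).symm
  have hd : p ∣ Nat.card G := by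
    by_contra h
    exact hnc (MSS.isPClosed_of_coprime (hp.coprime_iff_not_dvd.2 h).symm)
  obtain ⟨x, hx⟩ := exists_prime_orderOf_dvd_card' p hd
  have hxN : x ∉ Subgroup.centralizer (N : Set G) := by
    intro hxN
    have hC : Subgroup.centralizer (N : Set G) = ⊤ := by
      by_contra h
      exact hp.coprime_iff_not_dvd.1 (hcop _ inferInstance h).symm
        (hx ▸ Subgroup.orderOf_dvd_natCard _ hxN)
    obtain ⟨P⟩ : Nonempty (Sylow p G) := inferInstance
    have h1 := (isSylowIn_top P).map (QuotientGroup.mk' N)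
    have h2 := (MSS.isPClosed_iff_of_isSylowIn h1).1 (MSS.isPClosed_subgroup (hquo N hN.ne_bot) _)
    rw [Subgroup.map_le_iff_le_comap, normalizer_map_mk'_eq, normalizer_sylow_sup, top_le_iff,
      sup_eq_left.2 ((Subgroup.le_centralizer_iff.1 (le_top.trans hC.ge)).trans
        (Subgroup.centralizer_le_normalizer _))] at h2
    exact hnc (MSS.isPClosed_of_normal_sylow P (Subgroup.normalizer_eq_top_iff.1 h2))
  obtain ⟨q, hq, hqp, h1, h2, h3⟩ := structure_of_prime_order_on_isMinNormal hN (hcop N hN.normal hNt)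
    hx hxN (fun H hH hxH => ⟨pCoreOf p H, MSS.isPGroup_pCoreOf H,
      MSS.isPClosed_subgroup_iff.1 (hsub H hH) _ (Subgroup.zpowers_le.2 hxH)
        (IsPGroup.of_card (n := 1) (by rw [Nat.card_zpowers, hx, pow_one])) (Subgroup.mem_zpowers x),
      Subgroup.le_normalizer.trans (MSS.normalizer_le_normalizer_pCoreOf H)⟩)
  exact ⟨q, hq, hqp, h1, N, hN.normal, h2, h3, hN.min⟩

end Cfsg.Agent.S3868
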