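import Cfsg.Statements.S3869
import Cfsg.Agent.Solv.MinNonClosed
import Cfsg.Agent.Local.PCoreOf
import Cfsg.Agent.Solv.PGroupNormal

set_option autoImplicit false
open Cfsg

namespace Cfsg.Agent.S3869

open Cfsg.Lib.Solv
open scoped Pointwise

/-- Let p and q be distinct primes and G a finite non-abelian group with a normal elementary abelian q-subgroup A that is a minimal normal subgroup of G and has index p. Then A has order q^e with e the multiplicative order of q modulo p, and G is minimal non-p-closed: its Sylow p-subgroups are not normal, while in every proper subgroup and in every proper quotient of G the Sylow p-subgroups are normal. -/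
theorem result {G : Type*} [Group G] [Finite G] {p q : ℕ} [Fact p.Prime] (hq : q.Prime) (hpq : q ≠ p)
    (hna : ¬ IsMulCommutative G) (A : Subgroup G) [A.Normal] (hA : Cfsg.IsElementaryAbelian q A) (hidx : A.index = p)
    (hmin : ∀ B : Subgroup G, B.Normal → B ≤ A → B = ⊥ ∨ B = A) :
    Nat.card ↥A = q ^ orderOf (q : ZMod p) ∧ ¬ Cfsg.IsPClosed p G ∧ (∀ H : Subgroup G, H ≠ ⊤ → Cfsg.IsPClosed p ↥H) ∧
      ∀ (N : Subgroup G) [N.Normal], N ≠ ⊥ → Cfsg.IsPClosed p (G ⧸ N) := by
  open Cfsg.Lib.Local Cfsg.Lib.Trans in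
  have hp : p.Prime := Fact.out
  haveI : Fact q.Prime := ⟨hq⟩
  haveI : ElemAb q A := ElemAb.of_isElementaryAbelian hA
  haveI := hA.1
  have hAq : IsPGroup q A := ElemAb.isPGroup q A
  have hAp : (Nat.card A).Coprime p :=
    coprime_card_of_isPGroup hAq ((Nat.coprime_primes hp hq).2 hpq.symm)
  have hco : IsCoatom A := PG.isCoatom_of_index_prime (hidx ▸ hp)
  have hsup : ∀ H : Subgroup G, ¬ H ≤ A → A ⊔ H = ⊤ := fun H hH =>
    hco.2 _ (lt_of_le_of_ne le_sup_left fun h => hH (h ▸ le_sup_right))
  have hC : Subgroup.centralizer (A : Set G) ≤ A := by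
    intro x hx
    by_contra hxA
    apply hna
    have h1 := hsup _ (mt Subgroup.zpowers_le.1 hxA)
    have h2 : (⊤ : Subgroup G) ≤ Subgroup.centralizer ((⊤ : Subgroup G) : Set G) := by
      rw [← h1]
      refine sup_le (Subgroup.le_centralizer_iff.1 (sup_le (Subgroup.le_centralizer A)
        (Subgroup.zpowers_le.2 hx))) (Subgroup.le_centralizer_iff.1 (sup_le
        (Subgroup.le_centralizer_iff.1 (Subgroup.zpowers_le.2 hx)) (Subgroup.le_centralizer _)))
    exact ⟨⟨fun a b => (h2 (Subgroup.mem_top b) a (Subgroup.mem_top a))⟩⟩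
  have hall : ∀ (K : Subgroup G) [K.Normal] (H : Subgroup G),
      H ≤ Subgroup.normalizer (K : Set G) := fun K _ H => by
    rw [Subgroup.normalizer_eq_top]; exact le_top
  have hirr : ∀ B H : Subgroup G, B ≤ A → ¬ H ≤ A → H ≤ Subgroup.normalizer (B : Set G) →
      B = ⊥ ∨ B = A := by
    intro B H hB hH hHB
    refine hmin B (Subgroup.normalizer_eq_top_iff.1 (eq_top_iff.2 ?_)) hB
    rw [← hsup H hH]
    exact sup_le (((Subgroup.le_centralizer A).trans (Subgroup.centralizer_le
      (SetLike.coe_subset_coe.2 hB))).trans (Subgroup.centralizer_le_normalizer _)) hHB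
  have hnorm : ∀ (N : Subgroup G) [N.Normal], N ≠ ⊥ → A ≤ N := by
    intro N _ hN
    rcases hmin (A ⊓ N) inferInstance inf_le_left with h | h
    · exact absurd (by
        rw [← h]
        exact le_antisymm (le_inf ((le_centralizer_of_disjoint (hall _ _) (hall _ _)
          (by rw [inf_comm, h])).trans hC) le_rfl) inf_le_right) hN
    · exact inf_eq_left.1 h
  obtain ⟨x, -, hxA⟩ := SetLike.exists_of_lt hco.lt_top
  refine ⟨card_eq_pow_orderOf_of_irreducible hpq (hall A ⊤ (Subgroup.mem_top x))
    (Subgroup.le_centralizer A (hidx ▸ A.pow_index_mem x)) (fun h => hxA (hC h))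
    fun B hB hxB => hirr B _ hB (mt Subgroup.zpowers_le.1 hxA) (Subgroup.zpowers_le.2 hxB),
    fun h => ?_, fun H hH => ?_, fun N _ hN => ?_⟩
  · obtain ⟨P⟩ : Nonempty (Sylow p G) := inferInstance
    haveI := h P
    have hP : (P : Subgroup G) ≠ ⊥ :=
      P.ne_bot_of_dvd_card (hidx ▸ A.index_dvd_card)
    have h1 := hnorm P hP
    have h2 := inf_eq_bot_of_isPGroup_of_coprime P.isPGroup' hAp
    rw [inf_eq_right.2 h1] at h2
    rw [h2] at hC hxA
    exact hxA (hC (by simp [Subgroup.mem_centralizer_iff]))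
  · by_cases hHA : H ≤ A
    · exact MSS.isPClosed_of_coprime (hAp.coprime_dvd_left (Subgroup.card_dvd_of_le hHA))
    · rcases hirr (A ⊓ H) H inf_le_left hHA
        (le_normalizer_inf (hall _ _) Subgroup.le_normalizer) with h | h
      · refine MSS.isPClosed_of_isPGroup ?_
        have h1 := card_inf_mul_relIndex A H
        rw [h, Subgroup.card_bot, one_mul] at h1
        have h2 : Nat.card H ∣ p ^ 1 := by
          rw [← h1, pow_one, ← hidx]; exact Subgroup.relIndex_dvd_index_of_normal _ _
        obtain ⟨k, -, hk⟩ := (Nat.dvd_prime_pow hp).1 h2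
        exact IsPGroup.of_card hk
      · exact absurd (by rw [← hsup H hHA, sup_eq_right.2 (inf_eq_left.1 h)]) hH
  · refine MSS.isPClosed_of_isPGroup ?_
    have h2 : Nat.card (G ⧸ N) ∣ p ^ 1 := by
      rw [pow_one, ← hidx]; exact Subgroup.index_dvd_of_le (hnorm N hN)
    obtain ⟨k, -, hk⟩ := (Nat.dvd_prime_pow hp).1 h2
    exact IsPGroup.of_card hk

end Cfsg.Agent.S3869
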