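import Cfsg.Statements.S3870
import Cfsg.Agent.Local.PCoreOf
import Cfsg.Agent.Solv.Conj

set_option autoImplicit false
open Cfsg

namespace Cfsg.Agent.S3870

open Cfsg.Lib.Solv
open scoped Pointwise

/-- Let G be a finite simple group whose Sylow p-subgroups are not normal but such that every proper subgroup of G has a normal Sylow p-subgroup. Then any two distinct Sylow p-subgroups of G intersect trivially, and for every Sylow p-subgroup P the normalizer of every non-identity subgroup of P lies in the normalizer of P. -/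
theorem result {G : Type*} [Group G] [Finite G] [IsSimpleGroup G] {p : ℕ} [Fact p.Prime]
    (hnc : ¬ Cfsg.IsPClosed p G) (hsub : ∀ H : Subgroup G, H ≠ ⊤ → Cfsg.IsPClosed p ↥H) :
    (∀ P Q : Sylow p G, P ≠ Q → (P : Subgroup G) ⊓ (Q : Subgroup G) = ⊥) ∧
      ∀ (P : Sylow p G) (R : Subgroup G), R ≤ P → R ≠ ⊥ →
        Subgroup.normalizer (R : Set G) ≤ Subgroup.normalizer ((P : Subgroup G) : Set G) := by
  open Cfsg.Lib.Trans Cfsg.Lib.Local in
  have key : ∀ R : Subgroup G, R ≠ ⊥ → ∀ P Q : Sylow p G, R ≤ P → R ≤ Q → P = Q := by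
    intro R
    induction R using WellFoundedGT.induction with
    | ind R ih =>
    intro hR P Q hP hQ
    by_cases h1 : R = P
    · exact (Sylow.ext (P.3 Q.isPGroup' (h1 ▸ hQ))).symm
    by_cases h2 : R = Q
    · exact Sylow.ext (Q.3 P.isPGroup' (h2 ▸ hP))
    have hN : Subgroup.normalizer (R : Set G) ≠ ⊤ := by
      intro h
      rcases IsSimpleGroup.eq_bot_or_eq_top_of_normal R (Subgroup.normalizer_eq_top_iff.1 h)
        with h | h
      · exact hR h
      · exact h1 (le_antisymm hP (h ▸ le_top))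
    have hc := Cfsg.Lib.Local.MSS.isPClosed_subgroup_iff.1 (hsub _ hN)
    obtain ⟨U, hU⟩ := (Cfsg.Lib.Local.MSS.isPGroup_pCoreOf (p := p)
      (Subgroup.normalizer (R : Set G))).exists_le_sylow
    have k : ∀ P : Sylow p G, R ≤ P → R ≠ P → P = U := by
      intro P hP h1
      have hlt := lt_inf_normalizer P.isPGroup' (lt_of_le_of_ne hP h1)
      exact ih _ hlt (ne_bot_of_gt hlt) P U inf_le_left
        ((hc _ inf_le_right (P.isPGroup'.to_le inf_le_left)).trans hU)
    exact (k P hP h1).trans (k Q hQ h2).symm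
  refine ⟨fun P Q hne => ?_, fun P R hRP hR g hg => ?_⟩
  · by_contra h
    exact hne (key _ h P Q inf_le_left inf_le_right)
  · rw [mem_normalizer_iff_conj_smul_eq, ← Cfsg.Lib.Solv.coe_sylow_smul]
    congr 1
    refine key R hR _ _ ?_ hRP
    rw [Cfsg.Lib.Solv.coe_sylow_smul, ← conj_smul_eq_of_mem_normalizer hg]
    exact conj_smul_mono g hRP

end Cfsg.Agent.S3870
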