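import Cfsg.Statements.S3872
import Cfsg.Agent.Solv.Regular
import Cfsg.Agent.Solv.CyclicIndexP

set_option autoImplicit false
open Cfsg

namespace Cfsg.Agent.S3872


open Cfsg.Lib.Solv Subgroup

/-- Say that a finite group is p-exponent closed when its elements of order dividing p form a subgroup. Let G be a finite p-group that is not p-exponent closed, but all of whose proper subgroups and proper quotients are. Then G is generated by two elements, has nilpotency class at least p, has exponent p², has cyclic center, and has order at least p^(p+1). -/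
theorem result {G : Type*} [Group G] [Finite G] {p : ℕ} [Fact p.Prime] (hG : IsPGroup p G)
    (hnc : ¬ (∃ H : Subgroup G, (H : Set G) = {g : G | g ^ p = 1})) (hsub : ∀ K : Subgroup G, K ≠ ⊤ → (∃ H : Subgroup ↥K, (H : Set ↥K) = {g : ↥K | g ^ p = 1}))
    (hquo : ∀ (N : Subgroup G) [N.Normal], N ≠ ⊥ → (∃ H : Subgroup (G ⧸ N), (H : Set (G ⧸ N)) = {g : (G ⧸ N) | g ^ p = 1})) :
    (∃ x y : G, Subgroup.closure ({x, y} : Set G) = ⊤) ∧ (⊤ : Subgroup G).lowerCentralSeries (p - 1) ≠ ⊥ ∧
      Monoid.exponent G = p ^ 2 ∧ IsCyclic ↥(Subgroup.center G) ∧ p ^ (p + 1) ≤ Nat.card G := by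
  have hp : p.Prime := Fact.out
  obtain ⟨x, y, hx, hy, hxy⟩ : ∃ x y : G, x ^ p = 1 ∧ y ^ p = 1 ∧ (x * y) ^ p ≠ 1 := by
    by_contra h
    push Not at h
    exact hnc ⟨{ carrier := {g | g ^ p = 1}, one_mem' := one_pow p
                 mul_mem' := fun ha hb => h _ _ ha hb
                 inv_mem' := fun {a} (ha : a ^ p = 1) =>
                   show a⁻¹ ^ p = 1 by rw [inv_pow, ha, inv_one] }, rfl⟩
  have hgen : closure ({x, y} : Set G) = ⊤ := by
    by_contra h
    obtain ⟨H, hH⟩ := hsub _ h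
    have h0 := Set.ext_iff.mp hH
    exact hxy (congrArg Subtype.val ((h0 _).mp (H.mul_mem
      ((h0 ⟨x, left_mem_closure_pair x y⟩).mpr (Subtype.ext hx))
      ((h0 ⟨y, right_mem_closure_pair x y⟩).mpr (Subtype.ext hy)))))
  have hcl : (⊤ : Subgroup G).lowerCentralSeries (p - 1) ≠ ⊥ := fun h => by
    have := Reg.mul_pow_eq_one hG (reg_of_lowerCentralSeries_eq_bot hp h) (k := 1) (x := x) (y := y)
    simp only [pow_one] at this
    exact hxy (this hx hy)
  have hpow : ∀ (N : Subgroup G) [N.Normal], N ≠ ⊥ → ∀ g : G, g ^ p ∈ N := by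
    intro N _ hN g
    obtain ⟨H, hH⟩ := hquo N hN
    have h1 : H = ⊤ := by
      rw [eq_top_iff, ← map_top_of_surjective _ (QuotientGroup.mk'_surjective N), ← hgen,
        map_closure_pair, closure_pair_le, ← SetLike.mem_coe, ← SetLike.mem_coe, hH]
      exact ⟨show _ = _ by rw [← map_pow, hx, map_one], show _ = _ by rw [← map_pow, hy, map_one]⟩
    have h2 : (g : G ⧸ N) ∈ (H : Set _) := h1 ▸ mem_top _
    rw [hH] at h2
    exact (QuotientGroup.eq_one_iff _).mp h2
  have hcn : ∀ H : Subgroup G, H ≤ center G → H.Normal := fun H hH =>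
    ⟨fun a ha g => by rwa [mem_center_iff.mp (hH ha) g, mul_inv_cancel_right]⟩
  refine ⟨⟨x, y, hgen⟩, hcl, ?_, ?_, ?_⟩
  · obtain ⟨z, -, hz, hzo⟩ := PG.exists_mem_center_orderOf_eq hG ⊤ (by
      intro h
      have : x * y ∈ (⊥ : Subgroup G) := h ▸ mem_top _
      exact hxy (by rw [mem_bot.mp this, one_pow]))
    have := hcn _ (zpowers_le.mpr hz)
    have h1 : Monoid.exponent G ∣ p ^ 2 := Monoid.exponent_dvd_of_forall_pow_eq_one fun g => by
      have h2 := PG.pow_card_eq_one_of_mem (hpow (zpowers z) (by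
        rw [Ne, zpowers_eq_bot, ← orderOf_eq_one_iff, hzo]; exact hp.one_lt.ne') g)
      rwa [Nat.card_zpowers, hzo, ← pow_mul, ← sq] at h2
    obtain ⟨k, hk, h2⟩ := (Nat.dvd_prime_pow hp).mp h1
    rcases hk.eq_or_lt with rfl | hk
    · exact h2
    · refine absurd (orderOf_dvd_iff_pow_eq_one.mp ((Monoid.order_dvd_exponent _).trans ?_)) hxy
      rw [h2]
      exact (pow_dvd_pow p (by omega : k ≤ 1)).trans (pow_one p).dvd
  · refine PG.isCyclic_of_unique_card_prime (hG.to_subgroup _) (fun H K hH hK h1 h2 => ?_)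
      (Or.inr inferInstance)
    have := hcn H hH
    have := hcn K hK
    have hne : ∀ L : Subgroup G, Nat.card L = p → L ≠ ⊥ := by
      rintro L hL rfl
      exact hp.one_lt.ne (card_bot.symm.trans hL)
    have key : ∀ L : Subgroup G, ∀ [L.Normal], Nat.card L = p → zpowers ((x * y) ^ p) = L := by
      intro L _ hL
      have h3 := zpowers_le.mpr (hpow L (hne L hL) (x * y))
      refine (PG.eq_or_eq_of_card_eq_prime_mul hp (M := ⊥) (by rw [hL, card_bot, mul_one])
        bot_le h3).resolve_left ?_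
      rwa [zpowers_eq_bot]
    exact (key H h1).symm.trans (key K h2)
  · by_contra h
    obtain ⟨m, hm⟩ := IsPGroup.iff_card.mp hG
    have := hG.isNilpotent
    have h2 := hp.two_le
    rw [hm, Nat.pow_le_pow_iff_right hp.one_lt] at h
    refine hcl (Subgroup.lowerCentralSeries_eq_bot_iff_nilpotencyClass_le.mpr
      ((PG.nilpotencyClass_le_of_card_le hG (m := p - 2) ?_).trans (by omega)))
    rw [hm]
    exact Nat.pow_le_pow_right hp.pos (by omega)

end Cfsg.Agent.S3872
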