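import Cfsg.Statements.S3873
import Cfsg.Agent.Solv.MinNonClosed
import Cfsg.Agent.Solv.SylowNumber
import Cfsg.Agent.Trans.SylowIn

set_option autoImplicit false
open Cfsg

namespace Cfsg.Agent.S3873

open Cfsg.Lib.Solv
open scoped Pointwise

/-- Say that a finite group is p-exponent closed when its elements of order dividing p form a subgroup. Let G be a finite group that is not p-exponent closed, but all of whose proper subgroups and proper quotients are, and suppose G is neither simple nor a p-group. Then there is a prime q ≠ p such that G has order p · q^e, where e is the multiplicative order of q modulo p, and G has a normal elementary abelian subgroup of order q^e that is a minimal normal subgroup of G. -/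
theorem result {G : Type*} [Group G] [Finite G] {p : ℕ} [Fact p.Prime]
    (hnc : ¬ (∃ H : Subgroup G, (H : Set G) = {g : G | g ^ p = 1})) (hsub : ∀ K : Subgroup G, K ≠ ⊤ → (∃ H : Subgroup ↥K, (H : Set ↥K) = {g : ↥K | g ^ p = 1}))
    (hquo : ∀ (N : Subgroup G) [N.Normal], N ≠ ⊥ → (∃ H : Subgroup (G ⧸ N), (H : Set (G ⧸ N)) = {g : (G ⧸ N) | g ^ p = 1}))
    (hns : ¬ IsSimpleGroup G) (hnp : ¬ IsPGroup p G) :
    ∃ q : ℕ, q.Prime ∧ q ≠ p ∧ Nat.card G = p * q ^ orderOf (q : ZMod p) ∧
      ∃ A : Subgroup G, A.Normal ∧ Nat.card ↥A = q ^ orderOf (q : ZMod p) ∧ Cfsg.IsElementaryAbelian q A ∧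
        ∀ B : Subgroup G, B.Normal → B ≤ A → B = ⊥ ∨ B = A := by
  open Cfsg.Lib.Trans in
  have hp : p.Prime := Fact.out
  have hsub' : ∀ K : Subgroup G, K ≠ ⊤ → ∃ R : Subgroup G, ∀ g, g ∈ R ↔ g ∈ K ∧ g ^ p = 1 := by
    intro K hK
    obtain ⟨H, hH⟩ := hsub K hK
    refine ⟨H.map K.subtype, fun g => ⟨?_, ?_⟩⟩
    · rintro ⟨a, ha, rfl⟩
      rw [hH] at ha
      exact ⟨a.2, congrArg Subtype.val (show a ^ p = 1 from ha)⟩
    · rintro ⟨h1, h2⟩
      refine ⟨⟨g, h1⟩, ?_, rfl⟩
      rw [hH]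
      exact Subtype.ext h2
  have hRp : ∀ K R : Subgroup G, (∀ g, g ∈ R ↔ g ∈ K ∧ g ^ p = 1) → IsPGroup p R ∧
      Subgroup.normalizer (K : Set G) ≤ Subgroup.normalizer (R : Set G) := by
    intro K R hR
    refine ⟨fun g => ⟨1, Subtype.ext (by simpa using ((hR g).1 g.2).2)⟩, fun x hx => ?_⟩
    refine mem_normalizer_of_conj_mem fun g hg => (hR _).2
      ⟨conj_mem_of_mem_normalizer hx ((hR g).1 hg).1, ?_⟩
    rw [conj_pow, ((hR g).1 hg).2, mul_one, mul_inv_cancel]
  have hgen : ∀ K : Subgroup G, (∀ g : G, g ^ p = 1 → g ∈ K) → K = ⊤ := by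
    intro K hK
    by_contra h
    obtain ⟨R, hR⟩ := hsub' K h
    exact hnc ⟨R, Set.ext fun g => ⟨fun hg => ((hR g).1 hg).2, fun hg => (hR g).2 ⟨hK g hg, hg⟩⟩⟩
  have hnt : Nontrivial G := by
    by_contra h
    rw [not_nontrivial_iff_subsingleton] at h
    exact hnp fun g => ⟨0, Subsingleton.elim _ _⟩
  obtain ⟨N, hN, hNt⟩ := exists_isMinNormal_ne_top hns
  haveI := hN.normal
  have hq : IsPGroup p (G ⧸ N) := by
    obtain ⟨L, hL⟩ := hquo N hN.ne_bot
    have := hgen (L.comap (QuotientGroup.mk' N)) fun g hg => by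
      rw [Subgroup.mem_comap, ← SetLike.mem_coe, hL, Set.mem_ofPred_eq, ← map_pow, hg, map_one]
    intro y
    obtain ⟨g, rfl⟩ := QuotientGroup.mk'_surjective N y
    have h1 : g ∈ L.comap (QuotientGroup.mk' N) := this ▸ Subgroup.mem_top g
    rw [Subgroup.mem_comap, ← SetLike.mem_coe, hL] at h1
    exact ⟨1, by rw [pow_one]; exact h1⟩
  have hNp : (Nat.card N).Coprime p := by
    obtain ⟨R, hR⟩ := hsub' N hNt
    obtain ⟨h1, h2⟩ := hRp N R hR
    rw [Subgroup.normalizer_eq_top, top_le_iff, Subgroup.normalizer_eq_top_iff] at h2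
    rcases hN.min R h2 (fun g hg => ((hR g).1 hg).1) with h | h
    · rw [Nat.coprime_comm, hp.coprime_iff_not_dvd]
      intro hd
      obtain ⟨⟨x, hxN⟩, hx⟩ := exists_prime_orderOf_dvd_card' p hd
      rw [Subgroup.orderOf_mk] at hx
      have := (hR x).2 ⟨hxN, hx ▸ pow_orderOf_eq_one x⟩
      rw [h, Subgroup.mem_bot] at this
      rw [this, orderOf_one] at hx
      exact hp.one_lt.ne hx
    · exfalso
      subst h
      have := (hq.to_subgroup ⊤).comap_of_ker_isPGroup (QuotientGroup.mk' R)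
        (by rwa [QuotientGroup.ker_mk'])
      exact hnp (this.of_equiv Subgroup.topEquiv)
  have hex : ∃ x : G, x ^ p = 1 ∧ x ∉ Subgroup.centralizer (N : Set G) := by
    by_contra hne
    push Not at hne
    have hC := hgen _ hne
    obtain ⟨P⟩ : Nonempty (Sylow p G) := inferInstance
    have h1 := (isSylowIn_top P).map (QuotientGroup.mk' N)
    have h2 : Subgroup.normalizer (((P : Subgroup G) ⊔ N : Subgroup G) : Set G) = ⊤ := by
      rw [← normalizer_map_mk'_eq, ← h1.eq_of_le (hq.to_subgroup _) h1.le le_rfl,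
        Subgroup.map_top_of_surjective _ (QuotientGroup.mk'_surjective N),
        Subgroup.normalizer_eq_top, Subgroup.comap_top]
    rw [normalizer_sylow_sup,
      sup_eq_left.2 ((Subgroup.le_centralizer_iff.1 (le_top.trans hC.ge)).trans
        (Subgroup.centralizer_le_normalizer _))] at h2
    have h3 := hgen P fun g hg => le_sylow_of_normalizes (U := Subgroup.zpowers g)
      (by
        obtain ⟨k, -, hk⟩ := (Nat.dvd_prime_pow hp).1
          (show orderOf g ∣ p ^ 1 by rw [pow_one]; exact orderOf_dvd_of_pow_eq_one hg)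
        exact IsPGroup.of_card (by rw [Nat.card_zpowers, hk]))
      P (h2 ▸ le_top) (Subgroup.mem_zpowers g)
    exact hnp ((h3 ▸ P.isPGroup' : IsPGroup p (⊤ : Subgroup G)).of_equiv Subgroup.topEquiv)
  obtain ⟨x, hxp, hxN⟩ := hex
  have hx : orderOf x = p := orderOf_eq_prime hxp (by rintro rfl; exact hxN (Subgroup.one_mem _))
  obtain ⟨q, hq, hqp, h1, h2, h3⟩ := structure_of_prime_order_on_isMinNormal hN hNp
    hx hxN (fun H hH hxH => by
      obtain ⟨R, hR⟩ := hsub' H hH
      exact ⟨R, (hRp H R hR).1, (hR x).2 ⟨hxH, hxp⟩, Subgroup.le_normalizer.trans (hRp H R hR).2⟩)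
  exact ⟨q, hq, hqp, h1, N, hN.normal, h2, h3, hN.min⟩

end Cfsg.Agent.S3873
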