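import Cfsg.Statements.S3875
import Cfsg.Agent.S0999
import Cfsg.Agent.S3868
import Cfsg.Agent.Class.PGL2Sub
import Cfsg.Agent.Known.FrobSemi
import Cfsg.Agent.Local.PCoreOf
import Cfsg.Agent.Solv.Cores

set_option autoImplicit false
open Cfsg

namespace Cfsg.Agent.S3875

open Subgroup Cfsg.Lib.Local.MSS

/-- Let p be an odd prime and let m be the least prime power congruent to 1 modulo p. Then the least order of a finite group whose Sylow p-subgroups are not normal is the smaller of p · m and p(p² − 1)/2: every finite group whose Sylow p-subgroups are not normal has at least that order, and some group of exactly that order has non-normal Sylow p-subgroups. -/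
theorem result (p : ℕ) [Fact p.Prime] (hp : p ≠ 2) (m : ℕ) (hm : IsPrimePow m) (hm1 : m % p = 1)
    (hleast : ∀ k : ℕ, IsPrimePow k → k % p = 1 → m ≤ k) :
    (∀ (H : Type) [Group H] [Finite H], ¬ Cfsg.IsPClosed p H → min (p * m) (p * (p ^ 2 - 1) / 2) ≤ Nat.card H) ∧
      ∃ (H : Type) (_ : Group H) (_ : Finite H), Nat.card H = min (p * m) (p * (p ^ 2 - 1) / 2) ∧ ¬ Cfsg.IsPClosed p H := by
  have hp' : p.Prime := Fact.out
  have hp3 : 3 ≤ p := by have := hp'.two_le; omega
  refine ⟨fun H _ _ => ?_, ?_⟩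
  · suffices ∀ (n : ℕ) (H : Type) [Group H] [Finite H], Nat.card H = n → ¬ IsPClosed p H →
      min (p * m) (p * (p ^ 2 - 1) / 2) ≤ Nat.card H from this _ H rfl
    clear! H
    intro n
    induction' n using Nat.strong_induction_on with n ih
    rintro H _ _ rfl hH
    by_contra hlt
    have hsub : ∀ K : Subgroup H, K ≠ ⊤ → IsPClosed p K := fun K hK => by_contra fun h =>
      hlt ((ih _ (lt_of_le_of_ne K.card_le_card_group fun h => hK (K.card_eq_iff_eq_top.1 h))
        K rfl h).trans K.card_le_card_group)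
    have hquo : ∀ (N : Subgroup H) [N.Normal], N ≠ ⊥ → IsPClosed p (H ⧸ N) := fun N _ hN =>
      by_contra fun h => by
        have h1 : Nat.card (H ⧸ N) < Nat.card H := by
          rw [card_eq_card_quotient_mul_card_subgroup N]
          exact lt_mul_of_one_lt_right Nat.card_pos (N.one_lt_card_iff_ne_bot.2 hN)
        exact hlt ((ih _ h1 _ rfl h).trans h1.le)
    by_cases hs : IsSimpleGroup H
    swap
    · obtain ⟨q, hq, hqp, hc, -⟩ := S3868.result hH hsub hquo hs
      have h1 : (q : ZMod p) ≠ 0 := fun h => hqp ((Nat.prime_dvd_prime_iff_eq hp' hq).1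
        ((ZMod.natCast_eq_zero_iff q p).1 h)).symm
      refine hlt ((min_le_left _ _).trans (hc ▸ Nat.mul_le_mul_left p (hleast _
        (hq.isPrimePow.pow (isOfFinOrder_iff_pow_eq_one.2 ⟨p - 1, by omega,
          ZMod.pow_card_sub_one_eq_one h1⟩).orderOf_pos.ne') ?_)))
      rw [← Nat.mod_eq_of_lt hp'.one_lt]
      exact (ZMod.natCast_eq_natCast_iff' _ _ p).1 (by push_cast; exact pow_orderOf_eq_one _)
    have h1 : p * (p ^ 2 - 1) / 2 < p ^ 3 := (Nat.div_le_self _ _).trans_lt (by
      rw [pow_succ' p 2]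
      exact Nat.mul_lt_mul_of_pos_left (Nat.sub_lt (Nat.pow_pos hp'.pos) one_pos) hp'.pos)
    rcases S0999.result (fun _ => hH fun P => inferInstance) p hp' (by_contra fun h =>
      hH (isPClosed_of_coprime ((Nat.Prime.coprime_iff_not_dvd hp').2 h).symm))
      ((not_le.1 hlt).trans_le ((min_le_right _ _).trans h1.le)) with
      ⟨F, _, _, hF, -, ⟨e⟩⟩ | ⟨k, F, _, _, hF, hk, h3, ⟨e⟩⟩ <;>
    refine hlt ((min_le_right _ _).trans (Nat.div_le_of_le_mul ?_)) <;>
    have h2 := Lib.Class.gcd_mul_card_PSL2 (F := F) <;>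
    rw [Nat.card_eq_fintype_card (α := F), hF, ← Nat.card_congr e.toEquiv] at h2
    · rw [mul_assoc, mul_comm _ (p + 1), ← Nat.sq_sub_sq] at h2
      exact h2 ▸ Nat.mul_le_mul_right _ (Nat.gcd_le_left _ two_pos)
    · have h4 : Nat.gcd 2 (2 ^ k - 1) = 1 := Nat.coprime_two_left.2
        (Nat.Even.sub_odd Nat.one_le_two_pow (by
          rcases k with _ | k
          · omega
          · exact ⟨2 ^ k, by ring⟩) odd_one)
      obtain ⟨t, ht⟩ : ∃ t, 2 ^ k = t + 3 := ⟨2 ^ k - 3, by omega⟩
      rw [h4, one_mul] at h2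
      rw [h2, hk, ht, show (t + 3 + 1) ^ 2 - 1 = (t + 3) * (t + 5) from
        Nat.sub_eq_of_eq_add (by ring), show t + 3 - 1 = t + 2 by omega]
      have : t ≠ 0 := by
        rintro rfl
        have : 2 ^ k < 2 ^ 2 := by omega
        have := (Nat.pow_lt_pow_iff_right one_lt_two).1 this
        interval_cases k <;> omega
      calc _ = (t + 3) * (t + 4) * (t + 5) := by ring
        _ ≤ (t + 3) * (t + 4) * (2 * (t + 2)) := Nat.mul_le_mul_left _ (by omega)
        _ = _ := by ring
  rcases le_or_gt (p * m) (p * (p ^ 2 - 1) / 2) with h | h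
  · obtain ⟨q, k, hq, hk, rfl⟩ := (isPrimePow_nat_iff m).1 hm
    have := Fact.mk hq
    have hF := GaloisField.card q k hk.ne'
    have h1 : q ^ k ≡ 1 [MOD p] := by rw [Nat.ModEq, hm1, Nat.mod_eq_of_lt hp'.one_lt]
    obtain ⟨ζ, hζ⟩ := exists_prime_orderOf_dvd_card' (G := (GaloisField q k)ˣ) p (by
      rw [Nat.card_units, hF]
      exact (Nat.modEq_iff_dvd' (Nat.pow_pos hq.pos)).1 h1.symm)
    refine ⟨Multiplicative (GaloisField q k) ⋊[(Lib.Known.unitsMulAut _).comp (zpowers ζ).subtype]
      zpowers ζ, inferInstance, Finite.of_equiv _ SemidirectProduct.equivProd.symm, ?_, fun hc => ?_⟩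
    · rw [min_eq_left h, SemidirectProduct.card, Nat.card_zpowers, hζ, mul_comm]
      exact congrArg _ hF
    have := Finite.of_equiv _ (SemidirectProduct.equivProd (φ := (Lib.Known.unitsMulAut _).comp
      (zpowers ζ).subtype)).symm
    have h2 := isPClosed_iff.1 hc _ ((IsPGroup.of_card (n := 1) (G := zpowers ζ) (by
      rw [Nat.card_zpowers, hζ, pow_one])).of_surjective _
      (MonoidHom.rangeRestrict_surjective SemidirectProduct.inr)) ⟨⟨ζ, mem_zpowers ζ⟩, rfl⟩
    have h3 := mul_mem h2 (inv_mem ((inferInstance : (pCore p _).Normal).conj_mem _ h2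
      (SemidirectProduct.inl (Multiplicative.ofAdd 1))))
    have h4 := (Lib.Solv.inf_eq_bot_of_isPGroup_of_coprime (K := SemidirectProduct.inl.range)
      (Lib.Solv.pCore_isPGroup p _) (by
        rw [← Nat.card_congr (MonoidHom.ofInjective SemidirectProduct.inl_injective).toEquiv]
        change (Nat.card (GaloisField q k)).Coprime p
        rw [hF, Nat.Coprime, h1.gcd_eq, Nat.gcd_one_left])).le ⟨h3, by
        rw [SemidirectProduct.range_inl_eq_ker_rightHom]; simp [MonoidHom.mem_ker]⟩
    have h5 := congrArg (fun x => x.left.toAdd)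
      (mul_inv_eq_iff_eq_mul.1 (mul_inv_eq_one.1 (mem_bot.1 h4)).symm)
    simp [Lib.Known.unitsMulAut_apply] at h5
    rw [Units.val_eq_one.1 h5.symm, orderOf_one] at hζ
    omega
  · have h5 : 4 ≤ p := by
      by_contra h4
      obtain rfl : p = 3 := by omega
      have := hleast 4 ⟨2, 2, Nat.prime_two.prime, two_pos, rfl⟩ rfl
      omega
    have := Matrix.ProjectiveSpecialLinearGroup.rank_two_simple (F := ZMod p) (by simpa)
    have h2 := Lib.Class.gcd_mul_card_PSL2 (F := ZMod p)
    have h6 : 2 ∣ p - 1 := (hp'.even_sub_one hp).two_dvd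
    rw [Nat.card_zmod, Nat.gcd_eq_left h6, mul_assoc, mul_comm _ (p + 1), ← Nat.sq_sub_sq] at h2
    refine ⟨Matrix.ProjectiveSpecialLinearGroup (Fin 2) (ZMod p), inferInstance, inferInstance,
      by rw [min_eq_right h.le, ← one_pow 2, ← h2]; simp, fun hc => ?_⟩
    obtain ⟨P⟩ : Nonempty (Sylow p (Matrix.ProjectiveSpecialLinearGroup (Fin 2) (ZMod p))) :=
      inferInstance
    rcases (hc P).eq_bot_or_eq_top with h | h
    · refine P.ne_bot_of_dvd_card ?_ h
      exact ((Nat.coprime_primes hp' Nat.prime_two).2 hp).dvd_of_dvd_mul_left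
        (h2 ▸ dvd_mul_right _ _)
    · obtain ⟨j, hj⟩ := P.isPGroup'.exists_card_eq
      rw [h, card_top] at hj
      have h7 : p + 1 ∣ 2 * p ^ j := hj ▸ h2 ▸ Nat.sq_sub_sq p 1 ▸
        (dvd_mul_right _ _).mul_left _
      have := Nat.le_of_dvd two_pos ((Nat.Coprime.pow_right j (by simp)).dvd_of_dvd_mul_right h7)
      omega

end Cfsg.Agent.S3875
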