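import Cfsg.Statements.S3888
import Cfsg.Agent.Solv.RankTwoOdd

set_option autoImplicit false
open Cfsg

namespace Cfsg.Agent.S3888

open Subgroup Cfsg.Lib.Solv


/-- The classification of the p-groups of rank at most two for odd p. Let p be an odd prime and G a group of order p^n with no elementary abelian subgroup of order p³. Then one of the following holds: G is metacyclic; n ≥ 3 and G is generated by elements x, y, z with x^p = y^p = z^(p^(n−2)) = 1, z commuting with x and y, and x⁻¹yx = y z^(p^(n−3)); n ≥ 4 and G is generated by elements x, y, z with x^p = y^p = z^(p^(n−2)) = 1, yz = zy, x⁻¹yx = y z^(s p^(n−3)) and x⁻¹zx = yz, where s = 1 or s is a quadratic non-residue modulo p; or p = 3 and G has maximal class (nilpotency class n − 1). -/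
theorem result {G : Type*} [Group G] [Finite G] {p : ℕ} [Fact p.Prime] (hp : p ≠ 2) (n : ℕ) (hG : Nat.card G = p ^ n)
    (hrk : Cfsg.PRankLE p 2 G) :
    Cfsg.IsMetacyclic G ∨
    (3 ≤ n ∧ ∃ x y z : G, Subgroup.closure ({x, y, z} : Set G) = ⊤ ∧ x ^ p = 1 ∧ y ^ p = 1 ∧ z ^ p ^ (n - 2) = 1 ∧
        x * z = z * x ∧ y * z = z * y ∧ x⁻¹ * y * x = y * z ^ p ^ (n - 3)) ∨
    (4 ≤ n ∧ ∃ (s : ℕ) (x y z : G), (s = 1 ∨ ¬ IsSquare (s : ZMod p)) ∧ Subgroup.closure ({x, y, z} : Set G) = ⊤ ∧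
        x ^ p = 1 ∧ y ^ p = 1 ∧ z ^ p ^ (n - 2) = 1 ∧ y * z = z * y ∧ x⁻¹ * y * x = y * z ^ (s * p ^ (n - 3)) ∧
        x⁻¹ * z * x = y * z) ∨
    (p = 3 ∧ 2 ≤ n ∧ (⊤ : Subgroup G).lowerCentralSeries (n - 2) ≠ ⊥) := by
  have hP : IsPGroup p G := IsPGroup.of_card hG
  by_cases hU : (powerClosure p 1 (⊤ : Subgroup G)).index ≤ p ^ 2
  · exact Or.inl (R2.isMetacyclic_of_index_mho_le hp hP hU)
  have hpp : p.Prime := Fact.out
  set U := powerClosure p 1 (⊤ : Subgroup G) with hUdef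
  have hpU : ∀ x : G, x ^ p ∈ U := fun x => by
    simpa using PG.pow_mem_powerClosure (p := p) (n := 1) (mem_top x)
  by_cases hc : IsCyclic G
  · obtain ⟨a, ha⟩ := hc.exists_generator
    have : zpowers a = ⊤ := top_le_iff.1 fun x _ => ha x
    exact Or.inl (Cfsg.Lib.FT.BG4.isMetacyclic_iff.2
      ⟨a, a, this ▸ inferInstance, by rw [this, sup_idem]⟩)
  obtain ⟨T, -, hTn, hTc, hTp, hT⟩ := PG.exists_normal_elementary_sq hP ⊤
    (fun h => hc (PG.isCyclic_iff_top.2 h)) (Or.inl hp)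
  set A := centralizer (T : Set G) with hA
  have hTA : T ≤ A := le_centralizer T
  have hΩ : ∀ x ∈ A, x ^ p = 1 → x ∈ T := fun x hx hxp => by
    have := PG.isMulCommutative_sup_zpowers hx
    have h1 := hrk (T ⊔ zpowers x) this fun y hy => by
      obtain ⟨t, ht, k, rfl⟩ := (PG.mem_sup_zpowers_iff (centralizer_le_normalizer _ hx)).1 hy
      have e : Commute t x := mem_centralizer_iff.1 hx t ht
      rw [(e.zpow_right k).mul_pow, hTp t ht, ← zpow_natCast, ← zpow_mul, mul_comm k, zpow_mul,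
        zpow_natCast, hxp, one_zpow, one_mul]
    rw [eq_of_le_of_card_ge (le_sup_left : T ≤ T ⊔ zpowers x) (hT ▸ h1)]
    exact mem_sup_right (mem_zpowers x)
  have hfib : ∀ x ∈ A, ∀ y ∈ A, x ^ p = y ^ p → x⁻¹ * y ∈ T := fun x hx y hy e =>
    hΩ _ (mul_mem (inv_mem hx) hy) (congrArg Subtype.val
      (R2.inv_mul_pow_eq_one_of_central hp (hP.to_subgroup A) (fun a ha => mem_center_iff.2
        fun b => Subtype.ext (mem_centralizer_iff.1 b.2 _ (hΩ a a.2 (congrArg Subtype.val ha))).symm)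
        (x := ⟨x, hx⟩) (y := ⟨y, hy⟩) (Subtype.ext e)))
  obtain ⟨hle, hsurj⟩ := R2.card_le_and_surj hTA hfib (U := U) fun x _ => hpU x
  rw [hT] at hle hsurj
  have hUG := U.index_mul_card
  by_cases hAt : A = ⊤
  · rw [hAt, card_top, ← hUG, mul_comm] at hle
    exact absurd (Nat.le_of_mul_le_mul_left hle Nat.card_pos) hU
  have hS : ∀ s ∉ A, R2.Setup p T s := fun s hs =>
    ⟨hP, hTn, hT, fun x hx y hy => PG.mul_comm_of_mem hx hy, hTp, hs⟩
  obtain ⟨s₀, -, hs₀⟩ := SetLike.exists_of_lt (lt_top_iff_ne_top.2 hAt)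
  have hAi : A.index = p := (hS s₀ hs₀).index
  have hGA : Nat.card G = p * Nat.card A := by rw [← hAi, index_mul_card]
  have hmax : p = 3 → ∀ s : G, Nat.card (centralizer ({s} : Set G)) ≤ p ^ 2 →
      p = 3 ∧ 2 ≤ n ∧ (⊤ : Subgroup G).lowerCentralSeries (n - 2) ≠ ⊥ := fun h3 s hs => by
    have h1 : p ^ 2 ≤ p ^ n := by
      rw [← hG, ← hT]; exact card_le_card_group T
    obtain ⟨m, rfl⟩ := Nat.exists_eq_add_of_le' ((Nat.pow_le_pow_iff_right hpp.one_lt).1 h1)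
    exact ⟨h3, by omega, (Cfsg.Lib.Trans.nilpotencyClass_eq_iff_lowerCentralSeries_ne_bot hG).1
      (Cfsg.Lib.Trans.nilpotencyClass_eq_of_card_centralizer hG hs)⟩
  by_cases hex : ∃ s ∉ A, s ^ p = 1
  · obtain ⟨s, hs, hsp⟩ := hex
    rcases (hS s hs).comm_mem_or hp hTA hfib hsp with h1 | ⟨h3, h1⟩
    · rcases (hS s hs).families hp hG hsp hfib h1 with h2 | h2
      · exact Or.inr (Or.inl h2)
      · exact Or.inr (Or.inr (Or.inl h2))
    · exact Or.inr (Or.inr (Or.inr (hmax h3 s ((R2.Setup.card_centralizer_le hAi s).trans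
        (by rw [sq]; exact Nat.mul_le_mul_left _ h1)))))
  push Not at hex
  obtain ⟨k, hk⟩ := hP.index U
  have h3k : p ^ 3 ≤ U.index := by
    rw [hk] at hU ⊢
    exact Nat.pow_le_pow_right hpp.pos ((Nat.pow_lt_pow_iff_right hpp.one_lt).1 (not_le.1 hU))
  obtain ⟨a, ha, hap⟩ := hsurj (Nat.le_of_mul_le_mul_left (c := p) (by
    rw [← hGA, ← hUG]
    calc p * (Nat.card U * p ^ 2) = p ^ 3 * Nat.card U := by ring
      _ ≤ _ := Nat.mul_le_mul_right _ h3k) hpp.pos) _ (hpU s₀)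
  have hAn : A.Normal := PG.normal_of_index_eq_prime hP hAi
  have ht : a⁻¹⁻¹ * (s₀⁻¹ * a⁻¹ * s₀) ∈ T := hfib _ (inv_mem ha) _
    (by simpa using hAn.conj_mem _ (inv_mem ha) s₀⁻¹) (by
      have := conj_pow (a := s₀⁻¹) (b := a⁻¹) (i := p)
      rw [inv_inv] at this
      rw [this, inv_pow, hap]
      group)
  have hs : s₀ * a⁻¹ ∉ A := fun h => hs₀ (by simpa using mul_mem h ha)
  rcases (hS s₀ hs₀).mul_pow hp (inv_mem ha) ht with h1 | ⟨h3, z, hz, h1, -⟩
  · exact absurd (by rw [h1, inv_pow, hap, mul_inv_cancel]) (hex _ hs)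
  rw [inv_pow, hap, mul_inv_cancel, one_mul] at h1
  refine Or.inr (Or.inr (Or.inr (hmax h3 (s₀ * a⁻¹) ?_)))
  generalize s₀ * a⁻¹ = s at hs h1
  have hC := (hS s hs).isCyclic hp (H := centralizer {s}) le_rfl fun x _ hx =>
    hΩ x (by_contra fun e => hex x e hx) hx
  obtain ⟨c, hc⟩ := PG.exists_zpowers_eq (centralizer ({s} : Set G))
  obtain ⟨m, hm⟩ := IsPGroup.iff_orderOf.1 hP c
  have hsc : s ∈ zpowers c := hc ▸ mem_centralizer_singleton_iff.2 rfl
  obtain ⟨j, hj⟩ := (Cfsg.Lib.FT.BG4.mem_zpowers_or (hm ▸ pow_orderOf_eq_one c) hsc).resolve_right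
    fun e => hs (zpowers_le.2 (PG.pow_mem_of_index_eq_prime hP hAi c) e)
  rw [← hc, Nat.card_zpowers]
  refine orderOf_le_of_pow_eq_one (pow_pos hpp.pos 2) ?_
  rw [← hj]
  show (s ^ j) ^ p ^ 2 = 1
  rw [← zpow_natCast, ← zpow_mul, mul_comm, zpow_mul, zpow_natCast, sq, pow_mul, h1, hTp z hz.1,
    one_zpow]

end Cfsg.Agent.S3888
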