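import Cfsg.Statements.S3889

set_option autoImplicit false
open Cfsg

namespace Cfsg.Agent.S3889

open Subgroup

/-- A finite abelian group that is the union of a family of proper subgroups any two of which intersect trivially is elementary abelian: its exponent is a prime. -/
theorem result {G : Type*} [CommGroup G] [Finite G] (𝓑 : Set (Subgroup G)) (hprop : ∀ B ∈ 𝓑, B ≠ ⊤)
    (hcov : ∀ g : G, ∃ B ∈ 𝓑, g ∈ B) (hdisj : ∀ B ∈ 𝓑, ∀ C ∈ 𝓑, B ≠ C → B ⊓ C = ⊥) :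
    (Monoid.exponent G).Prime := by
  have key : ∀ B ∈ 𝓑, ∀ x ∈ B, ∀ y, y ∉ B → x ^ orderOf y = 1 := fun B hB x hx y hy => by
    obtain ⟨C, hC, hxy⟩ := hcov (x * y)
    have hne : B ≠ C := fun h => hy ((B.mul_mem_cancel_left hx).mp (h ▸ hxy))
    rw [← mem_bot, ← hdisj B hB C hC hne]
    exact ⟨B.pow_mem hx _, by simpa [mul_pow] using C.pow_mem hxy (orderOf y)⟩
  have hex : ∀ B ∈ 𝓑, ∃ y, y ∉ B := fun B hB => by
    by_contra h
    push Not at h
    exact hprop B hB ((eq_top_iff' B).mpr h)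
  obtain ⟨B, hB, -⟩ := hcov 1
  obtain ⟨y, hy⟩ := hex B hB
  have : Nontrivial G := ⟨⟨y, 1, fun h => hy (h ▸ B.one_mem)⟩⟩
  obtain ⟨p, hp, hd⟩ := Nat.exists_prime_and_dvd (Finite.one_lt_card (α := G)).ne'
  have := Fact.mk hp
  obtain ⟨z, hz⟩ := exists_prime_orderOf_dvd_card' p hd
  obtain ⟨C, hC, hzC⟩ := hcov z
  have h1 : ∀ g, g ∉ C → g ^ p = 1 := fun g hg => by
    obtain ⟨D, hD, hgD⟩ := hcov g
    refine hz ▸ key D hD g hgD z fun hzD => ?_
    have : z ∈ C ⊓ D := ⟨hzC, hzD⟩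
    rw [hdisj C hC D hD (fun h => hg (h ▸ hgD)), mem_bot] at this
    rw [this, orderOf_one] at hz
    exact hp.one_lt.ne hz
  have h2 : ∀ g : G, g ^ p = 1 := fun g => by
    by_cases hg : g ∈ C
    · obtain ⟨w, hw⟩ := hex C hC
      rw [← orderOf_eq_prime (h1 w hw) fun h => hw (h ▸ C.one_mem)]
      exact key C hC g hg w hw
    · exact h1 g hg
  rwa [(Monoid.exponent_eq_prime_iff hp).mpr fun g hg => orderOf_eq_prime (h2 g) hg]

end Cfsg.Agent.S3889
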