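import Cfsg.Statements.S3890
import Cfsg.Agent.Solv.MinCover

set_option autoImplicit false
open Cfsg

namespace Cfsg.Agent.S3890

open Cfsg.Lib.Solv

/-- A cover of a group is a finite set of proper subgroups whose union is the whole group; it is minimal when no cover has fewer members, and nilpotent when all its members are nilpotent. Let G be a finite group with trivial center admitting a nilpotent minimal cover 𝓐, and let P be an abelian Sylow p-subgroup of G that is not normal. Then either P is elementary abelian of order greater than p, or P is a Sylow p-subgroup of some member A of 𝓐, the normalizer N of P is a maximal subgroup of G, N meets each of its conjugates by elements outside N in a subgroup of order prime to p, and the centralizer of P equals A. -/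
theorem result {G : Type*} [Group G] [Finite G] (hZ : Subgroup.center G = ⊥) (𝓐 : Finset (Subgroup G))
    (h𝓐 : ((∀ A ∈ 𝓐, A ≠ ⊤) ∧ (∀ g : G, ∃ A ∈ 𝓐, g ∈ A)) ∧ (∀ 𝓑 : Finset (Subgroup G), (∀ A ∈ 𝓑, A ≠ ⊤) ∧ (∀ g : G, ∃ A ∈ 𝓑, g ∈ A) → 𝓐.card ≤ 𝓑.card) ∧ (∀ A ∈ 𝓐, Group.IsNilpotent ↥A)) {p : ℕ} [Fact p.Prime] (P : Sylow p G) (hab : IsMulCommutative ↥(P : Subgroup G))
    (hnn : ¬ (P : Subgroup G).Normal) :
    (Cfsg.IsElementaryAbelian p (P : Subgroup G) ∧ p < Nat.card ↥(P : Subgroup G)) ∨
    (∃ A ∈ 𝓐, (P : Subgroup G) ≤ A ∧ ¬ p ∣ ((P : Subgroup G).subgroupOf A).index ∧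
      IsCoatom (Subgroup.normalizer ((P : Subgroup G) : Set G)) ∧
      (∀ g : G, g ∉ Subgroup.normalizer ((P : Subgroup G) : Set G) →
        ¬ p ∣ Nat.card ↥(Subgroup.normalizer ((P : Subgroup G) : Set G) ⊓
          (Subgroup.normalizer ((P : Subgroup G) : Set G)).map (MulAut.conj g).toMonoidHom)) ∧
      Subgroup.centralizer ((P : Subgroup G) : Set G) = A) := by
    obtain ⟨h1, h2, hn⟩ := h𝓐
    have h := MinCov.of_bot h1 h2
    by_cases hE : Cfsg.IsElementaryAbelian p (P : Subgroup G) ∧ p < Nat.card ↥(P : Subgroup G)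
    · exact Or.inl hE
    right
    have hP : (P : Subgroup G) ≠ ⊥ := fun e => hnn (e ▸ inferInstance)
    have hle : ∀ Q : Sylow p G, (Q : Subgroup G) ≤ Subgroup.centralizer ((Q : Subgroup G) : Set G) :=
      fun Q x hx => Subgroup.mem_centralizer_iff.mpr fun y hy =>
        comm_of_isPGroup_of_sylow_comm P hab Q.isPGroup' hy hx
    refine ⟨_, h.centralizer_mem hn hZ P hab hP hE P, hle P, fun hd => P.not_dvd_index ?_,
      h.isCoatom_normalizer hn hZ P hab hnn hE, fun g hg hd => hg ?_, rfl⟩
    · exact hd.trans (Subgroup.relIndex_dvd_index_of_le (hle P))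
    · obtain ⟨x, hx⟩ := exists_prime_orderOf_dvd_card' p hd
      have hx' : orderOf (x : G) = p := by rw [Subgroup.orderOf_coe, hx]
      have hmem : ∀ Q : Sylow p G, (x : G) ∈ Subgroup.normalizer ((Q : Subgroup G) : Set G) →
          (x : G) ∈ (Q : Subgroup G) := fun Q hQ => by
        refine mem_of_mem_normalizer_of_coprime_orderOf_index hQ ?_
        rw [hx']
        exact (Nat.Prime.coprime_iff_not_dvd Fact.out).mpr Q.not_dvd_index
      have hx1 : (x : G) ∈ (P : Subgroup G) := hmem P x.2.1
      have hx2 : (x : G) ∈ ((g • P : Sylow p G) : Subgroup G) := by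
        apply hmem
        have := x.2.2
        generalize (x : G) = y at this ⊢
        rw [coe_sylow_smul, ← conj_smul_normalizer, ← map_conj_eq_smul]
        exact this
      have hne : (x : G) ≠ 1 := fun e => by
        rw [e, orderOf_one] at hx'
        exact (Fact.out : p.Prime).one_lt.ne hx'
      have h4 := h.eq_of_pElem hn hZ P hab (h.centralizer_mem hn hZ P hab hP hE P)
        (h.centralizer_mem hn hZ P hab hP hE (g • P)) hne (k := 1)
        (by rw [pow_one]; exact orderOf_dvd_iff_pow_eq_one.mp (dvd_of_eq hx')) (hle _ hx1) (hle _ hx2)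
      have h5 : g • P = P := sylow_eq_of_le_centralizer (h4 ▸ hle _)
      exact Sylow.smul_eq_iff_mem_normalizer.mp h5

end Cfsg.Agent.S3890
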