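import Cfsg.Statements.S3892
import Cfsg.Agent.Solv.MinCover

set_option autoImplicit false
open Cfsg

namespace Cfsg.Agent.S3892

open Cfsg.Lib.Solv Equiv Equiv.Perm Subgroup

section
variable {α : Type*} [Fintype α] [DecidableEq α]

/-- An element commuting with a cycle and fixing a point of the support fixes the support. -/
theorem fix_supp {x h : Perm α} (hx : x.IsCycle) (hc : Commute h x) {a : α} (ha : x a ≠ a)
    (hh : h a = a) {b : α} (hb : x b ≠ b) : h b = b := by
  obtain ⟨i, rfl⟩ := hx.exists_pow_eq ha hb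
  rw [← mul_apply, (hc.pow_right i).eq, mul_apply, hh]

theorem comm_supp {x h : Perm α} (hc : Commute h x) (a : α) : x (h a) = h a ↔ x a = a := by
  rw [← mul_apply, ← hc.eq, mul_apply, h.injective.eq_iff]

/-- An element of odd order preserving a set with at most two points fixes them. -/
theorem fix_of_odd {h : Perm α} (hodd : Odd (orderOf h)) {T : Finset α} (hT : T.card ≤ 2)
    (hh : ∀ a ∈ T, h a ∈ T) {a : α} (ha : a ∈ T) : h a = a := by
  by_contra hne
  have h2 : h (h a) = a := by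
    by_contra h3
    have : ({a, h a, h (h a)} : Finset α) ⊆ T := by
      intro b hb
      simp only [Finset.mem_insert, Finset.mem_singleton] at hb
      rcases hb with rfl | rfl | rfl
      · exact ha
      · exact hh _ ha
      · exact hh _ (hh _ ha)
    have h4 := Finset.card_le_card this
    rw [Finset.card_eq_three.mpr ⟨_, _, _, Ne.symm hne, Ne.symm h3,
      fun e => hne (h.injective e).symm, rfl⟩] at h4
    omega
  obtain ⟨k, hk⟩ := hodd
  have h5 : ∀ k : ℕ, (h ^ (2 * k)) a = a := fun k => by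
    induction k with
    | zero => rfl
    | succ k ih => rw [mul_add, mul_one, pow_add, mul_apply, pow_two, mul_apply, h2, ih]
  have h6 := pow_orderOf_eq_one h
  rw [hk, pow_succ'] at h6
  have := congrArg (fun f : Perm α => f a) h6
  simp only [mul_apply, h5, one_apply] at this
  exact hne this

/-- A nilpotent group containing a long odd cycle has no involution. -/
theorem no_invol {x : Perm α} (hx : x.IsCycle) (hodd : Odd x.support.card) {A : Subgroup (Perm α)}
    (hA : Group.IsNilpotent A) (hxA : x ∈ A)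
    (hs : x.supportᶜ.card ≤ 1 ∨ (x.supportᶜ.card ≤ 2 ∧ A ≤ alternatingGroup α))
    {h : Perm α} (hh : h ∈ A) (h2 : h ^ 2 = 1) : h = 1 := by
  have hc : Commute h x := commute_of_mem_of_coprime_of_isNilpotent hA hh hxA (by
    rw [hx.orderOf]
    exact Nat.Coprime.coprime_dvd_left (orderOf_dvd_of_pow_eq_one h2)
      (Nat.coprime_two_left.mpr hodd))
  obtain ⟨a, ha, -⟩ := id hx
  have hha : x (h a) ≠ h a := fun e => ha ((comm_supp hc a).mp e)
  obtain ⟨i, hi⟩ := hx.exists_pow_eq ha hha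
  have h3 : (x ^ (i * 2)) a = a := by
    rw [pow_mul, pow_two, mul_apply, hi, ← mul_apply, ← (hc.pow_right i).eq, mul_apply, hi,
      ← mul_apply, ← pow_two, h2, one_apply]
  have h4 : x ^ i = 1 := by
    rw [← orderOf_dvd_iff_pow_eq_one]
    have := orderOf_dvd_iff_pow_eq_one.mpr ((hx.pow_eq_one_iff' ha).mpr h3)
    refine Nat.Coprime.dvd_of_dvd_mul_right ?_ this
    rw [hx.orderOf]
    exact Nat.coprime_two_right.mpr hodd
  have h5 : h a = a := by rw [← hi, h4, one_apply]
  have h6 : h.support ⊆ x.supportᶜ := fun b hb => by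
    rw [Finset.mem_compl, mem_support]
    exact fun hb' => mem_support.mp hb (fix_supp hx hc ha h5 hb')
  have h7 := Finset.card_le_card h6
  rcases hs with hs | ⟨hs, hle⟩
  · exact card_support_le_one.mp (h7.trans hs)
  · by_contra hne
    have h8 : h.support.card = 2 := by
      have := one_lt_card_support_of_ne_one hne
      omega
    have h9 := (card_support_eq_two.mp h8).sign_eq
    rw [mem_alternatingGroup.mp (hle hh)] at h9
    exact absurd h9 (by decide)

theorem odd_orderOf {A : Subgroup (Perm α)} (hA : ∀ h ∈ A, h ^ 2 = 1 → h = 1) {h : Perm α}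
    (hh : h ∈ A) : Odd (orderOf h) := by
  by_contra hev
  obtain ⟨k, hk⟩ := Nat.not_odd_iff_even.mp hev
  have hpos := orderOf_pos h
  have := hA (h ^ k) (pow_mem hh k) (by rw [← pow_mul, mul_two, ← hk, pow_orderOf_eq_one])
  exact pow_ne_one_of_lt_orderOf (by omega) (by omega) this

theorem fix_compl {x : Perm α} (hx : x.IsCycle) (hodd : Odd x.support.card) {A : Subgroup (Perm α)}
    (hA : Group.IsNilpotent A) (hxA : x ∈ A) (hs : x.supportᶜ.card ≤ 2)
    (hle : A ≤ alternatingGroup α) {h : Perm α} (hh : h ∈ A) {u : α} (hu : x u = u) : h u = u := by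
  have hodd' : ∀ g ∈ A, Odd (orderOf g) := fun g hg =>
    odd_orderOf (fun k hk => no_invol hx hodd hA hxA (Or.inr ⟨hs, hle⟩) hk) hg
  have : Nontrivial A := ⟨⟨⟨x, hxA⟩, 1, fun e => hx.ne_one (Subtype.mk.inj e)⟩⟩
  obtain ⟨z, hz, hz1⟩ := (Subgroup.bot_or_exists_ne_one _).resolve_left
    (Group.IsNilpotent.center_ne_bot A)
  have hzc : ∀ g ∈ A, Commute g (z : Perm α) := fun g hg =>
    congrArg Subtype.val (Subgroup.mem_center_iff.mp hz ⟨g, hg⟩)
  have hmem : ∀ a, a ∈ x.supportᶜ ↔ x a = a := fun a => by simp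
  have h1 : ∀ a, x a = a → (z : Perm α) a = a := fun a ha =>
    fix_of_odd (hodd' _ z.2) hs (fun b hb => (hmem _).mpr
      ((comm_supp (hzc x hxA).symm b).mpr ((hmem _).mp hb))) ((hmem _).mpr ha)
  have h2 : ∀ a, (z : Perm α) a = a → x a = a := fun a ha => by
    by_contra hne
    apply hz1
    ext b
    by_cases hb : x b = b
    · exact h1 b hb
    · exact fix_supp hx (hzc x hxA).symm hne ha hb
  exact fix_of_odd (hodd' _ hh) hs (fun b hb => (hmem _).mpr
    (h2 _ ((comm_supp (hzc h hh) b).mpr (h1 _ ((hmem _).mp hb))))) ((hmem _).mpr hu)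

theorem exists_pair {m : ℕ} (hm : 5 ≤ m) (hmn : m ≤ Fintype.card α) :
    ∃ x y : Perm α, x.IsCycle ∧ y.IsCycle ∧ x.support.card = m ∧ y.support = x.support ∧
      (x⁻¹ * y) ^ 2 = 1 ∧ x⁻¹ * y ≠ 1 := by
  obtain ⟨x, hx⟩ := (exists_with_cycleType_iff α (m := {m})).mpr ⟨by simpa using hmn, by
    intro a ha; rw [Multiset.mem_singleton] at ha; omega⟩
  have hc : x.IsCycle := card_cycleType_eq_one.mp (by rw [hx]; rfl)
  have hs : x.support.card = m := by rw [← sum_cycleType, hx]; rfl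
  obtain ⟨c, hc1, -⟩ := id hc
  have hne : ∀ k, 0 < k → k < 5 → (x ^ k) c ≠ c := fun k h0 h5 e =>
    pow_ne_one_of_lt_orderOf (by omega) (by rw [hc.orderOf]; omega) ((hc.pow_eq_one_iff' hc1).mpr e)
  have h1 : x c ≠ c := hc1
  have h2 : x (x c) ≠ c := hne 2 (by omega) (by omega)
  have h3 : x (x (x c)) ≠ c := hne 3 (by omega) (by omega)
  have hnd : [c, x (x c), x c, x (x (x c))].Nodup := by
    simp [h1, h2, h3, h1.symm, h2.symm, h3.symm]
  have hdis := disjoint_swap_swap hnd
  have e : x⁻¹ * (swap (x c) (x (x (x c))) * x * (swap (x c) (x (x (x c))))⁻¹) =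
      swap c (x (x c)) * swap (x c) (x (x (x c))) := by
    rw [swap_inv, swap_apply_apply x c (x (x c))]
    group
  refine ⟨x, swap (x c) (x (x (x c))) * x * (swap (x c) (x (x (x c))))⁻¹, hc, hc.conj, hs, ?_, ?_, ?_⟩
  · apply Finset.eq_of_subset_of_card_le _ (by rw [card_support_conj])
    intro b hb
    by_contra hb'
    have hb2 : x b = b := by simpa using hb'
    have hb3 : swap (x c) (x (x (x c))) b = b := by
      apply swap_apply_of_ne_of_ne
      · rintro rfl
        exact h1 (x.injective hb2)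
      · rintro rfl
        exact h1 (x.injective (x.injective (x.injective hb2)))
    apply mem_support.mp hb
    rw [swap_inv, mul_apply, mul_apply, hb3, hb2, hb3]
  · rw [e, hdis.commute.mul_pow, pow_two, pow_two, swap_mul_self, swap_mul_self, mul_one]
  · rw [e]
    intro h
    have := congrArg (fun f : Perm α => f c) h
    simp only [mul_apply, one_apply] at this
    rw [swap_apply_of_ne_of_ne h1.symm h3.symm, swap_apply_left] at this
    exact h2 this

theorem sym_case {x y w : Perm α} (hx : x.IsCycle) (hy : y.IsCycle) (ox : Odd x.support.card)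
    (oy : Odd y.support.card) (sx : x.supportᶜ.card ≤ 1) (sy : y.supportᶜ.card ≤ 1)
    (hw : w = x⁻¹ * y ∨ w = x * y) (hw2 : w ^ 2 = 1) (hw1 : w ≠ 1)
    {𝓐 : Finset (Subgroup (Perm α))} (h : MinCov ⊥ 𝓐) (hn : ∀ A ∈ 𝓐, Group.IsNilpotent A) :
    False := by
  obtain ⟨A, hA, hxA⟩ := h.cover x
  obtain ⟨B, hB, hyB⟩ := h.cover y
  have key : ∀ {C : Subgroup (Perm α)}, (∀ h ∈ C, h ^ 2 = 1 → h = 1) → C ≤ alternatingGroup α :=
    fun hC g hg => by
      have h1 := odd_orderOf hC hg
      have h2 : sign g ^ orderOf g = 1 := by rw [← map_pow, pow_orderOf_eq_one, map_one]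
      rw [mem_alternatingGroup]
      rcases Int.units_eq_one_or (sign g) with e | e
      · exact e
      · rw [e, h1.neg_one_pow] at h2
        exact absurd h2 (by decide)
  have hA' := fun k hk => no_invol hx ox (hn A hA) hxA (Or.inl sx) (h := k) hk
  have hB' := fun k hk => no_invol hy oy (hn B hB) hyB (Or.inl sy) (h := k) hk
  obtain ⟨a, ha, -⟩ := id hx
  have hAB := h.eq_of_le hA hB (key hA') (key hB') (fun e => by
    have : swap a (x a) ∈ alternatingGroup α := e ▸ mem_top _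
    rw [mem_alternatingGroup, sign_swap (Ne.symm ha)] at this
    exact absurd this (by decide))
  subst hAB
  refine hw1 (hA' w ?_ hw2)
  rcases hw with rfl | rfl
  · exact mul_mem (inv_mem hxA) hyB
  · exact mul_mem hxA hyB

theorem alt_case {x y w : Perm α} (hx : x.IsCycle) (hy : y.IsCycle) (ox : Odd x.support.card)
    (oy : Odd y.support.card) (sx : x.supportᶜ.card ≤ 2) (sy : y.supportᶜ.card ≤ 2)
    (hw : w = x⁻¹ * y ∨ w = x * y) (hw2 : w ^ 2 = 1) (hw1 : w ≠ 1) {u : α} (hxu : x u = u)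
    (hyu : y u = u) {𝓐 : Finset (Subgroup (alternatingGroup α))} (h : MinCov ⊥ 𝓐)
    (hn : ∀ A ∈ 𝓐, Group.IsNilpotent A) : False := by
  have hx' : x ∈ alternatingGroup α := by rw [mem_alternatingGroup, hx.sign, ox.neg_one_pow, neg_neg]
  have hy' : y ∈ alternatingGroup α := by rw [mem_alternatingGroup, hy.sign, oy.neg_one_pow, neg_neg]
  obtain ⟨A, hA, hxA⟩ := h.cover ⟨x, hx'⟩
  obtain ⟨B, hB, hyB⟩ := h.cover ⟨y, hy'⟩
  have hnil : ∀ C ∈ 𝓐, Group.IsNilpotent (C.map (alternatingGroup α).subtype) := fun C hC =>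
    have := hn C hC
    Group.nilpotent_of_mulEquiv (C.equivMapOfInjective _ (alternatingGroup α).subtype_injective)
  have hAB := h.eq_of_le (M := (MulAction.stabilizer (Perm α) u).subgroupOf _) hA hB
    (fun g hg => fix_compl hx ox (hnil A hA) ⟨_, hxA, rfl⟩ sx (map_subtype_le _) ⟨g, hg, rfl⟩ hxu)
    (fun g hg => fix_compl hy oy (hnil B hB) ⟨_, hyB, rfl⟩ sy (map_subtype_le _) ⟨g, hg, rfl⟩ hyu)
    (fun e => by
      obtain ⟨a, ha, -⟩ := id hx
      have hau : a ≠ u := fun e => ha (by rw [e, hxu])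
      have hau' : x a ≠ u := fun e => hau (x.injective (e.trans hxu.symm))
      have h1 : swap u a * swap a (x a) ∈ alternatingGroup α := by
        rw [mem_alternatingGroup, map_mul, sign_swap hau.symm, sign_swap (Ne.symm ha)]
        decide
      have h2 : (⟨_, h1⟩ : alternatingGroup α) ∈
          (MulAction.stabilizer (Perm α) u).subgroupOf (alternatingGroup α) := e ▸ mem_top _
      have h3 : (swap u a * swap a (x a)) u = u := h2
      rw [mul_apply, swap_apply_of_ne_of_ne hau.symm hau'.symm, swap_apply_left] at h3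
      exact hau h3)
  subst hAB
  refine hw1 (no_invol hx ox (hnil A hA) ⟨_, hxA, rfl⟩ (Or.inr ⟨sx, map_subtype_le _⟩) ?_ hw2)
  rcases hw with rfl | rfl
  · exact mul_mem (inv_mem ⟨_, hxA, rfl⟩) ⟨_, hyB, rfl⟩
  · exact mul_mem ⟨_, hxA, rfl⟩ ⟨_, hyB, rfl⟩

end

/-- A cover of a group is a finite set of proper subgroups whose union is the whole group; it is minimal when no cover has fewer members, and nilpotent when all its members are nilpotent. The alternating groups of degree at least 5 and the symmetric groups of degree at least 4 have no nilpotent minimal cover. -/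
theorem result (n : ℕ) :
    (5 ≤ n → ¬ ∃ 𝓐 : Finset (Subgroup ↥(alternatingGroup (Fin n))), ((∀ A ∈ 𝓐, A ≠ ⊤) ∧ (∀ g : ↥(alternatingGroup (Fin n)), ∃ A ∈ 𝓐, g ∈ A)) ∧ (∀ 𝓑 : Finset (Subgroup ↥(alternatingGroup (Fin n))), (∀ A ∈ 𝓑, A ≠ ⊤) ∧ (∀ g : ↥(alternatingGroup (Fin n)), ∃ A ∈ 𝓑, g ∈ A) → 𝓐.card ≤ 𝓑.card) ∧ (∀ A ∈ 𝓐, Group.IsNilpotent ↥A)) ∧
    (4 ≤ n → ¬ ∃ 𝓐 : Finset (Subgroup (Equiv.Perm (Fin n))), ((∀ A ∈ 𝓐, A ≠ ⊤) ∧ (∀ g : (Equiv.Perm (Fin n)), ∃ A ∈ 𝓐, g ∈ A)) ∧ (∀ 𝓑 : Finset (Subgroup (Equiv.Perm (Fin n))), (∀ A ∈ 𝓑, A ≠ ⊤) ∧ (∀ g : (Equiv.Perm (Fin n)), ∃ A ∈ 𝓑, g ∈ A) → 𝓐.card ≤ 𝓑.card) ∧ (∀ A ∈ 𝓐, Group.IsNilpotent ↥A)) := by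
    constructor
    · rintro hn ⟨𝓐, h1, h2, hnil⟩
      have h := MinCov.of_bot h1 h2
      by_cases h5 : n = 5
      · subst h5
        refine alt_case (x := swap 0 1 * swap 1 2) (y := swap 0 1 * swap 1 3)
          (card_support_eq_three_iff.mp ?_).isCycle (card_support_eq_three_iff.mp ?_).isCycle
          ?_ ?_ ?_ ?_ (Or.inr rfl) ?_ ?_ (u := 4) ?_ ?_ h hnil
        all_goals decide
      · obtain ⟨m, hm5, hmn, hmo, hm2⟩ : ∃ m, 5 ≤ m ∧ m < n ∧ Odd m ∧ n ≤ m + 2 := by
          rcases Nat.even_or_odd' n with ⟨k, rfl | rfl⟩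
          · exact ⟨2 * k - 1, by omega, by omega, ⟨k - 1, by omega⟩, by omega⟩
          · exact ⟨2 * k - 1, by omega, by omega, ⟨k - 1, by omega⟩, by omega⟩
        obtain ⟨x, y, hx, hy, hs, hyx, hw2, hw1⟩ := exists_pair (α := Fin n) hm5 (by simpa using hmn.le)
        have hc : x.supportᶜ.card = n - m := by rw [Finset.card_compl, hs, Fintype.card_fin]
        obtain ⟨u, hu⟩ : x.supportᶜ.Nonempty := Finset.card_pos.mp (by omega)
        exact alt_case hx hy (hs ▸ hmo) (hyx ▸ hs ▸ hmo) (by omega) (by rw [hyx]; omega) (Or.inl rfl)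
          hw2 hw1 (u := u) (by simpa using hu) (by rw [← hyx] at hu; simpa using hu) h hnil
    · rintro hn ⟨𝓐, h1, h2, hnil⟩
      have h := MinCov.of_bot h1 h2
      by_cases h5 : n = 4
      · subst h5
        refine sym_case (x := swap 0 1 * swap 1 2) (y := swap 0 1 * swap 1 3)
          (card_support_eq_three_iff.mp ?_).isCycle (card_support_eq_three_iff.mp ?_).isCycle
          ?_ ?_ ?_ ?_ (Or.inr rfl) ?_ ?_ h hnil
        all_goals decide
      · obtain ⟨m, hm5, hmn, hmo, hm2⟩ : ∃ m, 5 ≤ m ∧ m ≤ n ∧ Odd m ∧ n ≤ m + 1 := by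
          rcases Nat.even_or_odd' n with ⟨k, rfl | rfl⟩
          · exact ⟨2 * k - 1, by omega, by omega, ⟨k - 1, by omega⟩, by omega⟩
          · exact ⟨2 * k + 1, by omega, by omega, ⟨k, by omega⟩, by omega⟩
        obtain ⟨x, y, hx, hy, hs, hyx, hw2, hw1⟩ := exists_pair (α := Fin n) hm5 (by simpa using hmn)
        have hc : x.supportᶜ.card = n - m := by rw [Finset.card_compl, hs, Fintype.card_fin]
        exact sym_case hx hy (hs ▸ hmo) (hyx ▸ hs ▸ hmo) (by omega) (by rw [hyx]; omega) (Or.inl rfl)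
          hw2 hw1 h hnil

end Cfsg.Agent.S3892
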