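import Cfsg.Statements.S3893
import Cfsg.Agent.Chev.SuzukiMax

set_option autoImplicit false
open Cfsg

namespace Cfsg.Agent.S3893

open Cfsg.Lib.Chev

theorem main {F : Type*} [Field F] [Fintype F] {τ : Tw F} {G : Type*} [Group G] (M : SzModel τ G) :
    ¬ ∃ 𝓐 : Finset (Subgroup G), ((∀ A ∈ 𝓐, A ≠ ⊤) ∧ (∀ g : G, ∃ A ∈ 𝓐, g ∈ A)) ∧
      (∀ 𝓑 : Finset (Subgroup G), (∀ A ∈ 𝓑, A ≠ ⊤) ∧ (∀ g : G, ∃ A ∈ 𝓑, g ∈ A) → 𝓐.card ≤ 𝓑.card) ∧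
      (∀ A ∈ 𝓐, Group.IsNilpotent ↥A) := by
  classical
  have := M.finite
  have := Fintype.ofFinite (Subgroup G)
  rintro ⟨𝓐, ⟨-, hcov⟩, hmin, hnil⟩
  let 𝓟 : Finset (Subgroup G) := Finset.univ.filter M.IsPart
  have hH : M.IsPart M.H := Or.inr (Or.inl ⟨_, _, M.inf_ne_pt 0 0, M.Hat_inf_zero.symm⟩)
  have hP : M.IsPart M.P := Or.inl ⟨_, M.Pat_inf.symm⟩
  have hPH : M.P ≠ M.H := fun h => by
    have h1 : M.T 0 1 ∈ M.P ⊓ M.H := ⟨M.T_mem_P 0 1, h ▸ M.T_mem_P 0 1⟩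
    rw [M.P_inf_H, Subgroup.mem_bot] at h1
    exact M.T_zero_one_ne_one h1
  have h1 := hmin ((𝓟.erase M.H).image fun U : Subgroup G => Subgroup.normalizer (U : Set G)) ⟨by
    intro A hA
    obtain ⟨U, hU, rfl⟩ := Finset.mem_image.mp hA
    exact (Finset.mem_filter.mp (Finset.mem_of_mem_erase hU)).2.normalizer_ne_top, by
    intro g
    by_cases hg : g ∈ M.H
    · refine ⟨_, Finset.mem_image_of_mem _ (Finset.mem_erase.mpr ⟨hPH, by simp [𝓟, hP]⟩), ?_⟩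
      rw [M.normalizer_P]
      exact M.H_le_B hg
    · obtain ⟨U, ⟨hU, hgU⟩, -⟩ := M.existsUnique_part (g := g) (fun h => hg (h ▸ M.H.one_mem))
      exact ⟨_, Finset.mem_image_of_mem _ (Finset.mem_erase.mpr ⟨fun h => hg (h ▸ hgU), by simp [𝓟, hU]⟩),
        U.le_normalizer hgU⟩⟩
  have h2 : ∀ U, M.IsPart U → ∃ A ∈ 𝓐, A ≤ U ∧ ∃ x ∈ A, x ≠ 1 := by
    intro U hU
    obtain ⟨x, hx, hx1⟩ := hU.exists_ne_one
    obtain ⟨A, hA, hxA⟩ := hcov x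
    have := hnil A hA
    have : Nontrivial A := ⟨⟨⟨x, hxA⟩, 1, fun h => hx1 (Subtype.mk.inj h)⟩⟩
    obtain ⟨z, hz, hz1⟩ := (Subgroup.bot_or_exists_ne_one _).resolve_left
      (Group.IsNilpotent.center_ne_bot A)
    have hz1' : (z : G) ≠ 1 := by simpa using hz1
    obtain ⟨V, ⟨hV, hzV⟩, -⟩ := M.existsUnique_part hz1'
    have hle : A ≤ V := fun y hy => hV.centralizer_le hzV hz1' (Subgroup.mem_centralizer_singleton_iff.mpr
      (congrArg Subtype.val (Subgroup.mem_center_iff.mp hz ⟨y, hy⟩)))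
    exact ⟨A, hA, hU.eq_of_mem hV hx1 hx (hle hxA) ▸ hle, x, hxA, hx1⟩
  choose! f hf1 hf2 hf3 using h2
  have h3 : 𝓟.card ≤ 𝓐.card := Finset.card_le_card_of_injOn f
    (fun U hU => hf1 U (Finset.mem_filter.mp hU).2) (fun U hU V hV h => by
      have hU' := (Finset.mem_filter.mp hU).2
      have hV' := (Finset.mem_filter.mp hV).2
      obtain ⟨x, hx, hx1⟩ := hf3 U hU'
      exact hU'.eq_of_mem hV' hx1 (hf2 U hU' hx) (hf2 V hV' (h ▸ hx)))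
  have h4 := Finset.card_erase_lt_of_mem (s := 𝓟) (a := M.H) (by simp [𝓟, hH])
  have h5 := Finset.card_image_le (s := 𝓟.erase M.H) (f := fun U => Subgroup.normalizer (U : Set G))
  omega

/-- A cover of a group is a finite set of proper subgroups whose union is the whole group; it is minimal when no cover has fewer members, and nilpotent when all its members are nilpotent. The Suzuki groups Sz(q), q = 2^(2m+1) with m ≥ 1, have no nilpotent minimal cover. -/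
theorem result {F : Type*} [Field F] [Fintype F] (m : ℕ) (hm : 1 ≤ m) (hF : Fintype.card F = 2 ^ (2 * m + 1)) :
    ¬ ∃ 𝓐 : Finset (Subgroup ↥(Cfsg.Lie.Sz F (2 ^ (m + 1)))), ((∀ A ∈ 𝓐, A ≠ ⊤) ∧ (∀ g : ↥(Cfsg.Lie.Sz F (2 ^ (m + 1))), ∃ A ∈ 𝓐, g ∈ A)) ∧ (∀ 𝓑 : Finset (Subgroup ↥(Cfsg.Lie.Sz F (2 ^ (m + 1)))), (∀ A ∈ 𝓑, A ≠ ⊤) ∧ (∀ g : ↥(Cfsg.Lie.Sz F (2 ^ (m + 1))), ∃ A ∈ 𝓑, g ∈ A) → 𝓐.card ≤ 𝓑.card) ∧ (∀ A ∈ 𝓐, Group.IsNilpotent ↥A) := by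
  exact main (lieSzModel hm hF)

end Cfsg.Agent.S3893
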