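import Cfsg.Statements.S3894
import Cfsg.Agent.Solv.MinCoverLin

set_option autoImplicit false
open Cfsg

namespace Cfsg.Agent.S3894

open Cfsg.Lib.Solv Cfsg.Lib.Known.GL2

/-- A cover of a group is a finite set of proper subgroups whose union is the whole group; it is minimal when no cover has fewer members, and nilpotent when all its members are nilpotent. Let F be a finite field with q elements and n ≥ 3, or n = 2 and q ≥ 4. Then no subgroup of PGL_n(F) = GL_n(F)/Z(GL_n(F)) containing the image of SL_n(F) has a nilpotent minimal cover. -/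
theorem result {F : Type*} [Field F] [Fintype F] (n : ℕ) (hn : 3 ≤ n ∨ (n = 2 ∧ 4 ≤ Fintype.card F))
    (G : Subgroup (GL (Fin n) F ⧸ Subgroup.center (GL (Fin n) F)))
    (hG : ((Matrix.SpecialLinearGroup.toGL : Matrix.SpecialLinearGroup (Fin n) F →* GL (Fin n) F).range).map
      (QuotientGroup.mk' (Subgroup.center (GL (Fin n) F))) ≤ G) :
    ¬ ∃ 𝓐 : Finset (Subgroup ↥G), ((∀ A ∈ 𝓐, A ≠ ⊤) ∧ (∀ g : ↥G, ∃ A ∈ 𝓐, g ∈ A)) ∧ (∀ 𝓑 : Finset (Subgroup ↥G), (∀ A ∈ 𝓑, A ≠ ⊤) ∧ (∀ g : ↥G, ∃ A ∈ 𝓑, g ∈ A) → 𝓐.card ≤ 𝓑.card) ∧ (∀ A ∈ 𝓐, Group.IsNilpotent ↥A) := by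
    classical
    rintro ⟨𝓐, h1, h2, hnil⟩
    let π := QuotientGroup.mk' (Subgroup.center (GL (Fin n) F))
    have h := (MinCov.of_bot h1 h2).comap (π.subgroupComap G)
      (π.subgroupComap_surjective_of_surjective G (QuotientGroup.mk'_surjective _))
    have hZ : (π.subgroupComap G).ker ≤ Subgroup.center _ := fun x hx => by
      have h3 : π x = 1 := congrArg Subtype.val (MonoidHom.mem_ker.mp hx)
      have h4 : (x : GL (Fin n) F) ∈ Subgroup.center _ := (QuotientGroup.eq_one_iff _).mp h3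
      exact Subgroup.mem_center_iff.mpr fun y => Subtype.ext (Subgroup.mem_center_iff.mp h4 y)
    have hn' : ∀ A ∈ 𝓐.image (Subgroup.comap (π.subgroupComap G)), Group.IsNilpotent A := by
      intro B hB
      obtain ⟨A, hA, rfl⟩ := Finset.mem_image.mp hB
      exact isNilpotent_comap_of_ker_le_center _ hZ (hnil A hA)
    have hSL : ∀ x : Matrix (Fin n) (Fin n) F, x.det = 1 →
        ∃ g : G.comap π, ((g : GL (Fin n) F) : Matrix _ _ F) = x := fun x hx =>
      ⟨⟨Matrix.SpecialLinearGroup.toGL ⟨x, hx⟩, hG ⟨_, ⟨⟨x, hx⟩, rfl⟩, rfl⟩⟩, rfl⟩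
    rcases hn with hn | ⟨rfl, hq⟩
    · obtain ⟨m, rfl⟩ : ∃ m, n = m + 3 := ⟨n - 3, by omega⟩
      exact MinCoverLin.big (G.comap π).subtype (G.comap π).subtype_injective hSL h hn'
    · let L : Lin2 (G.comap π) F :=
        { ρ := (Units.coeHom (M2 F)).comp (G.comap π).subtype
          inj := Units.val_injective.comp (G.comap π).subtype_injective
          surj := fun m g hm => by
            obtain ⟨x, hx⟩ := hSL (m * ((g : GL (Fin 2) F)⁻¹ : GL (Fin 2) F)) (by
              rw [Matrix.det_mul, hm]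
              change ((g : GL (Fin 2) F) : M2 F).det * _ = 1
              rw [← Matrix.det_mul, Units.mul_inv, Matrix.det_one])
            refine ⟨x * g, ?_⟩
            change ((x : GL (Fin 2) F) : M2 F) * ((g : GL (Fin 2) F) : M2 F) = m
            rw [hx, Matrix.mul_assoc, Units.inv_mul, Matrix.mul_one] }
      exact MinCoverLin.two L hq h hZ hn'

end Cfsg.Agent.S3894
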