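import Cfsg.Statements.S3909
import Cfsg.Agent.Solv.PGroupNormal
import Cfsg.Agent.Solv.CyclicP

set_option autoImplicit false
open Cfsg

namespace Cfsg.Agent.S3909

open Subgroup Cfsg.Lib.Solv.PG

/-- Let G be a finite group in which any two abelian subgroups of the same order are conjugate. Let M be a normal subgroup of G. If M contains an element of the same order as a ∈ G, then a ∈ M; and if M is elementary abelian of order p^t with p prime and t ≥ 2, then M is the unique Sylow p-subgroup of G. -/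
theorem result {G : Type*} [Group G] [Finite G] (hB : ∀ A B : Subgroup G, IsMulCommutative ↥A → IsMulCommutative ↥B → Nat.card ↥A = Nat.card ↥B → ∃ g : G, B = A.map (MulAut.conj g).toMonoidHom) (M : Subgroup G) [M.Normal] :
    (∀ a : G, (∃ m ∈ M, orderOf m = orderOf a) → a ∈ M) ∧
    ∀ (p t : ℕ) [Fact p.Prime], 2 ≤ t → Nat.card ↥M = p ^ t → Cfsg.IsElementaryAbelian p M → ∀ P : Sylow p G, (P : Subgroup G) = M := by
  have key : ∀ A B : Subgroup G, IsMulCommutative A → IsMulCommutative B →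
      Nat.card A = Nat.card B → A ≤ M → B ≤ M := fun A B hA hB' hc hAM => by
    obtain ⟨g, rfl⟩ := hB A B hA hB' hc
    rintro _ ⟨a, ha, rfl⟩
    exact ‹M.Normal›.conj_mem a (hAM ha) g
  have h1 : ∀ a : G, (∃ m ∈ M, orderOf m = orderOf a) → a ∈ M := fun a ⟨m, hm, h⟩ =>
    key (zpowers m) (zpowers a) inferInstance inferInstance
      (by rw [Nat.card_zpowers, Nat.card_zpowers, h]) (zpowers_le.mpr hm) (mem_zpowers a)
  refine ⟨h1, fun p t hp ht hc hM P => ?_⟩
  have hMp : IsPGroup p M := IsPGroup.of_card hc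
  obtain ⟨V, -, hVM, -, hV⟩ := exists_invariant_card_eq (P := ⊥) (M := ⊥) IsPGroup.of_bot hMp bot_le
    bot_le bot_le 2 (by simpa [hc] using Nat.pow_le_pow_right hp.out.pos ht)
  obtain ⟨m, hm⟩ := exists_prime_orderOf_dvd_card' (G := M) p
    (hc ▸ dvd_pow_self p (by omega))
  refine (P.is_maximal' hMp fun x hx => ?_).symm
  obtain ⟨k, hk⟩ := IsPGroup.iff_orderOf.mp P.isPGroup' ⟨x, hx⟩
  rw [← orderOf_coe] at hk
  rcases k with _ | _ | k
  · rw [orderOf_eq_one_iff.mp (show orderOf x = 1 from hk)]; exact M.one_mem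
  · exact h1 x ⟨m, m.2, by rw [orderOf_coe, hm, hk]; simp⟩
  · have h2 : orderOf (x ^ p ^ k) = p ^ 2 := by
      rw [orderOf_pow_of_dvd (pow_ne_zero _ hp.out.ne_zero) (hk ▸ pow_dvd_pow p (by omega)), hk,
        add_assoc, pow_add, Nat.mul_div_cancel_left _ (pow_pos hp.out.pos k)]
    have := hM.1
    have h3 := hM.2 _ (key V (zpowers (x ^ p ^ k)) (isMulCommutative_of_forall fun a ha b hb =>
      mul_comm_of_mem (hVM ha) (hVM hb)) inferInstance
      (by rw [Nat.card_zpowers, h2, hV, card_bot, mul_one]) hVM (mem_zpowers _))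
    have h4 := Nat.le_of_dvd hp.out.pos (h2 ▸ orderOf_dvd_of_pow_eq_one h3)
    nlinarith [hp.out.one_lt]

end Cfsg.Agent.S3909
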