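import Cfsg.Statements.S3924
import Cfsg.Agent.Hom.Main

set_option autoImplicit false
open Cfsg

namespace Cfsg.Agent.S3924

open Subgroup Cfsg.Lib Cfsg.Lib.Homog Cfsg.Lib.Solv

theorem facts {K : Type*} [Group K] [Finite K] [Group.IsPerfect K] [Nontrivial K] (hK : IsHom K) :
    (∃ (F : Type) (_ : Field F) (_ : Fintype F), (Fintype.card F = 5 ∨ Fintype.card F = 7) ∧
      Nonempty (K ⧸ center K ≃* Matrix.ProjectiveSpecialLinearGroup (Fin 2) F)) ∧
    (∀ z ∈ center K, z * z = 1) ∧ (center K ≠ ⊥ → ∃ x : K, orderOf x = 4) := by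
  by_cases h : IsSimpleGroup K
  · have hZ : center K = ⊥ := (Normal.eq_bot_or_eq_top inferInstance).resolve_right fun h =>
      Group.IsPerfect.not_isMulCommutative K ⟨⟨fun a b => mem_center_iff.1 (h ▸ mem_top b) a⟩⟩
    obtain ⟨F, _, _, hF, ⟨e⟩⟩ := hK.perfect.2 h
    exact ⟨⟨F, _, _, hF, ⟨(QuotientGroup.quotientMulEquivOfEq hZ).trans
      (QuotientGroup.quotientBot.trans e)⟩⟩, fun z hz => by simp [mem_bot.1 (hZ ▸ hz)],
      fun h => absurd hZ h⟩
  obtain ⟨F, _, _, hF, ⟨e⟩⟩ := hK.perfect.1 h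
  refine ⟨⟨F, _, _, .inl hF, ⟨Class.quotCenterEquiv e⟩⟩, fun z hz => e.injective ?_, fun _ => ?_⟩
  · rw [map_mul, map_one, ← pow_two]
    exact Class.sl2_center_sq (mem_center_iff.2 fun g => by
      obtain ⟨g, rfl⟩ := e.surjective g
      rw [← map_mul, ← map_mul, mem_center_iff.1 hz])
  by_contra h4
  push Not at h4
  obtain ⟨P, N, _, hN⟩ := S1947.result (G := K) (p := 2) 1 fun a ha => by
    rw [Subgroup.upperCentralSeries_one]
    refine hK.mem_center (fun h2 => h (hK.isSimpleGroup h2)) (fun _ => hK.pRankLE) ?_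
    by_contra h2
    exact h4 a (orderOf_eq_prime_pow (p := 2) (n := 1) h2 ((ha.resolve_left h2).2))
  obtain ⟨t, -, ht, ht1⟩ := exists_invol (A := ⊤) hK.oddCore_eq_bot top_ne_bot
  exact sylow_eq_bot hN (orderOf_two ht ht1 ▸ orderOf_dvd_natCard t)

/-- Call a finite group homogeneous when every isomorphism between two of its subgroups is the restriction of an automorphism of the whole group. A homogeneous finite group is an internal direct product H × K of normal subgroups of coprime orders, each homogeneous, with H solvable and K quasisimple (perfect with simple central quotient) or trivial. -/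
theorem result {G : Type*} [Group G] [Finite G] (hhom : ∀ (A B : Subgroup G) (e : ↥A ≃* ↥B), ∃ φ : G ≃* G, ∀ a : ↥A, φ (a : G) = (e a : G)) :
    ∃ H K : Subgroup G, H.Normal ∧ K.Normal ∧ H ⊓ K = ⊥ ∧ H ⊔ K = ⊤ ∧ (Nat.card ↥H).Coprime (Nat.card ↥K) ∧
      Group.IsSolvable ↥H ∧ (K = ⊥ ∨ Cfsg.IsQuasisimple ↥K) ∧
      (∀ (A B : Subgroup ↥H) (e : ↥A ≃* ↥B), ∃ φ : ↥H ≃* ↥H, ∀ a : ↥A, φ (a : ↥H) = (e a : ↥H)) ∧
      (∀ (A B : Subgroup ↥K) (e : ↥A ≃* ↥B), ∃ φ : ↥K ≃* ↥K, ∀ a : ↥A, φ (a : ↥K) = (e a : ↥K)) := by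
  have hG : IsHom G := hhom
  obtain ⟨n, _⟩ := Rank2.exists_perfect_derivedSeries G
  by_cases h0 : derivedSeries G n = ⊥
  · have : Group.IsSolvable G := ⟨⟨n, h0⟩⟩
    exact ⟨⊤, ⊥, inferInstance, inferInstance, by simp, by simp, by simp, inferInstance, .inl rfl,
      hG.char _, hG.char _⟩
  set K := derivedSeries G n
  have := (nontrivial_iff_ne_bot K).2 h0
  obtain ⟨⟨F, _, _, hF, ⟨e⟩⟩, hZ, h4⟩ := facts (hG.char K)
  set C := centralizer (K : Set G)
  have hZ' : ∀ x ∈ C, ∀ hx : x ∈ K, (⟨x, hx⟩ : K) ∈ center K := fun x hx _ =>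
    mem_center_iff.2 fun g => Subtype.ext (mem_centralizer_iff.1 hx g g.2)
  have h2 : ∀ x : G, x * x = 1 → x ∈ K := fun x hx => by
    obtain ⟨t, -, ht, ht1⟩ := exists_invol (A := ⊤) (hG.char K).oddCore_eq_bot top_ne_bot
    by_cases h1 : x = 1
    · exact h1 ▸ one_mem _
    · exact hG.mem_char K (by rw [orderOf_coe, orderOf_two ht ht1, orderOf_two hx h1]) t.2
  have h5 : ∀ x : G, x * x ∈ C → x * x * (x * x) = 1 → x ∈ K := fun x hx hx4 => by
    by_cases h1 : x * x = 1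
    · exact h2 x h1
    obtain ⟨y, hy⟩ := h4 fun h => h1 (congrArg Subtype.val
      (mem_bot.1 (h.le (hZ' _ hx (h2 _ hx4))) : (⟨x * x, h2 _ hx4⟩ : K) = 1))
    refine hG.mem_char K (by
      rw [orderOf_coe, hy, orderOf_eq_prime_pow (p := 2) (n := 1) (by rwa [pow_one, pow_two])
        (by rw [← hx4, ← pow_two, ← pow_two, ← pow_mul]; rfl)]; rfl) y.2
  have h6 : ∀ k : ℕ, ∀ x ∈ C, x ^ 2 ^ k = 1 → x * x = 1 := fun k => by
    induction k with
    | zero => intro x _ hx; simp [show x = 1 by simpa using hx]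
    | succ k ih =>
      intro x hx h
      exact congrArg Subtype.val (hZ _ (hZ' x hx (h5 x (mul_mem hx hx)
        (ih _ (mul_mem hx hx) (by rw [← pow_two, ← pow_mul, ← pow_succ', h])))))
  have h7 : ∀ x : G, x * x ∈ C → ∀ k : ℕ, x ^ 2 ^ k = 1 → x ∈ K := fun x hx k h =>
    h5 x hx (h6 k _ hx (by rw [← pow_two, ← pow_mul, mul_comm, pow_mul, h, one_pow]))
  obtain ⟨P, N, hN, hNP⟩ := S1947.result (G := C) (p := 2) 1 fun a ha => by
    rw [Subgroup.upperCentralSeries_one]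
    have : (a : G) ∈ K := h7 a (mul_mem a.2 a.2) 2 (by
      rcases ha with h | ⟨-, h⟩
      · rw [pow_two 2, pow_mul, ← coe_pow, h]; simp
      · exact congrArg Subtype.val h)
    exact mem_center_iff.2 fun g => Subtype.ext (mem_centralizer_iff.1 g.2 a this).symm
  have : (oddCore C).Characteristic := pPrimeCore_characteristic 2 C
  set H := (oddCore C).map C.subtype
  have ho : (Nat.card H).Coprime 2 := coprime_card_map_pPrimeCore 2 C
  have hHK : H ⊓ K = ⊥ := eq_bot_iff.2 fun x hx => by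
    have h1 : x * x = 1 := congrArg Subtype.val (hZ _ (hZ' x (map_subtype_le _ hx.1) hx.2))
    by_contra h
    have := Nat.Coprime.coprime_dvd_left (H.orderOf_dvd_natCard hx.1) ho
    simp [orderOf_two h1 h] at this
  have hC : C ≤ H ⊔ K := fun c hc => by
    obtain ⟨⟨a, b⟩, h⟩ := hNP.2 ⟨c, hc⟩
    obtain ⟨k, hk⟩ := P.isPGroup' b
    rw [← show a.1.1 * b.1.1 = c from congrArg Subtype.val h]
    refine mul_mem (mem_sup_left (mem_map_of_mem _ (le_pPrimeCore hN ?_ a.2)))
      (mem_sup_right (h7 _ (mul_mem b.1.2 b.1.2) k (congrArg (fun x : P => x.1.1) hk)))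
    rw [← hNP.index_eq_card]
    exact (Nat.prime_two.coprime_iff_not_dvd.2 P.not_dvd_index).symm
  refine ⟨H, K, inferInstance, inferInstance, hHK, eq_top_iff.2 fun g _ => ?_,
    Nat.coprime_of_dvd fun r hr h1 h3 => ?_, FT.odd_order_solvable (Nat.coprime_two_right.1 ho),
    .inr ⟨inferInstance, ?_⟩, hG.char H, hG.char K⟩
  · obtain ⟨k, hk, h⟩ := exists_sq_mem K (by rcases hF with h | h <;> rw [h] <;> norm_num) e g
    obtain ⟨m, j, hj⟩ := exists_two_part (k * g)
    have h1 := h7 _ (by rw [← (Commute.refl _).mul_pow]; exact pow_mem h _) j hj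
    rw [pow_succ, pow_mul, pow_two] at h1
    exact (mul_mem_cancel_left (mem_sup_right hk)).1
      ((mul_mem_cancel_left (hC (pow_mem h m))).1 (mem_sup_right h1))
  · have := Fact.mk hr
    obtain ⟨x, hx⟩ := exists_prime_orderOf_dvd_card' r h1
    obtain ⟨y, hy⟩ := exists_prime_orderOf_dvd_card' r h3
    have h8 : (x : G) = 1 := mem_bot.1 (hHK ▸ ⟨x.2, hG.mem_char K
      (by rw [orderOf_coe, orderOf_coe, hx, hy]) y.2⟩ : (x : G) ∈ (⊥ : Subgroup G))
    rw [← orderOf_coe, h8, orderOf_one] at hx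
    exact hr.one_lt.ne hx
  · have := Matrix.ProjectiveSpecialLinearGroup.rank_two_simple (F := F)
      (by rw [Nat.card_eq_fintype_card]; omega)
    exact e.isSimpleGroup

end Cfsg.Agent.S3924
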