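import Cfsg.Statements.S4014
import Mathlib
import Cfsg.Agent.Solv.DerivedLength
import Cfsg.Agent.Solv.PGroupNormal

set_option autoImplicit false
open Cfsg

namespace Cfsg.Agent.S4014

open Cfsg.Lib.Solv
open scoped commutatorElement

universe u

theorem derivedSeries_le_of_index {p : ℕ} [hp : Fact p.Prime] (j : ℕ) :
    ∀ (G : Type u) [Group G] [Finite G], IsPGroup p G → ∀ H : Subgroup G, H.index = p ^ j →
      derivedSeries G j ≤ H := by
  induction j with
  | zero =>
    intro G _ _ _ H hH
    rw [pow_zero, Subgroup.index_eq_one] at hH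
    rw [hH]; exact le_top
  | succ j ih =>
    intro G _ _ hG H hH
    have h1 : H ≠ ⊤ := by
      rintro rfl
      rw [Subgroup.index_top] at hH
      exact (Nat.one_lt_pow (by omega) hp.out.one_lt).ne hH
    obtain ⟨M, hM, hle⟩ := (eq_top_or_exists_le_coatom H).resolve_left h1
    haveI := hG.isNilpotent
    haveI : M.Normal := Subgroup.NormalizerCondition.normal_of_coatom M
      Group.normalizerCondition_of_isNilpotent hM
    have hMi : M.index = p := PG.index_eq_prime_of_isCoatom hG hM
    have h2 : derivedSeries G 1 ≤ M := by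
      rw [derivedSeries_one]
      haveI := isCyclic_of_prime_card (α := G ⧸ M) hMi
      exact Subgroup.Normal.quotient_commutative_iff_commutator_le.1 IsCyclic.isMulCommutative
    have h3 : (H.subgroupOf M).index = p ^ j := by
      have := Subgroup.relIndex_mul_index hle
      rw [hMi, hH, pow_succ] at this
      exact Nat.eq_of_mul_eq_mul_right hp.out.pos this
    have h4 := ih M (hG.to_subgroup M) _ h3
    rw [add_comm]
    refine (derivedSeries_add_le_map h2 j).trans ?_
    exact Subgroup.map_le_iff_le_comap.2 h4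

section Wreath
open RegularWreathProduct
variable {D Q : Type*} [Group D] [Group Q]

/-- evaluation of a base element at `1` -/
def ev : (rightHom : D ≀ᵣ Q →* Q).ker →* D where
  toFun w := w.1.left 1
  map_one' := rfl
  map_mul' a b := by
    have : a.1.right = 1 := a.2
    simp [this]

theorem derivedSeries_le_map_ev [Nontrivial Q] (j : ℕ) : derivedSeries D j ≤
    ((derivedSeries (D ≀ᵣ Q) (j + 1)).subgroupOf (rightHom : D ≀ᵣ Q →* Q).ker).map ev := by
  classical
  induction j with
  | zero =>
    intro d _
    obtain ⟨σ, hσ⟩ := exists_ne (1 : Q)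
    refine ⟨⟨⁅(⟨Pi.mulSingle 1 d, 1⟩ : D ≀ᵣ Q), inl σ⁆, ?_⟩,
      Subgroup.commutator_mem_commutator trivial trivial, ?_⟩
    · simp [commutatorElement_def]
    · simp [ev, commutatorElement_def, hσ]
  | succ j ih =>
    rw [derivedSeries_succ]
    refine (Subgroup.commutator_mono ih ih).trans ?_
    rw [← Subgroup.map_commutator]
    refine Subgroup.map_mono (Subgroup.commutator_le.2 (fun a ha b hb => ?_))
    exact Subgroup.commutator_mem_commutator ha hb

theorem derivedSeries_iterated_ne_bot (C : Type u) [Group C] [Nontrivial C] (k : ℕ) :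
    derivedSeries (IteratedWreathProduct C (k + 1)) k ≠ ⊥ := by
  induction k with
  | zero =>
    intro h
    obtain ⟨σ, hσ⟩ := exists_ne (1 : C)
    have : (inl σ : IteratedWreathProduct C 0 ≀ᵣ C) ∈
      derivedSeries (IteratedWreathProduct C 0 ≀ᵣ C) 0 := trivial
    change derivedSeries (IteratedWreathProduct C 0 ≀ᵣ C) 0 = ⊥ at h
    rw [h, Subgroup.mem_bot] at this
    exact hσ (congrArg RegularWreathProduct.right this)
  | succ k ih =>
    intro h
    change derivedSeries (IteratedWreathProduct C (k + 1) ≀ᵣ C) (k + 1) = ⊥ at h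
    have := derivedSeries_le_map_ev (D := IteratedWreathProduct C (k + 1)) (Q := C) k
    rw [h, Subgroup.bot_subgroupOf, Subgroup.map_bot] at this
    exact ih (le_bot_iff.1 this)

end Wreath


/-- Let p be a prime, n ≥ 1, and P a Sylow p-subgroup of the symmetric group on n letters. Then the derived length of P is exactly k = ⌊log_p n⌋ (the largest k with p^k ≤ n): the k-th derived subgroup of P is trivial and, when k ≥ 1, the (k−1)-st is not. -/
theorem result (p : ℕ) [Fact p.Prime] (n : ℕ) (hn : 1 ≤ n) (P : Sylow p (Equiv.Perm (Fin n))) : derivedSeries ↥(P : Subgroup (Equiv.Perm (Fin n))) (Nat.log p n) = ⊥ ∧ (1 ≤ Nat.log p n → derivedSeries ↥(P : Subgroup (Equiv.Perm (Fin n))) (Nat.log p n - 1) ≠ ⊥) := by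
  have hp : p.Prime := Fact.out
  constructor
  · rw [eq_bot_iff]
    intro g hg
    rw [Subgroup.mem_bot]
    ext x
    obtain ⟨j, hj⟩ := P.isPGroup'.index (MulAction.stabilizer (P : Subgroup (Equiv.Perm (Fin n))) x)
    have h1 : p ^ j ≤ n := by
      rw [← hj, MulAction.index_stabilizer]
      simpa using Set.ncard_le_card (MulAction.orbit (P : Subgroup (Equiv.Perm (Fin n))) x)
    have h2 := derivedSeries_le_of_index j _ P.isPGroup' _ hj
    have h3 := h2 (derivedSeries_antitone _ (Nat.le_log_of_pow_le hp.one_lt h1) hg)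
    exact congrArg Fin.val h3
  · intro hk hbot
    obtain ⟨k, hk'⟩ : ∃ k, Nat.log p n = k + 1 := ⟨Nat.log p n - 1, by omega⟩
    rw [hk', Nat.add_sub_cancel] at hbot
    have h1 : p ^ (k + 1) ≤ n := hk' ▸ Nat.pow_log_le_self p (by omega)
    let C := Multiplicative (ZMod p)
    have hC : Nat.card C = p := by simp [C]
    haveI : Nontrivial C := Finite.one_lt_card_iff_nontrivial.1 (hC ▸ hp.one_lt)
    obtain ⟨R⟩ := (inferInstance : Nonempty (Sylow p (Equiv.Perm (Fin (p ^ (k + 1))))))
    let e := Sylow.mulEquivIteratedWreathProduct p (k + 1) (Fin (p ^ (k + 1))) (by simp) C hC R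
    let f := Equiv.Perm.viaEmbeddingHom (Fin.castLEEmb h1)
    have hf : Function.Injective f := Equiv.Perm.viaEmbeddingHom_injective _
    obtain ⟨P', hP'⟩ := (R.isPGroup'.map f).exists_le_sylow
    have h2 := derivedSeries_eq_bot_of_surjective (P.equiv P').toMonoidHom (P.equiv P').surjective
      hbot
    let e' := Subgroup.equivMapOfInjective (R : Subgroup (Equiv.Perm (Fin (p ^ (k + 1))))) f hf
    have h3 := derivedSeries_eq_bot_of_injective e'.toMonoidHom e'.injective
      (derivedSeries_eq_bot_of_le hP' h2)
    exact derivedSeries_iterated_ne_bot C k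
      (derivedSeries_eq_bot_of_surjective e.toMonoidHom e.surjective h3)

end Cfsg.Agent.S4014
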