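import Cfsg.Statements.S4018
import Cfsg.Agent.FT.Pi
import Cfsg.Agent.Trans.TransferTools

set_option autoImplicit false
open Cfsg

namespace Cfsg.Agent.S4018

open Cfsg.Lib.FT Cfsg.Lib.Solv Cfsg.Lib.Trans Pointwise

/-- there is no regular friendship graph of degree at least three -/
theorem friendship {I : Type*} [Fintype I] [DecidableEq I] [Nonempty I] (r : I → I → Prop)
    [DecidableRel r] (hs : ∀ a b, r a b → r b a) (hi : ∀ a, ¬ r a a) {k : ℕ} (hk : 3 ≤ k)
    (hreg : ∀ a, (Finset.univ.filter (r a)).card = k)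
    (hu : ∀ a b, a ≠ b → ∃! c, r a c ∧ r b c) : False := by
  have hp : (k - 1).minFac.Prime := Nat.minFac_prime (by omega)
  obtain ⟨p, hpd, hp⟩ : ∃ p : ℕ, p ∣ k - 1 ∧ p.Prime := ⟨_, Nat.minFac_dvd _, hp⟩
  have := Fact.mk hp
  have hk1 : (k : ZMod p) = 1 := by
    have h1 : ((k - 1 : ℕ) : ZMod p) = 0 := (ZMod.natCast_eq_zero_iff _ _).2 hpd
    rw [Nat.cast_sub (by omega), sub_eq_zero] at h1
    simpa using h1
  let A : Matrix I I (ZMod p) := Matrix.of fun a b => if r a b then 1 else 0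
  let J : Matrix I I (ZMod p) := Matrix.of fun _ _ => 1
  have hAA : A * A = J := by
    ext a b
    have h1 : (A * A) a b = ((Finset.univ.filter fun c => r a c ∧ r b c).card : ZMod p) := by
      simp only [A, Matrix.mul_apply, Matrix.of_apply, Finset.card_filter, Nat.cast_sum]
      refine Finset.sum_congr rfl fun c _ => ?_
      by_cases h1 : r a c <;> by_cases h2 : r b c
      · simp [h1, h2, hs _ _ h2]
      · have : ¬ r c b := fun h => h2 (hs _ _ h)
        simp [h1, h2, this]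
      · simp [h1]
      · simp [h1]
    rw [h1]
    by_cases hab : a = b
    · subst hab
      simp only [and_self, J, Matrix.of_apply]
      rw [hreg a, hk1]
    · obtain ⟨c, hc, hcu⟩ := hu a b hab
      have : (Finset.univ.filter fun c => r a c ∧ r b c) = {c} := by
        ext d
        simp only [Finset.mem_filter, Finset.mem_univ, true_and, Finset.mem_singleton]
        exact ⟨hcu d, fun h => h ▸ hc⟩
      simp [this, J]
  have hAJ : A * J = J := by
    ext a b
    have h1 : (A * J) a b = ((Finset.univ.filter (r a)).card : ZMod p) := by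
      simp only [A, J, Matrix.mul_apply, Matrix.of_apply, Finset.card_filter, Nat.cast_sum, mul_one]
      exact Finset.sum_congr rfl fun c _ => by split_ifs <;> simp
    rw [h1, hreg, hk1]; simp [J]
  have hn : (Fintype.card I : ZMod p) = 1 := by
    have h1 : J * J = J := by
      calc J * J = A * A * J := by rw [hAA]
        _ = J := by rw [Matrix.mul_assoc, hAJ, hAJ]
    obtain ⟨a⟩ := ‹Nonempty I›
    have h2 := congrFun (congrFun h1 a) a
    simpa [J, Matrix.mul_apply] using h2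
  have hpow : ∀ n : ℕ, A ^ (n + 2) = J := by
    intro n
    induction n with
    | zero => rw [zero_add, pow_two, hAA]
    | succ n ih => rw [show n + 1 + 2 = (n + 2) + 1 by ring, pow_succ', ih, hAJ]
  have h1 := ZMod.trace_pow_card A
  have h2 : A.trace = 0 := by simp [A, Matrix.trace, hi]
  obtain ⟨n, hn2⟩ : ∃ n, p = n + 2 := ⟨p - 2, by have := hp.two_le; omega⟩
  rw [h2, zero_pow hp.ne_zero] at h1
  rw [show A ^ p = J from hn2 ▸ hpow n] at h1
  simp [J, Matrix.trace, hn] at h1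

theorem graph_part {G : Type*} [Group G] [Finite G] {C : Subgroup G} {t : G} (ht : orderOf t = 2)
    (htC : t ∈ C) (hCt : C ≤ 𝐂₁ t) (hiC : ∀ x ∈ 𝐂₁ t, ∀ y ∈ 𝐂₁ t, x * y ∈ C ↔ (x ∈ C ↔ y ∈ C))
    (hCinv : ∀ c ∈ C, c * c = 1 → c = 1 ∨ c = t)
    (hTI' : ∀ g x : G, x ∈ C → x ≠ 1 → g * x * g⁻¹ ∈ C → g ∈ 𝐂₁ t)
    (hconj : ∀ y : G, orderOf y = 2 → ∃ g : G, y = g * t * g⁻¹)
    (hout : ∀ u ∈ 𝐂₁ t, u ∉ C → u * u = 1) (hN : Nat.card (𝐂₁ t) = 2 * Nat.card C)
    (h3 : 3 ≤ Nat.card C)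
    (hodd : ∀ x a : G, x ≠ 1 → Odd (orderOf x) → orderOf a = 2 → a * x * a⁻¹ = x⁻¹ →
      ∃ g : G, g * x * g⁻¹ ∈ C) : False := by
  classical
  have ho2 : ∀ {x : G}, orderOf x = 2 ↔ x * x = 1 ∧ x ≠ 1 := fun {x} => by
    rw [orderOf_eq_prime_iff, pow_two]
  have hnb : ∀ u : G, orderOf u = 2 → t ≠ u → u ∈ 𝐂₁ t → u ∉ C := fun u hu h1 _ h =>
    (hCinv u h (ho2.1 hu).1).elim (ho2.1 hu).2 fun h => h1 h.symm
  have hcm : ∀ {g a : G}, Commute (g * t * g⁻¹) a ↔ g⁻¹ * a * g ∈ 𝐂₁ t := fun {g a} => by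
    rw [mem_cent1, commute_iff_eq, eq_comm]
    constructor
    · intro h
      calc g⁻¹ * a * g * t = g⁻¹ * (a * (g * t * g⁻¹)) * g := by group
        _ = _ := by rw [h]; group
    · intro h
      calc a * (g * t * g⁻¹) = g * (g⁻¹ * a * g * t) * g⁻¹ := by group
        _ = _ := by rw [h]; group
  have hoc : ∀ {g a : G}, orderOf (g⁻¹ * a * g) = orderOf a := fun {g a} => by
    have := orderJ g⁻¹ a
    rwa [inv_inv] at this
  have hne : ∀ {g a : G}, g * t * g⁻¹ ≠ a ↔ t ≠ g⁻¹ * a * g := fun {g a} => by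
    refine not_congr ⟨fun h => by rw [← h]; group, fun h => by rw [h]; group⟩
  let I := {a : G // orderOf a = 2}
  have : Fintype G := Fintype.ofFinite G
  have : Nonempty I := ⟨⟨t, ht⟩⟩
  refine friendship (I := I) (fun a b => a.1 ≠ b.1 ∧ Commute a.1 b.1)
    (fun a b h => ⟨h.1.symm, h.2.symm⟩) (fun a h => h.1 rfl) (k := Nat.card C)
    h3 ?_ ?_
  · rintro ⟨a, ha⟩
    obtain ⟨g, rfl⟩ := hconj a ha
    have h1 : (Finset.univ.filter fun x => x ∈ 𝐂₁ t ∧ x ∉ C).card = Nat.card C := by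
      have h2 := Finset.card_filter_add_card_filter_not (s := Finset.univ.filter fun x => x ∈ 𝐂₁ t)
        (fun x => x ∈ C)
      rw [Finset.filter_filter, Finset.filter_filter] at h2
      have h4 : (Finset.univ.filter fun x => x ∈ 𝐂₁ t).card = Nat.card (𝐂₁ t) := by
        rw [Nat.card_eq_fintype_card, Fintype.card_subtype]
      have h5 : (Finset.univ.filter fun x => x ∈ 𝐂₁ t ∧ x ∈ C).card = Nat.card (C) := by
        rw [Nat.card_eq_fintype_card, Fintype.card_subtype]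
        exact congrArg _ (Finset.filter_congr fun x _ => ⟨fun h => h.2, fun h => ⟨hCt h, h⟩⟩)
      omega
    rw [← h1]
    refine Finset.card_bij (fun b _ => g⁻¹ * b.1 * g) ?_ ?_ ?_
    · intro b hb
      simp only [Finset.mem_filter, Finset.mem_univ, true_and] at hb ⊢
      exact ⟨hcm.1 hb.2, hnb _ (hoc.trans b.2) (hne.1 hb.1) (hcm.1 hb.2)⟩
    · intro b _ c _ h
      exact Subtype.ext (mul_left_cancel (mul_right_cancel h))
    · intro x hx
      simp only [Finset.mem_filter, Finset.mem_univ, true_and] at hx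
      have h2 : g⁻¹ * (g * x * g⁻¹) * g = x := by group
      refine ⟨⟨g * x * g⁻¹, (orderJ g x).trans (ho2.2 ⟨hout x hx.1 hx.2,
        fun h => hx.2 (h ▸ one_mem _)⟩)⟩, ?_, h2⟩
      simp only [Finset.mem_filter, Finset.mem_univ, true_and]
      rw [hne, hcm, h2]
      exact ⟨fun h => hx.2 (h ▸ htC), hx.1⟩
  · rintro ⟨a, ha⟩ ⟨b, hb⟩ hab'
    have hab1 : a ≠ b := fun h => hab' (Subtype.ext h)
    obtain ⟨haa, ha1⟩ := ho2.1 ha
    obtain ⟨hbb, hb1⟩ := ho2.1 hb
    have hai : a⁻¹ = a := inv_eq_of_mul_eq_one_right haa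
    have hbi : b⁻¹ = b := inv_eq_of_mul_eq_one_right hbb
    have hx1 : a * b ≠ 1 := fun h => hab1 (by rw [← hbi]; exact eq_inv_of_mul_eq_one_left h)
    have hxa : a * (a * b) * a⁻¹ = (a * b)⁻¹ := by
      rw [← mul_assoc, haa, mul_inv_rev, hai, hbi, one_mul]
    have hxb : b * (a * b) * b⁻¹ = (a * b)⁻¹ := by
      rw [mul_inv_rev, hai, hbi, ← mul_assoc, mul_assoc, hbb, mul_one]
    refine existsUnique_of_exists_of_unique ?_ ?_
    · generalize hx : a * b = x at hx1 hxa hxb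
      suffices h : ∃ c : G, orderOf c = 2 ∧ ∀ d : G, d * d = 1 → d * x * d⁻¹ = x⁻¹ → d ≠ x →
          d ≠ c ∧ Commute d c by
        obtain ⟨c, hc, h⟩ := h
        exact ⟨⟨c, hc⟩, h a haa hxa (fun e => hb1 (left_eq_mul.1 (e.trans hx.symm))),
          h b hbb hxb (fun e => ha1 (right_eq_mul.1 (e.trans hx.symm)))⟩
      rcases Nat.even_or_odd (orderOf x) with ⟨k, hk⟩ | ho
      · have hk0 : 0 < k := by have := orderOf_pos x; omega
        have hc : x ^ k * x ^ k = 1 := by rw [← pow_add, ← hk, pow_orderOf_eq_one]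
        have hc1 : x ^ k ≠ 1 := pow_ne_one_of_lt_orderOf hk0.ne' (by omega)
        refine ⟨x ^ k, ho2.2 ⟨hc, hc1⟩, fun d hd hdx hdne => ⟨fun e => ?_, ?_⟩⟩
        · have h1 : x = x⁻¹ := by rw [← hdx, e]; group
          have h2 : orderOf x ∣ 2 := orderOf_dvd_of_pow_eq_one (by
            rw [pow_two]; nth_rw 1 [h1]; exact inv_mul_cancel x)
          have h4 : k = 1 := by have := Nat.le_of_dvd two_pos h2; omega
          exact hdne (by rw [e, h4, pow_one])
        · rw [commute_iff_eq, ← mul_inv_eq_iff_eq_mul, ← conj_pow, hdx, inv_pow]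
          exact inv_eq_of_mul_eq_one_right hc
      · obtain ⟨g, h4⟩ := hodd x a hx1 ho ha hxa
        refine ⟨g⁻¹ * t * g⁻¹⁻¹, (orderJ _ _).trans ht, fun d hd hdx _ => ⟨fun e => ?_, ?_⟩⟩
        · have h5 := mem_cent1.1 (hCt h4)
          have h6 : x * x = 1 := by
            nth_rw 1 [← inv_inv x]
            rw [← hdx, e, inv_mul_eq_one]
            calc g⁻¹ * t * g⁻¹⁻¹ * x * (g⁻¹ * t * g⁻¹⁻¹)⁻¹
                = g⁻¹ * (t * (g * x * g⁻¹)) * t⁻¹ * g := by group
              _ = x := by rw [← h5]; group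
          rw [ho2.2 ⟨h6, hx1⟩] at ho
          exact absurd ho (by decide)
        · refine (hcm.2 (hTI' _ _ h4 (conjg_eq1.not.2 hx1) ?_)).symm
          have h5 : g⁻¹⁻¹ * d * g⁻¹ * (g * x * g⁻¹) * (g⁻¹⁻¹ * d * g⁻¹)⁻¹ = (g * x * g⁻¹)⁻¹ := by
            calc _ = g * (d * x * d⁻¹) * g⁻¹ := by group
              _ = _ := by rw [hdx]; group
          rw [h5]; exact inv_mem h4
    · rintro ⟨c, hc⟩ ⟨c', hc'⟩ h h'
      obtain ⟨g, rfl⟩ := hconj c hc
      obtain ⟨g', rfl⟩ := hconj c' hc'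
      have key : ∀ g : G, (a ≠ g * t * g⁻¹ ∧ Commute a (g * t * g⁻¹)) ∧
          (b ≠ g * t * g⁻¹ ∧ Commute b (g * t * g⁻¹)) → g⁻¹ * (a * b) * g ∈ C := by
        intro g h
        have h1 := hcm.1 h.1.2.symm
        have h2 := hcm.1 h.2.2.symm
        have h4 := hnb _ (hoc.trans ha) (hne.1 h.1.1.symm) h1
        have h5 := hnb _ (hoc.trans hb) (hne.1 h.2.1.symm) h2
        rw [show g⁻¹ * (a * b) * g = (g⁻¹ * a * g) * (g⁻¹ * b * g) by group, hiC _ h1 _ h2]
        exact iff_of_false h4 h5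
      have h1 := mem_cent1.1 (hTI' (g'⁻¹ * g) _ (key g h)
        (fun e => hx1 (by rw [← mul_left_cancel_iff (a := g⁻¹), ← mul_right_cancel_iff (a := g), e]; group))
        (by rw [show g'⁻¹ * g * (g⁻¹ * (a * b) * g) * (g'⁻¹ * g)⁻¹ = g'⁻¹ * (a * b) * g' by group]
            exact key g' h'))
      refine Subtype.ext ?_
      calc g * t * g⁻¹ = g' * (g'⁻¹ * g * t) * g⁻¹ := by group
        _ = g' * t * g'⁻¹ := by rw [h1]; group

/-- Let G be a finite group with an abelian Sylow 3-subgroup P such that the normalizer of P has order 4·#P, the centralizer C of P has order 2·#P, C meets each of its conjugates by elements outside its normalizer trivially, and every proper subgroup of G of even order has order dividing 4·#P. Then G is not simple. -/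
theorem result {G : Type*} [Group G] [Finite G]
    (P : Sylow 3 G) (hab : IsMulCommutative P)
    (hN : Nat.card (Subgroup.normalizer ((P : Subgroup G) : Set G)) = 4 * Nat.card P)
    (hC : Nat.card (Subgroup.centralizer (P : Set G)) = 2 * Nat.card P)
    (hTI : Cfsg.IsTISubset (Subgroup.centralizer (P : Set G) : Set G))
    (heven : ∀ H : Subgroup G, H ≠ ⊤ → 2 ∣ Nat.card H → Nat.card H ∣ 4 * Nat.card P) :
    ¬ IsSimpleGroup G := by
  classical
  intro hS
  set P0 : Subgroup G := (P : Subgroup G) with hP0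
  change Nat.card (𝐂 P0) = 2 * Nat.card P0 at hC
  change Nat.card (𝐍 P0) = 4 * Nat.card P0 at hN
  change IsTISubset ((𝐂 P0 : Subgroup G) : Set G) at hTI
  change ∀ H : Subgroup G, H ≠ ⊤ → 2 ∣ Nat.card H → Nat.card H ∣ 4 * Nat.card P0 at heven
  have hPp : IsPGroup 3 P0 := P.isPGroup'
  obtain ⟨e, he⟩ := hPp.exists_card_eq
  have hm0 : 0 < Nat.card P0 := Nat.card_pos
  have hodd : ¬ 2 ∣ Nat.card P0 := fun h => by
    have := Nat.prime_two.dvd_of_dvd_pow (he ▸ h); omega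
  have hP1 : P0 ≠ ⊥ := fun h => by
    rw [h, cent_bot] at hC; rw [h, norm_bot, hC] at hN; rw [← h] at hN; omega
  have h3 : 3 ∣ Nat.card P0 := pgroup_dvd_card hPp hP1
  have hPC : P0 ≤ 𝐂 P0 := abelian_le_cent hab
  have hCN : 𝐂 P0 ≤ 𝐍 P0 := cent_sub P0
  have hidx : ∀ {H K : Subgroup G}, H ≤ K → Nat.card K = 2 * Nat.card H → ∀ x ∈ K, ∀ y ∈ K,
      (x * y ∈ H ↔ (x ∈ H ↔ y ∈ H)) := by
    intro H K hHK hc x hx y hy
    have h1 : (H.subgroupOf K).index = 2 := by
      have h2 := (H.subgroupOf K).card_mul_index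
      rw [Nat.card_congr (Subgroup.subgroupOfEquivOfLe hHK).toEquiv, hc, mul_comm] at h2
      exact Nat.eq_of_mul_eq_mul_right Nat.card_pos h2
    exact Subgroup.mul_mem_iff_of_index_two h1 (a := ⟨x, hx⟩) (b := ⟨y, hy⟩)
  have hiC := hidx hCN (by omega)
  have hiP := hidx hPC hC
  obtain ⟨t, htC, ht⟩ := Cauchy Nat.prime_two (H := 𝐂 P0) (by omega)
  have hinvP : ∀ {x : G}, x ∈ P0 → x * x = 1 → x = 1 := fun {x} hx h =>
    orderOf_eq_one_iff.1 (Nat.eq_one_of_dvd_coprimes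
      ((Nat.Prime.coprime_iff_not_dvd Nat.prime_two).2 hodd)
      (orderOf_dvd_of_pow_eq_one (by rw [pow_two, h])) (order_dvdG hx))
  have ho2 : ∀ {x : G}, orderOf x = 2 ↔ x * x = 1 ∧ x ≠ 1 := fun {x} => by
    rw [orderOf_eq_prime_iff, pow_two]
  obtain ⟨htt, ht1⟩ := ho2.1 ht
  have htP : t ∉ P0 := fun h => ht1 (hinvP h htt)
  have hti : t⁻¹ = t := inv_eq_of_mul_eq_one_right htt
  have hCt : 𝐂 P0 ≤ 𝐂₁ t := by
    intro c hc
    by_cases h : c ∈ P0
    · exact mem_cent1.2 (mem_cent.1 htC c h)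
    · have h1 := mem_cent.1 htC _ ((hiP c hc t htC).2 (iff_of_false ‹_› ‹_›))
      rw [mem_cent1]
      rw [← mul_assoc] at h1
      exact mul_right_cancel h1
  have hCinv : ∀ c ∈ 𝐂 P0, c * c = 1 → c = 1 ∨ c = t := by
    intro c hc h
    by_cases h1 : c ∈ P0
    · exact Or.inl (hinvP h1 h)
    · right
      have h2 := hinvP ((hiP c hc t htC).2 (iff_of_false ‹_› ‹_›)) (by
        have := mem_cent1.1 (hCt hc)
        calc c * t * (c * t) = c * (t * c) * t := by group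
          _ = c * c * (t * t) := by rw [← this]; group
          _ = 1 := by rw [h, htt, mul_one])
      rw [← hti]; exact eq_inv_of_mul_eq_one_left h2
  have hNC : ∀ g : G, g ∈ 𝐍 (𝐂 P0) → g ∈ 𝐂₁ t := by
    intro g hg
    rcases hCinv _ ((memJ_norm hg).2 htC) (by
      calc g * t * g⁻¹ * (g * t * g⁻¹) = g * (t * t) * g⁻¹ := by group
        _ = 1 := by rw [htt]; group) with h | h
    · exact absurd (conjg_eq1.1 h) ht1
    · rw [mem_cent1]; exact mul_inv_eq_iff_eq_mul.1 h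
  have hTI' : ∀ g x : G, x ∈ 𝐂 P0 → x ≠ 1 → g * x * g⁻¹ ∈ 𝐂 P0 → g ∈ 𝐂₁ t :=
    fun g x hx hx1 h => hNC g (by_contra fun hg => hx1 (hTI g hg x hx h))
  have hNt : 𝐍 P0 ≤ 𝐂₁ t := fun g hg => hNC g (norms_cent le_rfl hg)
  have hGd : 2 * Nat.card P0 ∣ Nat.card G := hC ▸ Subgroup.card_subgroup_dvd_card _
  have hcomm : commutator G = ⊤ := by
    refine (hS.eq_bot_or_eq_top_of_normal _ inferInstance).resolve_left fun h => ?_
    have h1 : P0.Normal := normal_top_iff.1 ⟨le_top, norm_of_commg_le (H := ⊤) le_top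
      ((le_of_eq h).trans bot_le)⟩
    rcases hS.eq_bot_or_eq_top_of_normal _ h1 with h2 | h2
    · exact hP1 h2
    · exact htP (h2 ▸ Subgroup.mem_top t)
  have hCt_ne : 𝐂₁ t ≠ ⊤ := by
    intro h
    have h1 : (Subgroup.zpowers t).Normal := normal_top_iff.1 ⟨le_top, h ▸ cent1_le_norm_zpowers t⟩
    rcases hS.eq_bot_or_eq_top_of_normal _ h1 with h2 | h2
    · exact ht1 (Subgroup.zpowers_eq_bot.1 h2)
    · have h4 := cardSg (H := P0) (le_top.trans h2.ge)
      rw [Nat.card_zpowers, ht] at h4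
      have := Nat.le_of_dvd two_pos (h3.trans h4); omega
  have hNeq : 𝐍 P0 = 𝐂₁ t := eq_of_le_of_card_le hNt (hN ▸ Nat.le_of_dvd (by omega)
    (heven _ hCt_ne (ht ▸ order_dvdG (cent1id t))))
  rw [hNeq] at hN hiC
  have hi : ¬ 2 ∣ (𝐂₁ t).index := by
      intro h
      have h8 : 2 ^ 3 ∣ Nat.card G := by
        rw [← (𝐂₁ t).card_mul_index, hN]
        obtain ⟨k, hk⟩ := h
        exact ⟨Nat.card P0 * k, by rw [hk]; ring⟩
      obtain ⟨H, hH⟩ := Sylow.exists_subgroup_card_pow_prime 2 h8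
      have h1 : H ≠ ⊤ := fun h => by
        have h4 := h3.trans (cardSg (H := P0) (le_top.trans h.ge))
        rw [hH] at h4; omega
      have h2 := heven H h1 (by rw [hH]; omega)
      rw [hH] at h2
      omega
  have hconj : ∀ y : G, orderOf y = 2 → ∃ g : G, y = g * t * g⁻¹ := by
    intro y hy
    obtain ⟨a, -, ha, -⟩ := thompson_transfer_involution (T := 𝐂 P0) hi
      (fun x hx y hy => by
        rw [commutatorElement_def, show x * y * x⁻¹ * y⁻¹ = (x * y) * (y * x)⁻¹ by group,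
          hiC _ (mul_mem hx hy) _ (inv_mem (mul_mem hy hx)), inv_mem_iff, hiC _ hx _ hy,
          hiC _ hy _ hx]
        exact Iff.comm)
      (fun x hx => ⟨1, by rw [pow_one, pow_two, hiC _ hx _ hx]⟩) y hy
      (fun u hu v hv _ _ h1 h2 => (hiC _ hu _ hv).2 (iff_of_false ‹_› ‹_›))
      (by rw [hcomm, top_sup_eq]; trivial) ⊥ IsPGroup.of_bot (by simp)
    refine ⟨a, ?_⟩
    rcases hCinv _ ha (by
      calc a⁻¹ * y * a * (a⁻¹ * y * a) = a⁻¹ * (y * y) * a := by group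
        _ = 1 := by rw [(ho2.1 hy).1]; group) with h | h
    · exact absurd (by rw [← mul_left_cancel_iff (a := a⁻¹), ← mul_right_cancel_iff (a := a), h]; group)
        (ho2.1 hy).2
    · rw [← h]; group
  have hoddC : ∀ x ∈ 𝐂₁ t, Odd (orderOf x) → x ∈ 𝐂 P0 := by
    rintro x hx ⟨k, hk⟩
    have h1 : (x * x) ^ (k + 1) = x := by
      rw [← pow_two, ← pow_mul, show 2 * (k + 1) = (2 * k + 1) + 1 by ring, ← hk, pow_succ,
        pow_orderOf_eq_one, one_mul]
    exact h1 ▸ pow_mem ((hiC _ hx _ hx).2 Iff.rfl) _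
  have hCab : ∀ c ∈ 𝐂 P0, ∀ d ∈ 𝐂 P0, c * d = d * c := by
    intro c hc d hd
    by_cases h : c ∈ P0
    · exact mem_cent.1 hd c h
    · have h1 := mem_cent.1 hd _ ((hiP c hc t htC).2 (iff_of_false ‹_› ‹_›))
      rw [mul_assoc, ← mem_cent1.1 (hCt hd), ← mul_assoc, ← mul_assoc] at h1
      exact mul_right_cancel h1
  obtain ⟨u₀, hu₀, hu₀C, hu₀2⟩ : ∃ u ∈ 𝐂₁ t, u ∉ 𝐂 P0 ∧ u * u = 1 := by
    obtain ⟨S, hS'⟩ := Sylow_exists 2 (𝐂₁ t)
    have hS4 : Nat.card S = 4 := by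
      rw [Sylow_card_factorization hS', hN, Nat.factorization_mul (by omega) (by omega)]
      have h4 : (4 : ℕ).factorization 2 = 2 := by
        rw [show 4 = 2 ^ 2 by rfl, Nat.Prime.factorization_pow Nat.prime_two]; simp
      simp [h4, Nat.factorization_eq_zero_of_not_dvd hodd]
    have h1 : ¬ S ≤ 𝐂 P0 := fun h => by
      have := cardSg h
      rw [hS4, hC] at this
      omega
    obtain ⟨u, huS, hu⟩ := SetLike.not_le_iff_exists.1 h1
    refine ⟨u, pHall_sub hS' huS, hu, by_contra fun h2 => ?_⟩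
    have h4 : orderOf u = 4 := by
      have h5 := hS4 ▸ order_dvdG huS
      have h6 : ¬ orderOf u ∣ 2 := fun h => h2 (by rw [← pow_two]; exact orderOf_dvd_iff_pow_eq_one.1 h)
      have := Nat.le_of_dvd (by omega) h5
      interval_cases h7 : orderOf u <;> omega
    obtain ⟨T, hT⟩ := exists_sylow_top (pHall_trans hS' le_top ((p'natE Nat.prime_two).2
      (by rwa [Subgroup.relIndex_top_right])))
    have hTc : IsCyclic T := by
      rw [hT]
      exact isCyclic_of_orderOf_eq_card (⟨u, huS⟩ : S) (by rw [Subgroup.orderOf_mk, h4, hS4])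
    have h5 := hTc.isComplement' ((Nat.minFac_eq_two_iff _).2 ((dvd_mul_right _ _).trans hGd))
    have h5ker := MonoidHom.normal_ker (MonoidHom.transferSylow T (hTc.normalizer_le_centralizer
      ((Nat.minFac_eq_two_iff _).2 ((dvd_mul_right _ _).trans hGd))))
    rcases hS.eq_bot_or_eq_top_of_normal _ (h5ker) with h6 | h6
    · rw [h6] at h5
      have h7 := Subgroup.isComplement'_bot_left.1 h5
      have h8 := h3.trans (cardSg (H := P0) (le_top.trans h7.ge))
      rw [hT, hS4] at h8; omega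
    · rw [h6] at h5
      have h7 := Subgroup.isComplement'_top_left.1 h5
      rw [hT, trivg_card1, hS4] at h7; omega
  have hout : ∀ u ∈ 𝐂₁ t, u ∉ 𝐂 P0 → u * u = 1 := by
    intro u hu huC
    obtain ⟨g, hg⟩ := hconj u₀ (ho2.2 ⟨hu₀2, fun h => hu₀C (h ▸ one_mem _)⟩)
    have hi0 : u₀⁻¹ = u₀ := inv_eq_of_mul_eq_one_right hu₀2
    have hc : u₀ * u ∈ 𝐂 P0 := (hiC _ hu₀ _ hu).2 (iff_of_false ‹_› ‹_›)
    have hc' : u * u₀ ∈ 𝐂 P0 := (hiC _ hu _ hu₀).2 (iff_of_false ‹_› ‹_›)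
    have hy : u * u₀ * (u₀ * u) = u * u := by
      rw [mul_assoc, ← mul_assoc u₀, hu₀2, one_mul]
    have hyP : u * u ∈ P0 := by
      rw [← hy, hiP _ hc' _ hc, ← memJ_norm (g := u₀) (hNeq ▸ hu₀), hi0, mul_assoc, mul_assoc, hu₀2,
        mul_one]
    have hyc : u * u * u₀ = u₀ * (u * u) := by
      have h1 := hCab _ hc _ hc'
      rw [hy] at h1
      rw [← h1]
      calc u₀ * u * (u * u₀) * u₀ = u₀ * u * u * (u₀ * u₀) := by group
        _ = u₀ * (u * u) := by rw [hu₀2]; group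
        _ = _ := by rw [h1]
    by_contra h1
    have h2 : g⁻¹ * (u * u) * g⁻¹⁻¹ ∈ 𝐂 P0 := by
      refine hoddC _ ?_ ?_
      · rw [mem_cent1]
        calc g⁻¹ * (u * u) * g⁻¹⁻¹ * t = g⁻¹ * (u * u * (g * t * g⁻¹)) * g := by group
          _ = g⁻¹ * ((g * t * g⁻¹) * (u * u)) * g := by rw [← hg, hyc]
          _ = _ := by group
      · rw [orderJ]
        exact Nat.not_even_iff_odd.1 fun h => hodd (h.two_dvd.trans (order_dvdG hyP))
    have h4 := mem_cent1.1 (inv_mem (hTI' _ _ (hPC hyP) h1 h2))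
    rw [inv_inv] at h4
    apply hu₀C
    rw [hg, h4, mul_inv_cancel_right]; exact htC
  refine graph_part ht htC hCt hiC hCinv hTI' hconj hout (by omega)
    (by have := Nat.le_of_dvd hm0 h3; omega) fun x a hx1 ho ha hxa => ?_
  have hnz : a ∈ 𝐍 (Subgroup.zpowers x) := by
    rw [normP, conj_smul_zpowers, hxa, Subgroup.zpowers_inv]
  have hNx : 𝐍 (Subgroup.zpowers x) ≠ ⊤ := by
    intro h
    rcases hS.eq_bot_or_eq_top_of_normal _ (normal_top_iff.1 ⟨le_top, h.ge⟩) with h2 | h2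
    · exact hx1 (Subgroup.zpowers_eq_bot.1 h2)
    · have h4 := order_dvdG (h2 ▸ Subgroup.mem_top t : t ∈ Subgroup.zpowers x)
      rw [ht, Nat.card_zpowers] at h4
      exact (Nat.not_even_iff_odd.2 ho) (even_iff_two_dvd.2 h4)
  have h1 := (order_dvdG (normG _ (Subgroup.mem_zpowers x))).trans
    (heven _ hNx (ha ▸ order_dvdG hnz))
  have h2 : orderOf x ∣ 3 ^ e := he ▸ (Nat.Coprime.dvd_mul_left
    (Nat.Coprime.pow_right 2 (Nat.coprime_two_right.2 ho))).1 h1
  obtain ⟨j, -, hj⟩ := (Nat.dvd_prime_pow Nat.prime_three).1 h2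
  obtain ⟨g, -, hg⟩ := Sylow_Jsub (Sylow_top P) (le_top (a := Subgroup.zpowers x))
    (IsPGroup.of_card (by rw [Nat.card_zpowers, hj]))
  exact ⟨g, hPC (hg (by rw [conj_smul_zpowers]; exact Subgroup.mem_zpowers _))⟩

end Cfsg.Agent.S4018
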