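import Cfsg.Statements.S4020
import Cfsg.Agent.FT.Rank
import Cfsg.Agent.FT.Img
import Cfsg.Agent.Perm.QuatAut

set_option autoImplicit false
open Cfsg

namespace Cfsg.Agent.S4020

open Cfsg.Lib.FT Cfsg.Lib.Solv Pointwise

set_option linter.unusedSectionVars false

section
variable {G : Type*} [Group G] [Finite G]

/-- `p`-subgroups of equal order are conjugate -/
def Hyp (p : ℕ) (G : Type*) [Group G] : Prop :=
  ∀ H K : Subgroup G, IsPGroup p H → IsPGroup p K → Nat.card H = Nat.card K → ∃ g : G, K = g •ᶜ H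

theorem expo {p : ℕ} [hp : Fact p.Prime] (h : Hyp p G) {P : Subgroup G} (hP : IsPGroup p P)
    (hr : 2 ≤ pRank p P) : ∀ x ∈ P, x ^ p = 1 := by
  intro x hx
  obtain ⟨E, hE⟩ := p_rank_geP.1 hr
  by_contra hxp
  have hX : IsPGroup p (Subgroup.zpowers x) := hP.to_le (Subgroup.zpowers_le.2 hx)
  obtain ⟨m, hm⟩ := pgroup_card_pow hX
  have h2 : 2 ≤ m := by
    by_contra h2
    rw [Nat.card_zpowers] at hm
    exact hxp (orderOf_dvd_iff_pow_eq_one.1 (hm ▸ (pow_dvd_pow p (by omega)).trans (pow_one p).dvd))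
  obtain ⟨B, hB, hc⟩ := exists_le_card_pow hX (hm ▸ Nat.pow_le_pow_right hp.out.pos h2)
  obtain ⟨g, hg⟩ := h B E (hX.to_le hB) (pnElem_pgroup hE) (hc.trans (card_pnElem hE).symm)
  exact pnElem_not_cyclic hE le_rfl (hg ▸ (cyclicJ g).2 (cyclicS hB (cyclicP.2 ⟨x, rfl⟩)))

theorem two_case (h : Hyp 2 G) {P : Subgroup G} (hP : IsPGroup 2 P) :
    IsCyclic P ∨ IsElementaryAbelian 2 P ∨ Nonempty (P ≃* QuaternionGroup 2) := by
  by_cases hr : 2 ≤ pRank 2 P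
  · have h1 := expo h hP hr
    have h2 : ∀ x ∈ P, x⁻¹ = x := fun x hx =>
      inv_eq_of_mul_eq_one_right (by rw [← pow_two]; exact h1 x hx)
    refine Or.inr (Or.inl ⟨abelian_of_forall fun x hx y hy => ?_, h1⟩)
    rw [← h2 _ (mul_mem hx hy), mul_inv_rev, h2 x hx, h2 y hy]
  by_cases hP1 : P = ⊥
  · exact Or.inl (cyclicP.2 ⟨1, by rw [hP1, Subgroup.zpowers_one_eq_bot]⟩)
  obtain ⟨z, hz, hzo⟩ := Cauchy Nat.prime_two (pgroup_dvd_card (hP.to_le inf_le_left)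
    ((center_nil_eq1 (pgroup_nil hP)).not.2 hP1))
  have hu : ∀ x ∈ P, x ≠ 1 → x ^ 2 = 1 → x = z := by
    intro x hx hx1 hx2
    by_contra hne
    refine hr (le_p_rank_of_pnElem (pnElem_sup_zpowers (p1Elem_zpowers hz.1 hzo) hx ?_ hx2 ?_))
    · rw [cent_zpowers]; exact cent1C.1 (cent_le_cent1 hx hz.2)
    · intro hxz
      rw [← mem_powers_iff_mem_zpowers] at hxz
      obtain ⟨k, hk⟩ := hxz
      replace hk : z ^ k = x := hk
      rw [← hk, ← pow_mod_orderOf, hzo] at hx1 hne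
      rcases Nat.mod_two_eq_zero_or_one k with h | h <;> simp [h] at hx1 hne
  rcases Lib.Perm.isCyclic_or_quaternion_of_unique hP (fun x y hx hy hx2 hy2 => Subtype.ext
    ((hu x x.2 (fun e => hx (Subtype.ext e)) (congrArg Subtype.val hx2)).trans
      (hu y y.2 (fun e => hy (Subtype.ext e)) (congrArg Subtype.val hy2)).symm)) with h1 | ⟨n, ⟨e⟩⟩
  · exact Or.inl h1
  rcases n with _ | n
  · exact Or.inr (Or.inr ⟨e⟩)
  exfalso
  let f : QuaternionGroup (2 ^ (n + 1 + 1)) →* G := P.subtype.comp e.symm.toMonoidHom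
  have hf : Function.Injective f := P.subtype_injective.comp e.symm.injective
  obtain ⟨K, hK, hxK⟩ := Sylow.exists_subgroup_card_pow_succ (p := 2) (n := 2)
    (G := QuaternionGroup (2 ^ (n + 1 + 1))) (H := Subgroup.zpowers (QuaternionGroup.xa 0))
    (by rw [Nat.card_eq_fintype_card, QuaternionGroup.card]; exact ⟨2 ^ (n + 1), by ring⟩)
    (by rw [Nat.card_zpowers, QuaternionGroup.orderOf_xa]; rfl)
  obtain ⟨L, hL, hLc⟩ := exists_sub_cyclic_card (n := 2 ^ (2 + 1))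
    (cyclicP.2 ⟨(QuaternionGroup.a 1 : QuaternionGroup (2 ^ (n + 1 + 1))), rfl⟩)
    (by rw [Nat.card_zpowers, QuaternionGroup.orderOf_a_one]; exact ⟨2 ^ n, by ring⟩)
  obtain ⟨g, hg⟩ := h (L.map f) (K.map f) ((IsPGroup.of_card hLc).map f)
    ((IsPGroup.of_card hK).map f) (by
      rw [Subgroup.card_map_of_injective hf, Subgroup.card_map_of_injective hf, hK, hLc])
  have h1 : IsCyclic (K.map f) := hg ▸ (cyclicJ g).2 (isCyclic_of_surjective _
    (hH := cyclicS hL (cyclicP.2 ⟨_, rfl⟩)) (L.equivMapOfInjective f hf).surjective)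
  obtain ⟨y, hy⟩ := cyclicP.1 (isCyclic_of_surjective _ (hH := h1)
    (K.equivMapOfInjective f hf).symm.surjective)
  rw [hy, Nat.card_zpowers] at hK
  rcases y with i | i
  · have h2 := hy ▸ hxK (Subgroup.mem_zpowers _)
    rw [← mem_powers_iff_mem_zpowers] at h2
    obtain ⟨k, hk⟩ := h2
    have h3 : ∀ k : ℕ, ∃ j, (QuaternionGroup.a i : QuaternionGroup (2 ^ (n + 1 + 1))) ^ k =
        QuaternionGroup.a j := fun k => by
      induction k with
      | zero => exact ⟨0, rfl⟩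
      | succ k ih => obtain ⟨j, hj⟩ := ih; exact ⟨j + i, (pow_succ _ _).trans (by rw [hj]; rfl)⟩
    obtain ⟨j, hj⟩ := h3 k
    exact QuaternionGroup.noConfusion rfl (heq_of_eq (hj.symm.trans hk))
  · rw [QuaternionGroup.orderOf_xa] at hK
    omega

theorem two_conj (h : Hyp 2 G) {T : Subgroup G} (hT : IsPGroup 2 T) {u n : G} (hu : u ∈ T)
    (hn : n ∈ T) : u⁻¹ * n * u = n ∨ u⁻¹ * n * u = n⁻¹ := by
  rcases two_case h hT with h1 | h1 | ⟨⟨e⟩⟩
  · left; rw [mul_assoc, abelian_comm (cyclic_abelian h1) hn hu, inv_mul_cancel_left]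
  · left; rw [mul_assoc, abelian_comm h1.1 hn hu, inv_mul_cancel_left]
  · have h2 : ∀ s x : QuaternionGroup 2, s⁻¹ * x * s = x ∨ s⁻¹ * x * s = x⁻¹ := by decide
    have h3 := h2 (e ⟨u, hu⟩) (e ⟨n, hn⟩)
    rw [← map_inv, ← map_mul, ← map_mul, ← map_inv, e.apply_eq_iff_eq, e.apply_eq_iff_eq] at h3
    exact h3.imp (congrArg Subtype.val) (congrArg Subtype.val)

theorem comm_hom {P : Subgroup G} {a : G} (ha : ∀ u ∈ P, u * a * u⁻¹ * a⁻¹ ∈ centerOf P) :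
    ∃ R ≤ centerOf P, (∀ r ∈ R, ∃ u ∈ P, u * a * u⁻¹ * a⁻¹ = r) ∧
      Nat.card P = Nat.card ↥(P ⊓ 𝐂₁ a) * Nat.card R := by
  let f : P →* G := MonoidHom.mk' (fun u => (u : G) * a * (u : G)⁻¹ * a⁻¹) fun u v => by
    have h1 := mem_cent.1 (ha v v.2).2 u u.2
    have h2 := mem_cent.1 (ha v v.2).2 _ (ha u u.2).1
    rw [h2]
    calc ((u * v : P) : G) * a * ((u * v : P) : G)⁻¹ * a⁻¹
        = u * (v * a * (v : G)⁻¹ * a⁻¹) * a * (u : G)⁻¹ * a⁻¹ := by push_cast; group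
      _ = _ := by rw [h1]; group
  refine ⟨f.range, ?_, ?_, ?_⟩
  · rintro _ ⟨u, rfl⟩; exact ha u u.2
  · rintro _ ⟨u, rfl⟩; exact ⟨u, u.2, rfl⟩
  · have h1 : f.ker = (𝐂₁ a).subgroupOf P := by
      ext u
      rw [MonoidHom.mem_ker, Subgroup.mem_subgroupOf, mem_cent1]
      change (u : G) * a * (u : G)⁻¹ * a⁻¹ = 1 ↔ _
      rw [mul_inv_eq_one, mul_inv_eq_iff_eq_mul]
    rw [← f.ker.card_mul_index, Subgroup.index_ker, h1, card_subgroupOf, inf_comm]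

/-- the structure of a nonabelian Sylow subgroup of exponent `p` -/
structure Ex (p : ℕ) (P : Subgroup G) : Prop where
  cardZ : Nat.card (centerOf P) = p
  card : Nat.card P = p ^ 3
  der : ⁅P, P⁆ ≤ centerOf P
  cent : ∀ a ∈ P, a ∉ centerOf P → P ⊓ 𝐂₁ a = centerOf P ⊔ Subgroup.zpowers a
  elem : ∀ a ∈ P, a ∉ centerOf P → centerOf P ⊔ Subgroup.zpowers a ∈ Elem p 2 P

theorem ex_of {p : ℕ} [hp : Fact p.Prime] (h : Hyp p G) {P : Subgroup G} (hP : IsPGroup p P)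
    (he : ∀ x ∈ P, x ^ p = 1) (hna : ¬ IsMulCommutative P) : Ex p P := by
  have hnil := pgroup_nil hP
  obtain ⟨N, ⟨hN, hNZ⟩, hmin⟩ := exists_minimal_of_wellFoundedLT
    (fun N : Subgroup G => N ⊲ P ∧ ¬ N ≤ centerOf P)
    ⟨P, normal_refl P, fun h => hna (abelian_iff.2 (h.trans inf_le_right))⟩
  have hNP : ⁅N, P⁆ ≤ centerOf P := by
    have h1 := nil_comm_properl hnil hN (fun e => hNZ (e ▸ bot_le)) le_rfl
    by_contra h2
    exact h1.not_ge (hmin ⟨normalR hN (normal_refl P), h2⟩ h1.le)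
  obtain ⟨x, hxN, hxZ⟩ := SetLike.not_le_iff_exists.1 hNZ
  have hx := hN.le hxN
  have hxc : ∀ u ∈ P, u * x * u⁻¹ * x⁻¹ ∈ centerOf P := fun u hu =>
    (Subgroup.commutator_comm N P ▸ hNP) (Subgroup.commutator_mem_commutator hu hxN)
  obtain ⟨y, hy, hyx⟩ : ∃ y ∈ P, y * x ≠ x * y := by
    by_contra! h1
    exact hxZ ⟨hx, mem_cent.2 h1⟩
  have hz1 : y * x * y⁻¹ * x⁻¹ ≠ 1 := by rwa [Ne, mul_inv_eq_one, mul_inv_eq_iff_eq_mul]
  have hZab : IsElementaryAbelian p (centerOf P) := ⟨abelian_center P, fun a ha => he a ha.1⟩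
  have hz := hxc y hy
  have hzZ := Subgroup.zpowers_le.2 hz
  have hA := pnElem_sup_zpowers (p1Elem_zpowers hz.1 (abelem_order_p hZab hz hz1)) hx
    (centS hzZ (centsC.1 inf_le_right hx)) (he x hx) fun h => hxZ (hzZ h)
  generalize hz' : y * x * y⁻¹ * x⁻¹ = z at hz1 hz hzZ hA
  have hxA : x ∈ Subgroup.zpowers z ⊔ Subgroup.zpowers x :=
    Subgroup.mem_sup_right (Subgroup.mem_zpowers x)
  have hyA : Subgroup.zpowers y ≤ 𝐍 (Subgroup.zpowers z ⊔ Subgroup.zpowers x) := by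
    rw [Subgroup.zpowers_le]
    refine mem_normalizer_of_conj_mem (conj_smul_le_iff.1 ?_)
    rw [conjYg, conj_smul_zpowers, conj_smul_zpowers, mem_cent.1 hz.2 y hy, mul_inv_cancel_right]
    refine sup_le le_sup_left (Subgroup.zpowers_le.2 ?_)
    rw [show y * x * y⁻¹ = z * x by rw [← hz']; group]
    exact mul_mem (Subgroup.mem_sup_left (Subgroup.mem_zpowers z)) hxA
  have hyo : orderOf y = p := orderOf_eq_prime (he y hy) fun e => hyx (by rw [e, one_mul, mul_one])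
  have hH : Nat.card ↥(Subgroup.zpowers z ⊔ Subgroup.zpowers x ⊔ Subgroup.zpowers y) = p ^ 3 := by
    rw [card_sup_of_disjoint_of_le_normalizer hyA, card_pnElem hA, Nat.card_zpowers, hyo, ← pow_succ]
    rw [inf_comm]
    refine prime_TIg (by rw [Nat.card_zpowers, hyo]; exact hp.out) fun h1 =>
      hyx (abelian_comm (pnElem_abelian hA) (h1 (Subgroup.mem_zpowers y)) hxA)
  have hHP : Subgroup.zpowers z ⊔ Subgroup.zpowers x ⊔ Subgroup.zpowers y ≤ P :=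
    sup_le (pnElem_sub hA) (Subgroup.zpowers_le.2 hy)
  have hr : ∀ B, B ∉ Elem p 3 P := by
    intro B hB
    obtain ⟨g, hg⟩ := h B _ (pnElem_pgroup hB) (hP.to_le hHP) ((card_pnElem hB).trans hH.symm)
    exact hyx (abelian_comm (hg ▸ (abelianJ g).2 (pnElem_abelian hB))
      (Subgroup.mem_sup_right (Subgroup.mem_zpowers y)) (Subgroup.mem_sup_left hxA))
  have hZ : centerOf P ∈ Elem p 1 P := by
    have h1 := abelem_mem_pnElem_p_rank hZab inf_le_left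
    have h2 := pnElem_sup_zpowers h1 hx (centsC.1 inf_le_right hx) (he x hx) hxZ
    have h3 : pRank p (centerOf P) ≤ 1 := by
      by_contra h3
      obtain ⟨E, hE⟩ := pnElem_exists_sub h2 (k := 3) (by omega)
      exact hr E (pnElemS (pnElem_sub h2) hE)
    have h4 : 0 < pRank p (centerOf P) :=
      p_rank_gt0.2 (pgroup_dvd_card (hP.to_le inf_le_left) (trivgPn.2 ⟨z, hz, hz1⟩))
    rwa [show pRank p (centerOf P) = 1 by omega] at h1
  have hel : ∀ a ∈ P, a ∉ centerOf P → centerOf P ⊔ Subgroup.zpowers a ∈ Elem p 2 P :=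
    fun a ha haZ => pnElem_sup_zpowers hZ ha (centsC.1 inf_le_right ha) (he a ha) haZ
  have hce : ∀ a ∈ P, a ∉ centerOf P → P ⊓ 𝐂₁ a = centerOf P ⊔ Subgroup.zpowers a := by
    intro a ha haZ
    refine le_antisymm (fun w hw => by_contra fun hw' => hr _
      (pnElem_sup_zpowers (hel a ha haZ) hw.1 ?_ (he w hw.1) hw')) (le_inf (pnElem_sub (hel a ha haZ))
      (sup_le (inf_le_right.trans (cent_le_cent1 ha)) (Subgroup.zpowers_le.2 (cent1id a))))
    rw [cent_sup, cent_zpowers]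
    exact ⟨centsC.1 inf_le_right hw.1, hw.2⟩
  have hc : Nat.card P = p ^ 3 := by
    obtain ⟨R, hR, -, h1⟩ := comm_hom hxc
    refine le_antisymm ?_ (hH ▸ Subgroup.card_le_of_le hHP)
    rw [h1, hce x hx hxZ, card_pnElem (hel x hx hxZ), pow_succ p 2]
    exact Nat.mul_le_mul_left _ (card_p1Elem_eq hZ ▸ Subgroup.card_le_of_le hR)
  refine ⟨card_p1Elem_eq hZ, hc, ?_, hce, hel⟩
  have := normal_subgroupOf (center_normal P).norm
  rw [← img_qmk_abelian_iff (L := P) le_rfl]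
  refine IsPGroup.isMulCommutative_of_card_eq_prime_sq (p := p) ?_
  rw [card_img_qmk le_rfl]
  have h1 := card_mul_relIndex_of_le (pnElem_sub hZ)
  rw [card_p1Elem_eq hZ, hc, pow_succ'] at h1
  exact Nat.eq_of_mul_eq_mul_left hp.out.pos h1

theorem Ex.comm {p : ℕ} {P : Subgroup G} (h : Ex p P) {a u : G} (ha : a ∈ P) (hu : u ∈ P) :
    u * a * u⁻¹ * a⁻¹ ∈ centerOf P := h.der (Subgroup.commutator_mem_commutator hu ha)

theorem Ex.surj {p : ℕ} [hp : Fact p.Prime] {P : Subgroup G} (h : Ex p P) {a z : G} (ha : a ∈ P)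
    (haZ : a ∉ centerOf P) (hz : z ∈ centerOf P) : ∃ u ∈ P, u * a * u⁻¹ = z * a := by
  obtain ⟨R, hR, h1, h2⟩ := comm_hom fun u hu => h.comm ha hu
  rw [h.card, h.cent a ha haZ, card_pnElem (h.elem a ha haZ), pow_succ p 2] at h2
  have h3 := eq_of_le_of_card_le hR (h.cardZ.trans
    (Nat.eq_of_mul_eq_mul_left (pow_pos hp.out.pos 2) h2)).le
  obtain ⟨u, hu, h4⟩ := h1 z (h3 ▸ hz)
  exact ⟨u, hu, by rw [← h4]; group⟩

theorem Ex.norm {p : ℕ} {P : Subgroup G} (h : Ex p P) {a : G} (ha : a ∈ P)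
    (haZ : a ∉ centerOf P) : P ≤ 𝐍 (P ⊓ 𝐂₁ a) :=
  sub_der1_norm (h.der.trans (h.cent a ha haZ ▸ le_sup_left)) inf_le_left

/-- an element of the normalizer of `P` inverting a maximal subgroup of `P` -/
theorem exists_inv {p : ℕ} [hp : Fact p.Prime] (h : Hyp p G) {P : Subgroup G}
    (hP : IsSylowOf p P ⊤) (hex : ∀ Q : Subgroup G, IsSylowOf p Q ⊤ → Ex p Q) (he : ∀ x ∈ P, x ^ p = 1) {a : G}
    (ha : a ∈ P) (haZ : a ∉ centerOf P) :
    ∃ n ∈ 𝐍 P, IsPGroup 2 (Subgroup.zpowers n) ∧ ∀ c ∈ P ⊓ 𝐂₁ a, n * c * n⁻¹ = c⁻¹ := by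
  have hE := hex P hP
  have hPp := Sylow_pgroup hP
  have hao : Nat.card (Subgroup.zpowers a) = p := by
    rw [Nat.card_zpowers]; exact orderOf_eq_prime (he a ha) fun e => haZ (e ▸ one_mem _)
  obtain ⟨g, hg⟩ := h (centerOf P) (Subgroup.zpowers a) (hPp.to_le inf_le_left)
    (isPGroup_of_card_prime hao) (hE.cardZ.trans hao.symm)
  have h2 : IsSylowOf p (g •ᶜ P) (𝐂₁ a) := by
    refine pHall_subl ?_ le_top ((pHallJ (Subgroup.mem_top g)).2 hP)
    rw [← cent_zpowers, hg, centJ, conjSg]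
    exact centsC.1 inf_le_right
  obtain ⟨Q, hQ, hAQ⟩ := Sylow_superset (M := 𝐂₁ a) (Q := P ⊓ 𝐂₁ a) inf_le_right
    (hPp.to_le inf_le_left)
  have hQ' : IsSylowOf p Q ⊤ := pHall_of_card hP le_top
    ((eq_card_Hall hQ h2).trans (card_conj_smul g P))
  have hEQ := hex Q hQ'
  have haA : a ∈ P ⊓ 𝐂₁ a := ⟨ha, cent1id a⟩
  have hZQ : Subgroup.zpowers a = centerOf Q := eq_of_le_of_card_le
    (Subgroup.zpowers_le.2 ⟨hAQ haA, le_cent1_iff.1 (pHall_sub hQ)⟩) (hEQ.cardZ.trans hao.symm).le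
  have hZp : (Nat.card (centerOf P)).Prime := hE.cardZ ▸ hp.out
  obtain ⟨z, hz, hz1⟩ := trivgPn.1 (prime_ne_bot hZp)
  have hZ := nt_gen_prime hZp hz hz1
  have hzA : z ∈ P ⊓ 𝐂₁ a := ⟨hz.1, cent_le_cent1 ha hz.2⟩
  have hzQ : z ∉ centerOf Q := fun h => haZ (by
    rw [hZ, ← nt_gen_prime (hEQ.cardZ ▸ hp.out) h hz1, ← hZQ]; exact Subgroup.mem_zpowers a)
  obtain ⟨b, hb, hba⟩ := hE.surj ha haZ hz
  have hbz : b * z * b⁻¹ = z := by rw [mem_cent.1 hz.2 b hb, mul_inv_cancel_right]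
  obtain ⟨d, hd, hdz⟩ := hEQ.surj (hAQ hzA) hzQ (hZQ ▸ inv_mem (Subgroup.mem_zpowers a))
  have hda : d * a * d⁻¹ = a := by rw [mem_cent1.1 (pHall_sub hQ hd), mul_inv_cancel_right]
  have haz : z * a = a * z := mem_cent1.1 hzA.2
  have hwa : (b * d * b) * a * (b * d * b)⁻¹ = z := by
    calc _ = b * (d * (b * a * b⁻¹) * d⁻¹) * b⁻¹ := by group
      _ = b * ((d * z * d⁻¹) * (d * a * d⁻¹)) * b⁻¹ := by rw [hba]; group
      _ = z := by rw [hdz, hda, mul_assoc a⁻¹, haz, inv_mul_cancel_left, hbz]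
  have hwz : (b * d * b) * z * (b * d * b)⁻¹ = a⁻¹ := by
    calc _ = b * (d * (b * z * b⁻¹) * d⁻¹) * b⁻¹ := by group
      _ = b * (a⁻¹ * z) * b⁻¹ := by rw [hbz, hdz]
      _ = (b * a * b⁻¹)⁻¹ * (b * z * b⁻¹) := by group
      _ = a⁻¹ := by rw [hba, hbz]; group
  generalize b * d * b = w at hwa hwz
  have hAab : IsMulCommutative ↥(P ⊓ 𝐂₁ a) := hE.cent a ha haZ ▸ pnElem_abelian (hE.elem a ha haZ)
  have hn₀ : ∀ c ∈ P ⊓ 𝐂₁ a, (w * w) * c * (w * w)⁻¹ = c⁻¹ := by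
    have h1 : ∀ x : G, (w * w) * x * (w * w)⁻¹ = x⁻¹ → ∀ c ∈ Subgroup.zpowers x,
        (w * w) * c * (w * w)⁻¹ = c⁻¹ := by
      rintro x hx _ ⟨k, rfl⟩
      exact (conj_zpow (a := w * w) (b := x) (i := k)).symm.trans (by rw [hx, inv_zpow])
    intro c hc
    have hc' := hc
    rw [hE.cent a ha haZ, hZ, mem_sup_of_le_normalizer (Subgroup.zpowers_le.2
      (cent1_le_norm_zpowers z (cent1C.1 hzA.2)))] at hc'
    obtain ⟨c₁, h₁, c₂, h₂, rfl⟩ := hc'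
    have h3 := h1 z (by
      calc _ = w * (w * z * w⁻¹) * w⁻¹ := by group
        _ = (w * a * w⁻¹)⁻¹ := by rw [hwz]; group
        _ = _ := by rw [hwa]) c₁ h₁
    have h4 := h1 a (by
      calc _ = w * (w * a * w⁻¹) * w⁻¹ := by group
        _ = _ := by rw [hwa, hwz]) c₂ h₂
    calc _ = (w * w * c₁ * (w * w)⁻¹) * (w * w * c₂ * (w * w)⁻¹) := by group
      _ = (c₂ * c₁)⁻¹ := by rw [h3, h4, mul_inv_rev]
      _ = _ := by
        rw [abelian_comm hAab (Subgroup.zpowers_le.2 hzA h₁) (Subgroup.zpowers_le.2 haA h₂)]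
  generalize w * w = n₀ at hn₀
  have hnA := hE.norm ha haZ
  generalize P ⊓ 𝐂₁ a = A at hn₀ hnA ⊢
  have hn₀' : ∀ c ∈ A, n₀⁻¹ * c * n₀ = c⁻¹ := fun c hc => by
    nth_rw 1 [← inv_inv c]
    rw [← hn₀ _ (inv_mem hc)]; group
  have h5 : n₀ •ᶜ P ≤ 𝐂 A ⊔ P := by
    rw [conj_smul_le_iff]
    intro u hu
    rw [show n₀ * u * n₀⁻¹ = (n₀ * u * n₀⁻¹ * u⁻¹) * u by group]
    refine mul_mem (Subgroup.mem_sup_left (mem_cent.2 fun c hc => ?_)) (Subgroup.mem_sup_right hu)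
    have h6 := hn₀' _ ((memJ_norm' (hnA hu)).2 hc)
    have h7 := hn₀ _ (inv_mem hc)
    rw [inv_inv] at h7
    calc c * (n₀ * u * n₀⁻¹ * u⁻¹) = (n₀ * c⁻¹ * n₀⁻¹) * (n₀ * u * n₀⁻¹ * u⁻¹) := by rw [h7]
      _ = n₀ * u * (u⁻¹ * c * u)⁻¹ * n₀⁻¹ * u⁻¹ := by group
      _ = _ := by rw [← h6]; group
  obtain ⟨k, hk, h6⟩ := Sylow_trans (pHall_subl le_sup_right le_top hP)
    (pHall_subl h5 le_top ((pHallJ (Subgroup.mem_top n₀)).2 hP))
  obtain ⟨c₀, hc₀, u, hu, rfl⟩ := (mem_sup_of_le_normalizer (norms_cent hnA)).1 hk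
  rw [conj_mul_smul, conjGid hu] at h6
  have h7 : c₀⁻¹ * n₀ ∈ 𝐍 P := by rw [normP, conj_mul_smul, h6, conj_inv_smul_conj_smul]
  have h8 : ∀ c ∈ A, (c₀⁻¹ * n₀) * c * (c₀⁻¹ * n₀)⁻¹ = c⁻¹ := fun c hc => by
    calc _ = c₀⁻¹ * ((n₀ * c * n₀⁻¹) * c₀) := by group
      _ = _ := by rw [hn₀ c hc, mem_cent.1 hc₀ _ (inv_mem hc), inv_mul_cancel_left]
  generalize c₀⁻¹ * n₀ = n at h7 h8
  obtain ⟨s, m, ⟨j, rfl⟩, hsm⟩ := Nat.exists_eq_two_pow_mul_odd (orderOf_pos n).ne'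
  refine ⟨n ^ (2 * j + 1), pow_mem h7 _, ?_, ?_⟩
  · have h9 : orderOf (n ^ (2 * j + 1)) ∣ 2 ^ s := orderOf_dvd_of_pow_eq_one (by
      rw [← pow_mul, mul_comm, ← hsm, pow_orderOf_eq_one])
    obtain ⟨i, -, hi⟩ := (Nat.dvd_prime_pow Nat.prime_two).1 h9
    exact IsPGroup.of_card ((Nat.card_zpowers _).trans hi)
  · clear hsm
    induction j with
    | zero => simpa using h8
    | succ j ih =>
      intro c hc
      calc _ = n * (n * (n ^ (2 * j + 1) * c * (n ^ (2 * j + 1))⁻¹) * n⁻¹) * n⁻¹ := by group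
        _ = _ := by rw [ih c hc, h8 _ (inv_mem hc), inv_inv, h8 c hc]

theorem Ex.mem_of_inv {p : ℕ} [hp : Fact p.Prime] (hp2 : p ≠ 2) {P : Subgroup G} (h : Ex p P)
    (he : ∀ x ∈ P, x ^ p = 1) {a n x : G} (ha : a ∈ P)
    (hn : ∀ c ∈ P ⊓ 𝐂₁ a, n * c * n⁻¹ = c⁻¹) (hx : x ∈ P) (hnx : n * x * n⁻¹ = x⁻¹) :
    x ∈ P ⊓ 𝐂₁ a := by
  have hc := h.comm ha hx
  have h1 := hn _ ⟨hc.1, cent_le_cent1 ha hc.2⟩
  have h2 := hn a ⟨ha, cent1id a⟩
  have h3 := mem_cent.1 hc.2 _ (mul_mem (inv_mem hx) (inv_mem ha))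
  have h4 := he _ hc.1
  generalize hc' : x * a * x⁻¹ * a⁻¹ = c at h1 h3 h4
  have h5 : c⁻¹ = c := by
    rw [← h1]
    calc n * c * n⁻¹ = (n * x * n⁻¹) * (n * a * n⁻¹) * (n * x * n⁻¹)⁻¹ * (n * a * n⁻¹)⁻¹ := by
          rw [← hc']; group
      _ = x⁻¹ * a⁻¹ * c * a * x := by rw [hnx, h2, ← hc']; group
      _ = c := by rw [h3]; group
  have h6 : orderOf c = 1 := Nat.eq_one_of_dvd_coprimes
    ((Nat.coprime_primes hp.out Nat.prime_two).2 hp2) (orderOf_dvd_of_pow_eq_one h4)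
    (orderOf_dvd_of_pow_eq_one (by rw [pow_two]; nth_rw 1 [← h5]; exact inv_mul_cancel c))
  rw [orderOf_eq_one_iff, ← hc', mul_inv_eq_one, mul_inv_eq_iff_eq_mul] at h6
  exact ⟨hx, mem_cent1.2 h6⟩

theorem index_eq {p : ℕ} [hp : Fact p.Prime] (h : Hyp p G) {P : Subgroup G}
    (hP : IsSylowOf p P ⊤) (hE : Ex p P) {a : G} (ha : a ∈ P) (haZ : a ∉ centerOf P) :
    (𝐍 (P ⊓ 𝐂₁ a)).relIndex (𝐍 P) = p + 1 := by
  classical
  have := Fintype.ofFinite G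
  have hPp := Sylow_pgroup hP
  let : MulAction (𝐍 P) (Subgroup G) :=
    MulAction.compHom _ ((MulAut.conj : G →* MulAut G).comp (𝐍 P).subtype)
  have h1 : MulAction.stabilizer (𝐍 P) (P ⊓ 𝐂₁ a) = (𝐍 (P ⊓ 𝐂₁ a)).subgroupOf (𝐍 P) := by
    ext g
    rw [MulAction.mem_stabilizer_iff, Subgroup.mem_subgroupOf, normP]; rfl
  have hcard : ∀ H : Subgroup G, centerOf P ≤ H → (Finset.univ.filter
      fun x => x ∈ H ∧ x ∉ centerOf P).card + p = Nat.card H := by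
    intro H hH
    have h2 := Finset.card_filter_add_card_filter_not (s := Finset.univ.filter fun x => x ∈ H)
      (fun x => x ∈ centerOf P)
    rw [Finset.filter_filter, Finset.filter_filter] at h2
    have h4 : (Finset.univ.filter fun x => x ∈ H).card = Nat.card H := by
      rw [Nat.card_eq_fintype_card, Fintype.card_subtype]
    have h5 : (Finset.univ.filter fun x => x ∈ H ∧ x ∈ centerOf P).card = p := by
      rw [← hE.cardZ, Nat.card_eq_fintype_card, Fintype.card_subtype]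
      exact congrArg _ (Finset.filter_congr fun x _ => ⟨fun h => h.2, fun h => ⟨hH h, h⟩⟩)
    omega
  have hc2 : ∀ x ∈ P, x ∉ centerOf P → Nat.card ↥(P ⊓ 𝐂₁ x) = p ^ 2 := fun x hx hxZ => by
    rw [hE.cent x hx hxZ, card_pnElem (hE.elem x hx hxZ)]
  let X := Finset.univ.filter fun x => x ∈ P ∧ x ∉ centerOf P
  have h2 : MulAction.orbit (𝐍 P) (P ⊓ 𝐂₁ a) = ↑(X.image fun x => P ⊓ 𝐂₁ x) := by
    ext B
    simp only [X, Finset.coe_image, Finset.coe_filter, Finset.mem_univ, true_and, Set.mem_image,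
      Set.mem_ofPred_eq]
    constructor
    · rintro ⟨⟨g, hg⟩, rfl⟩
      refine ⟨g * a * g⁻¹, ⟨(memJ_norm hg).2 ha, (memJ_norm (norms_center le_rfl hg)).not.2 haZ⟩, ?_⟩
      change _ = g •ᶜ (P ⊓ 𝐂₁ a)
      rw [conjIg, normP.1 hg, cent1J]
    · rintro ⟨x, ⟨hx, hxZ⟩, rfl⟩
      obtain ⟨g, hg⟩ := h _ _ (hPp.to_le inf_le_left) (hPp.to_le inf_le_left)
        ((hc2 a ha haZ).trans (hc2 x hx hxZ).symm)
      obtain ⟨k, hk, h3⟩ := Sylow_trans (M := 𝐍 (P ⊓ 𝐂₁ x))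
        (pHall_subl (by rw [hg, normJ, conjSg]; exact hE.norm ha haZ) le_top
          ((pHallJ (Subgroup.mem_top g)).2 hP)) (pHall_subl (hE.norm hx hxZ) le_top hP)
      refine ⟨⟨k * g, by rw [normP, conj_mul_smul, ← h3]⟩, ?_⟩
      change (k * g) •ᶜ (P ⊓ 𝐂₁ a) = _
      rw [conj_mul_smul, ← hg, normP.1 hk]
  rw [Subgroup.relIndex, ← h1, MulAction.index_stabilizer, h2, Set.ncard_coe_finset]
  have h3 := Finset.card_eq_sum_card_image (fun x => P ⊓ 𝐂₁ x) X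
  rw [Finset.sum_const_nat (m := p ^ 2 - p)] at h3
  · have h4 := hcard P inf_le_left
    rw [hE.card] at h4
    change X.card + p = _ at h4
    obtain ⟨q, rfl⟩ : ∃ q, p = q + 2 := ⟨p - 2, by have := hp.out.two_le; omega⟩
    have h5 : (q + 2) ^ 2 - (q + 2) = (q + 2) * (q + 1) := Nat.sub_eq_of_eq_add (by ring)
    rw [h3, h5] at h4
    refine Nat.eq_of_mul_eq_mul_right (show 0 < (q + 2) * (q + 1) by positivity) ?_
    exact Nat.add_right_cancel (h4.trans (by ring))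
  · intro B hB
    obtain ⟨x, hx, rfl⟩ := Finset.mem_image.1 hB
    obtain ⟨hx, hxZ⟩ := (Finset.mem_filter.1 hx).2
    have h4 := hcard (P ⊓ 𝐂₁ x) (hE.cent x hx hxZ ▸ le_sup_left)
    rw [hc2 x hx hxZ] at h4
    refine Nat.eq_sub_of_add_eq (Eq.trans ?_ h4)
    congr 2
    ext y
    simp only [X, Finset.mem_filter, Finset.mem_univ, true_and]
    refine ⟨fun h => ⟨h.2 ▸ ⟨h.1.1, cent1id y⟩, h.1.2⟩, fun h => ⟨⟨h.1.1, h.2⟩,
      (eq_of_le_of_card_le (le_inf inf_le_left (le_cent1_iff.2 (abelian_le_cent ?_ h.1)))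
        ((hc2 y h.1.1 h.2).trans (hc2 x hx hxZ).symm).le).symm⟩⟩
    exact hE.cent x hx hxZ ▸ pnElem_abelian (hE.elem x hx hxZ)

end

/-- Let G be a finite group in which, for every prime p, any two p-subgroups of the same order are conjugate. Then every Sylow subgroup of G is cyclic, elementary abelian, or a quaternion group of order 8. -/
theorem result {G : Type*} [Group G] [Finite G]
    (hD : ∀ p : ℕ, p.Prime → ∀ H K : Subgroup G, IsPGroup p H → IsPGroup p K → Nat.card H = Nat.card K →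
      ∃ g : G, K = H.map (MulAut.conj g).toMonoidHom) {p : ℕ} [Fact p.Prime] (P : Sylow p G) :
    IsCyclic P ∨ Cfsg.IsElementaryAbelian p (P : Subgroup G) ∨ Nonempty ((P : Subgroup G) ≃* QuaternionGroup 2) := by
  have hp : p.Prime := Fact.out
  have h : Hyp p G := hD p hp
  have h2 : Hyp 2 G := hD 2 Nat.prime_two
  have hPp : IsPGroup p (P : Subgroup G) := P.isPGroup'
  by_cases hp2 : p = 2
  · subst hp2; exact two_case h hPp
  by_cases hr : pRank p (P : Subgroup G) ≤ 1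
  · exact Or.inl ((pgroup_rank1_cyclic_of_ne_two hPp hp2).2 hr)
  have he := expo h hPp (by omega)
  refine Or.inr (Or.inl ⟨by_contra fun hna => ?_, he⟩)
  have hP := Sylow_top P
  generalize (P : Subgroup G) = P₀ at hr he hna hP hPp
  have hex : ∀ Q : Subgroup G, IsSylowOf p Q ⊤ → Ex p Q := by
    intro Q hQ
    obtain ⟨g, -, rfl⟩ := Sylow_trans hP hQ
    exact ex_of h (Sylow_pgroup hQ) (expo h (Sylow_pgroup hQ) (by rw [p_rankJ]; omega))
      ((abelianJ g).not.2 hna)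
  have hE := hex _ hP
  obtain ⟨a, ha, haZ⟩ := SetLike.not_le_iff_exists.1 (show ¬ P₀ ≤ centerOf P₀ from
    fun h => hna (abelian_iff.2 (h.trans inf_le_right)))
  obtain ⟨n, hn, hn2, hinv⟩ := exists_inv h hP hex he ha haZ
  obtain ⟨T, hT, hnT⟩ := Sylow_superset (Subgroup.zpowers_le.2 hn) hn2
  have hTA : T ≤ 𝐍 (P₀ ⊓ 𝐂₁ a) := by
    intro u hu
    rw [← inv_mem_iff]
    refine mem_normalizer_of_conj_mem fun c hc => ?_
    have h3 : ∀ c ∈ P₀ ⊓ 𝐂₁ a, (u⁻¹ * n * u) * c * (u⁻¹ * n * u)⁻¹ = c⁻¹ := by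
      rcases two_conj h2 (Sylow_pgroup hT) hu (hnT (Subgroup.mem_zpowers n)) with h3 | h3
      · rwa [h3]
      · intro c hc
        rw [h3]
        nth_rw 1 [← inv_inv c]
        rw [← hinv _ (inv_mem hc)]; group
    refine hE.mem_of_inv hp2 he ha h3 ((memJ_norm (inv_mem (pHall_sub hT hu))).2 hc.1) ?_
    calc _ = u⁻¹ * (n * c * n⁻¹) * u := by group
      _ = _ := by rw [hinv c hc]; group
  have h3 := Subgroup.relIndex_dvd_of_le_left (𝐍 P₀) hTA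
  rw [index_eq h hP hE ha haZ] at h3
  exact Sylow_index hT ((hp.odd_of_ne_two hp2).add_one.two_dvd.trans h3)

end Cfsg.Agent.S4020
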