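import Cfsg.Statements.S4025
import Cfsg.Agent.Solv.BGrp6

set_option autoImplicit false
open Cfsg

namespace Cfsg.Agent.S4025

open Subgroup Cfsg.Lib.FT Cfsg.Lib.Solv Pointwise

/-- Let p be a prime and G a finite group in which any two p-subgroups of the same order are conjugate, and suppose a Sylow p-subgroup P of G is elementary abelian of order pⁿ with n ≥ 3. Let N be the normalizer of P and K the largest normal subgroup of N of order prime to p, and assume N/K is solvable. Then either n = 3 and N/K embeds in the one-dimensional semi-affine group over the field with p³ elements (and for p = 2 it is isomorphic to the affine or the semi-affine group over the field with 8 elements), or n = 5, p = 2 and N/K is isomorphic to the one-dimensional semi-affine group over the field with 32 elements. -/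
theorem result {G : Type*} [Group G] [Finite G]
    {p : ℕ} [Fact p.Prime] (hC : ∀ H K : Subgroup G, IsPGroup p H → IsPGroup p K → Nat.card H = Nat.card K →
      ∃ g : G, K = H.map (MulAut.conj g).toMonoidHom) (P : Sylow p G) (n : ℕ) (hn : 3 ≤ n)
    (hel : Cfsg.IsElementaryAbelian p (P : Subgroup G)) (hcard : Nat.card P = p ^ n)
    (N : Subgroup G) (hN : N = Subgroup.normalizer ((P : Subgroup G) : Set G))
    (hsolv : Group.IsSolvable (↥N ⧸ Cfsg.pPrimeCore p ↥N)) :
    (n = 3 ∧ (∃ f : ↥N ⧸ Cfsg.pPrimeCore p ↥N →* ↥(Cfsg.semiaffineGroup (GaloisField p 3)), Function.Injective f) ∧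
      (p = 2 → Nonempty (↥N ⧸ Cfsg.pPrimeCore p ↥N ≃* Cfsg.semiaffineGroup (GaloisField 2 3)) ∨
               Nonempty (↥N ⧸ Cfsg.pPrimeCore p ↥N ≃* Cfsg.affineGroup (GaloisField 2 3)))) ∨
    (n = 5 ∧ p = 2 ∧ Nonempty (↥N ⧸ Cfsg.pPrimeCore p ↥N ≃* Cfsg.semiaffineGroup (GaloisField 2 5))) := by
  subst hN
  let N := normalizer ((P : Subgroup G) : Set G)
  let π := QuotientGroup.mk' (pPrimeCore p N)
  let Q := (P : Subgroup G).subgroupOf N
  have hQ : IsPGroup p Q := P.isPGroup'.comap_of_injective _ N.subtype_injective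
  have hE : ElemAb p (P : Subgroup G) := ElemAb.of_isElementaryAbelian hel
  have hE' : ElemAb p Q := ElemAb.of_equiv (subgroupOfEquivOfLe le_normalizer).symm
  have hn' := Subgroup.Normal.map (inferInstance : Q.Normal) π (QuotientGroup.mk'_surjective _)
  have hcard' : ∀ Y ≤ Q, Nat.card (Y.map π) = Nat.card Y := fun Y hY => by
    refine (Nat.card_congr (Equiv.ofBijective (π.subgroupMap Y) ⟨(injective_iff_map_eq_one _).2
      fun y hy => Subtype.ext ?_, π.subgroupMap_surjective Y⟩)).symm
    obtain ⟨k, hk⟩ := IsPGroup.iff_card.1 hQ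
    refine (disjoint_of_coprime_natCard (H := Q) (K := pPrimeCore p N) ?_).le_bot
      ⟨hY y.2, (QuotientGroup.eq_one_iff _).1 (congrArg Subtype.val hy)⟩
    rw [hk]
    exact (coprime_card_pPrimeCore p N).symm.pow_left k
  refine ConjSub.cases (V := Q.map π) (fun A B hA hB e => ?_) (pPrimeCore_quotient_pPrimeCore p N)
    (ElemAb.iff_isElementaryAbelian.1 (ElemAb.map Q π)) (fun h => P.not_dvd_index
      ((h.trans (index_map_dvd _ (QuotientGroup.mk'_surjective _))).trans
        (relIndex_dvd_index_of_le le_normalizer))) hn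
    (by rw [hcard' Q le_rfl, Nat.card_congr (subgroupOfEquivOfLe le_normalizer).toEquiv, hcard])
  have h1 : ∀ A ≤ Q.map π, (A.comap π ⊓ Q).map π = A := fun A hA =>
    le_antisymm ((map_mono inf_le_left).trans (map_comap_le _ _)) fun a ha => by
      obtain ⟨x, hx, rfl⟩ := hA ha
      exact ⟨x, ⟨ha, hx⟩, rfl⟩
  have h2 : ∀ Y : Subgroup N, (Y ⊓ Q).map N.subtype ≤ P := by
    rintro Y _ ⟨y, hy, rfl⟩
    exact hy.2
  obtain ⟨g, hg⟩ := hC _ _ (P.isPGroup'.to_le (h2 (A.comap π))) (P.isPGroup'.to_le (h2 (B.comap π)))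
    (by rw [card_map_of_injective N.subtype_injective, card_map_of_injective N.subtype_injective,
      ← hcard' _ inf_le_right, ← hcard' _ inf_le_right, h1 A hA, h1 B hB, e])
  replace hg : (B.comap π ⊓ Q).map N.subtype = g •ᶜ (A.comap π ⊓ Q).map N.subtype := hg
  have h3 := abelian_le_cent hel.1
  obtain ⟨c, hc, e1⟩ := Sylow_trans (p := p) (M := 𝐂 ((B.comap π ⊓ Q).map N.subtype))
    (pHall_subl (by rw [hg, centJ]; exact (conjSg g).2 (h3.trans (centS (h2 _)))) le_top
      ((pHallJ (mem_top g)).2 (Sylow_top P)))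
    (pHall_subl (h3.trans (centS (h2 _))) le_top (Sylow_top P))
  have h4 : c * g ∈ N := normP.2 (by rw [conj_mul_smul]; exact e1.symm)
  have h5 : (B.comap π ⊓ Q).map N.subtype = (c * g) •ᶜ (A.comap π ⊓ Q).map N.subtype := by
    rw [conj_mul_smul, ← hg, normP.1 (cent_sub _ hc)]
  refine ⟨π ⟨_, h4⟩, ?_⟩
  rw [← h1 A hA, ← map_conj_smul, ← h1 B hB]
  congr 1
  refine map_injective N.subtype_injective ?_
  rw [h5, map_conj_smul]
  rfl

end Cfsg.Agent.S4025
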