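import Cfsg.Statements.S4069
import Cfsg.Agent.Rank2.OddCycQD
import Cfsg.Agent.Rank2.FusKit
import Cfsg.Agent.Known.Kit2
import Cfsg.Agent.Known.PSL2Klein
import Cfsg.Agent.Trans.CentralTransfer
import Cfsg.Agent.Class.FieldIso
import Cfsg.Agent.S3178
import Mathlib.LinearAlgebra.Projectivization.PSL.PSL2

set_option autoImplicit false
open Cfsg

open Subgroup Cfsg.Lib Cfsg.Lib.Trans Cfsg.Lib.Rank2 Cfsg.Lib.Class
open scoped MatrixGroups

namespace Cfsg.Agent.S4069

universe u

/-- A cyclic subgroup of index at most two. -/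
def C2 (S : Type*) [Group S] : Prop := ∃ C : Subgroup S, IsCyclic C ∧ C.index ∣ 2

theorem normal_of_dvd {S : Type*} [Group S] {C : Subgroup S} (h : C.index ∣ 2) : C.Normal :=
  ((Nat.dvd_prime Nat.prime_two).1 h).elim normal_of_index_eq_one normal_of_index_eq_two

theorem C2.of_injective {S T : Type*} [Group S] [Group T] (h : C2 S) (f : T →* S)
    (hf : Function.Injective f) : C2 T := by
  obtain ⟨C, h1, h2⟩ := h
  have := normal_of_dvd h2
  exact ⟨C.comap f, isCyclic_of_injective (f.subgroupComap C) fun _ _ h =>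
    Subtype.ext (hf (congrArg Subtype.val h)),
    C.index_comap f ▸ (relIndex_dvd_index_of_normal _ _).trans h2⟩

theorem C2.of_surjective {S T : Type*} [Group S] [Group T] (h : C2 S) (f : S →* T)
    (hf : Function.Surjective f) : C2 T := by
  obtain ⟨C, h1, h2⟩ := h
  exact ⟨C.map f, isCyclic_of_surjective _ (f.subgroupMap_surjective C),
    (index_map_dvd C hf).trans h2⟩

theorem C2.card_le {S : Type*} [Group S] [Finite S] (h : C2 S) (h2 : ∀ x : S, x ^ 2 = 1) :
    Nat.card S ≤ 4 := by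
  obtain ⟨C, h1, h3⟩ := h
  have h4 := Monoid.exponent_dvd_of_forall_pow_eq_one fun x : C => Subtype.ext (h2 x)
  rw [IsCyclic.exponent_eq_card] at h4
  rw [← C.card_mul_index]
  exact Nat.mul_le_mul (Nat.le_of_dvd two_pos h4) (Nat.le_of_dvd two_pos h3)

theorem c2_of_isPGroup {G : Type*} [Group G] (h : ∀ S : Sylow 2 G, C2 (S : Subgroup G))
    {R : Subgroup G} (hR : IsPGroup 2 R) : C2 R :=
  hR.exists_le_sylow.elim fun S hS => (h S).of_injective _ (inclusion_injective hS)

theorem not_oddCyc_A7 : ¬ OddCyc (alternatingGroup (Fin 7)) := fun h => by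
  obtain ⟨k, hk⟩ := h.mem_zpowers Nat.prime_three (by norm_num)
    (x := ⟨Equiv.swap 0 1 * Equiv.swap 1 2, Equiv.Perm.mem_alternatingGroup.2 (by decide)⟩)
    (y := ⟨Equiv.swap 3 4 * Equiv.swap 4 5, Equiv.Perm.mem_alternatingGroup.2 (by decide)⟩)
    (orderOf_eq_prime (by decide) (by decide)) (by decide) (by unfold Commute SemiconjBy; decide)
  have h1 := congrArg (fun σ : alternatingGroup (Fin 7) => σ.1 3) hk
  simp only [coe_zpow] at h1
  rw [Equiv.Perm.zpow_apply_eq_self_of_apply_eq_self (by decide)] at h1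
  exact absurd h1 (by decide)

theorem classify {L : Type u} [Group L] [Finite L] [Group.IsPerfect L] [Nontrivial L]
    (h : OddCyc L) (h2 : ∀ S : Sylow 2 L, C2 (S : Subgroup L)) :
    ∃ (F : Type) (_ : Field F) (_ : Fintype F), Odd (Fintype.card F) ∧ 3 < Fintype.card F ∧
      (Nonempty (L ≃* PSL(2, F)) ∨ Nonempty (L ≃* SL(2, F))) := by
  have hO : oddCore L = ⊥ := by
    have h3 := Solv.coprime_card_pPrimeCore 2 L
    have := (h.subgroup _).isZGroup h3
    rw [← card_eq_one]
    by_contra h4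
    obtain ⟨p, hp, h5⟩ := Nat.exists_prime_and_dvd h4
    have := Fact.mk hp
    obtain ⟨P⟩ : Nonempty (Sylow p L) := inferInstance
    have := h p hp (by rintro rfl; exact coprime_iff_not_dvd'.1 h3 h5) _ P.isPGroup'
    exact not_dvd_card_center_inf_commutator P inferInstance (h5.trans (card_dvd_of_le
      (le_inf (le_center_of_isZGroup _) (Group.IsPerfect.commutator_eq_top.ge.trans' le_top))))
  have hn : ¬ HasNormalPComplement 2 L := fun hn =>
    not_subsingleton L (subsingleton_of_npc hO pResidual_eq_top_of_isPerfect hn)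
  obtain ⟨S⟩ : Nonempty (Sylow 2 L) := inferInstance
  have hd : ∀ n, 2 ≤ n → Nonempty ((S : Subgroup L) ≃* DihedralGroup n) →
      ∃ (F : Type) (_ : Field F) (_ : Fintype F), Odd (Fintype.card F) ∧ 3 < Fintype.card F ∧
        (Nonempty (L ≃* PSL(2, F)) ∨ Nonempty (L ≃* SL(2, F))) := fun n h1 h3 => by
    have f := ((QuotientGroup.quotientMulEquivOfEq hO).trans QuotientGroup.quotientBot).symm
    rcases S0483.result S n h1 h3 with ⟨F, _, _, h4, h5, ⟨g⟩⟩ | ⟨⟨g⟩⟩
    · exact ⟨F, _, _, h4, h5, .inl ⟨f.trans g⟩⟩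
    · exact (not_oddCyc_A7 (h.of_surjective (f.trans g).toMonoidHom (f.trans g).surjective)).elim
  obtain ⟨C, hC, hCi⟩ := h2 S
  have hS : ¬ IsCyclic (S : Subgroup L) := fun h =>
    hn (hasNormalPComplement_of_isCyclic_of_coprime S h (by simp))
  replace hCi : C.index = 2 := ((Nat.dvd_prime Nat.prime_two).1 hCi).resolve_left fun h => by
    rw [index_eq_one.1 h] at hC
    exact hS (topEquiv.isCyclic.1 hC)
  by_cases hab : IsMulCommutative (S : Subgroup L)
  · have h3 : ¬ IsPGroup 2 (MulAut (⊤ : Subgroup (S : Subgroup L))) := fun h3 => by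
      obtain ⟨k, hk⟩ := (h3.of_equiv (MulAut.congr topEquiv)).exists_card_eq
      exact hn (hasNormalPComplement_of_abelian_sylow S hab fun g hg ho =>
        mem_of_coprime_relIndex (normalizer_le_normalizer_centralizer _) hg
          ((ho.pow_right k).coprime_dvd_right (hk ▸ relIndex_centralizer_dvd _)))
    rcases klein_or_q8 S.isPGroup' hC hCi h3 with h4 | ⟨⟨e⟩, -⟩
    · exact hd 2 le_rfl ⟨topEquiv.symm.trans IsKleinFour.nonempty_mulEquiv.some⟩
    · have h4 := congrArg e (mul_comm' (e.symm (.a 1)) (e.symm (.xa 0)))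
      simp only [map_mul, MulEquiv.apply_symm_apply] at h4
      exact absurd h4 (by decide)
  obtain ⟨n, hn'⟩ := S.isPGroup'.exists_card_eq
  obtain ⟨m, rfl⟩ : ∃ m, n = m + 3 := ⟨n - 3, by
    by_contra h3
    have : n = 0 ∨ n = 1 ∨ n = 2 := by omega
    rcases this with rfl | rfl | rfl
    · exact hS (isCyclic_of_card_dvd_prime (p := 2) (hn' ▸ one_dvd _))
    · exact hS (isCyclic_of_prime_card (p := 2) hn')
    · exact hab (IsPGroup.isMulCommutative_of_card_eq_prime_sq hn')⟩
  obtain ⟨a, b, rfl, ha, hb, h3⟩ := two_group_cyclic_index_two hn' C hC hCi (by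
    by_contra! h3
    exact hab ⟨⟨h3⟩⟩)
  have htop : zpowers a ⊔ zpowers b = ⊤ := eq_top_iff.2 fun g _ => by
    by_cases hg : g ∈ zpowers a
    · exact mem_sup_left hg
    · rw [← mul_inv_cancel_right g b]
      exact mul_mem_sup ((mul_mem_iff_of_index_two hCi).2 (iff_of_false hg hb))
        (inv_mem (mem_zpowers b))
  have hb1 : b ≠ 1 := fun h => hb (h ▸ one_mem _)
  rcases h3 with ⟨h3, h4⟩ | ⟨h3, h4⟩ | ⟨h3, h4, h5⟩ | ⟨h3, h4, h5⟩
  · exact hd _ (by have := Nat.one_le_two_pow (n := m); omega)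
      (Solv.PG.nonempty_mulEquiv_dihedralGroup ha (by rwa [← pow_two]) h4 hb htop)
  · obtain ⟨e⟩ := Solv.PG.nonempty_mulEquiv_quaternionGroup (n := 2 * 2 ^ m) (by omega)
      (by rwa [← pow_two]) h4 hb htop
    rcases perfect_uInv hO (.of_sylow S (by positivity) e) with ⟨F, _, _, h5, h6, h7⟩ | ⟨-, ⟨g⟩⟩
    · exact ⟨F, _, _, h5, h6, .inr h7⟩
    · exact (not_oddCyc_A7 (h.of_surjective (g.toMonoidHom.comp (QuotientGroup.mk' _))
        (g.surjective.comp (QuotientGroup.mk'_surjective _)))).elim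
  · refine (hn (S3178.result S (m + 2) (by omega) hn' a b a.2 b.2 ?_ ?_ ?_)).elim
    · rw [orderOf_coe, ha]; ring
    · rw [orderOf_coe, orderOf_eq_prime h4 hb1]
    · refine (congrArg Subtype.val h5).trans ?_
      rw [← zpow_natCast, coe_zpow]
      congr 1
      push_cast
      ring
  · refine (h.not_isQuasiDihedral (fun H hH => ?_) S ⟨m + 2, by omega, hn', a, b, by rw [ha]; ring,
      orderOf_eq_prime h4 hb1, ?_⟩).elim
    · have := normal_of_index_eq_two hH
      rw [top_le_iff.1 (pResidual_eq_top_of_isPerfect.ge.trans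
        (pResidual_le_of_index_eq_pow H (k := 1) hH)), index_top] at hH
      omega
    · rw [h5, ← zpow_natCast, Nat.cast_sub Nat.one_le_two_pow]
      congr 1
      push_cast
      ring

theorem facts {L F : Type*} [Group L] [Field F] [Finite F] (hF : Odd (Nat.card F))
    (h3 : 3 < Nat.card F) (hp : (Nat.card F).Prime)
    (h : Nonempty (L ≃* PSL(2, F)) ∨ Nonempty (L ≃* SL(2, F))) :
    Nat.card (center L) ∣ 2 ∧ (∃ V : Subgroup (L ⧸ center L), IsKleinFour V) ∧
      (Inn L).index ∣ 2 := by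
  have h2 := gcd_two_card_eq_two (ringChar_ne_two_of_odd_card hF)
  have h4 : (Inn PSL(2, F)).index = 2 := by
    obtain ⟨φ, h5, h6⟩ := Known.exists_outer_hom_two (F := F)
    obtain ⟨ψ, -, -, h7⟩ := Known.exists_out_hom φ h5 fun a => ⟨_, h6 a⟩
    have := (Nat.card_eq_one_iff_unique.1 (card_ringAut_of_prime hp)).1
    rwa [h2, show ψ.ker = ⊤ from eq_top_iff.2 fun _ _ => Subsingleton.elim _ _, card_top] at h7
  have h5 : ∀ e : L ⧸ center L ≃* PSL(2, F), ∃ V : Subgroup (L ⧸ center L), IsKleinFour V :=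
    fun e => by
      have h5 := Known.GL2.twelve_mul_card_klein (two_ne_zero_of_odd_card hF)
      obtain ⟨⟨V, hV⟩⟩ := (Nat.card_pos_iff.1 (Nat.pos_of_mul_pos_left
        (h5 ▸ Nat.card_pos : 0 < 12 * _))).1
      have e' := V.equivMapOfInjective e.symm.toMonoidHom e.symm.injective
      exact ⟨_, (Nat.card_congr e'.toEquiv).symm.trans hV.1,
        (Monoid.exponent_eq_of_mulEquiv e').symm.trans hV.2⟩
  rcases h with ⟨⟨e⟩⟩ | ⟨⟨e⟩⟩
  · have := Matrix.ProjectiveSpecialLinearGroup.rank_two_simple (F := F) h3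
    have := isPerfect_SL2 h3
    have h6 : center L = ⊥ := by
      have : Group.IsPerfect PSL(2, F) := .ofSurjective (QuotientGroup.mk'_surjective _)
      rw [← map_center_mulEquiv e.symm, Group.IsPerfect.center_quotient_center_eq_bot,
        Subgroup.map_bot]
    exact ⟨by simp [h6], h5 ((quotCenterEquivOfEqBot h6).trans e),
      ((Known.card_out_eq e).trans h4).dvd⟩
  · refine ⟨?_, h5 (quotCenterEquiv e), (dvd_of_eq (Known.card_out_eq e)).trans ?_⟩
    · rw [← map_center_mulEquiv e.symm, card_map_of_injective e.symm.injective, card_center_SL2, h2]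
    · refine (index_dvd_of_le (K := Inn SL(2, F)) (H := (Inn PSL(2, F)).comap (Known.autQuot _))
        fun α ⟨g, hg⟩ => ?_).trans ((dvd_of_eq (index_comap _ _)).trans
        ((relIndex_dvd_index_of_normal _ _).trans h4.dvd))
      obtain ⟨g, rfl⟩ := QuotientGroup.mk_surjective g
      exact ⟨g, autQuot_injective_SL2 hF ((Known.autQuot_conj g).trans hg)⟩

/-- Let G be a finite non-solvable group whose Sylow subgroups of odd order are cyclic and whose Sylow 2-subgroups contain a cyclic subgroup of index at most 2. Then G has a normal subgroup G₀ of index at most 2 that is an internal direct product X × L of normal subgroups, where X has odd order and is an extension of a cyclic group by a cyclic group, L is isomorphic to PSL₂(p) or SL₂(p) for some prime p ≥ 5, and the orders of X and L are coprime. -/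
theorem result {G : Type*} [Group G] [Finite G] (hns : ¬ Group.IsSolvable G)
    (hodd : ∀ p : ℕ, p.Prime → p ≠ 2 → ∀ P : Sylow p G, IsCyclic P)
    (h2 : ∀ S : Sylow 2 G, ∃ C : Subgroup ↥(S : Subgroup G), IsCyclic C ∧ C.index ∣ 2) :
    ∃ G₀ : Subgroup G, G₀.Normal ∧ G₀.index ∣ 2 ∧
      ∃ X L : Subgroup ↥G₀, X.Normal ∧ L.Normal ∧ X ⊓ L = ⊥ ∧ X ⊔ L = ⊤ ∧ (Nat.card X).Coprime (Nat.card L) ∧
        Odd (Nat.card X) ∧ (∃ (C : Subgroup ↥X) (_ : C.Normal), IsCyclic C ∧ IsCyclic (↥X ⧸ C)) ∧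
        ∃ (p : ℕ) (_ : Fact p.Prime), 5 ≤ p ∧
          (Nonempty (↥L ≃* Matrix.ProjectiveSpecialLinearGroup (Fin 2) (ZMod p)) ∨
           Nonempty (↥L ≃* Matrix.SpecialLinearGroup (Fin 2) (ZMod p))) := by
  have h := OddCyc.of_sylow hodd
  obtain ⟨n, hn⟩ := exists_perfect_derivedSeries G
  set L := derivedSeries G n
  have : Nontrivial L := (nontrivial_iff_ne_bot L).2 fun h => hns ⟨n, h⟩
  obtain ⟨F, _, _, hF, h3, he⟩ := classify (h.subgroup L) fun S =>
    (c2_of_isPGroup h2 (S.isPGroup'.map L.subtype)).of_injective (L.subtype.subgroupMap S)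
      (equivMapOfInjective _ _ L.subtype_injective).injective
  rw [← Nat.card_eq_fintype_card] at hF h3
  have hp : (Nat.card F).Prime := by
    refine OddCyc.prime_card ?_ hF
    rcases he with ⟨⟨e⟩⟩ | ⟨⟨e⟩⟩
    · rw [← range_psl_toPGL]
      exact ((h.subgroup L).of_surjective e.toMonoidHom e.surjective).of_surjective _
        (MonoidHom.rangeRestrict_surjective _)
    · exact ((h.subgroup L).of_surjective e.toMonoidHom e.surjective).of_surjective _
        (MonoidHom.rangeRestrict_surjective _)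
  obtain ⟨h4, ⟨V, hV⟩, h5⟩ := facts hF h3 hp he
  let C := centralizer (L : Set G)
  have hZ : (center L).map L.subtype = L ⊓ C := by
    ext x
    exact ⟨fun ⟨y, hy, e⟩ => e ▸ ⟨y.2, fun g hg => congrArg Subtype.val
      (mem_center_iff.1 hy ⟨g, hg⟩)⟩, fun ⟨h1, h2⟩ => ⟨⟨x, h1⟩, mem_center_iff.2 fun g =>
      Subtype.ext (h2 g g.2), rfl⟩⟩
  rw [← card_map_of_injective L.subtype_injective, hZ] at h4
  obtain ⟨P⟩ : Nonempty (Sylow 2 C) := inferInstance
  have hP : (P : Subgroup C) ≤ L.subgroupOf C := fun c hc => by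
    by_contra hcL
    obtain ⟨c, hc, hcL, hc2⟩ : ∃ c ∈ (P : Subgroup C), c.1 ∉ L ∧ c.1 ^ 2 ∈ L := by
      obtain ⟨k, hk⟩ := P.isPGroup' ⟨c, hc⟩
      have hk' : ∃ k, c.1 ^ 2 ^ k ∈ L := ⟨k, by
        rw [show c.1 ^ 2 ^ k = 1 from congrArg (fun x : (P : Subgroup C) => x.1.1) hk]
        exact one_mem _⟩
      classical
      obtain ⟨l, hl⟩ := Nat.exists_eq_succ_of_ne_zero
        (show Nat.find hk' ≠ 0 from fun h => hcL (by simpa [h, mem_subgroupOf] using Nat.find_spec hk'))
      exact ⟨c ^ 2 ^ l, pow_mem hc _, Nat.find_min hk' (by omega), by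
        simpa [hl, pow_succ 2 l, pow_mul] using Nat.find_spec hk'⟩
    let π := QuotientGroup.mk' (L ⊓ C)
    let ψ : L ⧸ center L →* G ⧸ (L ⊓ C) := QuotientGroup.map _ _ L.subtype
      (map_le_iff_le_comap.1 hZ.le)
    have hψ : Function.Injective ψ := (injective_iff_map_eq_one _).2 fun x hx => by
      obtain ⟨x, rfl⟩ := QuotientGroup.mk_surjective x
      obtain ⟨y, hy, e⟩ := hZ.ge ((QuotientGroup.eq_one_iff x.1).1 hx)
      exact (QuotientGroup.eq_one_iff x).2 (Subtype.ext e ▸ hy)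
    have hc1 : π c.1 ^ 2 = 1 := (QuotientGroup.eq_one_iff (c.1 ^ 2)).2 ⟨hc2, pow_mem c.2 2⟩
    have hcψ : ∀ x, Commute (ψ x) (π c.1) := fun x => by
      obtain ⟨x, rfl⟩ := QuotientGroup.mk_surjective x
      exact (show Commute x.1 c.1 from c.2 x x.2).map π
    let θ : V × Multiplicative (ZMod 2) →* G ⧸ (L ⊓ C) := (ψ.comp V.subtype).noncommCoprod
      (Known.zmodPowHom 2 _ hc1) fun x y => (hcψ x).pow_right _
    have hθ : Function.Injective θ := (injective_iff_map_eq_one _).2 fun ⟨x, y⟩ hx => by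
      change ψ x.1 * Known.zmodPowHom 2 _ hc1 y = 1 at hx
      rcases Known.zmod_two_cases y with rfl | rfl
      · exact Prod.ext (Subtype.ext (hψ (by simpa using hx))) rfl
      · obtain ⟨x, hx'⟩ := QuotientGroup.mk_surjective x.1
        rw [Known.zmodPowHom_two_ofAdd_one, ← hx'] at hx
        exact (hcL ((mul_mem_cancel_left x.2).1
          ((QuotientGroup.eq_one_iff (x.1 * c.1)).1 hx).1)).elim
    have h6 : ∀ x : V × Multiplicative (ZMod 2), x ^ 2 = 1 := fun x => Prod.ext
      (Monoid.exponent_dvd_iff_forall_pow_eq_one.1 hV.2.dvd x.1)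
      ((by decide : ∀ y : Multiplicative (ZMod 2), y ^ 2 = 1) x.2)
    have h7 : IsPGroup 2 (θ.range.comap π) := IsPGroup.comap_of_ker_isPGroup
      ((IsPGroup.of_surjective (fun x => ⟨1, h6 x⟩) _ θ.rangeRestrict_surjective)) _ (by
      rw [QuotientGroup.ker_mk']
      obtain ⟨k, -, hk⟩ := (Nat.dvd_prime_pow Nat.prime_two (m := 1)).1 h4
      exact .of_card hk)
    have h8 := (((c2_of_isPGroup h2 h7).of_surjective _ (π.subgroupComap_surjective_of_surjective
      _ (QuotientGroup.mk'_surjective _))).of_injective _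
      (MonoidHom.rangeRestrict_injective_iff.2 hθ)).card_le h6
    simp at h8
  have hPc : Nat.card (P : Subgroup C) ∣ 2 := by
    rw [← card_map_of_injective C.subtype_injective]
    exact (card_dvd_of_le (le_inf (map_le_iff_le_comap.2 hP) (map_subtype_le _))).trans h4
  have hX := hasNormalPComplement_iff_coprime.1
    (hasNormalPComplement_of_isCyclic_of_coprime P (isCyclic_of_card_dvd_prime hPc) (by simp))
  rw [← card_map_of_injective C.subtype_injective] at hX
  set X := (pResidual 2 C).map C.subtype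
  have hXC : X ≤ C := map_subtype_le _
  have hXL : X ⊓ L = ⊥ := card_eq_one.1 (Nat.eq_one_of_dvd_coprimes hX
    (card_dvd_of_le inf_le_left) ((card_dvd_of_le (inf_comm X L ▸ inf_le_inf_left L hXC)).trans h4))
  have hXG : X ⊔ L = L ⊔ C := le_antisymm (sup_le (hXC.trans le_sup_right) le_sup_left)
    (sup_le le_sup_right (by
      rw [← range_subtype C, MonoidHom.range_eq_map, ← pResidual_sup_sylow P, Subgroup.map_sup]
      exact sup_le_sup_left (map_le_iff_le_comap.2 hP) _))
  have eX := subgroupOfEquivOfLe (hXC.trans (le_sup_right : C ≤ L ⊔ C))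
  have eL := subgroupOfEquivOfLe (le_sup_left : L ≤ L ⊔ C)
  have := Fact.mk hp
  obtain ⟨f⟩ := nonempty_ringEquiv_zmod hp Nat.card_eq_fintype_card.symm
  refine ⟨L ⊔ C, inferInstance, (index_dvd_of_le (H := (Inn L).comap MulAut.conjNormal)
    fun x ⟨l, hl⟩ => ?_).trans ((dvd_of_eq (index_comap _ _)).trans
    ((relIndex_dvd_index_of_normal _ _).trans h5)), X.subgroupOf _, L.subgroupOf _,
    inferInstance, inferInstance, ?_, ?_, ?_, ?_, ?_, _, this, ?_, ?_⟩
  · rw [← mul_inv_cancel_left l.1 x]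
    refine mul_mem_sup l.2 fun g hg => ?_
    have := congrArg (fun α : MulAut L => (α ⟨g, hg⟩).1) hl
    simp only [MulAut.conj_apply, coe_mul, coe_inv, MulAut.conjNormal_apply] at this
    calc _ = l.1⁻¹ * (l.1 * g * l.1⁻¹) * x := by group
      _ = _ := by rw [this]; group
  · rw [subgroupOf, subgroupOf, ← comap_inf, hXL, MonoidHom.comap_bot, ker_subtype]
  · rw [← subgroupOf_sup (hXC.trans le_sup_right) le_sup_left, hXG, subgroupOf_self]
  · rw [Nat.card_congr eX.toEquiv, Nat.card_congr eL.toEquiv]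
    refine Nat.coprime_of_dvd fun r hr h1 h2 => ?_
    have := Fact.mk hr
    obtain ⟨x, hx⟩ := exists_prime_orderOf_dvd_card' r h1
    obtain ⟨y, hy⟩ := exists_prime_orderOf_dvd_card' r h2
    have h6 := h.mem_zpowers hr (by rintro rfl; exact coprime_iff_not_dvd'.1 hX h1)
      ((orderOf_coe x).trans hx) (y := y) (by rw [← hy, ← orderOf_coe, pow_orderOf_eq_one])
      (hXC x.2 y y.2).symm
    rw [show y = 1 from Subtype.ext (mem_bot.1 (hXL.le ⟨zpowers_le.2 x.2 h6, y.2⟩)),
      orderOf_one] at hy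
    exact hr.one_lt.ne hy
  · rw [Nat.card_congr eX.toEquiv]
    exact Nat.coprime_two_right.1 hX
  · have := ((h.subgroup _).subgroup (X.subgroupOf (L ⊔ C))).isZGroup
      (Nat.card_congr eX.toEquiv ▸ hX)
    exact ⟨commutator _, inferInstance, IsZGroup.isCyclic_commutator _,
      IsZGroup.isCyclic_abelianization⟩
  · have := Nat.odd_iff.1 hF
    omega
  · exact he.imp (fun ⟨e⟩ => ⟨eL.trans (e.trans (pslEquiv _ f))⟩)
      fun ⟨e⟩ => ⟨eL.trans (e.trans (slEquiv _ f))⟩

end Cfsg.Agent.S4069
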