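import Cfsg.Statements.S4070
import Cfsg.Agent.VecC.PrimB

set_option autoImplicit false
open Cfsg

namespace Cfsg.Agent.S4070

/-- Let G be a finite solvable group acting faithfully by additive automorphisms on a finite vector space V over the field with p elements, completely reducibly (every G-invariant subspace has a G-invariant complement). Then some vector v ∈ V has stabilizer C_G(v) of derived length at most 9; and if both #G and p are odd, some vector has abelian stabilizer. -/
theorem result {G V : Type*} [Group G] [Finite G] [Group.IsSolvable G]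
    {p : ℕ} [Fact p.Prime] [AddCommGroup V] [Module (ZMod p) V] [Finite V] [DistribMulAction G V] [FaithfulSMul G V]
    (hcr : ∀ W : Submodule (ZMod p) V, (∀ (g : G) (w : V), w ∈ W → g • w ∈ W) →
      ∃ W' : Submodule (ZMod p) V, (∀ (g : G) (w : V), w ∈ W' → g • w ∈ W') ∧ IsCompl W W') :
    (∃ v : V, derivedSeries ↥(MulAction.stabilizer G v) 9 = ⊥) ∧
    (Odd (Nat.card G) → p ≠ 2 → ∃ v : V, IsMulCommutative ↥(MulAction.stabilizer G v)) := by
  have h : Lib.Base.CR G V := fun U hU => by
    obtain ⟨W, h1, h2⟩ := hcr (AddSubgroup.toZModSubmodule p U) fun g w hw => hU g w hw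
    refine ⟨W.toAddSubgroup, fun g w hw => h1 g w hw, eq_bot_iff.2 fun v hv => ?_,
      eq_top_iff.2 fun v _ => ?_⟩
    · exact (h2.inf_eq_bot.le (⟨hv.1, hv.2⟩ : v ∈ AddSubgroup.toZModSubmodule p U ⊓ W))
    · obtain ⟨a, ha, b, hb, rfl⟩ := Submodule.mem_sup.1 (h2.sup_eq_top.ge (Submodule.mem_top (x := v)))
      exact AddSubgroup.add_mem_sup ha hb
  let _ := Lib.Base.imAct G V
  have key : ∀ j, (∃ v : V, Lib.VecC.Lv (MulAction.stabilizer (Lib.Base.Im G V) v) V j) →
      ∃ v : V, derivedSeries (MulAction.stabilizer G v) j = ⊥ := fun j ⟨v, hv⟩ =>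
    ⟨v, Lib.VecC.derivedSeries_eq_bot
      (hv.comp (MulAction.toPermHom G V).rangeRestrict (fun _ _ => rfl) fun _ hg => hg)⟩
  have hs := Lib.Base.isSolvable_im (V := V) ‹Group.IsSolvable G›
  refine ⟨key 9 (Lib.VecC.exists_nine hs h.im), fun ho hp => ?_⟩
  obtain ⟨v, hv⟩ := key 1 (Lib.VecC.exists_one hs
    (ho.of_dvd_nat (Subgroup.card_range_dvd _)) (by
      rw [Module.natCard_eq_pow_finrank (K := ZMod p), Nat.card_zmod]
      exact ((Fact.out : p.Prime).odd_of_ne_two hp).pow) h.im)
  exact ⟨v, ⟨⟨fun a b => commutatorElement_eq_one_iff_mul_comm.1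
    (hv.le (Subgroup.commutator_mem_commutator (Subgroup.mem_top a) (Subgroup.mem_top b)))⟩⟩⟩

end Cfsg.Agent.S4070
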