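import Cfsg.Statements.S4072
import Cfsg.Agent.Solv.MinNonabelian

set_option autoImplicit false
open Cfsg Cfsg.Lib.Solv commutatorElement

namespace Cfsg.Agent.S4072

/-- A finite group in which every non-abelian subgroup is self-normalizing is solvable or simple. -/
theorem result {G : Type*} [Group G] [Finite G] (hS : ∀ H : Subgroup G, ¬ IsMulCommutative H → Subgroup.normalizer (H : Set G) = H) :
    Group.IsSolvable G ∨ IsSimpleGroup G := by
  by_contra hcon
  push Not at hcon
  obtain ⟨hns, hsimp⟩ := hcon
  have hab : ∀ H : Subgroup G, H.Normal → H ≠ ⊤ → IsMulCommutative H := by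
    intro H hH hne
    by_contra hc
    exact hne ((hS H hc).symm.trans (Subgroup.normalizer_eq_top H))
  have hperf : commutator G = ⊤ := by
    by_contra hne
    have := hab _ inferInstance hne
    have : Group.IsSolvable (commutator G) :=
      Group.isSolvable_of_comm fun a b => mul_comm' a b
    have : Group.IsSolvable (G ⧸ commutator G) :=
      Group.isSolvable_of_comm fun a b => mul_comm (G := Abelianization G) a b
    exact hns (Group.isSolvable_of_ker_le_range (commutator G).subtype (QuotientGroup.mk' (commutator G))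
      (by simp))
  have : Nontrivial G := by
    by_contra h
    rw [not_nontrivial_iff_subsingleton] at h
    exact hns inferInstance
  obtain ⟨N0, hN0, hb, ht⟩ : ∃ N : Subgroup G, N.Normal ∧ N ≠ ⊥ ∧ N ≠ ⊤ := by
    by_contra h
    push Not at h
    exact hsimp ⟨fun H hH => or_iff_not_imp_left.2 (h H hH)⟩
  obtain ⟨N, hN0N, ⟨hN, hNt⟩, hmax⟩ := Finite.exists_le_maximal
    (p := fun H : Subgroup G => H.Normal ∧ H ≠ ⊤) ⟨hN0, ht⟩
  have hNb : N ≠ ⊥ := fun h => hb (le_bot_iff.1 (h ▸ hN0N))
  have := hab N hN hNt
  have hq := commutator_eq_top_of_surjective hperf (QuotientGroup.mk' N)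
    (QuotientGroup.mk'_surjective N)
  have hnt : ¬ Subsingleton (G ⧸ N) := by
    intro h
    exact hNt (eq_top_iff.2 fun g _ =>
      (QuotientGroup.eq_one_iff g).1 (Subsingleton.elim _ _))
  have hsn : ∀ K : Subgroup (G ⧸ N), ¬ IsMulCommutative (K.comap (QuotientGroup.mk' N)) →
      Subgroup.normalizer (K : Set (G ⧸ N)) = K := by
    intro K hK
    apply Subgroup.comap_injective (QuotientGroup.mk'_surjective N)
    rw [Subgroup.comap_normalizer_eq_of_surjective _ (QuotientGroup.mk'_surjective N), hS _ hK]
  have hNC : N ≤ Subgroup.centralizer (N : Set G) :=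
    fun a ha b hb => PG.mul_comm_of_mem hb ha
  by_cases hC : Subgroup.centralizer (N : Set G) = ⊤
  · obtain ⟨p, hp, hpN⟩ := Nat.exists_prime_and_dvd
      (mt (Subgroup.card_eq_one (H := N)).1 hNb)
    have := Fact.mk hp
    obtain ⟨z, hz⟩ := exists_prime_orderOf_dvd_card' p hpN
    have hZ : N ≤ Subgroup.center G := fun a ha => Subgroup.mem_center_iff.2 fun g =>
      ((hC ▸ Subgroup.mem_top g : g ∈ Subgroup.centralizer (N : Set G)) a ha).symm
    obtain ⟨P⟩ : Nonempty (Sylow p G) := inferInstance
    have hz' : orderOf (z : G) = p := by rw [Subgroup.orderOf_coe, hz]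
    have hzP : (z : G) ∈ (P : Subgroup G) := by
      have : (Subgroup.zpowers (z : G)).Normal := ⟨fun a ha g => by
        have := Subgroup.mem_center_iff.1 (Subgroup.zpowers_le.2 (hZ z.2) ha) g
        rw [this, mul_inv_cancel_right]; exact ha⟩
      have h1 : IsPGroup p (Subgroup.zpowers (z : G)) :=
        IsPGroup.of_card (n := 1) (by rw [Nat.card_zpowers, hz', pow_one])
      exact h1.le_sylow_of_normal P (Subgroup.mem_zpowers _)
    have hzc := mem_commutator_sylow_of_mem_center P (z := ⟨z, hzP⟩)
      (hperf ▸ Subgroup.mem_top _) (hZ z.2)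
    have hz1 : (⟨z, hzP⟩ : (P : Subgroup G)) ≠ 1 := by
      intro h
      have : (z : G) = 1 := congrArg Subtype.val h
      rw [this, orderOf_one] at hz'
      exact hp.one_lt.ne hz'
    have hPn : ¬ IsMulCommutative (P : Subgroup G) := by
      intro h
      have : commutator (P : Subgroup G) = ⊥ := by
        rw [commutator_def, Subgroup.commutator_eq_bot_iff_le_centralizer]
        intro a _ b _
        exact mul_comm' _ _
      rw [this] at hzc
      exact hz1 hzc
    have hNP : N ≤ P := by
      rw [← hS _ hPn]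
      exact hZ.trans (Subgroup.center_le_normalizer _)
    have hmin : ∀ H : Subgroup (P : Subgroup G), H ≠ ⊤ → IsMulCommutative H := by
      intro H hH
      by_contra hc
      have h1 : ¬ IsMulCommutative (H.map (P : Subgroup G).subtype) := fun h =>
        hc ⟨⟨fun a b => Subtype.ext (Subtype.ext (PG.mul_comm_of_mem (A := H.map (P : Subgroup G).subtype)
          ⟨a, a.2, rfl⟩ ⟨b, b.2, rfl⟩))⟩⟩
      have h2 : H.map (P : Subgroup G).subtype < P := by
        refine lt_of_le_of_ne (Subgroup.map_subtype_le H) fun h => hH ?_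
        apply Subgroup.map_injective (P : Subgroup G).subtype_injective
        rw [h, ← MonoidHom.range_eq_map, Subgroup.range_subtype]
      have h3 := PG.lt_inf_normalizer_of_isNilpotent P.isPGroup'.isNilpotent h2
      rw [hS _ h1] at h3
      exact (not_le_of_gt h3) inf_le_right
    have hcard := card_commutator_of_minimal_nonabelian P.isPGroup' hPn hmin
    have hle : commutator (P : Subgroup G) = Subgroup.zpowers ⟨z, hzP⟩ := by
      symm
      apply Subgroup.eq_of_le_of_card_ge (Subgroup.zpowers_le.2 hzc)
      rw [hcard, Nat.card_zpowers, ← Subgroup.orderOf_coe, hz']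
    have hcm : ((P : Subgroup G).map (QuotientGroup.mk' N)).comap (QuotientGroup.mk' N) = P := by
      rw [Subgroup.comap_map_eq, QuotientGroup.ker_mk', sup_eq_left.2 hNP]
    have : IsMulCommutative ((P : Subgroup G).map (QuotientGroup.mk' N)) := ⟨⟨by
      rintro ⟨_, a, ha, rfl⟩ ⟨_, b, hb, rfl⟩
      apply Subtype.ext
      change QuotientGroup.mk' N a * QuotientGroup.mk' N b = QuotientGroup.mk' N b * QuotientGroup.mk' N a
      rw [← commutatorElement_eq_one_iff_mul_comm, ← map_commutatorElement,
        QuotientGroup.mk'_apply, QuotientGroup.eq_one_iff]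
      have h1 : ⁅(⟨a, ha⟩ : (P : Subgroup G)), ⟨b, hb⟩⁆ ∈ commutator (P : Subgroup G) :=
        Subgroup.commutator_mem_commutator (Subgroup.mem_top _) (Subgroup.mem_top _)
      rw [hle] at h1
      obtain ⟨n, hn⟩ := h1
      have h2 : (z : G) ^ n = ⁅a, b⁆ := congrArg Subtype.val hn
      rw [← h2]
      exact zpow_mem z.2 n⟩⟩
    exact hnt (subsingleton_of_perfect_of_selfNormalizing hq (P.isPGroup'.map _)
      (hsn _ (by rwa [hcm])))
  · have hCN : Subgroup.centralizer (N : Set G) = N :=
      le_antisymm (hmax ⟨inferInstance, hC⟩ hNC) hNC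
    have : Nontrivial (G ⧸ N) := not_subsingleton_iff_nontrivial.1 hnt
    obtain ⟨p, hp, hpN⟩ := Nat.exists_prime_and_dvd (Finite.one_lt_card (α := G ⧸ N)).ne'
    have := Fact.mk hp
    obtain ⟨x, hx⟩ := exists_prime_orderOf_dvd_card' p hpN
    have h1 : IsPGroup p (Subgroup.zpowers x) :=
      IsPGroup.of_card (n := 1) (by rw [Nat.card_zpowers, hx, pow_one])
    refine hnt (subsingleton_of_perfect_of_selfNormalizing hq h1 (hsn _ fun h => ?_))
    obtain ⟨y, rfl⟩ := QuotientGroup.mk'_surjective N x
    have hy : y ∈ N := by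
      rw [← hCN]
      intro a ha
      refine PG.mul_comm_of_mem (A := (Subgroup.zpowers (QuotientGroup.mk' N y)).comap
        (QuotientGroup.mk' N)) ?_ (Subgroup.mem_zpowers _)
      rw [Subgroup.mem_comap, QuotientGroup.mk'_apply N a, (QuotientGroup.eq_one_iff a).2 ha]
      exact one_mem _
    rw [QuotientGroup.mk'_apply, (QuotientGroup.eq_one_iff y).2 hy, orderOf_one] at hx
    exact hp.one_lt.ne hx

end Cfsg.Agent.S4072
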