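import Cfsg.Statements.S4112
import Cfsg.Agent.Solv.FrobeniusGroup
import Cfsg.Agent.Solv.NilpotentHall
import Cfsg.Agent.Solv.Frattini
import Cfsg.Agent.Solv.Nilpotent
import Cfsg.Agent.Solv.PGroupNormal

set_option autoImplicit false
open Cfsg

namespace Cfsg.Agent.S4112

/-- Let G be a finite group and M ≤ N non-trivial proper normal subgroups such that for every g outside N the conjugacy class of g is a union of cosets of M (equivalently gm is conjugate to g for every m ∈ M). Then (1) and (2) below are equivalent, and they imply (3): (1) every g outside N acts fixed-point-freely on M, that is C_G(x) ≤ N for every x ∈ M, x ≠ 1; (2) the index of N in G is coprime to the order of M; (3) there is a subgroup H of G with HN = G and H ∩ M = 1. -/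
theorem result {G : Type*} [Group G] [Finite G] (N M : Subgroup G) [N.Normal] [M.Normal] (hMN : M ≤ N) (hM1 : M ≠ ⊥) (hN2 : N ≠ ⊤)
    (hcam : ∀ g : G, g ∉ N → ∀ m ∈ M, ∃ x : G, x * g * x⁻¹ = g * m) :
    ((∀ x ∈ M, x ≠ 1 → Subgroup.centralizer ({x} : Set G) ≤ N) ↔ N.index.Coprime (Nat.card M)) ∧
    ((∀ x ∈ M, x ≠ 1 → Subgroup.centralizer ({x} : Set G) ≤ N) → ∃ H : Subgroup G, H ⊔ N = ⊤ ∧ H ⊓ M = ⊥) := by
  open Cfsg.Lib.Solv in
  have h1 : (∀ x ∈ M, x ≠ 1 → Subgroup.centralizer ({x} : Set G) ≤ N) →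
      N.index.Coprime (Nat.card M) := by
    intro h
    refine Nat.coprime_of_dvd fun p hp hpN hpM => ?_
    have := Fact.mk hp
    obtain ⟨x, hx⟩ := exists_prime_orderOf_dvd_card' p hpM
    have hxp : IsPGroup p (Subgroup.zpowers (x : G)) :=
      IsPGroup.of_card (n := 1) (by rw [Nat.card_zpowers, Subgroup.orderOf_coe, hx, pow_one])
    obtain ⟨P, hP⟩ := hxp.exists_le_sylow
    have h2 : (P : Subgroup G) ⊓ M ≠ ⊥ := by
      intro e
      have : (x : G) ∈ (P : Subgroup G) ⊓ M := ⟨hP (Subgroup.mem_zpowers _), x.2⟩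
      rw [e, Subgroup.mem_bot, OneMemClass.coe_eq_one] at this
      rw [this, orderOf_one] at hx
      exact hp.one_lt.ne hx
    have h3 := PG.inf_centralizer_ne_bot P.isPGroup' P.isPGroup'.to_inf_left
      (le_normalizer_inf Subgroup.le_normalizer (Fpf.le_normalizer_of_normal' M _)) h2
    obtain ⟨⟨z, ⟨hzP, hzM⟩, hz⟩, hz1⟩ := Subgroup.ne_bot_iff_exists_ne_one.1 h3
    have h4 : (P : Subgroup G) ≤ N := fun y hy =>
      h z hzM (fun e => hz1 (Subtype.ext e)) (Subgroup.mem_centralizer_singleton_iff.2 (hz y hy))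
    exact P.not_dvd_index (hpN.trans (Subgroup.index_dvd_of_le h4))
  refine ⟨⟨h1, fun h x hx hx1 => ?_⟩, fun h => ?_⟩
  · refine le_of_forall_prime_pow_mem fun p hp k g hg hgk => ?_
    by_contra hgN
    have h2 : p ∣ N.index := by
      have h3 : orderOf (QuotientGroup.mk' N g) ∣ p ^ k := hgk ▸ orderOf_map_dvd _ g
      obtain ⟨j, -, hj⟩ := (Nat.dvd_prime_pow hp).1 h3
      refine (dvd_trans ?_ (orderOf_dvd_natCard (QuotientGroup.mk' N g)))
      rw [hj]
      refine dvd_pow_self p ?_
      rintro rfl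
      exact hgN ((QuotientGroup.eq_one_iff g).1 (orderOf_eq_one_iff.1 hj))
    obtain ⟨y, hy⟩ := hcam g hgN x hx
    have h3 : orderOf (g * x) = orderOf g := by
      rw [← hy]
      exact (MulAut.conj y).orderOf_eq g
    rw [(show Commute g x from Subgroup.mem_centralizer_singleton_iff.1 hg).orderOf_mul_eq_mul_orderOf_of_coprime
      (by
        rw [hgk]
        exact ((h.coprime_dvd_left h2).coprime_dvd_right (M.orderOf_dvd_natCard hx)).pow_left k)] at h3
    exact hx1 (orderOf_eq_one_iff.1 ((Nat.mul_eq_left (orderOf_pos g).ne').1 h3))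
  · obtain ⟨H, hH, hHN⟩ := exists_supplement_inf_le_frattini N
    refine ⟨H, hH, inf_eq_bot_of_coprime_card
      (coprime_card_of_coprime_index_of_le_frattini hHN ?_)⟩
    exact (h1 h).coprime_dvd_left (Subgroup.relIndex_dvd_index_of_normal N H)

end Cfsg.Agent.S4112
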