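import Cfsg.Statements.S4113
import Cfsg.Agent.Solv.FrobeniusGroup
import Cfsg.Agent.Solv.NilpotentHall

set_option autoImplicit false
open Cfsg

namespace Cfsg.Agent.S4113

/-- Let G be a finite group, M ≤ N non-trivial proper normal subgroups, and H a subgroup with HM = G and H ∩ M = 1. Then every element of G outside N acts fixed-point-freely on M (C_G(x) ≤ N for every x ∈ M, x ≠ 1) if and only if H ∩ gHg⁻¹ ≤ H ∩ N for every g outside H, with H proper and non-trivial and H ∩ N proper in H. -/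
theorem result {G : Type*} [Group G] [Finite G] (N M : Subgroup G) [N.Normal] [M.Normal] (hMN : M ≤ N) (hM1 : M ≠ ⊥) (hN2 : N ≠ ⊤)
    (H : Subgroup G) (hHM : H ⊔ M = ⊤) (hHM' : H ⊓ M = ⊥) :
    (∀ x ∈ M, x ≠ 1 → Subgroup.centralizer ({x} : Set G) ≤ N) ↔
      (H ≠ ⊥ ∧ H ≠ ⊤ ∧ H ⊓ N < H ∧ ∀ g : G, g ∉ H → H ⊓ H.map (MulAut.conj g).toMonoidHom ≤ N) := by
  open Cfsg.Lib.Solv in
  have hdec : ∀ g : G, ∃ m ∈ M, ∃ h ∈ H, m * h = g := fun g =>
    (mem_sup_of_le_normalizer (Fpf.le_normalizer_of_normal' M H)).1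
      (by rw [sup_comm, hHM]; trivial)
  have hd : ∀ x ∈ H, x ∈ M → x = 1 := fun x h1 h2 => by
    have : x ∈ H ⊓ M := ⟨h1, h2⟩
    rwa [hHM', Subgroup.mem_bot] at this
  constructor
  · intro h
    have h3 : H ⊓ N < H := by
      refine lt_of_le_of_ne inf_le_left fun e => hN2 ?_
      rw [eq_top_iff, ← hHM]
      exact sup_le (inf_eq_left.1 e) hMN
    refine ⟨ne_bot_of_gt h3, ?_, h3, fun g hg x ⟨hx, hx'⟩ => ?_⟩
    · rintro rfl
      exact hM1 (by simpa using hHM')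
    · obtain ⟨m, hm, k, hk, rfl⟩ := hdec g
      obtain ⟨y, hy, rfl⟩ := hx'
      have hm1 : m ≠ 1 := by
        rintro rfl
        exact hg (by rwa [one_mul])
      have hz : k * y * k⁻¹ ∈ H := H.mul_mem (H.mul_mem hk hy) (H.inv_mem hk)
      have h6 : (MulAut.conj (m * k)).toMonoidHom y = m * (k * y * k⁻¹) * m⁻¹ := by
        simp only [MulEquiv.toMonoidHom_eq_coe, MonoidHom.coe_coe, MulAut.conj_apply]; group
      have hx2 : m * (k * y * k⁻¹) * m⁻¹ ∈ H := h6 ▸ hx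
      have h4 := hd (m * (k * y * k⁻¹) * m⁻¹ * (k * y * k⁻¹)⁻¹) (H.mul_mem hx2 (H.inv_mem hz)) (by
        rw [mul_assoc, mul_assoc, ← mul_assoc (k * y * k⁻¹)]
        exact M.mul_mem hm (Subgroup.Normal.conj_mem inferInstance _ (M.inv_mem hm) _))
      refine h m hm hm1 (Subgroup.mem_centralizer_singleton_iff.2 ?_)
      have h5 : m * (k * y * k⁻¹) * m⁻¹ = k * y * k⁻¹ := mul_inv_eq_one.1 h4
      rw [h6, h5]
      exact (mul_inv_eq_iff_eq_mul.1 h5).symm
  · rintro ⟨-, -, -, h⟩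
    rw [Fpf.centralizer_le_iff]
    intro g hg
    obtain ⟨m, hm, k, hk, rfl⟩ := hdec g
    refine Fpf.inf_centralizer_mul (Fpf.mem_normalizer_of_normal M k) ?_ hm
    rw [Fpf.inf_centralizer_eq_bot_iff]
    intro y hy hc
    by_contra hy1
    refine hg (N.mul_mem (hMN hm) (h y (fun hyH => hy1 (hd y hyH hy)) ⟨hk, k, hk, ?_⟩))
    simp only [MulEquiv.toMonoidHom_eq_coe, MonoidHom.coe_coe, MulAut.conj_apply]
    rw [hc]; group

end Cfsg.Agent.S4113
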