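import Cfsg.Statements.S4115
import Cfsg.Agent.Perm.TIHall
import Cfsg.Agent.Char.FrobWielandt

set_option autoImplicit false
universe u
open Cfsg

namespace Cfsg.Agent.S4115

open Cfsg.Lib.Perm Cfsg.Lib.Solv Subgroup

/-- Let G be a finite group and H a subgroup that meets each of its conjugates by elements outside N_G(H) trivially and whose order is coprime to its index in N_G(H). Then H has a normal complement in N_G(H) if and only if H has a normal complement in G. Moreover, if H is not normal in G and has a normal complement in N_G(H), then H is isomorphic to a Frobenius complement of some finite Frobenius group. -/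
theorem result {G : Type u} [Group G] [Finite G] (H : Subgroup G)
    (hTI : Cfsg.IsTISubset (H : Set G)) (hHall : (Nat.card H).Coprime (H.subgroupOf (Subgroup.normalizer (H : Set G))).index) :
    ((∃ K : Subgroup (Subgroup.normalizer (H : Set G)), K.Normal ∧ K.IsComplement' (H.subgroupOf (Subgroup.normalizer (H : Set G)))) ↔
      (∃ N : Subgroup G, N.Normal ∧ N.IsComplement' H)) ∧
    (¬ H.Normal → (∃ K : Subgroup (Subgroup.normalizer (H : Set G)), K.Normal ∧ K.IsComplement' (H.subgroupOf (Subgroup.normalizer (H : Set G)))) →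
      ∃ (F : Type u) (_ : Group F) (_ : Finite F) (C : Subgroup F), Cfsg.IsFrobeniusComplement C ∧ Nonempty (H ≃* C)) := by
  have key : (∃ K : Subgroup (normalizer (H : Set G)), K.Normal ∧
      K.IsComplement' (H.subgroupOf (normalizer (H : Set G)))) →
      ∃ N : Subgroup G, N.Normal ∧ N.IsComplement' H := by
    rintro ⟨K, hK, hKH⟩
    have : (H.subgroupOf (normalizer (H : Set G))).Normal := normal_in_normalizer
    obtain ⟨N, hN, h1, h3, -⟩ := Cfsg.Lib.Char.frobenius_wielandt (normalizer (H : Set G))
      (K.map (normalizer (H : Set G)).subtype) (map_subtype_le K)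
      (by rintro h hh _ ⟨n, hn, rfl⟩; exact ⟨_, hK.conj_mem n hn ⟨h, hh⟩, rfl⟩)
      (fun g hg x hx hgx => by
        have e1 : x ^ H.relIndex (normalizer (H : Set G)) = 1 := hTI g hg _
          (pow_index_mem (H.subgroupOf (normalizer (H : Set G))) ⟨x, hx⟩) (by
            rw [← conj_pow]
            exact pow_index_mem (H.subgroupOf (normalizer (H : Set G))) ⟨_, hgx⟩)
        have e2 := pow_index_mem K ⟨x, hx⟩
        rw [hKH.symm.index_eq_card,
          Nat.card_congr (subgroupOfEquivOfLe (le_normalizer (H := H))).toEquiv] at e2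
        obtain ⟨m, hm⟩ := exists_pow_eq_self_of_coprime
          (hHall.coprime_dvd_right (orderOf_dvd_of_pow_eq_one e1))
        exact hm ▸ pow_mem (show x ^ Nat.card H ∈ K.map _ from ⟨_, e2, rfl⟩) m)
    refine ⟨N, hN, isComplement'_of_disjoint_and_mul_eq_univ (disjoint_iff.2 ?_) ?_⟩
    · rw [eq_bot_iff]
      intro c hc
      obtain ⟨k, hk, rfl⟩ : c ∈ K.map (normalizer (H : Set G)).subtype :=
        h1 ▸ ⟨hc.1, le_normalizer hc.2⟩
      have : k ∈ K ⊓ H.subgroupOf (normalizer (H : Set G)) := ⟨hk, hc.2⟩
      rw [hKH.disjoint.eq_bot, mem_bot] at this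
      simp [this]
    · rw [← normal_mul, ← coe_top, SetLike.coe_set_eq, eq_top_iff, ← h3]
      refine sup_le le_sup_left fun x hx => ?_
      obtain ⟨⟨k, h⟩, e⟩ := hKH.2 ⟨x, hx⟩
      have hk : ((k : normalizer (H : Set G)) : G) ∈ N ⊓ normalizer (H : Set G) :=
        h1 ▸ ⟨_, k.2, rfl⟩
      have e' : x = ((k : normalizer (H : Set G)) : G) * (h : normalizer (H : Set G)) :=
        (congrArg Subtype.val e).symm
      exact e' ▸ mul_mem (mem_sup_left hk.1) (mem_sup_right h.2)
  refine ⟨⟨key, ?_⟩, fun hnn hK => ?_⟩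
  · rintro ⟨N, hN, hNH⟩
    refine ⟨N.subgroupOf _, inferInstance, isComplement'_of_disjoint_and_mul_eq_univ
      (disjoint_iff.2 ?_) ?_⟩
    · rw [eq_bot_iff]
      intro c hc
      have : (c : G) ∈ N ⊓ H := hc
      rw [hNH.disjoint.eq_bot, mem_bot] at this
      exact Subtype.ext this
    · rw [Set.eq_univ_iff_forall]
      intro x
      obtain ⟨⟨k, h⟩, e⟩ := hNH.2 (x : G)
      have e' : (k : G) * h = x := e
      have hk : (k : G) ∈ normalizer (H : Set G) := by
        rw [eq_mul_inv_of_mul_eq e']
        exact mul_mem x.2 (inv_mem (le_normalizer h.2))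
      exact ⟨⟨k, hk⟩, k.2, ⟨h, le_normalizer h.2⟩, h.2, Subtype.ext e'⟩
  · obtain ⟨N, hN, hNH⟩ := key hK
    have : Nontrivial H := (nontrivial_iff_ne_bot H).2 fun e => hnn (e ▸ inferInstance)
    have h := TI.isFC hTI (K := N) (by
      rw [← hNH.index_eq_card]; exact TI.coprime_index hTI hHall) fun hC => hnn (by
        rw [← normalizer_eq_top_iff, eq_top_iff, ← hNH.sup_eq_top]
        exact sup_le (hC.trans (centralizer_le_normalizer _)) le_normalizer)
    exact h.exists_frobenius

end Cfsg.Agent.S4115
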