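import Cfsg.Statements.S4118
import Cfsg.Agent.Perm.TIHall
import Cfsg.Agent.Solv.CyclicP

set_option autoImplicit false
open Cfsg

namespace Cfsg.Agent.S4118

open Cfsg.Lib.Perm Cfsg.Lib.Solv Cfsg.Lib.FT Subgroup
open scoped Pointwise

theorem isSolvable_of_zgroup {G : Type*} [Group G] [Finite G] (R : Subgroup G) [R.Normal]
    [IsZGroup R] (hC : centralizer (R : Set G) ≤ R) : Group.IsSolvable G := by
  have hD : IsCyclic (⁅R, R⁆ : Subgroup G) := by
    rw [← Subgroup.map_subtype_commutator]
    have := IsZGroup.isCyclic_commutator R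
    exact isCyclic_of_surjective (R.subtype.subgroupMap _) (R.subtype.subgroupMap_surjective _)
  have h1 := PG.commutator_le_centralizer_of_isCyclic ⁅R, R⁆
  have hc : IsCyclic (R.map (QuotientGroup.mk' ⁅R, R⁆)) := by
    have : IsZGroup (R.map (QuotientGroup.mk' ⁅R, R⁆)) :=
      IsZGroup.of_surjective ((QuotientGroup.mk' ⁅R, R⁆).subgroupMap_surjective R)
    have : IsMulCommutative (R.map (QuotientGroup.mk' ⁅R, R⁆)) := by
      rw [← le_centralizer_iff_isMulCommutative, ← commutator_eq_bot_iff_le_centralizer,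
        ← Subgroup.map_commutator, Subgroup.map_eq_bot_iff, QuotientGroup.ker_mk']
    have : Group.IsNilpotent (R.map (QuotientGroup.mk' ⁅R, R⁆)) :=
      open IsMulCommutative in CommGroup.isNilpotent
    infer_instance
  have : (R.map (QuotientGroup.mk' ⁅R, R⁆)).Normal :=
    Normal.map inferInstance _ (QuotientGroup.mk'_surjective _)
  have h2 := PG.commutator_le_centralizer_of_isCyclic (R.map (QuotientGroup.mk' ⁅R, R⁆))
  have h3 : ⁅commutator G, R⁆ ≤ ⁅R, R⁆ := by
    rw [← commutator_eq_bot_iff_le_centralizer, _root_.commutator_def,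
      ← map_top_of_surjective _ (QuotientGroup.mk'_surjective ⁅R, R⁆), ← Subgroup.map_commutator,
      ← Subgroup.map_commutator, Subgroup.map_eq_bot_iff, QuotientGroup.ker_mk'] at h2
    exact h2
  have h4 : ⁅⁅commutator G, R⁆, commutator G⁆ = ⊥ := by
    rw [eq_bot_iff, ← commutator_eq_bot_iff_le_centralizer.2 (le_centralizer_iff.1 h1)]
    exact commutator_mono h3 le_rfl
  have h5 := commutator_commutator_eq_bot_of_rotate h4 (by rwa [commutator_comm R])
  have h6 : ⁅commutator G, commutator G⁆ ≤ R :=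
    (commutator_eq_bot_iff_le_centralizer.1 h5).trans hC
  refine (Group.isSolvable_iff_subgroup_quotient R).2 ⟨inferInstance, ⟨2, ?_⟩⟩
  rw [← map_derivedSeries_eq (QuotientGroup.mk'_surjective R), Subgroup.map_eq_bot_iff,
    QuotientGroup.ker_mk']
  exact h6

/-- Let G be a finite group and H a non-normal subgroup meeting each of its conjugates by elements outside N_G(H) trivially, with the order of H coprime to its index in N_G(H); let π be the set of primes dividing the order of H and suppose G is π-separable (it has a chain of normal subgroups from 1 to G each of whose factors has order divisible only by primes in π or coprime to the order of H). Let O be the largest normal subgroup of G of order coprime to the order of H. Then G = O·N_G(H), O·H is normal in G, and G is solvable if and only if O is solvable and H has no subgroup isomorphic to SL₂(5). -/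
theorem result {G : Type*} [Group G] [Finite G] (H : Subgroup G)
    (hTI : Cfsg.IsTISubset (H : Set G)) (hnn : ¬ H.Normal)
    (hHall : (Nat.card H).Coprime (H.subgroupOf (Subgroup.normalizer (H : Set G))).index)
    (hsep : ∃ (n : ℕ) (M : Fin (n + 1) → Subgroup G), M 0 = ⊥ ∧ M (Fin.last n) = ⊤ ∧ Monotone M ∧ (∀ i, (M i).Normal) ∧
      ∀ i : Fin n, (∀ q : ℕ, q.Prime → q ∣ (M i.castSucc).relIndex (M i.succ) → q ∣ Nat.card H) ∨
        ((M i.castSucc).relIndex (M i.succ)).Coprime (Nat.card H))
    (O : Subgroup G) (hO : O = sSup {K : Subgroup G | K.Normal ∧ (Nat.card K).Coprime (Nat.card H)}) :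
    O ⊔ Subgroup.normalizer (H : Set G) = ⊤ ∧ (O ⊔ H).Normal ∧
    (Group.IsSolvable G ↔ Group.IsSolvable O ∧
      ∀ K : Subgroup G, K ≤ H → ¬ Nonempty (K ≃* Matrix.SpecialLinearGroup (Fin 2) (ZMod 5))) := by
  have hHG := TI.isPiHall hTI hHall
  have hO' : O = piCore (piOf (Nat.card H))ᶜ G := by
    rw [hO, piCore]
    congr 1
    ext K
    exact and_congr_right fun _ => Nat.coprime_comm.trans coprime_pi'
  have hser : HasPiSeries {piOf (Nat.card H), (piOf (Nat.card H))ᶜ} G := isPiSeparable_iff.1 (by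
    obtain ⟨n, M, h0, h1, h2, h3, h4⟩ := hsep
    refine ⟨n, M, h0, h1, h2, h3, fun i => (h4 i).imp (fun h q hq hd => ⟨hq, h q hq hd⟩)
      fun h q hq hd hm => ?_⟩
    exact hq.ne_one (Nat.eq_one_of_dvd_coprimes h hd hm.2))
  clear hO hsep
  have hOn : O.Normal := hO' ▸ inferInstance
  have hKH : (Nat.card H).Coprime (Nat.card O) :=
    hO' ▸ coprime_pi'.2 (isPiNum_card_piCore _ G)
  have hC := centralizer_piCore_le (hser.of_surjective _ (QuotientGroup.mk'_surjective O)) (by
    subst hO'; exact piCore_quotient_piCore _ G)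
  have hidx := TI.coprime_index hTI hHall
  clear hO' hser
  generalize piOf (Nat.card H) = π at hC hHG
  have hsurj := QuotientGroup.mk'_surjective O
  have hHb : IsPiHall π (H.map (QuotientGroup.mk' O)) :=
    ⟨IsPiNum.card_map hHG.1 _, fun p hp h h' => hHG.2 p hp h (h'.trans (index_map_dvd H hsurj))⟩
  have hR := piCore_le_of_isPiHall hHb
  have hHO := coprime_TIg hKH
  have hM : (piCore π (G ⧸ O)).comap (QuotientGroup.mk' O) =
      O ⊔ (H ⊓ (piCore π (G ⧸ O)).comap (QuotientGroup.mk' O)) := by
    rw [← sup_inf_assoc_of_le_normalizer (by rw [normalizer_eq_top]; exact le_top)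
      (QuotientGroup.le_comap_mk' O _), eq_comm, inf_eq_right]
    refine (comap_mono hR).trans ?_
    rw [comap_map_eq, QuotientGroup.ker_mk', sup_comm]
  have hMn : ((piCore π (G ⧸ O)).comap (QuotientGroup.mk' O)).Normal := inferInstance
  have hH1 : H ⊓ (piCore π (G ⧸ O)).comap (QuotientGroup.mk' O) ≠ ⊥ := by
    intro e
    rw [e, sup_bot_eq] at hM
    have h1 : piCore π (G ⧸ O) = ⊥ := by
      rw [← map_comap_eq_self_of_surjective hsurj (piCore π (G ⧸ O)), hM,
        Subgroup.map_eq_bot_iff, QuotientGroup.ker_mk']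
    rw [h1] at hC
    suffices h : H = ⊥ from hnn (h ▸ inferInstance)
    rw [← hHO, left_eq_inf]
    intro x _
    exact (QuotientGroup.eq_one_iff x).1 (hC fun y hy => by simp [mem_bot.1 hy])
  have hle : H ⊓ (piCore π (G ⧸ O)).comap (QuotientGroup.mk' O) ≤ H := inf_le_left
  rw [hM] at hMn
  generalize H ⊓ (piCore π (G ⧸ O)).comap (QuotientGroup.mk' O) = A at hH1 hle hMn
  have h1 : O ⊔ normalizer (H : Set G) = ⊤ := by
    rw [eq_top_iff]
    intro g _
    have hco := hKH.coprime_dvd_left (card_dvd_of_le hle)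
    obtain ⟨k, hk, e⟩ := Coprime.exists_conj_eq (A := A) (K := O)
      (by rw [normalizer_eq_top]; exact le_top) hco (isSolvable_or_of_coprime hco)
      (B := MulAut.conj g • A) (by
        rintro _ ⟨a, ha, rfl⟩
        exact hMn.conj_mem a (mem_sup_right ha) g) (card_conj_smul _ _)
    obtain ⟨⟨x, hx⟩, hx1⟩ := ne_bot_iff_exists_ne_one.1 hH1
    obtain ⟨y, hy, e'⟩ : MulAut.conj g • x ∈ MulAut.conj k • A := e ▸ smul_mem_pointwise_smul _ _ _ hx
    have e2 : k * y * k⁻¹ = g * x * g⁻¹ := e'
    have : k⁻¹ * g ∈ normalizer (H : Set G) :=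
      TI.mem_normalizer hTI (hle hx) (fun e => hx1 (Subtype.ext e)) (by
        rw [show k⁻¹ * g * x * (k⁻¹ * g)⁻¹ = k⁻¹ * (g * x * g⁻¹) * k by group, ← e2]
        simpa [mul_assoc] using hle hy)
    simpa using mul_mem (mem_sup_left hk) (mem_sup_right this)
  have h2 : (O ⊔ H).Normal := by
    rw [← normalizer_eq_top_iff, eq_top_iff, ← h1]
    exact sup_le (le_sup_left.trans le_normalizer)
      (normsY le_normalizer_of_normal le_rfl)
  refine ⟨h1, h2, fun hs => ⟨inferInstance, fun K _ ⟨e⟩ => not_isSolvable_SL25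
    (Group.isSolvable_of_surjective (f := e.toMonoidHom) e.surjective)⟩, fun ⟨hOs, hK⟩ => ?_⟩
  have hFC := TI.isFC hTI hKH fun h => hnn (by
    rw [← normalizer_eq_top_iff, eq_top_iff, ← h1]
    exact sup_le (h.trans (centralizer_le_normalizer _)) le_rfl)
  have hHs : Group.IsSolvable H := hFC.isSolvable_or.resolve_right fun ⟨⟨e⟩, _⟩ =>
    hK _ (map_subtype_le _) ⟨(equivMapOfInjective _ _ H.subtype_injective).symm.trans e⟩
  refine (Group.isSolvable_iff_subgroup_quotient O).2 ⟨hOs, ?_⟩
  have hn : (H.map (QuotientGroup.mk' O)).Normal := by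
    have := h2.map _ hsurj
    rwa [Subgroup.map_sup, (Subgroup.map_eq_bot_iff O).2 (QuotientGroup.ker_mk' O).ge,
      bot_sup_eq] at this
  by_cases h : 2 ∣ Nat.card H
  · refine (Group.isSolvable_iff_subgroup_quotient (H.map (QuotientGroup.mk' O))).2
      ⟨Group.isSolvable_of_surjective ((QuotientGroup.mk' O).subgroupMap_surjective H),
        Cfsg.Agent.S0205.result (Nat.odd_iff.2 (Nat.two_dvd_ne_zero.1 fun h3 => ?_))⟩
    exact Nat.not_coprime_of_dvd_of_dvd one_lt_two h (h3.trans (index_map_dvd H hsurj)) hidx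
  · have := hFC.isZGroup_of_odd h
    have := IsZGroup.of_surjective ((QuotientGroup.mk' O).subgroupMap_surjective H)
    rw [le_antisymm hR (le_piCore hn hHb.1)] at hC
    exact isSolvable_of_zgroup _ hC

end Cfsg.Agent.S4118
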