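import Cfsg.Statements.S4140
import Cfsg.Agent.Solv.CaminaPair

set_option autoImplicit false
open Cfsg

namespace Cfsg.Agent.S4140

open Cfsg.Lib.Solv Cfsg.Lib.Trans Subgroup

theorem exists_other {n p : ℕ} (hn : n ≠ 0) (hp : p.Prime) (hpn : p ∣ n) (h : ¬ IsPrimePow n) :
    ∃ q : ℕ, q.Prime ∧ q ∣ n ∧ q ≠ p := by
  by_contra hcon
  push Not at hcon
  exact h (isPrimePow_iff_unique_prime_dvd.2 ⟨p, ⟨hp, hpn⟩, fun q hq => hcon q hq.1 hq.2⟩)

/-- Let G be a finite group and N a proper non-trivial normal subgroup such that for every g outside N the conjugacy class of g is a union of cosets of N (equivalently gn is conjugate to g for every n ∈ N). Then either every element of G outside N acts fixed-point-freely on N (C_G(x) ≤ N for all x ∈ N, x ≠ 1, so G is a Frobenius group with kernel N), or N has prime-power order, or G/N has prime-power order. -/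
theorem result {G : Type*} [Group G] [Finite G] (N : Subgroup G) [N.Normal] (hN1 : N ≠ ⊥) (hN2 : N ≠ ⊤)
    (hcam : ∀ g : G, g ∉ N → ∀ n ∈ N, ∃ x : G, x * g * x⁻¹ = g * n) :
    (∀ x ∈ N, x ≠ 1 → Subgroup.centralizer ({x} : Set G) ≤ N) ∨ IsPrimePow (Nat.card N) ∨ IsPrimePow N.index := by
  by_contra hcon
  push Not at hcon
  obtain ⟨h1, h2, h3⟩ := hcon
  obtain ⟨p, hp, hpI, hpN⟩ := Nat.Prime.not_coprime_iff_dvd.1 fun h => by
    obtain ⟨x, hx, hx1, h1⟩ := h1
    exact h1 ((Cfsg.Agent.S4112.result N N le_rfl hN1 hN2 hcam).1.2 h x hx hx1)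
  obtain ⟨q, hq, hqI, hqp⟩ := exists_other index_ne_zero_of_finite hp hpI h3
  have := Fact.mk hp
  have := Fact.mk hq
  obtain ⟨P⟩ : Nonempty (Sylow p G) := inferInstance
  have hP : ¬ (P : Subgroup G) ≤ N := fun h => P.not_dvd_index (hpI.trans (index_dvd_of_le h))
  have h0 : N ⊓ P ≠ ⊥ := fun h => P.not_dvd_index (hpN.trans (by
    have h4 := card_sup_mul_card_inf_of_normal (P : Subgroup G) N
    have h5 := card_subgroup_dvd_card ((P : Subgroup G) ⊔ N)
    rw [inf_comm, h, card_bot, mul_one] at h4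
    rw [h4, ← (P : Subgroup G).card_mul_index] at h5
    exact Nat.dvd_of_mul_dvd_mul_left Nat.card_pos h5))
  have := pResidual_characteristic p N
  set L := (pResidual p N).map N.subtype
  have : L.Normal := normal_map_subtype_of_char _
  have hL : (Nat.card L).Coprime p := by
    rw [card_map_of_injective N.subtype_injective]
    exact hasNormalPComplement_iff_coprime.1 (Camina.hasNormalPComplement hcam hpI)
  have key : ∀ r : ℕ, r.Prime → r ∣ Nat.card N → r ≠ p → ∃ V : Subgroup G, V ≤ N ∧ V ≠ ⊥ ∧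
      IsPGroup r V ∧ (Nat.card V).Coprime p ∧ (P : Subgroup G) ≤ normalizer (V : Set G) :=
    fun r hr hrN hrp => by
      have := Fact.mk hr
      obtain ⟨y, hy⟩ := exists_prime_orderOf_dvd_card' r hrN
      obtain ⟨V, hV, hV0, -, hVr, hPV⟩ := Fpf.exists_invariant_abelian
        (Fpf.le_normalizer_of_normal' L P) (coprime_card_of_isPGroup P.isPGroup' hL)
        (Or.inl (Coprime.isSolvable_of_isPGroup P.isPGroup')) hr (by
          rw [← hy, ← orderOf_coe]
          exact L.orderOf_dvd_natCard (mem_map_of_mem _ (mem_pResidual_of_coprime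
            (hy ▸ (Nat.coprime_primes hr hp).2 hrp))))
      exact ⟨V, hV.trans (map_subtype_le _), hV0, hVr, hL.coprime_dvd_left (card_dvd_of_le hV), hPV⟩
  by_cases hqN : q ∣ Nat.card N
  · obtain ⟨V, hV, hV0, hVq, hc, hPV⟩ := key q hq hqN hqp
    refine hV0 (Camina.eq_bot_of_le_centralizer hcam P hP h0 hV hc hPV
      (le_centralizer_iff.1 fun g hg => mem_centralizer_of_hasNormalPComplement_subgroup
        (Camina.hasNormalPComplement hcam hqI) hVq hV hg.1 (hPV hg.2) ?_))
    exact (coprime_card_of_isPGroup P.isPGroup' ((Nat.coprime_primes hq hp).2 hqp)).coprime_dvd_left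
      ((P : Subgroup G).orderOf_dvd_natCard hg.2)
  · obtain ⟨r, hr, hrN, hrp⟩ := exists_other Nat.card_pos.ne' hp hpN h2
    obtain ⟨V, hV, hV0, -, hc, hPV⟩ := key r hr hrN hrp
    obtain ⟨y, hy⟩ := exists_prime_orderOf_dvd_card' q (hqI.trans N.index_dvd_card)
    have hn := Fpf.isNilpotent_of_prime hq (Fpf.mem_normalizer_of_normal N y)
      (hy ▸ pow_orderOf_eq_one y) (Camina.fpf hcam (fun h => hqN (hy ▸ N.orderOf_dvd_natCard h))
        le_rfl (hy ▸ (hq.coprime_iff_not_dvd.2 hqN).symm))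
    exact hV0 (Camina.eq_bot_of_le_centralizer hcam P hP h0 hV hc hPV
      (le_centralizer_of_coprime_of_isNilpotent hn hV inf_le_left
        (coprime_card_of_isPGroup P.isPGroup'.to_inf_right hc).symm))

end Cfsg.Agent.S4140
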