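import Cfsg.Statements.S4147
import Cfsg.Agent.Cls2.Main
import Cfsg.Agent.Class.A5Recog
import Cfsg.Agent.Known.Simple504

set_option autoImplicit false
open Cfsg

namespace Cfsg.Agent.S4147

/-- Let G be a finite group in which every conjugacy class size is divisible by at most two distinct primes. Then G is solvable, or G is the direct product of its centre and a subgroup isomorphic to the alternating group A₅ or to PSL₂(8). -/
theorem result {G : Type*} [Group G] [Finite G]
    (h : ∀ x : G, ((Subgroup.centralizer ({x} : Set G)).index).primeFactors.card ≤ 2) :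
    Group.IsSolvable G ∨ ∃ S : Subgroup G, S.Normal ∧ Subgroup.center G ⊓ S = ⊥ ∧ Subgroup.center G ⊔ S = ⊤ ∧
      (Nonempty (S ≃* alternatingGroup (Fin 5)) ∨ Nonempty (S ≃* Matrix.ProjectiveSpecialLinearGroup (Fin 2) (GaloisField 2 3))) := by
  by_cases hs : Group.IsSolvable G
  · exact Or.inl hs
  obtain ⟨S, h1, h2, h3, h4, h5⟩ := Lib.Cls2.main _ G rfl h hs
  refine Or.inr ⟨S, h1, h4, h5, ?_⟩
  obtain ⟨r, s, D⟩ := Lib.Cls2.exists_sim (Lib.Cls2.Hyp.of_normal h S) h3
  refine D.card_eq.imp Lib.Class.nonempty_mulEquiv_A5_of_isSimpleGroup (fun h6 => ?_)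
  have := Fintype.ofFinite (GaloisField 2 3)
  exact Lib.Known.psl2_of_card_504 h6 (by
    rw [← Nat.card_eq_fintype_card, GaloisField.card 2 3 (by norm_num)]; norm_num)

end Cfsg.Agent.S4147
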