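import Cfsg.Statements.S4150
import Cfsg.Agent.Solv.TwoPrimeCycles

set_option autoImplicit false
open Cfsg

namespace Cfsg.Agent.S4150

open Cfsg.Lib.Solv Equiv Equiv.Perm

/-- Let m ≥ 5. Then there are primes p < q with m/2 ≤ p and q ≤ m such that any two elements x, y of the alternating group of degree m with x of order p and y of order q generate a subgroup isomorphic to an alternating group of some degree d ≥ 5. -/
theorem result (m : ℕ) (hm : 5 ≤ m) :
    ∃ p q : ℕ, p.Prime ∧ q.Prime ∧ m ≤ 2 * p ∧ p < q ∧ q ≤ m ∧
      ∀ x y : alternatingGroup (Fin m), orderOf x = p → orderOf y = q →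
        ∃ d : ℕ, 5 ≤ d ∧ Nonempty (Subgroup.closure ({x, y} : Set (alternatingGroup (Fin m))) ≃* alternatingGroup (Fin d)) := by
    classical
    obtain ⟨p, q, hp, hq, h1, h2, h3, hcase⟩ : ∃ p q : ℕ, p.Prime ∧ q.Prime ∧ m ≤ 2 * p ∧ p < q ∧ q ≤ m ∧
        ((m < 2 * p ∧ p + 3 ≤ q) ∨ (p = 3 ∧ q = 5) ∨ (p = 5 ∧ q = 7) ∨
        (p = 7 ∧ q = 11) ∨ (p = 11 ∧ q = 13 ∧ m ≤ 16)) := by
      by_cases h17 : 17 ≤ m
      · obtain ⟨p, q, hp, hq, h1, h2, h3⟩ := TwoCyc.exists_two_primes h17
        exact ⟨p, q, hp, hq, by omega, by omega, h3, Or.inl ⟨h1, h2⟩⟩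
      by_cases h15 : 15 ≤ m
      · exact ⟨11, 13, by norm_num, by norm_num, by omega, by omega, by omega, by omega⟩
      by_cases h11 : 11 ≤ m
      · exact ⟨7, 11, by norm_num, by norm_num, by omega, by omega, by omega, by omega⟩
      by_cases h7 : 7 ≤ m
      · exact ⟨5, 7, by norm_num, by norm_num, by omega, by omega, by omega, by omega⟩
      · exact ⟨3, 5, by norm_num, by norm_num, by omega, by omega, by omega, by omega⟩
    refine ⟨p, q, hp, hq, h1, h2, h3, fun x y hx hy => ?_⟩
    set X : Perm (Fin m) := x.1 with hX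
    set Y : Perm (Fin m) := y.1 with hY
    let P : Fin m → Prop := fun a => a ∈ X.support ∪ Y.support
    have key : ∀ g : Perm (Fin m), (∀ a, g a ≠ a → P a) → ∃ g' : Perm {a // P a}, ofSubtype g' = g := by
      intro g hg
      have h : ∀ a, P (g a) ↔ P a := fun a => by
        by_cases ha : g a = a
        · rw [ha]
        · exact iff_of_true (hg _ fun e => ha (g.injective e)) (hg a ha)
      exact ⟨g.subtypePerm h, ofSubtype_subtypePerm h hg⟩
    obtain ⟨x', hx'⟩ := key X (fun a ha => Finset.mem_union_left _ (mem_support.mpr ha))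
    obtain ⟨y', hy'⟩ := key Y (fun a ha => Finset.mem_union_right _ (mem_support.mpr ha))
    have hinj : Function.Injective (ofSubtype : Perm {a // P a} →* Perm (Fin m)) := ofSubtype_injective
    have hcard : Fintype.card {a // P a} ≤ m := (Fintype.card_subtype_le _).trans (Fintype.card_fin m).le
    have hmap : (Subgroup.closure ({x', y'} : Set (Perm {a // P a}))).map ofSubtype =
        (Subgroup.closure ({x, y} : Set (alternatingGroup (Fin m)))).map (alternatingGroup (Fin m)).subtype := by
      rw [MonoidHom.map_closure, MonoidHom.map_closure, Set.image_pair, Set.image_pair, hx', hy']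
      rfl
    obtain ⟨d, hd, ⟨f⟩⟩ := TwoCyc.core (α := {a // P a}) hp hq h2 (by omega) (by omega)
      (H := Subgroup.closure {x', y'}) (x := x') (y := y')
      (by
        rw [Subgroup.closure_le]
        rintro g (rfl | rfl)
        · rw [SetLike.mem_coe, mem_alternatingGroup, ← sign_ofSubtype, hx']; exact x.2
        · rw [SetLike.mem_coe, mem_alternatingGroup, ← sign_ofSubtype, hy']; exact y.2)
      (Subgroup.subset_closure (by simp)) (Subgroup.subset_closure (by simp))
      (by rw [← orderOf_injective _ hinj, hx', hX, Subgroup.orderOf_coe, hx])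
      (by rw [← orderOf_injective _ hinj, hy', hY, Subgroup.orderOf_coe, hy])
      (fun a => by
        rcases Finset.mem_union.mp a.2 with h | h
        · left
          intro e
          apply mem_support.mp h
          rw [← hx', ofSubtype_apply_coe, e]
        · right
          intro e
          apply mem_support.mp h
          rw [← hy', ofSubtype_apply_coe, e])
    exact ⟨d, hd, ⟨(((Subgroup.equivMapOfInjective _ _ (alternatingGroup (Fin m)).subtype_injective).trans
      (MulEquiv.subgroupCongr hmap.symm)).trans (Subgroup.equivMapOfInjective _ _ hinj).symm).trans f⟩⟩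

end Cfsg.Agent.S4150
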