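import Cfsg.Statements.S4159
import Cfsg.Agent.S3861
import Cfsg.Agent.S3863
import Cfsg.Agent.Cor.OddSol
import Cfsg.Agent.Solv.Carter

set_option autoImplicit false
open Cfsg

namespace Cfsg.Agent.S4159

/-- Let G be a finite group such that in every subgroup H of G, any two conjugacy classes of H of size greater than 1 have non-coprime sizes. Then G is solvable. -/
theorem result {G : Type*} [Group G] [Finite G]
    (h : ∀ (H : Subgroup G) (x y : H), 1 < (Subgroup.centralizer ({x} : Set H)).index → 1 < (Subgroup.centralizer ({y} : Set H)).index →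
      ¬ ((Subgroup.centralizer ({x} : Set H)).index).Coprime (Subgroup.centralizer ({y} : Set H)).index) : Group.IsSolvable G := by
  by_contra hG
  obtain ⟨P⟩ : Nonempty (Sylow 2 G) := inferInstance
  have h1 : ¬ ∀ x : G, x ≠ 1 → Odd (orderOf x) → ¬ IsConj x x⁻¹ := fun h1 =>
    hG (Lib.Cor.isSolvable_of_normal_sylow_two P ((S3861.result P).1 h1))
  simp only [not_forall, not_not] at h1
  obtain ⟨x, hx1, hxo, hxr⟩ := h1
  obtain ⟨t, ⟨j, ht⟩, htx⟩ := (S3863.result x hxr).1
  have hne : ¬ Commute t x := fun hc => by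
    rw [hc.eq, mul_inv_cancel_right] at htx
    have h2 : x ^ 2 = 1 := by rw [sq]; nth_rewrite 2 [htx]; exact mul_inv_cancel x
    have h3 := orderOf_dvd_of_pow_eq_one h2
    rcases (Nat.dvd_prime Nat.prime_two).1 h3 with e | e
    · exact hx1 (orderOf_eq_one_iff.1 e)
    · rw [e] at hxo
      exact absurd hxo (by decide)
  let H : Subgroup G := Subgroup.closure {x, t}
  let x' : H := ⟨x, Subgroup.subset_closure (by simp)⟩
  let t' : H := ⟨t, Subgroup.subset_closure (by simp)⟩
  have hgen : Subgroup.closure ({x', t'} : Set H) = ⊤ := by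
    apply Subgroup.map_injective H.subtype_injective
    rw [MonoidHom.map_closure, ← MonoidHom.range_eq_map, Subgroup.range_subtype, Set.image_pair]
    rfl
  have htx' : t' * x' * t'⁻¹ = x'⁻¹ := Subtype.ext htx
  have hn : (Subgroup.zpowers x').Normal := by
    rw [← Subgroup.normalizer_eq_top_iff, eq_top_iff, ← hgen, Subgroup.closure_le]
    refine Set.pair_subset (Subgroup.le_normalizer (Subgroup.mem_zpowers _)) ?_
    refine Subgroup.mem_normalizer_iff_map_conj_eq.2 ?_
    rw [MonoidHom.map_zpowers]
    change Subgroup.zpowers (t' * x' * t'⁻¹) = _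
    rw [htx', Subgroup.zpowers_inv]
  have hsup : Subgroup.zpowers t' ⊔ Subgroup.zpowers x' = ⊤ := by
    rw [eq_top_iff, ← hgen, Subgroup.closure_le]
    exact Set.pair_subset (Subgroup.mem_sup_right (Subgroup.mem_zpowers _))
      (Subgroup.mem_sup_left (Subgroup.mem_zpowers _))
  have hne' : ∀ a b : H, ¬ Commute a b → 1 < (Subgroup.centralizer ({a} : Set H)).index := by
    intro a b hab
    refine lt_of_le_of_ne (Nat.one_le_iff_ne_zero.2 Subgroup.index_ne_zero_of_finite) fun e => hab ?_
    have := (Subgroup.index_eq_one.1 e.symm).ge (Subgroup.mem_top b)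
    exact Subgroup.mem_centralizer_iff.1 this a rfl
  have hle : ∀ a : H, Subgroup.zpowers a ≤ Subgroup.centralizer ({a} : Set H) := fun a =>
    Subgroup.zpowers_le.2 (Subgroup.mem_centralizer_singleton_iff.2 rfl)
  have hc : ¬ Commute t' x' := fun e => hne (congrArg Subtype.val e)
  refine h H x' t' (hne' _ t' fun e => hc e.symm) (hne' _ x' hc) ?_
  have d1 : (Subgroup.centralizer ({x'} : Set H)).index ∣ 2 ^ j := by
    refine (Subgroup.index_dvd_of_le (hle x')).trans ?_
    rw [← Subgroup.relIndex_top_right, ← hsup, Subgroup.relIndex_sup_right, ← ht,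
      ← Subgroup.orderOf_mk t (Subgroup.subset_closure (by simp) : t ∈ H), ← Nat.card_zpowers]
    exact Subgroup.relIndex_dvd_card _ _
  have d2 : (Subgroup.centralizer ({t'} : Set H)).index ∣ orderOf x := by
    refine (Subgroup.index_dvd_of_le (hle t')).trans ?_
    rw [← Subgroup.orderOf_mk x (Subgroup.subset_closure (by simp) : x ∈ H), ← Nat.card_zpowers]
    exact Lib.Solv.Carter.index_dvd_card_of_sup_eq_top hsup
  exact Nat.Coprime.coprime_dvd_left d1 (Nat.Coprime.coprime_dvd_right d2
    (Nat.Coprime.pow_left j (Nat.coprime_two_left.2 hxo)))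

end Cfsg.Agent.S4159
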