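import Cfsg.Statements.S4190
import Cfsg.Agent.KCl.Fit

set_option autoImplicit false
open Cfsg

namespace Cfsg.Agent.S4190

/-- Let G be a finite solvable group and p a prime dividing the index of the Fitting subgroup of G. Then the number of conjugacy classes of G is at least p/(3·log₂ p). -/
theorem result {G : Type*} [Group G] [Finite G] (hG : Group.IsSolvable G) (p : ℕ) [Fact p.Prime] (hp : p ∣ (Cfsg.fittingSubgroup G).index) : (p : ℝ) / (3 * Real.logb 2 p) ≤ Nat.card (ConjClasses G) := by
  have h := Cfsg.Lib.KCl.classes_ge_of_dvd_index G hG hp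
  have h2 : (2 : ℝ) ≤ p := by exact_mod_cast (Fact.out : p.Prime).two_le
  have h3 : (Nat.log 2 p : ℝ) ≤ Real.logb 2 p := by exact_mod_cast Real.natLog_le_logb p 2
  have h4 : 0 < Real.logb 2 p := Real.logb_pos (by norm_num) (by linarith)
  have h5 : (p : ℝ) ≤ 3 * Nat.log 2 p * Nat.card (ConjClasses G) := by exact_mod_cast h
  rw [div_le_iff₀ (by positivity)]
  nlinarith [(Nat.cast_nonneg _ : (0 : ℝ) ≤ Nat.card (ConjClasses G))]

end Cfsg.Agent.S4190
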