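import Cfsg.Statements.S4192
import Cfsg.Agent.RealDisc.Struct

set_option autoImplicit false
open Cfsg

namespace Cfsg.Agent.S4192

open Cfsg.Lib.RealDisc Cfsg.Lib.Solv Cfsg.Lib.Solv.ClassSize Cfsg.Lib.Solv.Real

/-- Let G be a finite group; call an element real when it is conjugate to its inverse, and say that the real-class-size graph of a group is disconnected when the primes dividing its real class sizes split into two non-empty disjoint parts with no real class size divisible by a prime from each part. If the real-class-size graph of G is disconnected, then some real class size of G is even, and either the Sylow 2-subgroups of G are normal, or the subgroup K generated by the 2-elements of G (the smallest normal subgroup of odd index) again has a disconnected real-class-size graph and every real class size of K is odd or a power of 2. -/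
theorem result {G : Type*} [Group G] [Finite G] (h : (∃ π₁ π₂ : Set ℕ, π₁.Nonempty ∧ π₂.Nonempty ∧ Disjoint π₁ π₂ ∧ (∀ q ∈ π₁ ∪ π₂, q.Prime ∧ ∃ n ∈ {n : ℕ | ∃ x : G, IsConj x x⁻¹ ∧ (Subgroup.centralizer ({x} : Set G)).index = n}, q ∣ n) ∧ (∀ q : ℕ, q.Prime → (∃ n ∈ {n : ℕ | ∃ x : G, IsConj x x⁻¹ ∧ (Subgroup.centralizer ({x} : Set G)).index = n}, q ∣ n) → q ∈ π₁ ∨ q ∈ π₂) ∧ ∀ a ∈ π₁, ∀ b ∈ π₂, ∀ n ∈ {n : ℕ | ∃ x : G, IsConj x x⁻¹ ∧ (Subgroup.centralizer ({x} : Set G)).index = n}, ¬ (a ∣ n ∧ b ∣ n))) : (∃ n ∈ {n : ℕ | ∃ x : G, IsConj x x⁻¹ ∧ (Subgroup.centralizer ({x} : Set G)).index = n}, 2 ∣ n) ∧ ((∀ P : Sylow 2 G, (P : Subgroup G).Normal) ∨ ((∃ π₁ π₂ : Set ℕ, π₁.Nonempty ∧ π₂.Nonempty ∧ Disjoint π₁ π₂ ∧ (∀ q ∈ π₁ ∪ π₂, q.Prime ∧ ∃ n ∈ {n : ℕ | ∃ x : ↥(Subgroup.closure {g : G | ∃ k : ℕ, orderOf g = 2 ^ k}), IsConj x x⁻¹ ∧ (Subgroup.centralizer ({x} : Set ↥(Subgroup.closure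 {g : G | ∃ k : ℕ, orderOf g = 2 ^ k}))).index = n}, q ∣ n) ∧ (∀ q : ℕ, q.Prime → (∃ n ∈ {n : ℕ | ∃ x : ↥(Subgroup.closure {g : G | ∃ k : ℕ, orderOf g = 2 ^ k}), IsConj x x⁻¹ ∧ (Subgroup.centralizer ({x} : Set ↥(Subgroup.closure {g : G | ∃ k : ℕ, orderOf g = 2 ^ k}))).index = n}, q ∣ n) → q ∈ π₁ ∨ q ∈ π₂) ∧ ∀ a ∈ π₁, ∀ b ∈ π₂, ∀ n ∈ {n : ℕ | ∃ x : ↥(Subgroup.closure {g : G | ∃ k : ℕ, orderOf g = 2 ^ k}), IsConj x x⁻¹ ∧ (Subgroup.centralizer ({x} : Set ↥(Subgroup.closure {g : G | ∃ k : ℕ, orderOf g = 2 ^ k}))).index = n}, ¬ (a ∣ n ∧ b ∣ n)) ∧ ∀ n ∈ {n : ℕ | ∃ x : ↥(Subgroup.closure {g : G | ∃ k : ℕ, orderOf g = 2 ^ k}), IsConj x x⁻¹ ∧ (Subgroup.centralizer ({x} : Set ↥(Subgroup.closure {g : G | ∃ k : ℕ, orderOf g = 2 ^ k}))).index = n}, Odd n ∨ ∃ j : ℕ, n = 2 ^ j)) := by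
  obtain ⟨π₁, π₂, h₁, h₂, hdisj, hsub, hcover, hno⟩ := h
  obtain ⟨π, t, x, h, ht, htc, htπ, hx, hxc, hxπ⟩ := setup π₁ π₂ h₁ h₂ hcover hsub hdisj hno
  obtain ⟨y, hy, hy2⟩ := h.exists_even ht htc htπ hx hxc hxπ
  refine ⟨⟨_, ⟨y, hy, rfl⟩, hy2⟩, ?_⟩
  by_cases hN : NoR G
  · exact Or.inl fun P => hN.normal P
  right
  have hsp : ∀ z : K2 G, IsConj z z⁻¹ → IsPiNum π (Subgroup.centralizer ({z} : Set (K2 G))).index ∨
      IsPiNum πᶜ (Subgroup.centralizer ({z} : Set (K2 G))).index := fun z hz =>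
    (h.split z (isConj_inv_map (K2 G).subtype hz)).imp
      (fun h => h.of_dvd (index_cent_subtype_dvd_of_normal z))
      fun h => h.of_dvd (index_cent_subtype_dvd_of_normal z)
  obtain ⟨w, hw, hw1⟩ : ∃ w : G, RO w ∧ w ≠ 1 := by
    by_contra hcon
    push Not at hcon
    exact hN hcon
  obtain ⟨hwK, hw'⟩ := mem_of_real_of_odd_index hw.2 (K2 G) odd_index_K2
  obtain ⟨htK, ht'⟩ := mem_of_real_of_odd_index ht (K2 G) odd_index_K2
  have hwr : RO (⟨w, hwK⟩ : K2 G) := ⟨by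
    obtain ⟨q, j, h1, h2, h3⟩ := hw.1
    exact ⟨q, j, h1, h2, by rw [← h3, ← Subgroup.orderOf_coe]⟩, hw'⟩
  have hw1' : (⟨w, hwK⟩ : K2 G) ≠ 1 := fun e => hw1 (congrArg Subtype.val e)
  have htc' : (Subgroup.centralizer ({⟨t, htK⟩} : Set (K2 G))).index ≠ 1 := fun e => by
    have h1 : K2 G ≤ Subgroup.centralizer ({t} : Set G) := fun g hg => mem_cent.2
      (congrArg Subtype.val (Subgroup.mem_center_iff.1 (index_cent_eq_one_iff.1 e) ⟨g, hg⟩))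
    exact hw1' ((h.noR (h.sq ht htπ) htc htπ).of_le h1 _ hwr)
  obtain ⟨b, hb, hbd⟩ := Nat.exists_prime_and_dvd htc'
  refine ⟨⟨{q | q ∉ π ∧ q.Prime ∧ ∃ z : K2 G, IsConj z z⁻¹ ∧
      q ∣ (Subgroup.centralizer ({z} : Set (K2 G))).index},
    {q | q ∈ π ∧ q.Prime ∧ ∃ z : K2 G, IsConj z z⁻¹ ∧
      q ∣ (Subgroup.centralizer ({z} : Set (K2 G))).index},
    ⟨2, h.two, Nat.prime_two, _, hw', two_dvd_index_of_real hw' (hwr.mul_self_ne hw1')⟩,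
    ⟨b, htπ b hb (hbd.trans (index_cent_subtype_dvd_of_normal (⟨t, htK⟩ : K2 G))), hb, _, ht', hbd⟩,
    Set.disjoint_left.2 fun q h1 h2 => h1.1 h2.1, ?_, ?_, ?_⟩, ?_⟩
  · rintro q (⟨-, hq, z, hz, hd⟩ | ⟨-, hq, z, hz, hd⟩) <;> exact ⟨hq, _, ⟨z, hz, rfl⟩, hd⟩
  · rintro q hq ⟨_, ⟨z, hz, rfl⟩, hd⟩
    by_cases h1 : q ∈ π
    · exact Or.inr ⟨h1, hq, z, hz, hd⟩
    · exact Or.inl ⟨h1, hq, z, hz, hd⟩
  · rintro a ⟨ha, hap, -⟩ c ⟨hc, hcp, -⟩ _ ⟨z, hz, rfl⟩ ⟨h1, h2⟩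
    rcases hsp z hz with h3 | h3
    · exact ha (h3 a hap h1)
    · exact h3 c hcp h2 hc
  · rintro _ ⟨z, hz, rfl⟩
    rcases hsp z hz with h3 | h3
    · left
      rw [← Nat.not_even_iff_odd, even_iff_two_dvd]
      exact h.odd h3
    · right
      refine (isPiNum_singleton_iff Nat.prime_two Subgroup.index_ne_zero_of_finite).1
        fun p hp hd => ?_
      by_contra hp2
      exact h.not_dvd_card ht htc htπ hp hp2 (h3 p hp hd) (hd.trans (Subgroup.index_dvd_card _))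

end Cfsg.Agent.S4192
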