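import Cfsg.Statements.S4193
import Cfsg.Agent.Cor.OddSol
import Cfsg.Agent.S3861
import Cfsg.Agent.S3862
import Cfsg.Agent.Trans.NormalComplement

set_option autoImplicit false
open Cfsg

namespace Cfsg.Agent.S4193

open Cfsg.Lib

variable {G : Type*} [Group G] [Finite G]

theorem exists_two_inverter {x : G} (hx : IsConj x x⁻¹) :
    ∃ y : G, (∃ k, y ^ 2 ^ k = 1) ∧ y * x * y⁻¹ = x⁻¹ := by
  obtain ⟨g, hg⟩ := isConj_iff.1 hx
  obtain ⟨k, m, hm, hkm⟩ := Nat.exists_eq_two_pow_mul_odd (orderOf_pos g).ne'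
  refine ⟨g ^ m, ⟨k, by rw [← pow_mul, mul_comm, ← hkm, pow_orderOf_eq_one]⟩, ?_⟩
  obtain ⟨j, rfl⟩ := hm
  have h2 : g * x⁻¹ * g⁻¹ = x := by
    have := congrArg (·⁻¹) hg
    simpa [mul_assoc] using this
  have key : ∀ j : ℕ, g ^ (2 * j + 1) * x * (g ^ (2 * j + 1))⁻¹ = x⁻¹ := by
    intro j
    induction j with
    | zero => simpa using hg
    | succ j ih =>
      have : g ^ (2 * (j + 1) + 1) * x * (g ^ (2 * (j + 1) + 1))⁻¹ =
          g * (g * (g ^ (2 * j + 1) * x * (g ^ (2 * j + 1))⁻¹) * g⁻¹) * g⁻¹ := by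
        rw [show 2 * (j + 1) + 1 = (2 * j + 1) + 1 + 1 by ring, pow_succ' g (2 * j + 1 + 1),
          pow_succ' g (2 * j + 1)]
        group
      rw [this, ih, h2, hg]
  exact key j

theorem even_index_of_real {x : G} (hx : IsConj x x⁻¹) (h2 : x⁻¹ ≠ x) :
    2 ∣ (Subgroup.centralizer ({x} : Set G)).index := by
  obtain ⟨y, ⟨k, hk⟩, hy⟩ := exists_two_inverter hx
  set C := Subgroup.centralizer ({x} : Set G)
  have hyC : y ∉ C := by
    intro h
    rw [Subgroup.mem_centralizer_singleton_iff] at h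
    apply h2
    rw [← hy, h]; group
  have hinv : y * x⁻¹ * y⁻¹ = x := by
    have := congrArg (·⁻¹) hy
    simpa [mul_assoc] using this
  let E : Subgroup G :=
    { carrier := {g | g * x * g⁻¹ = x ∨ g * x * g⁻¹ = x⁻¹}
      one_mem' := Or.inl (by simp)
      mul_mem' := by
        intro a b ha hb
        have e : a * b * x * (a * b)⁻¹ = a * (b * x * b⁻¹) * a⁻¹ := by group
        have e2 : a * x⁻¹ * a⁻¹ = (a * x * a⁻¹)⁻¹ := by group
        rcases hb with hb | hb <;> rcases ha with ha | ha
        · exact Or.inl (by rw [e, hb, ha])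
        · exact Or.inr (by rw [e, hb, ha])
        · exact Or.inr (by rw [e, hb, e2, ha])
        · exact Or.inl (by rw [e, hb, e2, ha, inv_inv])
      inv_mem' := by
        intro a ha
        rcases ha with ha | ha
        · refine Or.inl ?_
          conv_lhs => rw [← ha]
          group
        · refine Or.inr ?_
          have : x = a * x⁻¹ * a⁻¹ := by
            have := congrArg (·⁻¹) ha
            simpa [mul_assoc] using this.symm
          conv_lhs => rw [this]
          group }
  have hCE : C ≤ E := fun g hg => Or.inl (by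
    rw [Subgroup.mem_centralizer_singleton_iff] at hg
    rw [hg]; group)
  have hrel : C.relIndex E = 2 := by
    rw [Subgroup.relIndex, Subgroup.index_eq_two_iff]
    refine ⟨⟨y, Or.inr hy⟩, fun b => ?_⟩
    have hb2 : (b : G) * x⁻¹ * (b : G)⁻¹ = ((b : G) * x * (b : G)⁻¹)⁻¹ := by group
    simp only [Subgroup.mem_subgroupOf, C, Subgroup.mem_centralizer_singleton_iff,
      Subgroup.coe_mul, ← mul_inv_eq_iff_eq_mul]
    have e : (b : G) * y * x * ((b : G) * y)⁻¹ = b * (y * x * y⁻¹) * (b : G)⁻¹ := by group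
    rw [e, hy, hb2]
    rcases b.2 with hb | hb
    · rw [hb]; exact Or.inr ⟨rfl, h2⟩
    · rw [hb, inv_inv]; exact Or.inl ⟨rfl, h2⟩
  rw [← hrel]
  exact Subgroup.relIndex_dvd_index_of_le hCE

theorem odd_index_of_real_two (S : Sylow 2 G)
    (hS : ∀ s : (S : Subgroup G), IsConj s s⁻¹ → s ∈ Subgroup.center (S : Subgroup G))
    {x : G} (hx2 : ∃ j, orderOf x = 2 ^ j) (hx : IsConj x x⁻¹) :
    ¬ 2 ∣ (Subgroup.centralizer ({x} : Set G)).index := by
  obtain ⟨y, ⟨k, hk⟩, hy⟩ := exists_two_inverter hx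
  obtain ⟨j, hj⟩ := hx2
  have hX : IsPGroup 2 (Subgroup.zpowers x) := IsPGroup.iff_card.2 ⟨j, by rw [Nat.card_zpowers, hj]⟩
  have hY : IsPGroup 2 (Subgroup.zpowers y) := by
    obtain ⟨i, -, hi⟩ := (Nat.dvd_prime_pow Nat.prime_two).1 (orderOf_dvd_of_pow_eq_one hk)
    exact IsPGroup.iff_card.2 ⟨i, by rw [Nat.card_zpowers, hi]⟩
  have hN : Subgroup.zpowers y ≤ Subgroup.normalizer (Subgroup.zpowers x : Set G) := by
    rw [Subgroup.zpowers_le]
    apply Subgroup.mem_normalizer_fintype
    rintro _ ⟨n, rfl⟩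
    refine ⟨-n, ?_⟩
    simp only
    rw [← conj_zpow, hy]; simp
  have hP : IsPGroup 2 (Subgroup.zpowers y ⊔ Subgroup.zpowers x : Subgroup G) :=
    IsPGroup.to_sup_of_normal_right' hY hX hN
  obtain ⟨T, hT⟩ := hP.exists_le_sylow
  obtain ⟨g, hg⟩ := MulAction.exists_smul_eq G T S
  have hmem : ∀ t ∈ (T : Subgroup G), g * t * g⁻¹ ∈ (S : Subgroup G) := by
    intro t ht
    rw [← hg]
    exact ⟨t, ht, rfl⟩
  have hxT : x ∈ (T : Subgroup G) := hT (Subgroup.mem_sup_right (Subgroup.mem_zpowers x))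
  have hyT : y ∈ (T : Subgroup G) := hT (Subgroup.mem_sup_left (Subgroup.mem_zpowers y))
  have hc := hS ⟨g * x * g⁻¹, hmem x hxT⟩ (isConj_iff.2 ⟨⟨g * y * g⁻¹, hmem y hyT⟩, Subtype.ext (by
    simp only [Subgroup.coe_mul, Subgroup.coe_inv]
    calc g * y * g⁻¹ * (g * x * g⁻¹) * (g * y * g⁻¹)⁻¹ = g * (y * x * y⁻¹) * g⁻¹ := by group
      _ = (g * x * g⁻¹)⁻¹ := by rw [hy]; group)⟩)
  have hTC : (T : Subgroup G) ≤ Subgroup.centralizer ({x} : Set G) := by
    intro t ht
    rw [Subgroup.mem_centralizer_singleton_iff]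
    have := congrArg Subtype.val (Subgroup.mem_center_iff.1 hc ⟨g * t * g⁻¹, hmem t ht⟩)
    simp only [Subgroup.coe_mul] at this
    calc t * x = g⁻¹ * (g * t * g⁻¹ * (g * x * g⁻¹)) * g := by group
      _ = x * t := by rw [this]; group
  exact fun h => T.not_dvd_index (h.trans (Subgroup.index_dvd_of_le hTC))

/-- Let G be a finite group in which the conjugacy classes of all non-central real elements (elements conjugate to their inverses) have sizes with the same 2-part, and suppose G has a Sylow 2-subgroup S such that every element of S that is conjugate in S to its inverse lies in the centre of S. Then G is solvable and the subgroup generated by the 2-elements of G (the smallest normal subgroup of odd index) has a normal 2-complement. -/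
theorem result {G : Type*} [Group G] [Finite G] (a : ℕ) (h : ∀ x : G, IsConj x x⁻¹ → x ∉ Subgroup.center G → ((Subgroup.centralizer ({x} : Set G)).index).factorization 2 = a) (S : Sylow 2 G) (hS : ∀ s : ↥(S : Subgroup G), IsConj s s⁻¹ → s ∈ Subgroup.center ↥(S : Subgroup G)) : Group.IsSolvable G ∧ Cfsg.HasNormalPComplement 2 ↥(Subgroup.closure {g : G | ∃ k : ℕ, orderOf g = 2 ^ k}) := by
  rcases Nat.eq_zero_or_pos a with ha | ha
  · have hN : (S : Subgroup G).Normal := by
      refine (S3861.result S).1 fun x hx1 hodd hx => ?_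
      have hne : x⁻¹ ≠ x := by
        intro he
        have : x ^ 2 = 1 := by rw [sq]; nth_rw 1 [← he]; simp
        have h2 := orderOf_dvd_of_pow_eq_one this
        rcases (Nat.dvd_prime Nat.prime_two).1 h2 with h3 | h3
        · exact hx1 (orderOf_eq_one_iff.1 h3)
        · rw [h3] at hodd; exact absurd hodd (by decide)
      have hz : x ∉ Subgroup.center G := by
        intro hz
        obtain ⟨g, hg⟩ := isConj_iff.1 hx
        apply hne
        rw [← hg, Subgroup.mem_center_iff.1 hz g]; group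
      have h0 := h x hx hz
      have := (Nat.prime_two.dvd_iff_one_le_factorization
        (Subgroup.index_ne_zero_of_finite)).1 (even_index_of_real hx hne)
      omega
    refine ⟨Cor.isSolvable_of_normal_sylow_two S hN, Trans.hasNormalPComplement_of_isPGroup ?_⟩
    refine IsPGroup.to_le S.isPGroup' ((Subgroup.closure_le _).2 ?_)
    rintro g ⟨k, hk⟩
    have hX : IsPGroup 2 (Subgroup.zpowers g) :=
      IsPGroup.iff_card.2 ⟨k, by rw [Nat.card_zpowers, hk]⟩
    obtain ⟨T, hT⟩ := hX.exists_le_sylow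
    have := Sylow.unique_of_normal S hN
    rw [Subsingleton.elim T S] at hT
    exact hT (Subgroup.mem_zpowers g)
  · have hc : Cfsg.HasNormalPComplement 2 G := by
      refine S3862.result fun x hx2 hx => ?_
      by_contra hz
      have h0 := h x hx hz
      exact odd_index_of_real_two S hS hx2 hx
        ((Nat.prime_two.dvd_iff_one_le_factorization Subgroup.index_ne_zero_of_finite).2 (by omega))
    exact ⟨Cor.isSolvable_of_hasNormalPComplement_two hc, Trans.hasNormalPComplement_subgroup hc _⟩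

end Cfsg.Agent.S4193
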