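import Cfsg.Statements.S4194
import Cfsg.Agent.Solv.CaminaHerzog2

set_option autoImplicit false
open Cfsg

namespace Cfsg.Agent.S4194

/-- A finite group G has commutative Sylow 2-subgroups if and only if every 2-element of G (element of order a power of 2) is 2-central, that is, its centralizer contains a Sylow 2-subgroup of G. -/
theorem result {G : Type*} [Group G] [Finite G] (P : Sylow 2 G) :
    IsMulCommutative (P : Subgroup G) ↔ ∀ x : G, (∃ k : ℕ, orderOf x = 2 ^ k) → (∃ Q : Sylow 2 G, (Q : Subgroup G) ≤ Subgroup.centralizer ({x} : Set G)) := by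
  refine ⟨fun h x ⟨k, hk⟩ => ?_, fun h => Lib.Solv.caminaHerzog' G
    (fun x hx => (h x hx).elim Lib.Solv.ClassSize.not_dvd_index_of_sylow_le) P⟩
  obtain ⟨Q, hQ⟩ := Lib.Solv.ClassSize.exists_sylow_mem_of_pow_eq_one
    (show x ^ 2 ^ k = 1 by rw [← hk, pow_orderOf_eq_one])
  obtain ⟨g, rfl⟩ := MulAction.exists_smul_eq G P Q
  refine ⟨g • P, fun y hy => Lib.Solv.ClassSize.mem_cent.mpr ?_⟩
  obtain ⟨a, ha, rfl⟩ := Lib.Solv.mem_conj_smul_iff_exists.mp hQ
  obtain ⟨b, hb, rfl⟩ := Lib.Solv.mem_conj_smul_iff_exists.mp hy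
  have : b * a = a * b := congrArg Subtype.val (h.is_comm.comm ⟨b, hb⟩ ⟨a, ha⟩)
  calc g * b * g⁻¹ * (g * a * g⁻¹) = g * (b * a) * g⁻¹ := by group
    _ = _ := by rw [this]; group

end Cfsg.Agent.S4194
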