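import Cfsg.Statements.S4284
import Cfsg.Agent.Solv.CsMmn
import Cfsg.Agent.S3922

set_option autoImplicit false
open Cfsg

namespace Cfsg.Agent.S4284

open Subgroup Cfsg.Lib.Solv Cfsg.Lib.Solv.ClassSize

theorem exists_not_dvd {G : Type*} [Group G] [Finite G] [Group.IsSolvable G] {p r : ℕ}
    [hp : Fact p.Prime] [hr : Fact r.Prime] (hpr : p ≠ r)
    (h1 : IsPGroup p (G ⧸ pPrimeCore p G)) (h2 : IsPGroup r (G ⧸ pPrimeCore r G)) :
    ∃ (P : Sylow p G) (R : Sylow r G), ∀ y ∈ (P : Subgroup G),
      (R : Subgroup G) ≤ centralizer ({y} : Set G) := by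
  obtain ⟨R⟩ : Nonempty (Sylow r G) := inferInstance
  obtain ⟨j, hj⟩ := R.isPGroup'.exists_card_eq
  obtain ⟨P0, hP0⟩ := Cfsg.Agent.S0023.result (R : Subgroup G) (pPrimeCore r G)
    (by rw [normalizer_eq_top]; exact le_top)
    (by rw [hj]; exact ((coprime_card_pPrimeCore r G).pow_right j).symm)
    (Or.inl inferInstance) p
  obtain ⟨k, hk⟩ := h2.exists_card_eq
  obtain ⟨i, hi⟩ := h1.exists_card_eq
  have hS : IsPGroup p ((P0 : Subgroup (pPrimeCore r G)).map (Subgroup.subtype _)) :=
    P0.isPGroup'.map _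
  have hidx : ¬ p ∣ ((P0 : Subgroup (pPrimeCore r G)).map (Subgroup.subtype _)).index := by
    rw [index_map_subtype]
    refine fun hd => ((Nat.Prime.dvd_mul hp.out).1 hd).elim P0.not_dvd_index fun hd2 => hpr ?_
    rw [index_eq_card, hk] at hd2
    exact (Nat.prime_dvd_prime_iff_eq hp.out hr.out).1 (hp.out.dvd_of_dvd_pow hd2)
  have hRN : (R : Subgroup G) ≤ pPrimeCore p G := by
    apply le_of_coprime_card_index
    rw [hj, index_eq_card, hi]
    exact Nat.Coprime.pow _ _ ((Nat.coprime_primes hr.out hp.out).2 hpr.symm)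
  refine ⟨hS.toSylow hidx, R, fun y hy u hu => ?_⟩
  have h3 : u * y * u⁻¹ * y⁻¹ ∈ ((P0 : Subgroup (pPrimeCore r G)).map (Subgroup.subtype _)) ⊓
      pPrimeCore p G := by
    refine mem_inf.2 ⟨mul_mem ((mem_normalizer_iff.1 (hP0 hu) y).1 hy) (inv_mem hy), ?_⟩
    have := mul_mem (hRN hu) ((inferInstance : (pPrimeCore p G).Normal).conj_mem _
      (inv_mem (hRN hu)) y)
    simpa only [mul_assoc] using this
  rw [inf_eq_bot_of_isPGroup_of_coprime hS (coprime_card_pPrimeCore p G), mem_bot] at h3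
  rw [mem_cent]
  calc u * y = (u * y * u⁻¹ * y⁻¹) * y * u := by group
    _ = y * u := by rw [h3, one_mul]


/-- Let G be a finite group with no nontrivial abelian direct factor whose conjugacy class sizes are exactly 1, m and m·n with m, n > 1 coprime. Then m is a prime p dividing n − 1; the elements whose class has size 1 or p form an abelian normal subgroup of index p; G has a normal p-complement; and the commutator subgroup of a Sylow p-subgroup of G has order p. -/
theorem result {G : Type*} [Group G] [Finite G] (hnodf : ∀ A B : Subgroup G, A.Normal → B.Normal → A ⊓ B = ⊥ → A ⊔ B = ⊤ → IsMulCommutative A → A = ⊥) (m n : ℕ) (hm : 1 < m) (hn : 1 < n) (hcop : m.Coprime n) (h : Set.range (fun x : G => (Subgroup.centralizer ({x} : Set G)).index) = ({1, m, m * n} : Set ℕ)) : m.Prime ∧ m ∣ n - 1 ∧ (∃ M : Subgroup G, M.Normal ∧ (M : Set G) = {x : G | (Subgroup.centralizer ({x} : Set G)).index = 1 ∨ (Subgroup.centralizer ({x} : Set G)).index = m} ∧ M.index = m ∧ IsMulCommutative M) ∧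 (∃ N : Subgroup G, N.Normal ∧ (Nat.card N).Coprime m ∧ ∃ a : ℕ, N.index = m ^ a) ∧ ∀ P : Sylow m G, Nat.card (commutator (P : Subgroup G)) = m := by
  have hcs : ∀ x : G, (centralizer ({x} : Set G)).index = 1 ∨
      (centralizer ({x} : Set G)).index = m ∨ (centralizer ({x} : Set G)).index = m * n :=
    fun x => by
      have : (centralizer ({x} : Set G)).index ∈ ({1, m, m * n} : Set ℕ) := h ▸ ⟨x, rfl⟩
      simpa using this
  have hxm : ∃ x : G, (centralizer ({x} : Set G)).index = m := by
    have : m ∈ Set.range (fun x : G => (centralizer ({x} : Set G)).index) := by rw [h]; simp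
    exact this
  have hxmn : ∃ x : G, (centralizer ({x} : Set G)).index = m * n := by
    have : m * n ∈ Set.range (fun x : G => (centralizer ({x} : Set G)).index) := by rw [h]; simp
    exact this
  have hsolv : Group.IsSolvable G :=
    Cfsg.Agent.S3922.result (m * n) m (by nlinarith) hm hcs hxmn hxm
  have hdvd : ∀ x : G, x ∉ center G → m ∣ (centralizer ({x} : Set G)).index := fun x hx => by
    rcases hcs x with h1 | h1 | h1
    · exact absurd (index_cent_eq_one_iff.1 h1) hx
    · rw [h1]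
    · rw [h1]; exact dvd_mul_right _ _
  have hq : ∀ q : ℕ, q.Prime → q ∣ m → IsPGroup q (G ⧸ pPrimeCore q G) := fun q hq hqm => by
    have : Fact q.Prime := ⟨hq⟩
    refine isPGroup_quotient_of_const (IsPSolvable.of_isSolvable q G) (a := m.factorization q)
      (hq.factorization_pos_of_dvd (by omega) hqm) fun x hx => ?_
    rcases hcs x with h1 | h1 | h1
    · exact absurd (index_cent_eq_one_iff.1 h1) hx
    · rw [h1]
    · rw [h1, Nat.factorization_mul (by omega) (by omega), Finsupp.add_apply,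
        Nat.factorization_eq_zero_of_not_dvd (n := n) fun hd =>
          hq.one_lt.ne' (Nat.eq_one_of_dvd_coprimes hcop hqm hd), add_zero]
  obtain ⟨p, hp, hpm⟩ := Nat.exists_prime_and_dvd hm.ne'
  have : Fact p.Prime := ⟨hp⟩
  have hma : m = p ^ m.primeFactorsList.length := by
    refine Nat.eq_prime_pow_of_unique_prime_dvd (by omega) fun {r} hr hrm => ?_
    by_contra hrp
    have : Fact r.Prime := ⟨hr⟩
    obtain ⟨P, R, hPR⟩ := exists_not_dvd (Ne.symm hrp) (hq p hp hpm) (hq r hr hrm)
    obtain ⟨x, hx⟩ := hxm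
    have hPZ : (P : Subgroup G) ≤ center G := fun y hy => by
      by_contra hyZ
      exact not_dvd_index_of_sylow_le R (hPR y hy) (hrm.trans (hdvd y hyZ))
    exact not_dvd_index_of_sylow_le P (hPZ.trans (center_le_cent x)) (hx ▸ hpm)
  generalize m.primeFactorsList.length = a at hma
  have ha : 0 < a := Nat.pos_of_ne_zero (by rintro rfl; rw [pow_zero] at hma; omega)
  have c : Mmn p a n (pPrimeCore p G) :=
    ⟨ha, hn, (Nat.Coprime.coprime_dvd_left hpm hcop).symm, coprime_card_pPrimeCore p G,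
      (hq p hp hpm).exists_card_eq, hma ▸ hcs, hma ▸ hxm, hma ▸ hxmn⟩
  have hmp : m = p := hma.trans (c.pow_eq hnodf)
  subst hmp
  refine ⟨hp, c.dvd_sub_one hnodf, ⟨centralizer (pPrimeCore m G : Set G), inferInstance, ?_,
    c.index_D_eq hnodf, ⟨⟨fun u v => Subtype.ext (mem_cent.1 (c.D_le_cent hnodf v.2 u.2))⟩⟩⟩,
    ⟨pPrimeCore m G, inferInstance, c.hH, c.hi⟩, c.card_commutator hnodf⟩
  ext x
  rw [SetLike.mem_coe, c.mem_D_iff, ← hma]
  rfl

end Cfsg.Agent.S4284
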