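import Cfsg.Statements.S4338
import Cfsg.Agent.PrimeOne.LtFinal

set_option autoImplicit false
open Cfsg Cfsg.Lib.Block Cfsg.Lib.Char

namespace Cfsg.Agent.S4338

/-- Let G be a finite group and p a prime, and suppose the number n of Sylow p-subgroups of G is less than p². Then n is a power of a prime (possibly 1), or p = 13 and n = 144, or p is odd with p + 1 not a power of 2 and n = 1 + p, or p > 3 with p - 1 a power of 2 and n = 1 + (p - 3)p/2, or p > 3 with p + 1 a power of 2 and n = 1 + (p + 3)p/2. -/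
theorem result {G : Type*} [Group G] [Finite G]
    (p : ℕ) [Fact p.Prime] (hn : Nat.card (Sylow p G) < p ^ 2) :
    (∃ q k : ℕ, q.Prime ∧ Nat.card (Sylow p G) = q ^ k) ∨
    (p = 13 ∧ Nat.card (Sylow p G) = 144) ∨
    (p ≠ 2 ∧ (¬ ∃ k : ℕ, p + 1 = 2 ^ k) ∧ Nat.card (Sylow p G) = 1 + p) ∨
    (3 < p ∧ (∃ k : ℕ, p = 2 ^ k + 1) ∧ 2 * Nat.card (Sylow p G) = 2 + (p - 3) * p) ∨
    (3 < p ∧ (∃ k : ℕ, p + 1 = 2 ^ k) ∧ 2 * Nat.card (Sylow p G) = 2 + (p + 3) * p) := by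
  have hp : p.Prime := Fact.out
  by_cases h1 : Nat.card (Sylow p G) = 1
  · exact Or.inl ⟨2, 0, Nat.prime_two, h1⟩
  by_cases h2 : IsPrimePow (Nat.card (Sylow p G))
  · obtain ⟨q, k, hq, -, h⟩ := (isPrimePow_nat_iff _).1 h2
    exact Or.inl ⟨q, k, hq, h.symm⟩
  obtain ⟨S, _, _, hS, h3⟩ := Cfsg.Lib.PrimeOne.exists_simple_card_sylow rfl h1 h2 fun m hm h3 =>
    Cfsg.Lib.PrimeOne.Lt.eq_one_or (card_sylow_modEq_one p G) hn
      (h3.trans (Nat.mod_eq_of_lt hp.one_lt).symm) (Nat.dvd_of_mem_divisors hm)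
  obtain ⟨h4, h5⟩ := Cfsg.Lib.PrimeOne.Lt.res S hS
    (Cfsg.Lib.PrimeOne.not_comm_of_card_sylow (h3 ▸ h1)) (by
      by_contra h4
      exact h1 (h3 ▸ Cfsg.Lib.PrimeOne.Lt.card_sylow_eq_one h4)) (h3 ▸ hn)
  rw [h3] at h5
  right
  rcases h5 with ⟨h, -⟩ | ⟨m, h, -, h', -⟩ | ⟨m, h, -, h', -⟩ | ⟨h, h', -⟩
  · refine Or.inr (Or.inl ⟨by omega, fun ⟨k, hk⟩ => h2 ?_, by omega⟩)
    rw [h, hk]
    exact Nat.prime_two.isPrimePow.pow (by rintro rfl; omega)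
  · refine Or.inr (Or.inr (Or.inl ⟨h4, ⟨m, h⟩, ?_⟩))
    obtain ⟨q, rfl⟩ : ∃ q, p = q + 3 := ⟨p - 3, by omega⟩
    rw [h', show q + 3 - 1 = q + 2 from rfl, show q + 3 - 2 = q + 1 from rfl, Nat.add_sub_cancel]
    ring
  · exact Or.inr (Or.inr (Or.inr ⟨h4, ⟨m, h⟩, by rw [h']; ring⟩))
  · exact Or.inl ⟨h, h'⟩

end Cfsg.Agent.S4338
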