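import Cfsg.Statements.S4340
import Cfsg.Agent.PrimeOne.LtFinal

set_option autoImplicit false
open Cfsg Cfsg.Lib.Block Cfsg.Lib.Char

namespace Cfsg.Agent.S4340

/-- Let S be a finite non-abelian simple group and p a prime dividing its order. Then S has fewer than p² Sylow p-subgroups if and only if one of the following holds: S is isomorphic to PSL(2, p); or p = 13 and S is isomorphic to PSL(3, 3); or p > 3, p - 1 is a power of 2 and S is isomorphic to PSL(2, p - 1); or p > 3, p + 1 is a power of 2 and S is isomorphic to PSL(2, p + 1). -/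
theorem result {S : Type*} [Group S] [Finite S] [IsSimpleGroup S]
    (hS : ¬ IsMulCommutative S) (p : ℕ) [Fact p.Prime] (hp : p ∣ Nat.card S) :
    Nat.card (Sylow p S) < p ^ 2 ↔
      ((∃ (F : Type) (_ : Field F) (_ : Fintype F), Fintype.card F = p ∧
          Nonempty (S ≃* Matrix.ProjectiveSpecialLinearGroup (Fin 2) F)) ∨
       (p = 13 ∧ ∃ (F : Type) (_ : Field F) (_ : Fintype F), Fintype.card F = 3 ∧
          Nonempty (S ≃* Matrix.ProjectiveSpecialLinearGroup (Fin 3) F)) ∨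
       (3 < p ∧ (∃ k : ℕ, p = 2 ^ k + 1) ∧ ∃ (F : Type) (_ : Field F) (_ : Fintype F), Fintype.card F = p - 1 ∧
          Nonempty (S ≃* Matrix.ProjectiveSpecialLinearGroup (Fin 2) F)) ∨
       (3 < p ∧ (∃ k : ℕ, p + 1 = 2 ^ k) ∧ ∃ (F : Type) (_ : Field F) (_ : Fintype F), Fintype.card F = p + 1 ∧
          Nonempty (S ≃* Matrix.ProjectiveSpecialLinearGroup (Fin 2) F))) := by
  have hp' : p.Prime := Fact.out
  have h2 := hp'.two_le
  constructor
  · intro hn
    obtain ⟨h3, h⟩ := Cfsg.Lib.PrimeOne.Lt.res S inferInstance hS hp hn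
    rcases h with ⟨-, h⟩ | ⟨m, h, -, -, h'⟩ | ⟨m, h, -, -, h'⟩ | ⟨h, -, h'⟩
    · exact Or.inl ⟨ZMod p, inferInstance, inferInstance, ZMod.card p, h⟩
    · obtain ⟨F, _, _, hF, -⟩ := Cfsg.Lib.PrimeOne.exists_field_two_pow (m := m)
        (by rintro rfl; omega)
      exact Or.inr (Or.inr (Or.inl ⟨h3, ⟨m, h⟩, F, _, _, by omega, h' F hF⟩))
    · obtain ⟨F, _, _, hF, -⟩ := Cfsg.Lib.PrimeOne.exists_field_two_pow (m := m)
        (by rintro rfl; omega)
      exact Or.inr (Or.inr (Or.inr ⟨h3, ⟨m, h⟩, F, _, _, by omega, h' F hF⟩))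
    · haveI : Fact (Nat.Prime 3) := ⟨Nat.prime_three⟩
      exact Or.inr (Or.inl ⟨h, ZMod 3, inferInstance, inferInstance, ZMod.card 3,
        h' _ (ZMod.card 3)⟩)
  have hm := card_sylow_modEq_one p S
  have key : ∀ (F : Type) [Field F] [Fintype F],
      (S ≃* Matrix.ProjectiveSpecialLinearGroup (Fin 2) F) → ∀ {m : ℕ},
      Fintype.card F * (Fintype.card F - 1) * (Fintype.card F + 1) = p * m →
      Nat.card (Sylow p S) ∣ m := fun F _ _ e m h => by
    have h1 := Cfsg.Lib.Class.gcd_mul_card_PSL2 (F := F)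
    rw [← Nat.card_congr e.toEquiv, Nat.card_eq_fintype_card (α := F), h] at h1
    obtain ⟨P⟩ : Nonempty (Sylow p S) := inferInstance
    refine Nat.Coprime.dvd_of_dvd_mul_left ?_
      (h1 ▸ (P.card_dvd_index.trans (Subgroup.index_dvd_card _)).mul_left _)
    exact ((Nat.Prime.coprime_iff_not_dvd hp').2 (not_dvd_card_sylow p S)).symm
  rintro (⟨F, _, _, hF, ⟨e⟩⟩ | ⟨rfl, F, _, _, hF, ⟨e⟩⟩ | ⟨h3, -, F, _, _, hF, ⟨e⟩⟩ |
    ⟨h3, -, F, _, _, hF, ⟨e⟩⟩)
  · obtain ⟨q, rfl⟩ : ∃ q, p = q + 2 := ⟨p - 2, by omega⟩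
    have := Nat.le_of_dvd (by positivity) (key F e (m := (q + 1) * (q + 3)) (by
      rw [hF, show q + 2 - 1 = q + 1 from rfl]; ring))
    nlinarith
  · have h4 := Cfsg.Lib.PrimeOne.Lt.card_sylow_dvd (p := 13) (G := S) (m := 432)
      (by rw [Nat.card_congr e.toEquiv, Cfsg.Lib.Ngrp.card_psl33 F hF])
    obtain ⟨d, hd⟩ := h4
    by_contra h5
    have h6 : d ≤ 2 := by
      by_contra h6
      have := Nat.mul_le_mul (not_lt.1 h5) (not_le.1 h6)
      omega
    rw [Nat.ModEq] at hm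
    interval_cases d <;> omega
  · obtain ⟨q, rfl⟩ : ∃ q, p = q + 3 := ⟨p - 3, by omega⟩
    have := Nat.le_of_dvd (by positivity) (key F e (m := (q + 1) * (q + 2)) (by
      rw [hF, show q + 3 - 1 = q + 2 from rfl, show q + 2 - 1 = q + 1 from rfl]; ring))
    nlinarith
  · obtain ⟨d, hd⟩ := key F e (m := (p + 1) * (p + 2)) (by rw [hF, Nat.add_sub_cancel]; ring)
    have h4 : 2 ≤ d := (Cfsg.Lib.PrimeOne.Lt.two_or_le (c := p + 3)
      (hp'.five_le_of_ne_two_of_ne_three (by omega) (by omega)) hm (by rw [← hd]; ring)).elim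
      Eq.ge fun h => by omega
    have := Nat.mul_le_mul_left (Nat.card (Sylow p S)) h4
    nlinarith

end Cfsg.Agent.S4340
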