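import Cfsg.Statements.S4348
import Cfsg.Agent.Solv.SylowNumber
import Cfsg.Agent.Solv.Cores

set_option autoImplicit false
open Cfsg

namespace Cfsg.Agent.S4348

open Cfsg.Lib.Solv

/-- Let G be a finite group, p a prime and P a Sylow p-subgroup of G, and let O_p(G) be the largest normal p-subgroup of G. If P/O_p(G) is cyclic, then some element of p-power order of G lies in exactly one Sylow p-subgroup. -/
theorem result {G : Type*} [Group G] [Finite G]
    (p : ℕ) [Fact p.Prime] (P : Sylow p G)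
    [hn : ((Cfsg.pCore p G).subgroupOf (P : Subgroup G)).Normal]
    (hc : IsCyclic ((P : Subgroup G) ⧸ (Cfsg.pCore p G).subgroupOf (P : Subgroup G))) :
    ∃ x : G, (∃ k : ℕ, orderOf x = p ^ k) ∧ ∃! Q : Sylow p G, x ∈ Q := by
  obtain ⟨y, hy⟩ := hc.exists_generator
  obtain ⟨x, rfl⟩ := QuotientGroup.mk_surjective y
  obtain ⟨k, hk⟩ := IsPGroup.iff_orderOf.1 P.2 x
  refine ⟨x, ⟨k, by rw [Subgroup.orderOf_coe, hk]⟩, P, x.2, fun Q hQ => ?_⟩
  have hle : (P : Subgroup G) ≤ Q := by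
    intro z hz
    obtain ⟨n, hn⟩ := hy ((⟨z, hz⟩ : (P : Subgroup G)) : _ ⧸ (pCore p G).subgroupOf (P : Subgroup G))
    simp only at hn
    rw [← QuotientGroup.mk_zpow, QuotientGroup.eq] at hn
    have h1 : ((x : G) ^ n)⁻¹ * z ∈ (Q : Subgroup G) := pCore_le_sylow Q hn
    simpa using (Q : Subgroup G).mul_mem ((Q : Subgroup G).zpow_mem hQ n) h1
  exact Sylow.ext (P.3 Q.2 hle)

end Cfsg.Agent.S4348
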