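import Cfsg.Statements.S4349
import Cfsg.Agent.Perm.SymSylow

set_option autoImplicit false
open Cfsg

namespace Cfsg.Agent.S4349

open Equiv Equiv.Perm MulAction Cfsg.Lib.Perm.SymSyl

section

universe u

set_option linter.unusedSectionVars false

variable {α : Type u} [Fintype α] [DecidableEq α]

theorem half_eq {x : Perm α} {a : α} {i j : ℤ} (hi : (x ^ i) ((x ^ i) a) = a)
    (hj : (x ^ j) ((x ^ j) a) = a) (hi' : (x ^ i) a ≠ a) (hj' : (x ^ j) a ≠ a) :
    (x ^ i) a = (x ^ j) a := by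
  have key : ∀ n : ℤ, (x ^ n) a = a ↔ (period x a : ℤ) ∣ n := fun n =>
    zpow_smul_eq_iff_period_dvd (g := x) (a := a)
  rw [← mul_apply, ← zpow_add, key] at hi hj
  rw [Ne, key] at hi' hj'
  obtain ⟨s, hs⟩ := hi
  obtain ⟨t, ht⟩ := hj
  have hs' : Odd s := Int.not_even_iff_odd.mp fun ⟨r, hr⟩ => hi' ⟨r, by
    rw [hr, mul_add] at hs; omega⟩
  have ht' : Odd t := Int.not_even_iff_odd.mp fun ⟨r, hr⟩ => hj' ⟨r, by
    rw [hr, mul_add] at ht; omega⟩
  obtain ⟨r, hr⟩ := hs'.sub_odd ht'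
  have h : (x ^ (i - j)) a = a := (key _).mpr ⟨r, by
    have : (period x a : ℤ) * s - period x a * t = period x a * r + period x a * r := by
      rw [← mul_sub, hr, mul_add]
    omega⟩
  conv_rhs => rw [← h, ← mul_apply, ← zpow_add, add_sub_cancel]

theorem fix_of_odd {x : Perm α} (hx : ∃ k : ℕ, orderOf x = 2 ^ k) {a : α} {n : ℤ} (hn : Odd n)
    (h : (x ^ n) a = a) : x a = a := by
  obtain ⟨k, hk⟩ := hx
  have h1 := (zpow_smul_eq_iff_period_dvd (g := x) (a := a)).mp h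
  obtain ⟨j, -, hj⟩ := (Nat.dvd_prime_pow Nat.prime_two).mp (hk ▸ period_dvd_orderOf x a)
  refine period_eq_one_iff (m := x).mp ?_
  rcases j with _ | j
  · exact hj
  · refine absurd (Dvd.dvd.trans ?_ h1) (Int.not_even_iff_odd.mpr hn ∘ even_iff_two_dvd.mpr)
    rw [hj]
    exact ⟨2 ^ j, by push_cast; ring⟩

/-- The condition on cycles. -/
structure Good (x : Perm α) : Prop where
  ord : ∃ k : ℕ, orderOf x = 2 ^ k
  fix : ∀ a b c, x a = a → x b = b → x c = c → a = b ∨ a = c ∨ b = c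
  cyc : ∀ a b, x a ≠ a → (∀ n : ℤ, (x ^ n) a = a ↔ (x ^ n) b = b) → x.SameCycle a b

theorem zpow_comm {x σ : Perm α} (h : ∀ a, x (σ a) = σ (x a)) (n : ℤ) (a : α) :
    (x ^ n) (σ a) = σ ((x ^ n) a) :=
  DFunLike.congr_fun ((show Commute x σ from Equiv.ext h).zpow_left n).eq a

theorem Good.half {x σ : Perm α} (hx : Good x) (hσ : ∀ a, σ (σ a) = a)
    (h : ∀ a, x (σ a) = σ (x a)) (hfix : ∀ a b, σ a = a → σ b = b → a = b) {a : α}
    (ha : x a ≠ a) : ∃ i : ℤ, σ a = (x ^ i) a ∧ (x ^ i) ((x ^ i) a) = a ∧ (x ^ i) a ≠ a := by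
  obtain ⟨i, hi⟩ := hx.cyc a (σ a) ha fun n => by rw [zpow_comm h, σ.injective.eq_iff]
  refine ⟨i, hi.symm, by rw [hi, zpow_comm h, hi, hσ], fun h1 => ?_⟩
  rw [hi] at h1
  exact ha (hfix _ _ (by rw [← h, h1]) h1)

theorem Good.unique {x σ τ : Perm α} (hx : Good x) (hσ : ∀ a, σ (σ a) = a)
    (h : ∀ a, x (σ a) = σ (x a)) (hfix : ∀ a b, σ a = a → σ b = b → a = b)
    (hτ : ∀ a, τ (τ a) = a) (h' : ∀ a, x (τ a) = τ (x a))
    (hfix' : ∀ a b, τ a = a → τ b = b → a = b) : σ = τ := by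
  have key : ∀ {σ τ : Perm α}, (∀ a, x (σ a) = σ (x a)) →
      (∀ a b, σ a = a → σ b = b → a = b) → (∀ a, x (τ a) = τ (x a)) →
      ∀ a, x a = a → σ a = a → τ a = a := fun {σ τ} h hfix h' a ha h1 => by
    by_contra h2
    have h3 : x (τ a) = τ a := by rw [h', ha]
    rcases hx.fix a (τ a) (σ (τ a)) ha h3 (by rw [h, h3]) with h4 | h4 | h4
    · exact h2 h4.symm
    · exact h2 (σ.injective (h4.symm.trans h1.symm))
    · exact h2 (hfix _ _ h4.symm h1)
  ext a
  by_cases ha : x a = a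
  · rcases hx.fix a (σ a) (τ a) ha (by rw [h, ha]) (by rw [h', ha]) with h1 | h1 | h1
    · rw [← h1, key h hfix h' a ha h1.symm]
    · rw [← h1, key h' hfix' h a ha h1.symm]
    · exact h1
  · obtain ⟨i, h1, h2, h3⟩ := hx.half hσ h hfix ha
    obtain ⟨j, h4, h5, h6⟩ := hx.half hτ h' hfix' ha
    rw [h1, h4, half_eq h2 h5 h3 h6]

theorem Good.iff {x σ : Perm α} (hx : Good x) (hσ : ∀ a, σ (σ a) = a)
    (h : ∀ a, x (σ a) = σ (x a)) (hfix : ∀ a b, σ a = a → σ b = b → a = b) {a : α}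
    (ha : x a ≠ a) (n : ℤ) : ((x ^ n) a = a ∨ (x ^ n) a = σ a) ↔ (x ^ (n + n)) a = a := by
  rw [zpow_add, mul_apply]
  constructor
  · rintro (h1 | h1)
    · rw [h1, h1]
    · rw [h1, zpow_comm h, h1, hσ]
  · intro h1
    obtain ⟨i, h2, h3, h4⟩ := hx.half hσ h hfix ha
    exact or_iff_not_imp_left.mpr fun h5 => (half_eq h1 h3 h5 h4).trans h2.symm

theorem toPermHom_eq_iff {σ : Perm α} (hσ : ∀ a, σ (σ a) = a) (k : Subgroup.centralizer {σ})
    {A B : σ.cycleFactorsFinset} {a b : α} (ha : σ a ≠ a) (hA : A.1 = swap a (σ a))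
    (hB : B.1 = swap b (σ b)) : OnCycleFactors.toPermHom σ k A = B ↔
      (k : Perm α) a = b ∨ (k : Perm α) a = σ b := by
  have hk : ∀ x, (k : Perm α) (σ x) = σ ((k : Perm α) x) := fun x =>
    DFunLike.congr_fun (Subgroup.mem_centralizer_singleton_iff.mp k.2) x
  rw [Subtype.ext_iff, OnCycleFactors.coe_toPermHom, hA, hB, ← swap_apply_apply, hk]
  constructor
  · intro h
    by_contra h1
    push Not at h1
    have h2 := DFunLike.congr_fun h ((k : Perm α) a)
    rw [swap_apply_left, swap_apply_of_ne_of_ne h1.1 h1.2, ← hk] at h2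
    exact ha ((k : Perm α).injective h2)
  · rintro (h | h) <;> rw [h]
    rw [hσ, swap_comm]

theorem Good.down {σ : Perm α} (hσ : ∀ a, σ (σ a) = a)
    (hfix : ∀ a b, σ a = a → σ b = b → a = b) (k : Subgroup.centralizer {σ})
    (hx : Good (k : Perm α)) : Good (OnCycleFactors.toPermHom σ k) := by
  have h : ∀ x, (k : Perm α) (σ x) = σ ((k : Perm α) x) := fun x =>
    DFunLike.congr_fun (Subgroup.mem_centralizer_singleton_iff.mp k.2) x
  have hz : ∀ {A B : σ.cycleFactorsFinset} {a b : α}, σ a ≠ a → A.1 = swap a (σ a) →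
      B.1 = swap b (σ b) → ∀ n : ℤ, ((OnCycleFactors.toPermHom σ k ^ n) A = B ↔
      ((k : Perm α) ^ n) a = b ∨ ((k : Perm α) ^ n) a = σ b) := fun ha hA hB n => by
    rw [← map_zpow, toPermHom_eq_iff hσ _ ha hA hB, Subgroup.coe_zpow]
  refine ⟨?_, fun A B C hA hB hC => ?_, fun A B hA hAB => ?_⟩
  · obtain ⟨n, hn⟩ := hx.ord
    rw [Subgroup.orderOf_coe] at hn
    exact ((Nat.dvd_prime_pow Nat.prime_two).mp (hn ▸ orderOf_map_dvd _ k)).imp fun _ h => h.2
  · have key : ∀ {A B : σ.cycleFactorsFinset} {a b : α}, σ a ≠ a → σ b ≠ b → A.1 = swap a (σ a) →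
        B.1 = swap b (σ b) → OnCycleFactors.toPermHom σ k A = A →
        OnCycleFactors.toPermHom σ k B = B → ((k : Perm α) a = a ↔ (k : Perm α) b = b) →
        A = B := fun {A B a b} ha hb ha' hb' hA hB hab => by
      have h1 : a = b ∨ a = σ b → A = B := fun h1 => by
        simpa using (toPermHom_eq_iff hσ 1 ha ha' hb').mpr h1
      by_cases h2 : (k : Perm α) b = b
      · rcases hx.fix a b (σ b) (hab.mpr h2) h2 (by rw [h, h2]) with h3 | h3 | h3
        · exact h1 (Or.inl h3)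
        · exact h1 (Or.inr h3)
        · exact absurd h3.symm hb
      have h3 := mt hab.mp h2
      have h4 : ∀ {A : σ.cycleFactorsFinset} {a : α}, σ a ≠ a → A.1 = swap a (σ a) →
          OnCycleFactors.toPermHom σ k A = A → (k : Perm α) a ≠ a →
          ∀ n : ℤ, ((k : Perm α) ^ (n + n)) a = a := fun ha ha' hA h2 n => by
        rw [← hx.iff hσ h hfix h2, ← hz ha ha' ha']
        exact zpow_apply_eq_self_of_apply_eq_self hA n
      obtain ⟨i, hi⟩ := hx.cyc b a h2 fun n => by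
        rcases Int.even_or_odd n with ⟨m, rfl⟩ | hn
        · exact iff_of_true (h4 hb hb' hB h2 m) (h4 ha ha' hA h3 m)
        · exact iff_of_false (h2 ∘ fix_of_odd hx.ord hn) (h3 ∘ fix_of_odd hx.ord hn)
      exact h1 (hi ▸ (hx.iff hσ h hfix h2 i).mpr (h4 hb hb' hB h2 i))
    obtain ⟨a, ha, ha'⟩ := eq_swap_of_mem_cycleFactors hσ A.2
    obtain ⟨b, hb, hb'⟩ := eq_swap_of_mem_cycleFactors hσ B.2
    obtain ⟨c, hc, hc'⟩ := eq_swap_of_mem_cycleFactors hσ C.2
    have h1 := key ha hb ha' hb' hA hB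
    have h2 := key ha hc ha' hc' hA hC
    have h3 := key hb hc hb' hc' hB hC
    tauto
  · obtain ⟨a, ha, ha'⟩ := eq_swap_of_mem_cycleFactors hσ A.2
    obtain ⟨b, hb, hb'⟩ := eq_swap_of_mem_cycleFactors hσ B.2
    have hB : OnCycleFactors.toPermHom σ k B ≠ B := fun h1 => hA (by
      simpa using (hAB 1).mpr (by simpa using h1))
    have h1 : (k : Perm α) a ≠ a := fun h1 =>
      hA ((toPermHom_eq_iff hσ k ha ha' ha').mpr (Or.inl h1))
    have h2 : (k : Perm α) b ≠ b := fun h2 =>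
      hB ((toPermHom_eq_iff hσ k hb hb' hb').mpr (Or.inl h2))
    obtain ⟨i, hi⟩ := hx.cyc a b h1 fun n => by
      rcases Int.even_or_odd n with ⟨m, rfl⟩ | hn
      · rw [← hx.iff hσ h hfix h1, ← hx.iff hσ h hfix h2, ← hz ha ha' ha', ← hz hb hb' hb', hAB]
      · exact iff_of_false (h1 ∘ fix_of_odd hx.ord hn) (h2 ∘ fix_of_odd hx.ord hn)
    exact ⟨i, (hz ha ha' hb' i).mpr (Or.inl hi)⟩

end

universe u in
theorem sylow_eq (n : ℕ) : ∀ {α : Type u} [Fintype α] [DecidableEq α], Fintype.card α = n →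
    ∀ {x : Perm α}, Good x → ∀ P Q : Sylow 2 (Perm α), x ∈ P → x ∈ Q → P = Q := by
  induction n using Nat.strong_induction_on with
  | _ n ih =>
  intro α _ _ hn x hx P Q hP hQ
  rcases Nat.eq_zero_or_pos n with rfl | h0
  · have := Fintype.card_eq_zero_iff.mp hn
    exact Sylow.ext (Subsingleton.elim _ _)
  obtain ⟨σ, hσ⟩ := exists_mat P
  obtain ⟨τ, hτ⟩ := exists_mat Q
  obtain rfl := hx.unique hσ.inv (hσ.comm x hP) hσ.fix hτ.inv (hτ.comm x hQ) hτ.fix
  have hC : ∀ {T : Sylow 2 (Perm α)}, Mat (T : Subgroup (Perm α)) σ →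
      (T : Subgroup (Perm α)) ≤ Subgroup.centralizer {σ} := fun h t ht =>
    Subgroup.mem_centralizer_singleton_iff.mpr (Equiv.ext (h.comm t ht))
  have hs := surjective_toPermHom hσ.inv
  have h1 := two_mul_card_cycleFactors_le σ
  have h2 := ih _ (by rw [Fintype.card_coe]; omega) rfl
    (Good.down hσ.inv hσ.fix ⟨x, hC hσ hP⟩ hx) ((P.subtype (hC hσ)).mapSurjective hs)
    ((Q.subtype (hC hτ)).mapSurjective hs) ⟨_, hP, rfl⟩ ⟨_, hQ, rfl⟩
  have h3 : ∀ {T : Sylow 2 (Perm α)} (h : Mat (T : Subgroup (Perm α)) σ),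
      (((T.subtype (hC h)).mapSurjective hs : Subgroup _).comap
        (OnCycleFactors.toPermHom σ)).map (Subgroup.subtype _) = T := fun {T} h => by
    rw [Sylow.coe_mapSurjective, Subgroup.comap_map_eq_self, Sylow.coe_subtype,
      Subgroup.map_subgroupOf_eq_of_le (hC h)]
    exact fun k hk => h.mem _ ((mem_ker_toPermHom_iff h.inv h.fix k).mp hk)
  exact Sylow.ext (by rw [← h3 hσ, ← h3 hτ, h2])

section

variable {α : Type*} [Fintype α] [DecidableEq α]

theorem swap_mem {x : Perm α} (hx : ∃ k : ℕ, orderOf x = 2 ^ k) {P : Sylow 2 (Perm α)}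
    (hP : ∀ Q : Sylow 2 (Perm α), x ∈ Q → Q = P) {σ : Perm α} (hσ : ∀ a, σ (σ a) = a)
    (hc : x * σ = σ * x) (a : α) : swap a (σ a) ∈ (P : Subgroup (Perm α)) := by
  have h1 : IsPGroup 2 (E σ hσ) := fun π =>
    ⟨1, Subtype.ext (Equiv.ext fun x => apply_apply_of_E hσ π.2 x)⟩
  have h2 : ∀ t : Perm α, t * σ = σ * t → ∀ π ∈ E σ hσ, t * π * t⁻¹ ∈ E σ hσ := by
    intro t ht π hπ y
    simp only [Perm.mul_apply]
    rcases hπ (t⁻¹ y) with h | h <;> rw [h]
    · exact Or.inl (by simp)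
    · exact Or.inr (by rw [← mul_apply t, ht]; simp)
  have h3 : Subgroup.zpowers x ≤ Subgroup.normalizer (E σ hσ : Set (Perm α)) := by
    rw [Subgroup.zpowers_le, Subgroup.mem_normalizer_iff]
    refine fun π => ⟨h2 x hc π, fun h => ?_⟩
    simpa [mul_assoc] using h2 x⁻¹ (show Commute x σ from hc).inv_left.eq _ h
  obtain ⟨k, hk⟩ := hx
  obtain ⟨Q, hQ⟩ := ((IsPGroup.of_card (p := 2) (n := k) (G := Subgroup.zpowers x)
    (by rw [Nat.card_zpowers, hk])).to_sup_of_normal_right' h1 h3).exists_le_sylow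
  rw [← hP Q (hQ (Subgroup.mem_sup_left (Subgroup.mem_zpowers x)))]
  exact hQ (Subgroup.mem_sup_right (swap_E hσ a))

theorem not_two_swaps {P : Sylow 2 (Perm α)} {a b c : α} (hab : a ≠ b) (hac : a ≠ c) (hbc : b ≠ c)
    (h1 : swap a b ∈ (P : Subgroup (Perm α))) (h2 : swap a c ∈ (P : Subgroup (Perm α))) :
    False := by
  obtain ⟨k, hk⟩ := (IsPGroup.iff_orderOf.mp P.isPGroup') ⟨_, mul_mem h1 h2⟩
  rw [← Subgroup.orderOf_coe, (isThreeCycle_swap_mul_swap_same hab hac hbc).orderOf] at hk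
  have := (Nat.prime_three.eq_one_or_self_of_dvd 2 (by
    rcases k with _ | k
    · omega
    · exact ⟨2 ^ k, by rw [hk, pow_succ']⟩))
  omega

theorem main {x : Perm α} (hx : ∃ k : ℕ, orderOf x = 2 ^ k) :
    (∃! P : Sylow 2 (Perm α), x ∈ P) ↔
      (Fintype.card α ≤ x.support.card + 2 ∧ x.cycleType.Nodup) := by
  rw [cycleType_def, Multiset.nodup_map_iff_inj_on x.cycleFactorsFinset.nodup,
    ← Finset.card_add_card_compl x.support, add_le_add_iff_left]
  constructor
  · rintro ⟨P, -, hP⟩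
    constructor
    · by_contra h
      obtain ⟨a, b, c, ha, hb, hc, hab, hac, hbc⟩ := Finset.two_lt_card_iff.mp (not_le.mp h)
      rw [Finset.mem_compl, notMem_support] at ha hb hc
      have h1 := swap_mem hx hP (swap_apply_self a b) (by rw [mul_swap_eq_swap_mul, ha, hb]) a
      have h2 := swap_mem hx hP (swap_apply_self a c) (by rw [mul_swap_eq_swap_mul, ha, hc]) a
      rw [swap_apply_left] at h1 h2
      exact not_two_swaps hab hac hbc h1 h2
    · intro c hc d hd h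
      by_contra hcd
      obtain ⟨a⟩ := Basis.nonempty x
      let τ : OnCycleFactors.range_toPermHom' x := ⟨swap ⟨c, hc⟩ ⟨d, hd⟩, fun e => by
        rcases eq_or_ne e ⟨c, hc⟩ with rfl | h1
        · rw [swap_apply_left]; exact h.symm
        rcases eq_or_ne e ⟨d, hd⟩ with rfl | h2
        · rw [swap_apply_right]; exact h
        · rw [swap_apply_of_ne_of_ne h1 h2]⟩
      have h1 : a.ofPermHom τ * a.ofPermHom τ = 1 := by
        rw [← map_mul, show τ * τ = 1 from Subtype.ext (swap_mul_self _ _), map_one]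
      have h2 : Commute x (a.ofPermHom τ) :=
        (Subgroup.mem_centralizer_singleton_iff.mp (a.ofPermHom_mem_centralizer τ)).symm
      have h3 : a.ofPermHom τ (a ⟨c, hc⟩) = a ⟨d, hd⟩ := by
        rw [Basis.ofPermHom_apply, a.ofPermHomFun_apply_of_cycleOf_mem τ (a.mem_support_self _)
          (m := 0) rfl]
        simp [τ]
      have h4 : Commute x d := (self_mem_cycle_factors_commute hd).symm
      have h5 := Finset.disjoint_left.mp
        (x.cycleFactorsFinset_pairwise_disjoint hc hd hcd).disjoint_support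
      have h6 := a.mem_support_self ⟨c, hc⟩
      have h7 := a.mem_support_self ⟨d, hd⟩
      have h8 := swap_mem hx hP (DFunLike.congr_fun h1) h2.eq (a ⟨c, hc⟩)
      have h9 := swap_mem hx hP (σ := d * a.ofPermHom τ * d⁻¹) (DFunLike.congr_fun
        (show d * a.ofPermHom τ * d⁻¹ * (d * a.ofPermHom τ * d⁻¹) = 1 by
          rw [conj_mul, h1, mul_one, mul_inv_cancel]))
        ((h4.mul_right h2).mul_right h4.inv_right).eq (a ⟨c, hc⟩)
      rw [mul_apply, mul_apply, Perm.inv_eq_iff_eq.mpr (notMem_support.mp (h5 h6)).symm] at h9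
      rw [h3] at h8 h9
      exact not_two_swaps (fun h => h5 h6 (by rw [h]; exact h7))
        (fun h => h5 h6 (by rw [h]; exact apply_mem_support.mpr h7)) (mem_support.mp h7).symm h8 h9
  · rintro ⟨h1, h2⟩
    obtain ⟨k, hk⟩ := hx
    obtain ⟨P, hP⟩ := (IsPGroup.of_card (p := 2) (n := k) (G := Subgroup.zpowers x)
      (by rw [Nat.card_zpowers, hk])).exists_le_sylow
    refine ⟨P, hP (Subgroup.mem_zpowers x), fun Q hQ => sylow_eq _ rfl ⟨⟨k, hk⟩, ?_, ?_⟩ Q P hQ
      (hP (Subgroup.mem_zpowers x))⟩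
    · intro a b c ha hb hc
      by_contra h
      push Not at h
      refine h1.not_gt (Finset.two_lt_card_iff.mpr ⟨a, b, c, ?_, ?_, ?_, h⟩) <;> simpa
    · intro a b ha h
      have hb : x b ≠ b := fun hb => ha (by simpa using (h 1).mpr (by simpa using hb))
      have key : ∀ {a : α}, x a ≠ a → ∀ n : ℕ, x.cycleOf a ^ n = 1 ↔ (x ^ n) a = a :=
        fun {a} ha n => by
          rw [(isCycle_cycleOf x ha).pow_eq_one_iff' (x := a) (by rwa [cycleOf_apply_self]),
            cycleOf_pow_apply_self]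
      have h3 := h2 _ (cycleOf_mem_cycleFactorsFinset_iff.mpr (mem_support.mpr ha)) _
        (cycleOf_mem_cycleFactorsFinset_iff.mpr (mem_support.mpr hb)) (by
          simp only [Function.comp]
          rw [← (isCycle_cycleOf x ha).orderOf, ← (isCycle_cycleOf x hb).orderOf,
            orderOf_eq_orderOf_iff]
          intro n
          rw [key ha, key hb, ← zpow_natCast, h])
      rw [← mem_support_cycleOf_iff' ha, h3, mem_support_cycleOf_iff' hb]

end


/-- Let n ≥ 2 and let x be an element of 2-power order of the symmetric group of degree n. Then x lies in exactly one Sylow 2-subgroup if and only if x has at most two fixed points and the nontrivial cycles of x have pairwise different lengths. -/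
theorem result (n : ℕ) (hn : 2 ≤ n)
    (x : Equiv.Perm (Fin n)) (hx : ∃ k : ℕ, orderOf x = 2 ^ k) :
    (∃! P : Sylow 2 (Equiv.Perm (Fin n)), x ∈ P) ↔ (n ≤ x.support.card + 2 ∧ x.cycleType.Nodup) := by
  simpa only [Fintype.card_fin] using main hx

end Cfsg.Agent.S4349
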