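import Cfsg.Statements.S4351
import Cfsg.Agent.CITCor.CNGen
import Cfsg.Agent.Inst.CITStrong

set_option autoImplicit false
open Cfsg

namespace Cfsg.Agent.S4351

/-- Let G be a finite non-solvable group in which the centralizer of every non-identity element is nilpotent. Then G is a non-abelian simple group; or G has a normal subgroup of index 2 isomorphic to PSL(2, 9); or G has a nontrivial normal elementary abelian 2-subgroup N such that G/N is isomorphic to PSL(2, q) for some q = 2ⁿ ≥ 4 or is a simple group of Suzuki type (simple, of the order of a Suzuki group). -/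
theorem result {G : Type*} [Group G] [Finite G] (hG : ¬ Group.IsSolvable G)
    (hCN : ∀ x : G, x ≠ 1 → Group.IsNilpotent (Subgroup.centralizer ({x} : Set G))) :
    (IsSimpleGroup G ∧ ¬ IsMulCommutative G) ∨
    (∃ (N : Subgroup G), N.Normal ∧ N.index = 2 ∧ ∃ (F : Type) (_ : Field F) (_ : Fintype F), Fintype.card F = 9 ∧
        Nonempty (N ≃* Matrix.ProjectiveSpecialLinearGroup (Fin 2) F)) ∨
    (∃ (N : Subgroup G) (_ : N.Normal), N ≠ ⊥ ∧ IsPGroup 2 N ∧ IsMulCommutative N ∧ (∀ x ∈ N, x * x = 1) ∧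
        ((∃ (F : Type) (_ : Field F) (_ : Fintype F), CharP F 2 ∧ 4 ≤ Fintype.card F ∧
            Nonempty (G ⧸ N ≃* Matrix.ProjectiveSpecialLinearGroup (Fin 2) F)) ∨ Cfsg.IsSuzuki (G ⧸ N))) := by
  have h := Lib.CITCor.isCIT_of_cn_of_not_isSolvable hG hCN
  have hO := Lib.Solv.pCore_isPGroup 2 G
  by_cases h0 : pCore 2 G = ⊥
  · rcases Lib.CITCor.simple_or_index_two h hG h0 with ⟨h1, a, b, h2⟩ | ⟨S, h1, h2, -, h3⟩
    · exact Or.inl ⟨h1, fun c => h2 (c.1.1 a b)⟩
    · exact Or.inr (Or.inl ⟨S, h1, h2, h3⟩)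
  have h9 : ∀ {F : Type} [Field F] [Fintype F], Fintype.card F = 9 →
      ∀ x : Matrix.ProjectiveSpecialLinearGroup (Fin 2) F, orderOf x ≠ 9 := fun {F} _ _ hF x hx => by
    have := Fact.mk Nat.prime_three
    have : CharP F 3 := charP_of_card_eq_prime_pow (f := 2) hF
    have := Lib.Known.GL2.orderOf_PSL2_cases 3 x
    rw [hx, hF] at this
    norm_num at this
  refine Or.inr (Or.inr ⟨pCore 2 G, inferInstance, h0, hO, ?_⟩)
  rcases Lib.CITCor.quotient_cases h hG with ⟨F, _, _, hF | ⟨n, hn, hF⟩ | ⟨hp, h7, -⟩, ⟨e⟩⟩ |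
    ⟨F, _, _, hF, ⟨e⟩⟩ | hS | ⟨S, _, hS, -, F, _, _, hF, ⟨e⟩⟩
  · refine absurd (Lib.CITCor.eq_bot_of_nine_dvd h hO ?_ fun x hx => h9 hF (e x) ?_) h0
    · rw [Nat.card_congr e.toEquiv, Lib.Recog.card_psl2_nine hF]; norm_num
    · rw [e.orderOf_eq, hx]
  · have h4 : 4 ≤ Fintype.card F := hF ▸ Nat.pow_le_pow_right (n := 2) (by norm_num) hn
    have : IsSimpleGroup (Matrix.ProjectiveSpecialLinearGroup (Fin 2) F) :=
      Matrix.ProjectiveSpecialLinearGroup.rank_two_simple (by rwa [Nat.card_eq_fintype_card])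
    have := e.isSimpleGroup
    obtain ⟨x, hx⟩ := Lib.CITCor.psl2_exists_three F
    obtain ⟨h1, h2⟩ := Lib.CITCor.isElementaryAbelian_of_isCIT h hO (fun c => hG (by
      have := hO.isNilpotent
      have : Group.IsSolvable (G ⧸ pCore 2 G) := Group.isSolvable_of_comm c.1.1
      exact Group.isSolvable_of_ker_le_range (pCore 2 G).subtype (QuotientGroup.mk' (pCore 2 G))
        (by simp)))
      (by rw [Nat.card_congr e.toEquiv, ← hx]; exact orderOf_dvd_natCard x)
    exact ⟨h1, fun y hy => (sq y).symm.trans (h2 y hy),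
      Or.inl ⟨F, _, _, Lib.Bender.charP_two_of_card (by omega) hF, h4, ⟨e⟩⟩⟩
  · exact absurd (Lib.CITCor.eq_bot_of_quotient_psl2_prime h hO hp h7 e) h0
  · exact absurd (Lib.CITCor.eq_bot_of_quotient_l34 h hO hF e) h0
  · obtain ⟨F, _, _, m, τ, -, -, ⟨M⟩⟩ := Lib.CITCor.exists_szModel hS
    obtain ⟨h1, h2⟩ := Lib.CITCor.isElementaryAbelian_of_szModel h hO M
    exact ⟨h1, h2, Or.inr (Lib.Bender.isSuzuki_of_isoSuzuki hS)⟩
  · refine absurd (Lib.CITCor.eq_bot_of_nine_dvd h hO ?_ fun x hx => ?_) h0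
    · rw [← S.index_mul_card, Nat.card_congr e.toEquiv, Lib.Recog.card_psl2_nine hF]
      exact Dvd.dvd.mul_left (by norm_num) _
    · refine h9 hF (e ⟨x ^ 2, S.sq_mem_of_index_two hS x⟩) ?_
      rw [e.orderOf_eq, ← Subgroup.orderOf_coe, Nat.Coprime.orderOf_pow (by rw [hx]; norm_num), hx]

end Cfsg.Agent.S4351
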