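import Cfsg.Statements.S4357
import Mathlib
import Cfsg.Agent.Known.SL2Unip

set_option autoImplicit false
open Cfsg

namespace Cfsg.Agent.S4357

open Cfsg.Lib.Known Cfsg.Lib.Known.GL2
open scoped Pointwise

/-- Existence of a redundant Sylow subgroup. -/
def Red (p : ℕ) (G : Type*) [Group G] : Prop :=
  ∃ Q : Sylow p G, ∀ x : G, (∃ k : ℕ, orderOf x = p ^ k) → ∃ P : Sylow p G, P ≠ Q ∧ x ∈ P

section
variable {p : ℕ} [hp : Fact p.Prime] {G : Type*} [Group G] [Finite G]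

theorem red_iff (Q : Sylow p G) : Red p G ↔ ∀ x ∈ Q, ∃ P : Sylow p G, P ≠ Q ∧ x ∈ P := by
  constructor
  · rintro ⟨Q', h⟩ x hx
    obtain ⟨g, rfl⟩ := MulAction.exists_smul_eq G Q Q'
    obtain ⟨k, hk⟩ := IsPGroup.iff_orderOf.1 Q.isPGroup' ⟨x, hx⟩
    obtain ⟨P, h1, h2⟩ := h (g * x * g⁻¹) ⟨k, by
      rw [← hk, ← Subgroup.orderOf_coe]; exact (MulAut.conj g).orderOf_eq x⟩
    refine ⟨g⁻¹ • P, fun e => h1 (by rw [← e, smul_inv_smul]), ?_⟩
    change x ∈ ((g⁻¹ • P : Sylow p G) : Subgroup G)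
    rw [Sylow.coe_subgroup_smul, Subgroup.mem_pointwise_smul_iff_inv_smul_mem]
    simpa using (show _ ∈ P.1 from h2)
  · refine fun h => ⟨Q, fun x ⟨k, hk⟩ => ?_⟩
    by_cases hx : x ∈ Q
    · exact h x hx
    · obtain ⟨P, hP⟩ := (isPGroup_zpowers_of_pow (hk ▸ pow_orderOf_eq_one x)).exists_le_sylow
      exact ⟨P, fun e => hx (e ▸ hP (Subgroup.mem_zpowers x)), hP (Subgroup.mem_zpowers x)⟩

omit hp [Finite G] in
theorem mem_smul_of_commute (Q : Sylow p G) {x t : G} (hx : x ∈ Q) (h : x * t = t * x) :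
    x ∈ t • Q := by
  change x ∈ ((t • Q : Sylow p G) : Subgroup G)
  rw [Sylow.coe_subgroup_smul, Subgroup.mem_pointwise_smul_iff_inv_smul_mem]
  simpa [mul_assoc, h] using (show x ∈ Q.1 from hx)

theorem not_red_of_cyclic (Q : Sylow p G) (h : IsCyclic Q.1) : ¬ Red p G := fun hr => by
  obtain ⟨x, hx⟩ := IsCyclic.exists_generator (α := Q.1)
  obtain ⟨P, h1, h2⟩ := (red_iff Q).1 hr x x.2
  refine h1 (Sylow.ext (Q.is_maximal' P.isPGroup' fun y hy => ?_))
  obtain ⟨k, hk⟩ := hx ⟨y, hy⟩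
  exact (show (x : G) ^ k = y from congrArg Subtype.val hk) ▸ zpow_mem h2 k

theorem red_iff_of_central {H : Type*} [Group H] {f : G →* H} (hf : Function.Surjective f)
    (hk : f.ker ≤ Subgroup.center G) : Red p G ↔ Red p H := by
  have := Finite.of_surjective f hf
  have key : ∀ (P : Sylow p G) (x : G) (k : ℕ), x ^ p ^ k = 1 → f x ∈ P.mapSurjective hf → x ∈ P := by
    rintro P x k hx ⟨y, hy, e⟩
    refine mem_sylow_of_mem_normalizer P hx ?_
    rw [show x = y * (y⁻¹ * x) by group]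
    exact mul_mem (Subgroup.le_normalizer hy) (Subgroup.center_le_normalizer _ (hk (by
      rw [MonoidHom.mem_ker, map_mul, map_inv, e, inv_mul_cancel])))
  obtain ⟨Q⟩ : Nonempty (Sylow p G) := inferInstance
  rw [red_iff Q, red_iff (Q.mapSurjective hf)]
  constructor
  · rintro h _ ⟨x, hx, rfl⟩
    obtain ⟨P, h1, h2⟩ := h x hx
    refine ⟨P.mapSurjective hf, fun e => h1 (Sylow.ext (Q.is_maximal' P.isPGroup' fun y hy => ?_)),
      x, h2, rfl⟩
    obtain ⟨k, hk⟩ := exists_pow_eq_one_of_mem Q.isPGroup' hy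
    exact key P y k hk (e ▸ ⟨y, hy, rfl⟩)
  · intro h x hx
    obtain ⟨P, h1, h2⟩ := h (f x) ⟨x, hx, rfl⟩
    obtain ⟨P, rfl⟩ := Sylow.mapSurjective_surjective hf p P
    obtain ⟨k, hk⟩ := exists_pow_eq_one_of_mem Q.isPGroup' hx
    exact ⟨P, fun e => h1 (by rw [e]), key P x k hk h2⟩

end

variable {F : Type*} [Field F] [Fintype F]

theorem not_red_char (p : ℕ) [Fact p.Prime] [CharP F p] : ¬ Red p (SL2 F) := fun hr => by
  obtain ⟨P, h1, h2⟩ := (red_iff ((slLin F).sylowU p)).1 hr _ ((slLin F).u_mem_U 1)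
  obtain ⟨g, hg⟩ := (slLin F).exists_sylow_eq_map p P
  have hc : ∀ a ∈ P.1, ∀ b ∈ P.1, a * b = b * a := by
    rw [hg]
    rintro _ ⟨a, ha, rfl⟩ _ ⟨b, hb, rfl⟩
    rw [← map_mul, ← map_mul, (slLin F).U_comm ha hb]
  refine h1 (Sylow.ext (P.is_maximal' ((slLin F).sylowU p).isPGroup' fun y hy => ?_).symm)
  obtain ⟨k, hk⟩ := exists_pow_eq_one_of_mem P.isPGroup' hy
  refine mem_sylow_of_mem_normalizer _ hk ?_
  rw [Lin2.coe_sylowU, Lin2.normalizer_U, ← (slLin F).conj_mem_B_iff_of_mem_P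
    ((slLin F).U_le_P ((slLin F).u_mem_U 1)) (by simp [Lin2.u_mem_Z_iff]), mul_assoc,
    hc _ h2 _ hy, inv_mul_cancel_left]
  exact (slLin F).U_le_B ((slLin F).u_mem_U 1)

theorem red_two_iff (h2 : (2 : F) ≠ 0) {i : SL2 F} (hi : ((slLin F).ρ i).trace = 0) :
    Red 2 (SL2 F) ↔ ¬ ∃ k, Nat.card (Subgroup.centralizer ({i} : Set (SL2 F))) = 2 ^ k := by
  obtain ⟨Q⟩ : Nonempty (Sylow 2 (SL2 F)) := inferInstance
  have hcard : ∀ {i' : SL2 F}, ((slLin F).ρ i').trace = 0 →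
      Nat.card (Subgroup.centralizer ({i'} : Set (SL2 F))) =
        Nat.card (Subgroup.centralizer ({i} : Set (SL2 F))) := fun h => by
    rcases card_centralizer_of_trace h2 h with h | h <;>
      rcases card_centralizer_of_trace h2 hi with h' | h' <;> omega
  obtain ⟨i, j, h⟩ := exists_syl2Data h2 Q
  rw [← hcard h.trace_i, red_iff Q]
  have hS := isTorus_of_trace h2 h.trace_i
  have hex := exists_not_mem_Z_of_trace h2 h.trace_i
  constructor
  · rintro hr ⟨k, hk⟩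
    have hle : Subgroup.centralizer {i} ≤ Q.1 := fun x hx => h.mem x hx k (by
      rw [← hk]; exact congrArg Subtype.val (pow_card_eq_one' (x := (⟨x, hx⟩ : Subgroup.centralizer {i}))))
    obtain ⟨x, hx⟩ := (isCyclic_centralizer_of_trace h2 h.trace_i).exists_generator
    obtain ⟨P, h1, h3⟩ := hr x (hle x.2)
    have hle' : Subgroup.centralizer {i} ≤ P.1 := fun y hy => by
      obtain ⟨k, hk⟩ := hx ⟨y, hy⟩
      exact (show (x : SL2 F) ^ k = y from congrArg Subtype.val hk) ▸ zpow_mem h3 k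
    have h4 : ((Subgroup.centralizer {i}).subgroupOf P.1).index = 2 := by
      have h5 := ((Subgroup.centralizer {i}).subgroupOf P.1).index_mul_card
      rw [Nat.card_congr (Subgroup.subgroupOfEquivOfLe hle').toEquiv,
        Nat.card_congr (P.equiv Q).toEquiv, h.card_eq h2, inf_eq_right.2 hle] at h5
      exact Nat.eq_of_mul_eq_mul_right Nat.card_pos h5
    have h5 : P.1 ≤ Subgroup.normalizer (Subgroup.centralizer ({i} : Set (SL2 F)) : Set (SL2 F)) :=
      (Subgroup.normal_subgroupOf_iff_le_normalizer hle').1 (Subgroup.normal_of_index_eq_two h4)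
    have h6 : IsPGroup 2
        (Subgroup.normalizer (Subgroup.centralizer ({i} : Set (SL2 F)) : Set (SL2 F))) :=
      IsPGroup.of_card (n := k + 1) (by rw [hS.card_normalizer hex, hk, pow_succ'])
    exact h1 (Sylow.ext ((P.is_maximal' h6 h5).symm.trans (Q.is_maximal' h6 h.le)))
  · intro hn x hx
    obtain ⟨i', hi', hx', k, hk, hk1, hk2⟩ : ∃ i' : SL2 F, ((slLin F).ρ i').trace = 0 ∧
        x ∈ Subgroup.centralizer {i'} ∧ ∃ k ∈ Q.1, k ∈ Subgroup.normalizer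
          (Subgroup.centralizer ({i'} : Set (SL2 F)) : Set (SL2 F)) ∧ k ∉ Subgroup.centralizer {i'} := by
      by_cases hxi : x ∈ Subgroup.centralizer {i}
      · exact ⟨i, h.trace_i, hxi, j, h.j_mem, h.le h.j_mem, h.j_not_mem⟩
      · have h3 := hS.trace_eq_zero_of_mem_normalizer hex (h.le hx) hxi
        refine ⟨x, h3, Subgroup.mem_centralizer_singleton_iff.2 rfl, i, h.i_mem,
          (mem_normalizer_centralizer_iff_SL h2 h3).2 (Or.inr ?_), fun e => hxi ?_⟩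
        · rw [anticomm_of_not_mem h2 h.trace_i (h.le hx) hxi, neg_neg]
        · rw [Subgroup.mem_centralizer_singleton_iff] at e ⊢
          exact e.symm
    rw [hcard h.trace_i, ← hcard hi'] at hn
    obtain ⟨t, ht⟩ : ∃ t : Subgroup.centralizer ({i'} : Set (SL2 F)), ∀ k, t ^ 2 ^ k ≠ 1 := by
      by_contra! h3
      exact hn (IsPGroup.exists_card_eq h3)
    have hS' := isTorus_of_trace h2 hi'
    refine ⟨(t : SL2 F) • Q, fun e => ?_, mem_smul_of_commute Q hx (hS'.comm _ hx' _ t.2)⟩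
    have h3 := IsTorus_conj_eq_inv hS' (exists_not_mem_Z_of_trace h2 hi') hk1 hk2 t.2
    have h4 : k⁻¹ * (t * k * (t : SL2 F)⁻¹) ∈ Q.1 := mul_mem (inv_mem hk)
      ((Subgroup.mem_normalizer_iff.1 (Sylow.smul_eq_iff_mem_normalizer.1 e) k).1 hk)
    rw [← mul_assoc, ← mul_assoc, h3, ← mul_inv_rev, inv_mem_iff, ← sq] at h4
    obtain ⟨m, hm⟩ := exists_pow_eq_one_of_mem Q.isPGroup' h4
    exact ht (m + 1) (Subtype.ext (by rw [Subgroup.coe_pow, pow_succ', pow_mul, hm]; rfl))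

theorem red_SL (p : ℕ) [hp : Fact p.Prime] : Red p (SL2 F) ↔
    (p = 2 ∧ (¬ ∃ k : ℕ, Fintype.card F + 1 = 2 ^ k) ∧ (¬ ∃ k : ℕ, Fintype.card F = 2 ^ k) ∧
        ¬ ∃ k : ℕ, Fintype.card F = 2 ^ k + 1) := by
  obtain ⟨c, hc⟩ := CharP.exists F
  obtain ⟨n, hc', hn⟩ := FiniteField.card F c
  have := Fact.mk hc'
  by_cases hpc : p = c
  · subst hpc
    exact iff_of_false (not_red_char p) fun h => h.2.2.1 ⟨n, h.1 ▸ hn⟩
  by_cases hp2 : p = 2
  · subst hp2
    have h2 : (2 : F) ≠ 0 := fun h => hpc ((Nat.prime_dvd_prime_iff_eq hc' Nat.prime_two).1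
      ((CharP.cast_eq_zero_iff F c 2).1 h)).symm
    rw [red_two_iff h2 trace_w_SL]
    have h3 : ∀ k, 2 ^ k = 1 ∨ 2 ^ k = 2 ∨ 2 ^ k % 4 = 0 := fun k => by
      rcases k with _ | _ | k
      · simp
      · simp
      · right; right; rw [pow_add, pow_add]; omega
    have h1 : 1 < Fintype.card F := Fintype.one_lt_card
    rcases card_centralizer_of_trace h2 trace_w_SL with ⟨h4, h5⟩ | ⟨h4, h5⟩ <;> rw [h5]
    · refine ⟨fun h => ⟨rfl, fun ⟨k, hk⟩ => ?_, fun ⟨k, hk⟩ => ?_, fun ⟨k, hk⟩ => h ⟨k, by omega⟩⟩,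
        fun h ⟨k, hk⟩ => h.2.2.2 ⟨k, by omega⟩⟩ <;> have := h3 k <;> omega
    · refine ⟨fun h => ⟨rfl, h, fun ⟨k, hk⟩ => ?_, fun ⟨k, hk⟩ => h ⟨2, ?_⟩⟩, fun h => h.2.1⟩ <;>
        have := h3 k <;> omega
  · refine iff_of_false ?_ fun h => hp2 h.1
    obtain ⟨Q⟩ : Nonempty (Sylow p (SL2 F)) := inferInstance
    refine not_red_of_cyclic Q ?_
    by_cases hQ : Q.1 = ⊥
    · rw [hQ]; infer_instance
    · obtain ⟨z, -, -, -, h1, h2⟩ := exists_le_centralizer_SL c hp2 hpc Q.isPGroup' hQ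
      have := (centralizer_SL_cases h1).1
      exact Subgroup.isCyclic_of_le h2

/-- Let F be a finite field with q elements, p a prime and G = SL(2, F). Say a Sylow p-subgroup Q of G is redundant when every element of p-power order lies in some Sylow p-subgroup other than Q. Then G has a redundant Sylow p-subgroup if and only if p = 2 and q is not of any of the forms 2ᵏ - 1, 2ᵏ, 2ᵏ + 1. -/
theorem result {F : Type*} [Field F] [Fintype F] (p : ℕ) [Fact p.Prime] :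
    (∃ Q : Sylow p (Matrix.SpecialLinearGroup (Fin 2) F), ∀ x : Matrix.SpecialLinearGroup (Fin 2) F,
        (∃ k : ℕ, orderOf x = p ^ k) → ∃ P : Sylow p (Matrix.SpecialLinearGroup (Fin 2) F), P ≠ Q ∧ x ∈ P) ↔
      (p = 2 ∧ (¬ ∃ k : ℕ, Fintype.card F + 1 = 2 ^ k) ∧ (¬ ∃ k : ℕ, Fintype.card F = 2 ^ k) ∧
        ¬ ∃ k : ℕ, Fintype.card F = 2 ^ k + 1) := by
  exact red_SL p

end Cfsg.Agent.S4357
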