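import Cfsg.Statements.S4358
import Mathlib
import Cfsg.Agent.S4357
import Cfsg.Agent.Known.PGLCount
import Cfsg.Agent.Known.SylHomo

set_option autoImplicit false
open Cfsg

namespace Cfsg.Agent.S4358

open Cfsg.Lib.Known Cfsg.Lib.Known.PGLC Cfsg.Agent.S4357 Matrix

variable {F : Type*} [Field F] {p : ℕ} [hp : Fact p.Prime]

theorem mon_mul {ι : Type*} [Fintype ι] [DecidableEq ι] (σ τ : Equiv.Perm ι) (d e : ι → F) :
    mon σ d * mon τ e = mon (τ * σ) fun i => d i * e (σ i) :=
  Matrix.toLin'.injective (LinearMap.ext fun v => funext fun i => by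
    rw [toLin'_apply, toLin'_apply, ← mulVec_mulVec, mon_mulVec, mon_mulVec, mon_mulVec, mul_assoc]
    rfl)

/-- The standard Sylow subgroup. -/
def Q0 (F : Type*) [Field F] (p : ℕ) [Fact p.Prime] : Subgroup (GL (Fin p) F) where
  carrier := {g | ∃ (k : Fin p) (d : Fin p → F), (∀ i, d i ^ p = 1) ∧
    (g : Matrix (Fin p) (Fin p) F) = mon (Equiv.addRight k) d}
  one_mem' := ⟨0, 1, by simp, by simp [mon_one]⟩
  mul_mem' := by
    rintro a b ⟨k, d, hd, ha⟩ ⟨l, e, he, hb⟩
    refine ⟨k + l, fun i => d i * e (i + k), fun i => by rw [mul_pow, hd, he, mul_one], ?_⟩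
    rw [Units.val_mul, ha, hb, mon_mul]
    congr 1
    ext i
    simp [add_assoc]
  inv_mem' := by
    rintro a ⟨k, d, hd, ha⟩
    have h0 : ∀ i, d i ≠ 0 := fun i h => by simpa [h, (Fact.out : p.Prime).ne_zero] using hd i
    refine ⟨-k, fun i => (d (i - k))⁻¹, fun i => by rw [inv_pow, hd, inv_one], ?_⟩
    refine Units.inv_eq_of_mul_eq_one_right ?_
    rw [ha, mon_mul, ← diagonal_one, ← mon_one]
    congr 1
    · ext i; simp
    · funext i; simp [h0]

theorem card_Q0 {ζ : F} (hζ : IsPrimitiveRoot ζ p) : Nat.card (Q0 F p) = p ^ (p + 1) := by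
  have h1 : Nat.card (rootsOfUnity p F) = p := hζ.card_rootsOfUnity
  have h2 : Nat.card ((Fin p → rootsOfUnity p F) × Fin p) = p ^ (p + 1) := by
    rw [Nat.card_prod, Nat.card_fun, h1]; simp [pow_succ]
  rw [← h2]
  symm
  refine Nat.card_congr (Equiv.ofBijective (fun x => ⟨(isUnit_mon (Equiv.addRight x.2)
    (d := fun i => (((x.1 i).1 : Fˣ) : F)) fun i => (x.1 i).1.ne_zero).unit, x.2, _,
      fun i => (mem_rootsOfUnity' _ _).1 (x.1 i).2, rfl⟩) ⟨fun x y h => ?_, ?_⟩)
  · have h3 : ∀ i, (if i + x.2 = i + y.2 then ((y.1 i).1 : F) else 0) = (x.1 i).1 := fun i => by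
      have h6 : mon (Equiv.addRight x.2) (fun i => (((x.1 i).1 : Fˣ) : F)) =
          mon (Equiv.addRight y.2) fun i => (((y.1 i).1 : Fˣ) : F) :=
        congrArg (fun g : Q0 F p => (g.1 : Matrix (Fin p) (Fin p) F)) h
      simpa [mon] using (congrFun (congrFun h6 i) (i + x.2)).symm
    have h4 : x.2 = y.2 := by
      by_contra h5
      have := h3 0
      rw [if_neg (by simpa using h5)] at this
      exact (x.1 0).1.ne_zero this.symm
    refine Prod.ext (funext fun i => Subtype.ext (Units.ext ?_)) h4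
    rw [← h3, h4, if_pos rfl]
  · rintro ⟨g, k, d, hd, hg⟩
    exact ⟨(fun i => rootsOfUnity.mkOfPowEq (d i) (hd i), k), Subtype.ext (Units.ext hg.symm)⟩

theorem eq_zero_of_rec {k : Fin p} (hk : k ≠ 0) {d w : Fin p → F} (hd : ∀ i, d i ≠ 0) {c : F}
    (h : ∀ i, d i * w (i + k) = c * w i) (h0 : w 0 = 0) : w = 0 := by
  have h1 : ∀ m : ℕ, w (m • k) = 0 := fun m => by
    induction m with
    | zero => simpa using h0
    | succ m ih =>
      have := h (m • k)
      rw [ih, mul_zero, ← succ_nsmul] at this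
      exact (mul_eq_zero.1 this).resolve_left (hd _)
  funext i
  obtain ⟨m, rfl⟩ := mem_multiples_of_prime_card (p := p) (by simp) hk (g' := i)
  exact h1 m

theorem mono_of_normalizer {ζ : F} (hζ : IsPrimitiveRoot ζ p) (hp2 : p ≠ 2) {g : GL (Fin p) F}
    (hg : g ∈ Subgroup.normalizer (Q0 F p : Set (GL (Fin p) F))) {i i' j : Fin p} (hi : i ≠ i')
    (h1 : g.1 i j ≠ 0) (h2 : g.1 i' j ≠ 0) : False := by
  have hz : ζ ≠ 0 := hζ.ne_zero hp.out.ne_zero
  have hz1 : ζ ≠ 1 := hζ.ne_one hp.out.one_lt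
  let e : Fin p → F := fun l => if l = j then ζ else 1
  have he : ∀ l, e l ≠ 0 := fun l => by simp only [e]; split_ifs <;> simp [hz]
  obtain ⟨k, d, hd, hy⟩ := (Subgroup.mem_normalizer_iff.1 hg (isUnit_mon 1 he).unit).1
    ⟨0, e, fun l => by simp only [e]; split_ifs <;> simp [hζ.pow_eq_one], by simp⟩
  have h0 : ∀ i, d i ≠ 0 := fun i h => by simpa [h, hp.out.ne_zero] using hd i
  have h3 : ∀ a l, d a * g.1 (a + k) l = e l * g.1 a l := fun a l => by
    have h4 : mon (Equiv.addRight k) d * g.1 = g.1 * diagonal e := by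
      rw [← hy, ← mon_one]; simp
    have h5 := congrFun (congrFun h4 a) l
    rw [mul_diagonal, mul_comm] at h5
    rw [← h5]
    exact (mon_mulVec (Equiv.addRight k) d (fun b => g.1 b l) a).symm
  by_cases hk : k = 0
  · subst hk
    simp only [add_zero] at h3
    have h4 : ∀ a, g.1 a j ≠ 0 → ∀ l, l ≠ j → g.1 a l = 0 := fun a ha l hl => by
      have h5 := h3 a j
      have h6 := h3 a l
      simp only [e, if_pos, if_neg hl] at h5 h6
      rw [mul_right_cancel₀ ha h5] at h6
      by_contra h7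
      exact hz1 (mul_right_cancel₀ h7 h6)
    have h5 : (Pi.single i (g.1 i' j) - Pi.single i' (g.1 i j)) ᵥ* g.1 = 0 ᵥ* g.1 := by
      funext l
      by_cases hl : l = j
      · simp [sub_vecMul, hl, mul_comm]
      · simp [sub_vecMul, h4 i h1 l hl, h4 i' h2 l hl]
    have h6 := congrFun (vecMul_injective_of_isUnit g.isUnit h5) i
    simp [hi, h2] at h6
  · obtain ⟨l, l', hl, hl', hll⟩ : ∃ l l' : Fin p, l ≠ j ∧ l' ≠ j ∧ l ≠ l' := by
      have h3p : 2 < Fintype.card (Fin p) := by
        have := hp.out.two_le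
        rw [Fintype.card_fin]; omega
      obtain ⟨a, b, c, hab, hac, hbc⟩ := Fintype.two_lt_card_iff.1 h3p
      by_cases ha : a = j
      · exact ⟨b, c, ha ▸ hab.symm, ha ▸ hac.symm, hbc⟩
      by_cases hb : b = j
      · exact ⟨a, c, ha, hb ▸ hbc.symm, hac⟩
      · exact ⟨a, b, ha, hb, hab⟩
    have h4 : ∀ m, m ≠ j → ∀ a, d a * g.1 (a + k) m = 1 * g.1 a m := fun m hm a => by
      simpa [e, hm] using h3 a m
    have h5 := eq_zero_of_rec hk h0 (c := 1)
      (w := fun a => g.1 0 l' * g.1 a l - g.1 0 l * g.1 a l') (fun a => by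
        linear_combination g.1 0 l' * h4 l hl a - g.1 0 l * h4 l' hl' a) (by ring)
    have h6 : g.1 *ᵥ (Pi.single l (g.1 0 l') - Pi.single l' (g.1 0 l)) = g.1 *ᵥ 0 := by
      funext a
      simpa [mulVec_sub, mul_comm] using congrFun h5 a
    have h7 := congrFun (mulVec_injective_of_isUnit g.isUnit h6) l
    have h8 := eq_zero_of_rec hk h0 (w := fun a => g.1 a l') (h4 l' hl') (by simpa [hll] using h7)
    have h9 : g.1 *ᵥ (Pi.single l' 1) = g.1 *ᵥ 0 := by
      funext a
      simpa using congrFun h8 a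
    simpa using congrFun (mulVec_injective_of_isUnit g.isUnit h9) l'

theorem exists_conj {ζ : F} (hζ : IsPrimitiveRoot ζ p) {x : GL (Fin p) F} (hx : x ∈ Q0 F p) :
    ∃ g : GL (Fin p) F, g⁻¹ * x * g ∈ Q0 F p ∧ ∃ i i' j, i ≠ i' ∧ g.1 i j ≠ 0 ∧ g.1 i' j ≠ 0 := by
  obtain ⟨k, d, hd, hx'⟩ := id hx
  have h0 : ∀ i, d i ≠ 0 := fun i h => by simpa [h, hp.out.ne_zero] using hd i
  have hcomm : ∀ g : GL (Fin p) F, x.1 * g.1 = g.1 * x.1 → g⁻¹ * x * g ∈ Q0 F p := fun g h => by
    rwa [mul_assoc, show x * g = g * x from Units.ext h, inv_mul_cancel_left]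
  by_cases hk : k = 0
  · subst hk
    rw [show Equiv.addRight (0 : Fin p) = 1 from by ext; simp, mon_one] at hx'
    by_cases hinj : Function.Injective d
    · have hV : IsUnit (vandermonde d) := (isUnit_iff_isUnit_det _).2
        (det_vandermonde_ne_zero_iff.2 hinj).isUnit
      have : Nontrivial (Fin p) := Fin.nontrivial_iff_two_le.2 hp.out.two_le
      obtain ⟨i, hi⟩ := exists_ne (0 : Fin p)
      refine ⟨hV.unit, ⟨-1, 1, by simp, ?_⟩, i, 0, 0, hi, by simp, by simp⟩
      have h1 : diagonal d * vandermonde d = vandermonde d * mon (Equiv.addRight (-1)) 1 := by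
        ext a b
        rw [diagonal_mul, mul_apply, Finset.sum_eq_single (b + 1)]
        · simp only [vandermonde_apply, mon, of_apply, Equiv.coe_addRight, add_neg_cancel_right,
            if_true, Pi.one_apply, mul_one]
          rw [← pow_succ', Fin.val_add, Fin.val_one', Nat.add_mod_mod, ← pow_eq_pow_mod _ (hd a)]
        · intro c _ hc
          rw [mon, of_apply, if_neg, mul_zero]
          rintro rfl
          simp at hc
        · simp
      rw [Units.val_mul, Units.val_mul, hx', IsUnit.unit_spec, mul_assoc, h1, ← mul_assoc,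
        hV.val_inv_mul, one_mul]
    · obtain ⟨i, j, h1, h2⟩ := Function.not_injective_iff.1 hinj
      have hT : IsUnit (transvection i j (1 : F)) := (isUnit_iff_isUnit_det _).2 (by
        rw [det_transvection_of_ne _ _ h2]; exact isUnit_one)
      refine ⟨hT.unit, hcomm _ ?_, i, j, j, h2, by simp [transvection, h2],
        by simp [transvection, h2]⟩
      rw [hx', IsUnit.unit_spec, transvection, mul_add, add_mul, mul_one, one_mul]
      congr 1
      ext a b
      rw [diagonal_mul, mul_diagonal, single_apply]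
      split_ifs with h
      · rw [← h.1, ← h.2, h1, mul_comm]
      · simp
  by_cases hu : IsUnit (x.1 - 1)
  · refine ⟨hu.unit, hcomm _ (by simp [mul_sub, sub_mul]), 0, k, k, Ne.symm hk, ?_, ?_⟩
    · simp [hx', mon, h0, one_apply_ne (Ne.symm hk)]
    · simp [hx', mon, hk]
  · obtain ⟨w, hw, hw0⟩ : ∃ w, w ≠ 0 ∧ (x.1 - 1) *ᵥ w = 0 := by
      rw [exists_mulVec_eq_zero_iff]
      simpa [isUnit_iff_isUnit_det] using hu
    have h1 : x.1 ^ p = 1 := by
      have h2 : ∀ i, (x.1 ^ p *ᵥ w) i = w i := by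
        rw [sub_mulVec, one_mulVec, sub_eq_zero] at hw0
        have : ∀ m : ℕ, x.1 ^ m *ᵥ w = w := fun m => by
          induction m with
          | zero => simp
          | succ m ih => rw [pow_succ, ← mulVec_mulVec, hw0, ih]
        exact congrFun (this p)
      have h3 : ∀ v i, (x.1 ^ p *ᵥ v) i = (∏ a, d a) * v i := fun v i => by
        have hs : ∀ (m : ℕ) (a : Fin p), (Equiv.addRight k ^ m) a = a + m • k := fun m a => by
          simp
        rw [hx', mon_pow_mulVec, hs, show p • k = 0 by simpa using card_nsmul_eq_zero (x := k),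
          add_zero, Finset.prod_range]
        congr 1
        refine Fintype.prod_bijective (fun m : Fin p => i + (m : ℕ) • k)
          (Finite.injective_iff_bijective.1 fun m m' e => Fin.ext ?_) _ _ fun m => by rw [hs]
        have ho : addOrderOf k = p := addOrderOf_eq_prime
          (by simpa using card_nsmul_eq_zero (x := k)) hk
        exact nsmul_injOn_Iio_addOrderOf (by simp [ho]) (by simp [ho]) (add_left_cancel e)
      obtain ⟨i, hi⟩ := Function.ne_iff.1 hw
      have h4 : ∏ a, d a = 1 := mul_right_cancel₀ hi ((h3 w i).symm.trans ((h2 i).trans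
        (one_mul _).symm))
      refine Matrix.toLin'.injective (LinearMap.ext fun v => funext fun a => ?_)
      rw [toLin'_apply, h3, h4]
      simp
    obtain ⟨d', hd', g, hg⟩ := exists_isConj_diagonal hp.out.pos hζ h1
    have h2 : x.1 * (g⁻¹).1 = (g⁻¹).1 * diagonal d' := hg.units_inv_symm_left.eq.symm
    obtain ⟨i, hi⟩ : ∃ i, (g⁻¹).1 i 0 ≠ 0 := by
      by_contra! h3
      have h9 : (g⁻¹).1 *ᵥ (Pi.single 0 1) = (g⁻¹).1 *ᵥ 0 := by
        funext a
        simpa using h3 a
      simpa using congrFun (mulVec_injective_of_isUnit (g⁻¹).isUnit h9) 0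
    refine ⟨g⁻¹, ⟨0, d', hd', ?_⟩, i, i + k, 0, by simpa using hk, hi, fun h3 => ?_⟩
    · rw [Units.val_mul, Units.val_mul, mul_assoc, h2, ← mul_assoc]
      simp [mon_one]
    · have h5 := congrFun (congrFun h2 i) 0
      rw [mul_diagonal, hx'] at h5
      have h6 := (mon_mulVec (Equiv.addRight k) d (fun b => (g⁻¹).1 b 0) i).symm.trans h5
      simp only [Equiv.coe_addRight, h3, mul_zero] at h6
      exact hi ((mul_eq_zero.1 h6.symm).resolve_right fun h => by
        simpa [h, hp.out.ne_zero] using hd' 0)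

/-- Let p be an odd prime and F a finite field with q elements such that p divides q - 1 but p² does not. Then GL(p, F) has a Sylow p-subgroup Q such that every element of p-power order lies in some Sylow p-subgroup other than Q (a redundant Sylow p-subgroup). -/
theorem result {F : Type*} [Field F] [Fintype F] (p : ℕ) [Fact p.Prime]
    (hp : p ≠ 2) (h1 : p ∣ Fintype.card F - 1) (h2 : ¬ p ^ 2 ∣ Fintype.card F - 1) :
    ∃ Q : Sylow p (Matrix.GeneralLinearGroup (Fin p) F), ∀ x : Matrix.GeneralLinearGroup (Fin p) F,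
      (∃ k : ℕ, orderOf x = p ^ k) → ∃ P : Sylow p (Matrix.GeneralLinearGroup (Fin p) F), P ≠ Q ∧ x ∈ P := by
  have hp' : p.Prime := Fact.out
  have hq : 1 < Fintype.card F := Fintype.one_lt_card
  obtain ⟨ζ, hζ⟩ := exists_prime_orderOf_dvd_card' (G := Fˣ) p (by
    rwa [Nat.card_units, Nat.card_eq_fintype_card])
  have hζ' : IsPrimitiveRoot (ζ : F) p := by
    rw [← hζ, ← orderOf_units]; exact IsPrimitiveRoot.orderOf _
  have hnd : ¬ p ∣ Fintype.card F := fun h => hp'.one_lt.ne' (Nat.dvd_one.1 ((Nat.dvd_add_right h1).1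
    (by rwa [Nat.sub_add_cancel hq.le])))
  have hv : padicValNat p (Fintype.card F - 1) = 1 := by
    have h3 := (padicValNat_dvd_iff_le (p := p) (n := 1) (a := Fintype.card F - 1) (by omega)).1 (by simpa using h1)
    have h4 := mt (padicValNat_dvd_iff_le (p := p) (n := 2) (a := Fintype.card F - 1) (by omega)).2 h2
    omega
  have hv' : ∀ n, padicValNat p (∏ i ∈ Finset.range n, (Fintype.card F ^ (i + 1) - 1)) =
      n + padicValNat p n.factorial := fun n => by
    induction n with
    | zero => simp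
    | succ n ih =>
      have h3 := padicValNat.pow_sub_pow (p := p) (hp'.odd_of_ne_two hp) hq h1 hnd (n := n + 1)
        (by omega)
      rw [one_pow] at h3
      rw [Finset.prod_range_succ, padicValNat.mul (SylH.prod_ne_zero' hq _ _ fun _ => by omega)
        (by have := Nat.one_lt_pow (n := n + 1) (by omega) hq; omega), ih, h3, hv,
        Nat.factorial_succ, padicValNat.mul (by omega) (Nat.factorial_ne_zero n)]
      ring
  let Q : Sylow p (GL (Fin p) F) := Sylow.ofCard (Q0 F p) (by
    have h3 := padicValNat_factorial_mul (p := p) 1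
    rw [mul_one] at h3
    rw [card_Q0 hζ', card_GL_field, SylH.prod_gl_eq, Nat.factorization_def _ hp',
      SylH.val_pow_mul hnd _ (SylH.prod_ne_zero' hq _ _ fun _ => by omega), hv', h3]
    simp)
  refine (red_iff Q).2 fun x hx => ?_
  obtain ⟨g, h3, i, i', j, h4, h5, h6⟩ := exists_conj hζ' hx
  refine ⟨g • Q, fun e => mono_of_normalizer hζ' hp (Sylow.smul_eq_iff_mem_normalizer.1 e)
    h4 h5 h6, ?_⟩
  change x ∈ ((g • Q : Sylow p _) : Subgroup _)
  rw [Sylow.coe_subgroup_smul, Subgroup.mem_pointwise_smul_iff_inv_smul_mem]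
  change _ ∈ Q0 F p
  simpa using h3

end Cfsg.Agent.S4358
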