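import Cfsg.Statements.S4376
import Cfsg.Agent.Known.TabSD
import Cfsg.Agent.Known.G168
import Cfsg.Agent.S4377

set_option autoImplicit false
open Cfsg

namespace Cfsg.Agent.S4376

open Cfsg.Lib.Known GTab Cfsg.Lib.Spor.PK

/-- Entry `i` of a packed table of width `w`. -/
def tb (T w i : ℕ) : ℕ := (T >>> (w * i)) % 2 ^ w

/-- The cyclic group of order `m`. -/
def cyc (m : ℕ) : GTab := ⟨m, fun i j => (i + j) % m, fun i => (m - i) % m⟩

/-- The elementary abelian group of order `m`, a power of two. -/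
def xr (m : ℕ) : GTab := ⟨m, Nat.xor, id⟩

/-- The generalized quaternion group of order `4 m`. -/
def quat (m : ℕ) : GTab := ⟨4 * m, fun i j => (i + j % (2 * m) + i / (2 * m) *
  ((2 * m - 2) * j + m * (j / (2 * m)))) % (2 * m) + 2 * m * ((i / (2 * m) + j / (2 * m)) % 2),
  fun i => cond (Nat.blt i (2 * m)) ((2 * m - i) % (2 * m)) ((i + m) % (2 * m) + 2 * m)⟩

instance okC2 : (cyc 2).Ok := ok_of_chk (by decide +kernel)
theorem solC2 : Group.IsSolvable (cyc 2).El := isSolvable_of_pow _ (p := 2) (k := 1) (by norm_num) rfl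
instance okC3 : (cyc 3).Ok := ok_of_chk (by decide +kernel)
theorem solC3 : Group.IsSolvable (cyc 3).El := isSolvable_of_pow _ (p := 3) (k := 1) (by norm_num) rfl
instance okC4 : (cyc 4).Ok := ok_of_chk (by decide +kernel)
theorem solC4 : Group.IsSolvable (cyc 4).El := isSolvable_of_pow _ (p := 2) (k := 2) (by norm_num) rfl
instance okC7 : (cyc 7).Ok := ok_of_chk (by decide +kernel)
theorem solC7 : Group.IsSolvable (cyc 7).El := isSolvable_of_pow _ (p := 7) (k := 1) (by norm_num) rfl
instance okV4 : (xr 4).Ok := ok_of_chk (by decide +kernel)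
theorem solV4 : Group.IsSolvable (xr 4).El := isSolvable_of_pow _ (p := 2) (k := 2) (by norm_num) rfl
instance okV8 : (xr 8).Ok := ok_of_chk (by decide +kernel)
theorem solV8 : Group.IsSolvable (xr 8).El := isSolvable_of_pow _ (p := 2) (k := 3) (by norm_num) rfl
instance okQ8 : (quat 2).Ok := ok_of_chk (by decide +kernel)
theorem solQ8 : Group.IsSolvable (quat 2).El := isSolvable_of_pow _ (p := 2) (k := 3) (by norm_num) rfl
instance okQ16 : (quat 4).Ok := ok_of_chk (by decide +kernel)
theorem solQ16 : Group.IsSolvable (quat 4).El := isSolvable_of_pow _ (p := 2) (k := 4) (by norm_num) rfl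

/-- The action defining `H1`. -/
def φH1 (k a : ℕ) : ℕ := a * 2 ^ k % 7
/-- The Frobenius group of order 21. -/
noncomputable abbrev H1 : GTab := sd (cyc 7) (cyc 3) φH1
theorem chkH1 : chkSd (cyc 7) (cyc 3) φH1 = true := by decide +kernel
instance okH1 : H1.Ok := ok_sd chkH1
theorem solH1 : Group.IsSolvable H1.El := isSolvable_sd chkH1 solC7 solC3

/-- The action defining `C12`. -/
def φC12 (_ a : ℕ) : ℕ := a
/-- The cyclic group of order 12. -/
noncomputable abbrev C12 : GTab := sd (cyc 4) (cyc 3) φC12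
theorem chkC12 : chkSd (cyc 4) (cyc 3) φC12 = true := by decide +kernel
instance okC12 : C12.Ok := ok_sd chkC12
theorem solC12 : Group.IsSolvable C12.El := isSolvable_sd chkC12 solC4 solC3

/-- The action defining `H2`. -/
def φH2 (_ a : ℕ) : ℕ := a
/-- `C₁₂ × Q₈`. -/
noncomputable abbrev H2 : GTab := sd C12 (quat 2) φH2
theorem chkH2 : chkSd C12 (quat 2) φH2 = true := by decide +kernel
instance okH2 : H2.Ok := ok_sd chkH2
theorem solH2 : Group.IsSolvable H2.El := isSolvable_sd chkH2 solC12 solQ8

/-- The action defining `A4`. -/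
def φA4 (k a : ℕ) : ℕ := tb 0x213013203210 4 (4 * k + a)
/-- The alternating group of degree 4. -/
noncomputable abbrev A4 : GTab := sd (xr 4) (cyc 3) φA4
theorem chkA4 : chkSd (xr 4) (cyc 3) φA4 = true := by decide +kernel
instance okA4 : A4.Ok := ok_sd chkA4
theorem solA4 : Group.IsSolvable A4.El := isSolvable_sd chkA4 solV4 solC3

/-- The action defining `K48`. -/
def φK48 (_ a : ℕ) : ℕ := a
/-- `A₄ × C₄`. -/
noncomputable abbrev K48 : GTab := sd A4 (cyc 4) φK48
theorem chkK48 : chkSd A4 (cyc 4) φK48 = true := by decide +kernel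
instance okK48 : K48.Ok := ok_sd chkK48
theorem solK48 : Group.IsSolvable K48.El := isSolvable_sd chkK48 solA4 solC4

/-- The action defining `H3`. -/
def φH3 (k a : ℕ) : ℕ := a * 2 ^ (k % 12 / 4) * 6 ^ (k / 12) % 7
/-- `C₇ ⋊ (A₄ × C₄)`. -/
noncomputable abbrev H3 : GTab := sd (cyc 7) K48 φH3
theorem chkH3 : chkSd (cyc 7) K48 φH3 = true := by decide +kernel
instance okH3 : H3.Ok := ok_sd chkH3
theorem solH3 : Group.IsSolvable H3.El := isSolvable_sd chkH3 solC7 solK48

/-- The action defining `G1`. -/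
def φG1 (k a : ℕ) : ℕ := tb 0x724163506125347035174260475621302673154013645720543276104163725025346170174235605621473073152640645713203276541063724150346125704235176021475630152673405713642076543210 4 (8 * k + a)
/-- `AΓL(1, 8)`. -/
noncomputable abbrev G1 : GTab := sd (xr 8) H1 φG1
theorem chkG1 : chkSd (xr 8) H1 φG1 = true := by decide +kernel
instance okG1 : G1.Ok := ok_sd chkG1
theorem solG1 : Group.IsSolvable G1.El := isSolvable_sd chkG1 solV8 solH1

/-- The action defining `K2`. -/
def φK2 (_ a : ℕ) : ℕ := a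
/-- `C₃ × Q₁₆`. -/
noncomputable abbrev K2 : GTab := sd (cyc 3) (quat 4) φK2
theorem chkK2 : chkSd (cyc 3) (quat 4) φK2 = true := by decide +kernel
instance okK2 : K2.Ok := ok_sd chkK2
theorem solK2 : Group.IsSolvable K2.El := isSolvable_sd chkK2 solC3 solQ16

/-- The action defining `K4`. -/
def φK4 (k a : ℕ) : ℕ := a * 2 ^ (k / 3) % 3
/-- `C₃ ⋊ (C₃ × Q₁₆)`. -/
noncomputable abbrev K4 : GTab := sd (cyc 3) K2 φK4
theorem chkK4 : chkSd (cyc 3) K2 φK4 = true := by decide +kernel
instance okK4 : K4.Ok := ok_sd chkK4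
theorem solK4 : Group.IsSolvable K4.El := isSolvable_sd chkK4 solC3 solK2

/-- The action defining `G2`. -/
def φG2 (k a : ℕ) : ℕ := a * 2 ^ (k / 3 % 3) * 6 ^ (k / 9) % 7
/-- `C₂₁ ⋊ (C₃ × Q₁₆)`. -/
noncomputable abbrev G2 : GTab := sd (cyc 7) K4 φG2
theorem chkG2 : chkSd (cyc 7) K4 φG2 = true := by decide +kernel
instance okG2 : G2.Ok := ok_sd chkG2
theorem solG2 : Group.IsSolvable G2.El := isSolvable_sd chkG2 solC7 solK4

/-- The action defining `S24`. -/
def φS24 (k a : ℕ) : ℕ := tb 0x634172503715624076543210 4 (8 * k + a)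
/-- `SL₂(3)`. -/
noncomputable abbrev S24 : GTab := sd (quat 2) (cyc 3) φS24
theorem chkS24 : chkSd (quat 2) (cyc 3) φS24 = true := by decide +kernel
instance okS24 : S24.Ok := ok_sd chkS24
theorem solS24 : Group.IsSolvable S24.El := isSolvable_sd chkS24 solQ8 solC3

/-- The action defining `D8`. -/
def φD8 (k a : ℕ) : ℕ := a * 3 ^ k % 4
/-- The dihedral group of order 8. -/
noncomputable abbrev D8 : GTab := sd (cyc 4) (cyc 2) φD8
theorem chkD8 : chkSd (cyc 4) (cyc 2) φD8 = true := by decide +kernel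
instance okD8 : D8.Ok := ok_sd chkD8
theorem solD8 : Group.IsSolvable D8.El := isSolvable_sd chkD8 solC4 solC2

/-- The action defining `K3`. -/
def φK3 (k a : ℕ) : ℕ := tb 0x1312111017161514080b0a090e0d0c0f050407060302010017161514131211100f0e0d0c0b0a09080706050403020100 8 (24 * (k / 4) + a)
/-- `SL₂(3) ⋊ D₈`. -/
noncomputable abbrev K3 : GTab := sd S24 D8 φK3
theorem chkK3 : chkSd S24 D8 φK3 = true := by decide +kernel
instance okK3 : K3.Ok := ok_sd chkK3
theorem solK3 : Group.IsSolvable K3.El := isSolvable_sd chkK3 solS24 solD8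

/-- The action defining `G3`. -/
def φG3 (k a : ℕ) : ℕ := a * 2 ^ (k % 24 / 8) * 6 ^ (k / 24) % 7
/-- `C₇ ⋊ (SL₂(3) ⋊ D₈)`. -/
noncomputable abbrev G3 : GTab := sd (cyc 7) K3 φG3
theorem chkG3 : chkSd (cyc 7) K3 φG3 = true := by decide +kernel
instance okG3 : G3.Ok := ok_sd chkG3
theorem solG3 : Group.IsSolvable G3.El := isSolvable_sd chkG3 solC7 solK3

/-- The action defining `H4`. -/
def φH4 (k a : ℕ) : ℕ := tb 0x8f8767a4649ca19fa08490a29b65808e69857d814c7c4d9da7985270743e5783a67e969e888294995586959221334a2316686a8b506e6f8c7172566635759776a56c9aa33c5f30456232483424381826896d7f473b8d2a732b4b91934e79425d5444604615493625398a3a63533d3f5a2d416b5c7a5e2061220d370e4f511b091158405b782f7b310701171929101c591d77430c0304271a052c2e140608280a1f0b0f1213021e00a7a6a5a4a3a2a1a09f9e9d9c9b9a999897969594939291908f8e8d8c8b8a898887868584838281807f7e7d7c7b7a797877767574737271706f6e6d6c6b6a696867666564636261605f5e5d5c5b5a595857565554535251504f4e4d4c4b4a494847464544434241403f3e3d3c3b3a393837363534333231302f2e2d2c2b2a292827262524232221201f1e1d1c1b1a191817161514131211100f0e0d0c0b0a09080706050403020100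 8 (168 * k + a)
/-- `PGL₂(7)`. -/
noncomputable abbrev H4 : GTab := sd G168.tab (cyc 2) φH4
theorem chkH4 : chkSd G168.tab (cyc 2) φH4 = true := by decide +kernel
instance okH4 : H4.Ok := ok_sd chkH4

theorem chk : (forceL (G1.ords 168) fun a => forceL (G2.ords 168) fun b => forceL (G3.ords 168) fun c =>
    forceL (H1.ords 168) fun d => forceL (H2.ords 168) fun e => forceL (H3.ords 168) fun f =>
    forceL (H4.ords 168) fun g => decide ((∀ l ∈ [a, b, c, d, e, f, g], ∀ o ∈ l, o ∣ 168) ∧
      ∀ n ∈ Nat.divisors 168, a.countP (· ∣ n) * (b.countP (· ∣ n) * c.countP (· ∣ n)) =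
        d.countP (· ∣ n) * (e.countP (· ∣ n) * (f.countP (· ∣ n) * g.countP (· ∣ n))))) = true := by
  decide +kernel

theorem card_prod (G H : Type) [Group G] [Group H] (n : ℕ) : Nat.card {g : G × H // g ^ n = 1} =
    Nat.card {g : G // g ^ n = 1} * Nat.card {g : H // g ^ n = 1} := by
  rw [← Nat.card_prod]
  exact Nat.card_congr ((Equiv.subtypeEquivRight fun _ => Prod.ext_iff).trans
    (Equiv.subtypeProdEquivProd (p := (· ^ n = 1)) (q := (· ^ n = 1))))

open scoped commutatorElement in
theorem not_sol : ¬ Group.IsSolvable H4.El :=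
  not_isSolvable_of_mem_derivedSeries (g := H4.el 2) (by decide +kernel) fun n => by
    induction n with
    | zero => exact Subgroup.mem_top _
    | succ n ih =>
      rw [show H4.el 2 = ⁅H4.el 14 * H4.el 2 * (H4.el 14)⁻¹, H4.el 70 * H4.el 2 * (H4.el 70)⁻¹⁆ by
        rw [commutatorElement_def]; decide +kernel]
      exact Subgroup.commutator_mem_commutator ((derivedSeries_normal _ _).conj_mem _ ih _)
        ((derivedSeries_normal _ _).conj_mem _ ih _)

/-- There are finite groups G and H having the same number of elements of each order (the same order type) with G solvable and H not solvable. -/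
theorem result :
    ∃ (G : Type) (_ : Group G) (_ : Finite G) (H : Type) (_ : Group H) (_ : Finite H),
      Group.IsSolvable G ∧ ¬ Group.IsSolvable H ∧ ∀ n : ℕ, Nat.card {g : G // orderOf g = n} = Nat.card {h : H // orderOf h = n} := by
  have := solG1
  have := solG2
  have := solG3
  have h := chk
  simp only [forceL_eq, decide_eq_true_eq, List.forall_mem_cons] at h
  obtain ⟨⟨h1, h2, h3, h4, h5, h6, h7, -⟩, h⟩ := h
  refine ⟨G1.El × G2.El × G3.El, inferInstance, inferInstance, H1.El × H2.El × H3.El × H4.El,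
    inferInstance, inferInstance, inferInstance, fun _ => not_sol (Group.isSolvable_of_surjective
      (f := (MonoidHom.snd _ _).comp ((MonoidHom.snd _ _).comp (MonoidHom.snd H1.El (H2.El × H3.El × H4.El))))
      fun x => ⟨(1, 1, 1, x), rfl⟩), S4377.result.2 fun n => ?_⟩
  simp only [card_prod, card_pow_eq_one (by decide) h1, card_pow_eq_one (by decide) h2,
    card_pow_eq_one (by decide) h3, card_pow_eq_one (by decide) h4, card_pow_eq_one (by decide) h5,
    card_pow_eq_one (by decide) h6, card_pow_eq_one (by decide) h7]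
  exact h _ (Nat.mem_divisors.2 ⟨Nat.gcd_dvd_right _ _, by decide⟩)

end Cfsg.Agent.S4376
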