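import Cfsg.Statements.S4393
import Cfsg.Agent.Inst.MinSimple
import Cfsg.Agent.Cond.S4393

set_option autoImplicit false
open Cfsg

namespace Cfsg.Agent.S4393

/-- Let G be a finite group such that, for every family of distinct primes including every prime divisor of the order of G and every choice S of a Sylow subgroup for each of them, every element of G is a product s_0 s_1 ⋯ s_(t-1) with s_i in S i, taken in the given order. Then G is solvable. -/
theorem result {G : Type*} [Group G] [Finite G]
    (h : ∀ (t : ℕ) (p : Fin t → ℕ), (∀ i, (p i).Prime) → Function.Injective p → (∀ q : ℕ, q.Prime → q ∣ Nat.card G → ∃ i, p i = q) →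
      ∀ (S : (i : Fin t) → Sylow (p i) G) (g : G), ∃ s : (i : Fin t) → G, (∀ i, s i ∈ (S i : Subgroup G)) ∧ g = (List.ofFn s).prod) :
    Group.IsSolvable G := by
  revert G h
  exact @Cfsg.Agent.Gate.S4393.out Cfsg.Agent.Cond.S4393

end Cfsg.Agent.S4393
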