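import Cfsg.Statements.S4395
import Cfsg.Agent.Six.UnivSchB
import Cfsg.Agent.Trans.Tate
import Cfsg.Agent.Trans.Frobenius
import Cfsg.Agent.Solv.Conj
import Cfsg.Agent.Solv.Cores

set_option autoImplicit false
universe u
open Cfsg

namespace Cfsg.Agent.S4395

open Subgroup Cfsg.Lib.UnivSch Cfsg.Lib.Trans Cfsg.Lib.Solv SemidirectProduct
open scoped commutatorElement

section
variable {p q : ℕ} [hp : Fact p.Prime] [hq : Fact q.Prime]

theorem exists_max (hpq : p ≠ q) {a a₀ : ℕ} (ha : a = orderOf (p : ZMod q))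
    (ha₀ : a₀ = if a % 2 = 1 then a else 3 * a / 2) :
    ∃ (K : Type u) (_ : Field K) (_ : CharP K p) (ζ : K) (P : Type u) (_ : Group P) (_ : Finite P)
      (σ : MulAut P) (f : P → K), IsPrimitiveRoot ζ q ∧ Gen ζ ∧ Pre ζ σ f ∧ R σ = ⊤ ∧
      Nat.card P = p ^ a₀ ∧ ∀ e n m : ℕ, Nat.card K = e ^ n → n ≤ 2 → m * e ≤ Nat.card K ^ 2 →
        m ≤ p ^ a₀ := by
  have hp0 : (p : ZMod q) ≠ 0 := fun k => hpq ((Nat.prime_dvd_prime_iff_eq hq.out hp.out).1
    ((ZMod.natCast_eq_zero_iff _ _).1 k)).symm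
  have h0 : a ≠ 0 := ha ▸ (isOfFinOrder_iff_pow_eq_one.2 ⟨q - 1, Nat.sub_pos_of_lt hq.out.one_lt,
    ZMod.pow_card_sub_one_eq_one hp0⟩).orderOf_pos.ne'
  obtain ⟨K, _, _, _, hK⟩ : ∃ (K : Type u) (_ : Field K) (_ : CharP K p) (_ : Finite K),
      Nat.card K = p ^ a := ⟨ULift.{u} (GaloisField p a), inferInstance, inferInstance,
        inferInstance, (Nat.card_ulift _).trans (GaloisField.card p a h0)⟩
  obtain ⟨ζ, hζ, hg⟩ := exists_root ha hK
  have hz0 := hζ.ne_zero hq.out.ne_zero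
  have hz1 := hζ.ne_one hq.out.one_lt
  have hpos : ∀ n, 0 < p ^ n := fun n => pow_pos hp.out.pos n
  have hN : ∀ e n m : ℕ, Nat.card K = e ^ n → n ≤ 2 → m * e ≤ Nat.card K ^ 2 → m ≤ p ^ a₀ := by
    intro e n m h1 h2 h3
    rw [hK] at h1 h3
    have hn : n ≠ 0 := fun k => (Nat.one_lt_pow h0 hp.out.one_lt).ne' (by rw [h1, k, pow_zero])
    obtain ⟨d, -, rfl⟩ := (Nat.dvd_prime_pow hp.out).1 (h1 ▸ dvd_pow_self e hn : e ∣ p ^ a)
    rw [← pow_mul] at h1 h3
    have h4 := Nat.pow_right_injective hp.out.two_le h1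
    have h5 : a * 2 ≤ a₀ + d := by
      obtain rfl | rfl : n = 1 ∨ n = 2 := by omega
      all_goals split_ifs at ha₀ <;> omega
    exact Nat.le_of_mul_le_mul_right (h3.trans (by
      rw [← pow_add]; exact Nat.pow_le_pow_right hp.out.pos h5)) (hpos d)
  have : ∃ (P : Type u) (_ : Group P) (_ : Finite P) (σ : MulAut P) (f : P → K), Pre ζ σ f ∧
      R σ = ⊤ ∧ p ^ a₀ ≤ Nat.card P := by
    by_cases hodd : a % 2 = 1
    · obtain ⟨P, _, _, σ, f, h1, h2, h3⟩ := exists_model hz0 hz1 0 (by simp) 0 (by simp)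
      refine ⟨P, _, inferInstance, σ, f, h1, h2, le_trans ?_ h3⟩
      rw [ha₀, if_pos hodd, ← hK]
      exact Nat.le_mul_of_pos_right _ Nat.card_pos
    · obtain ⟨b, rfl⟩ : ∃ b, a = 2 * b := ⟨a / 2, by omega⟩
      have hb : b ≠ 0 := by omega
      have e1 : ((p ^ b + 1 : ℕ) : ZMod q) = 0 := by
        have e2 : ((p : ZMod q) ^ b) ^ 2 = 1 := by rw [← pow_mul, mul_comm, ha, pow_orderOf_eq_one]
        rw [sq, mul_self_eq_one_iff] at e2
        rw [Nat.cast_add, Nat.cast_pow, e2.resolve_left fun k => ?_, Nat.cast_one, neg_add_cancel]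
        have := Nat.le_of_dvd (Nat.pos_of_ne_zero hb) (ha ▸ orderOf_dvd_of_pow_eq_one k)
        omega
      have e3 : ζ * ζ ^ p ^ b = 1 := by
        rw [← pow_succ']
        exact (hζ.pow_eq_one_iff_dvd _).2 ((ZMod.natCast_eq_zero_iff _ _).1 e1)
      let c := iterateFrobenius K p b
      let δ : K →+ K := AddMonoidHom.id K - c.toAddMonoidHom
      obtain ⟨P, _, _, σ, f, h1, h2, h3⟩ := exists_model hz0 hz1 c.toAddMonoidHom (fun x => by
        show ζ * (ζ * x) ^ p ^ b = x ^ p ^ b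
        rw [mul_pow, ← mul_assoc, e3, one_mul]) δ fun x => by simp [δ]
      refine ⟨P, _, inferInstance, σ, f, h1, h2, le_trans ?_ h3⟩
      have e4 : Nat.card δ.ker ≤ p ^ b := by
        have k := Polynomial.ncard_rootSet_le (Polynomial.X ^ p ^ b - Polynomial.X : Polynomial K) K
        rw [FiniteField.X_pow_card_pow_sub_X_natDegree_eq K hb hp.out.one_lt] at k
        refine le_trans ((Nat.card_coe_set_eq (δ.ker : Set K)).trans_le
          (Set.ncard_le_ncard (fun x hx => ?_) (Set.toFinite _))) k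
        rw [Polynomial.mem_rootSet_of_ne (FiniteField.X_pow_card_pow_sub_X_ne_zero K hb hp.out.one_lt)]
        have : x - x ^ p ^ b = 0 := hx
        simp [← sub_eq_zero.1 this]
      have e5 : Nat.card δ.range * Nat.card δ.ker = p ^ b * p ^ b := by
        rw [← AddSubgroup.index_ker, AddSubgroup.index_mul_card, hK, two_mul, pow_add]
      rw [ha₀, if_neg hodd, show 3 * (2 * b) / 2 = 2 * b + b by omega, pow_add, hK]
      exact Nat.mul_le_mul_left _ (Nat.le_of_mul_le_mul_right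
        (e5.ge.trans (Nat.mul_le_mul_left _ e4)) (hpos b))
  obtain ⟨P, _, _, σ, f, h1, h2, h3⟩ := this
  obtain ⟨e, n, k1, k2, k3⟩ := h1.bound h2 hg hz0
  exact ⟨K, _, inferInstance, ζ, P, _, inferInstance, σ, f, hζ, hg, h1, h2,
    le_antisymm (hN e n _ k1 k2 k3) h3, hN⟩

theorem structure_of_min {X : Type*} [Group X] [Finite X] (hpq : p ≠ q)
    (h1 : ¬ HasNormalPComplement p X) (h2 : ∀ K : Subgroup X, K ≠ ⊤ → HasNormalPComplement p K)
    {t r : ℕ} (hc : Nat.card X = p ^ t * q ^ r) :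
    ∃ (Q : Subgroup X) (_ : Q.Normal) (y : X), IsPGroup p Q ∧ orderOf y = q ^ r ∧
      Q ⊔ zpowers y = ⊤ ∧ (MulAut.conjNormal y : MulAut Q) ^ q = 1 ∧
      (MulAut.conjNormal y : MulAut Q) ≠ 1 ∧ ∀ U : Subgroup Q,
        (∀ x ∈ U, MulAut.conjNormal y x ∈ U) → U = ⊤ ∨ ∀ x ∈ U, MulAut.conjNormal y x = x := by
  obtain ⟨Q, hQP, -, s, hs, hsp, g, ⟨k, hk⟩, hgN, hgC⟩ :=
    exists_prime_pow_normalizer_of_not_hasNormalPComplement (default : Sylow p X) h1
  have hQ : IsPGroup p Q := (default : Sylow p X).isPGroup'.to_le hQP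
  have hcop : (orderOf g).Coprime p := by
    rw [hk]; exact Nat.Coprime.pow_left k ((Nat.coprime_primes hs hp.out).2 hsp)
  have hmin : ∀ U : Subgroup X, IsPGroup p U → ∀ w ∈ normalizer (U : Set X),
      (orderOf w).Coprime p → U ⊔ zpowers w = ⊤ ∨ w ∈ centralizer (U : Set X) :=
    fun U hU w hw hc => or_iff_not_imp_left.2 fun k =>
      mem_centralizer_of_hasNormalPComplement_subgroup (h2 _ k) hU le_sup_left
        (mem_sup_right (mem_zpowers w)) hw hc
  have hcard : ∀ U : Subgroup X, IsPGroup p U → ∀ w ∈ normalizer (U : Set X),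
      (orderOf w).Coprime p → U ⊔ zpowers w = ⊤ → Nat.card X = Nat.card U * orderOf w :=
    fun U hU w hw hc k => by
      rw [← card_top, ← k, card_sup_of_disjoint_of_le_normalizer (zpowers_le.2 hw)
        (inf_eq_bot_of_coprime_card (coprime_card_of_isPGroup hU (by rwa [Nat.card_zpowers]))),
        Nat.card_zpowers]
  have htop := (hmin Q hQ g hgN hcop).resolve_right hgC
  have hQn : Q.Normal :=
    normalizer_eq_top_iff.1 (top_unique (htop.ge.trans (sup_le le_normalizer (zpowers_le.2 hgN))))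
  have e1 := hcard Q hQ g hgN hcop htop
  have hk0 : k ≠ 0 := fun e => hgC (by
    rw [e, pow_zero, orderOf_eq_one_iff] at hk
    rw [hk]; exact one_mem _)
  obtain ⟨m, hm⟩ := hQ.exists_card_eq
  have hpq' := (Nat.coprime_primes hp.out hq.out).2 hpq
  obtain rfl : s = q := by
    have : s ∣ p ^ t * q ^ r := by
      rw [← hc, e1, hk]; exact (dvd_pow_self s hk0).mul_left _
    exact (Nat.prime_dvd_prime_iff_eq hs hq.out).1 (hs.dvd_of_dvd_pow ((hs.dvd_mul.1 this).resolve_left
      fun k => hsp ((Nat.prime_dvd_prime_iff_eq hs hp.out).1 (hs.dvd_of_dvd_pow k))))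
  have hr : orderOf g = s ^ r := by
    rw [hc, hm, hk] at e1
    rw [hk]
    exact Nat.dvd_antisymm
      ((hpq'.pow t k).symm.dvd_of_dvd_mul_left (e1 ▸ Dvd.intro_left _ rfl))
      ((hpq'.pow m r).symm.dvd_of_dvd_mul_left (e1 ▸ Dvd.intro_left _ rfl))
  have hfix : ∀ (w : X) (x : Q), MulAut.conjNormal w x = x ↔ (x : X) * w = w * x := fun w x => by
    rw [Subtype.ext_iff, MulAut.conjNormal_apply, mul_inv_eq_iff_eq_mul, eq_comm]
  refine ⟨Q, hQn, g, hQ, hr, htop, ?_, fun k => hgC fun x hx =>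
    (hfix g ⟨x, hx⟩).1 (DFunLike.congr_fun k _), fun U hU => ?_⟩
  · have hc2 := hcop.coprime_dvd_left (orderOf_pow_dvd (x := g) s)
    rcases hmin Q hQ (g ^ s) (pow_mem hgN s) hc2 with e | e
    · have e2 := hcard Q hQ _ (pow_mem hgN s) hc2 e
      rw [e1, orderOf_pow_of_dvd hs.ne_zero (hk ▸ dvd_pow_self s hk0)] at e2
      exact absurd (Nat.eq_of_mul_eq_mul_left Nat.card_pos e2)
        (Nat.div_lt_self (orderOf_pos g) hs.one_lt).ne'
    · rw [← map_pow]
      exact MulEquiv.ext fun x => (hfix _ x).2 (e x x.2)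
  · have hn : g ∈ normalizer (U.map Q.subtype : Set X) := mem_normalizer_fintype (by
      rintro _ ⟨x, hx, rfl⟩
      exact ⟨_, hU x hx, rfl⟩)
    have hU' : IsPGroup p (U.map Q.subtype) := hQ.to_le (map_subtype_le U)
    refine (hmin _ hU' g hn hcop).imp (fun e => ?_) fun e x hx => (hfix g x).2 (e x ⟨x, hx, rfl⟩)
    have e2 := hcard _ hU' g hn hcop e
    rw [e1, card_map_subtype] at e2
    exact eq_top_of_card_eq _ (Nat.eq_of_mul_eq_mul_right (orderOf_pos g) e2).symm

end

/-- Let p ≠ q be primes, r ≥ 1, a the multiplicative order of p modulo q, and a₀ = a when a is odd, a₀ = 3a/2 when a is even. Call a finite group minimal non-p-nilpotent when it has no normal p-complement but every proper subgroup has one. Then there is a minimal non-p-nilpotent group G₀ of order p^a₀ · q^r such that every minimal non-p-nilpotent group of order p^t · q^r (any t) is a quotient of G₀ by a central subgroup. -/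
theorem result (p q r : ℕ) [Fact p.Prime] [Fact q.Prime] (hpq : p ≠ q) (hr : 1 ≤ r) (a a₀ : ℕ)
    (ha : a = orderOf (p : ZMod q)) (ha₀ : a₀ = if a % 2 = 1 then a else 3 * a / 2) :
    ∃ (G₀ : Type u) (_ : Group G₀) (_ : Finite G₀),
      (¬ Cfsg.HasNormalPComplement p G₀ ∧ ∀ K : Subgroup G₀, K ≠ ⊤ → Cfsg.HasNormalPComplement p ↥K) ∧ Nat.card G₀ = p ^ a₀ * q ^ r ∧
      ∀ (X : Type u) [Group X] [Finite X], (¬ Cfsg.HasNormalPComplement p X ∧ ∀ K : Subgroup X, K ≠ ⊤ → Cfsg.HasNormalPComplement p ↥K) →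
        (∃ t : ℕ, Nat.card X = p ^ t * q ^ r) → ∃ φ : G₀ →* X, Function.Surjective φ ∧ φ.ker ≤ Subgroup.center G₀ := by
  have hp : p.Prime := Fact.out
  have hq : q.Prime := Fact.out
  obtain ⟨K, _, _, ζ, P, _, _, σ, f, hζ, hg, h, hR, hP, hN⟩ := exists_max.{u} hpq ha ha₀
  have hz0 := hζ.ne_zero hq.ne_zero
  have hz1 := hζ.ne_one hq.one_lt
  have : NeZero (q ^ r) := ⟨pow_ne_zero _ hq.ne_zero⟩
  obtain ⟨C, _, _, c, hc, hco⟩ : ∃ (C : Type) (_ : Group C) (_ : Finite C) (c : C),
      (∀ x, x ∈ zpowers c) ∧ orderOf c = q ^ r := by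
    obtain ⟨c, hc⟩ := IsCyclic.exists_generator (α := Multiplicative (ZMod (q ^ r)))
    exact ⟨_, _, inferInstance, c, hc, by rw [orderOf_eq_card_of_forall_mem_zpowers hc]; simp⟩
  have hC : Nat.card C = q ^ r := by rw [← orderOf_eq_card_of_forall_mem_zpowers hc, hco]
  have hck : ∀ x : C, ∃ k : ℕ, c ^ k = x := fun x => (mem_powers_iff_mem_zpowers.2 (hc x) :)
  have hσ := h.pow_eq_one hR hζ.pow_eq_one
  let φ : C →* MulAut P := monoidHomOfForallMemZpowers hc (g' := σ)
    (hco ▸ (orderOf_dvd_of_pow_eq_one hσ).trans (dvd_pow_self q (by omega)))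
  have hφ : φ c = σ := monoidHomOfForallMemZpowers_apply_gen hc _
  have : Finite (P ⋊[φ] C) := Finite.of_equiv _ equivProd.symm
  have hpP : IsPGroup p P := IsPGroup.of_card hP
  have hpq' := (Nat.coprime_primes hp hq).2 hpq
  have hcent : ∀ x, f x = 0 → (inl x : P ⋊[φ] C) ∈ center _ := fun x hx =>
    mem_center_iff.2 fun g => by
      obtain ⟨k, hk⟩ := hck g.right
      have : φ g.right x = x := by
        rw [← hk, map_pow, hφ]
        exact pow_mem (show σ ∈ MulAction.stabilizer (MulAut P) x from h.fix x hx) k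
      ext
      · simp [this, mem_center_iff.1 (h.cent x hx)]
      · simp
  have hL : IsPGroup p (inl : P →* P ⋊[φ] C).range := hpP.of_surjective _ (inl).rangeRestrict_surjective
  refine ⟨P ⋊[φ] C, inferInstance, inferInstance, ⟨fun k => ?_, fun M hM => ?_⟩,
    by rw [SemidirectProduct.card, hP, hC], fun X _ _ ⟨h1, h2⟩ ⟨t, ht⟩ => ?_⟩
  · have : (inl : P →* P ⋊[φ] C).range.Normal := by rw [range_inl_eq_ker_rightHom]; infer_instance
    have := mem_centralizer_of_hasNormalPComplement k hL (g := inr c)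
      (le_normalizer_of_normal (mem_top _))
      (by rw [orderOf_injective inr inr_injective, hco]; exact (hpq'.pow_right r).symm)
    obtain ⟨x, hx⟩ := h.surj 1
    have e := this (inl x) ⟨x, rfl⟩
    rw [eq_comm, ← mul_inv_eq_iff_eq_mul, ← map_inv, ← inl_aut, hφ] at e
    have e2 := h.eqv x
    rw [inl_injective e, hx, mul_one] at e2
    exact hz1 e2.symm
  · by_contra hn
    obtain ⟨Q, hQP, -, s, hs, hsp, g, ⟨k, hk⟩, hgN, hgC⟩ :=
      exists_prime_pow_normalizer_of_not_hasNormalPComplement (default : Sylow p M) hn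
    have hQ : IsPGroup p Q := (default : Sylow p M).isPGroup'.to_le hQP
    have hQ1 : ∀ x ∈ Q, (x : P ⋊[φ] C) = inl x.1.left := fun x hx => by
      obtain ⟨n, hn⟩ := hQ ⟨x, hx⟩
      have e := congrArg (fun w : Q => rightHom (w.1 : P ⋊[φ] C)) hn
      simp only [SubgroupClass.coe_pow, map_pow, OneMemClass.coe_one, map_one] at e
      have e2 : x.1.right = 1 := (pow_eq_one_iff_of_coprime (hpq'.pow n r)).1
        ⟨e, hC ▸ pow_card_eq_one'⟩
      rw [← inl_left_mul_inr_right x.1, e2, map_one, mul_one, left_inl]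
    obtain ⟨i, hi⟩ := hck g.1.right
    by_cases hqi : q ∣ i
    · have e : φ g.1.right = 1 := by
        obtain ⟨j, rfl⟩ := hqi
        rw [← hi, map_pow, hφ, pow_mul, hσ, one_pow]
      have e2 : (inr g.1.right : P ⋊[φ] C) ∈ center _ := mem_center_iff.2 fun w => by
        obtain ⟨j, hj⟩ := hck w.right
        ext
        · simp [e]
        · simp only [mul_right, right_inr]
          rw [← hi, ← hj, ← pow_add, ← pow_add, Nat.add_comm]
      have e3 : g.1 ^ p ^ a₀ ∈ center _ := by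
        rw [← inl_left_mul_inr_right g.1, (show Commute (inl g.1.left : P ⋊[φ] C) (inr g.1.right) from
          mem_center_iff.1 e2 _).mul_pow, ← map_pow, ← hP, pow_card_eq_one', map_one, one_mul]
        exact pow_mem e2 _
      obtain ⟨m, hm⟩ := exists_pow_eq_self_of_coprime (x := g) (n := p ^ a₀)
        (hk ▸ ((Nat.coprime_primes hp hs).2 hsp.symm).pow _ _)
      refine hgC fun x _ => Subtype.ext (mem_center_iff.1 ?_ x.1)
      rw [← hm]
      exact pow_mem e3 m
    · obtain ⟨m, hm⟩ := exists_pow_eq_self_of_coprime (x := c) (n := i)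
        (hco ▸ (((hq.coprime_iff_not_dvd).2 hqi).symm.pow_right r))
      let U : Subgroup P := (Q.map M.subtype).comap inl
      have hU : ∀ w : M, w ∈ normalizer (Q : Set M) → ∀ x ∈ U,
          w.1.left * φ w.1.right x * w.1.left⁻¹ ∈ U := by
        rintro w hw x ⟨y, hy, e⟩
        refine ⟨_, (mem_normalizer_iff.1 hw y).1 hy, ?_⟩
        rw [map_mul, map_mul, map_inv, e, coe_subtype, map_mul, map_mul, inl_aut, map_inv, map_inv]
        conv_lhs => rw [← inl_left_mul_inr_right w.1]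
        group
      rcases hg (AddSubgroup.toSubgroup.symm (U.map (hom f h.add))) (by
        rintro _ ⟨x, hx, rfl⟩
        refine ⟨_, hU _ (pow_mem hgN m) x hx, ?_⟩
        have : (g ^ m).1.right = c := by
          rw [← hm, hi]; exact map_pow rightHom g.1 m
        show f _ = ζ * f x
        rw [h.add, h.add, add_inv h.add, this, hφ, h.eqv]; ring) with e | e
      · refine hgC fun x hx => Subtype.ext (mem_center_iff.1 ?_ g.1).symm
        rw [hQ1 x hx]
        exact hcent _ (AddSubgroup.mem_bot.1 (e.le ⟨_, ⟨x, hx, hQ1 x hx⟩, rfl⟩))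
      · have e2 : ∀ x, ∃ y ∈ U, f y = f x := fun x => e.ge (AddSubgroup.mem_top (f x))
        have e3 : _root_.commutator P ≤ U := commutator_le.2 fun x _ y _ => by
          obtain ⟨x', hx, k1⟩ := e2 x
          obtain ⟨y', hy, k2⟩ := e2 y
          rw [← h.comm_congr k1, ← commutatorElement_inv, ← h.comm_congr k2, commutatorElement_inv,
            commutatorElement_def]
          exact mul_mem (mul_mem (mul_mem hx hy) (inv_mem hx)) (inv_mem hy)
        have e4 : ∀ x, (inl x : P ⋊[φ] C) ∈ M := fun x => by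
          obtain ⟨y, hy, k1⟩ := e2 x
          refine map_subtype_le Q (show x ∈ U from ?_)
          rw [← mul_inv_cancel_left y x]
          exact mul_mem hy (e3 (h.mem_commutator hR
            (by rw [h.add, add_inv h.add, k1, neg_add_cancel])))
        have e5 : (inr g.1.right : P ⋊[φ] C) ∈ M := (mul_mem_cancel_left (e4 g.1.left)).1 (by
          rw [inl_left_mul_inr_right]; exact g.2)
        refine hM ((eq_top_iff' M).2 fun w => ?_)
        obtain ⟨j, hj⟩ := hck w.right
        rw [← inl_left_mul_inr_right w, ← hj, ← hm, hi, map_pow, map_pow]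
        exact mul_mem (e4 _) (pow_mem (pow_mem e5 m) j)
  · obtain ⟨Q, _, y, k1, k2, k3, k4, k5, k6⟩ := structure_of_min hpq h1 h2 ht
    obtain ⟨j, hj, f', k7, k8⟩ := exists_pre hq hpq hζ hg k1 k4 k5 k6
    obtain ⟨ψ, l1, l2, l3⟩ := univ h hR k7 k8 hz1 hg hz0 (hP ▸ hN)
    have hyj : orderOf (y ^ j) = q ^ r := by
      rw [← k2]; exact (k2 ▸ hj.symm.pow_left r : (orderOf y).Coprime j).orderOf_pow
    let χ : C →* X := monoidHomOfForallMemZpowers hc (g' := y ^ j) (hco ▸ hyj.dvd)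
    have hχ : χ c = y ^ j := monoidHomOfForallMemZpowers_apply_gen hc _
    have l4 : ∀ (n : ℕ) x, (ψ ((σ ^ n) x) : X) = (y ^ j) ^ n * ψ x * ((y ^ j) ^ n)⁻¹ := fun n => by
      induction n with
      | zero => simp
      | succ n ih =>
        intro x
        rw [pow_succ', MulAut.mul_apply, l2, ← map_pow, MulAut.conjNormal_apply, ih, pow_succ']
        group
    refine ⟨lift (Q.subtype.comp ψ) χ fun g => ?_, MonoidHom.range_eq_top.1 (top_unique
      (k3.ge.trans (sup_le (fun x hx => ?_) (zpowers_le.2 ?_)))), fun g hg => ?_⟩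
    · obtain ⟨n, rfl⟩ := hck g
      ext x
      rw [map_pow φ, map_pow χ, hφ, hχ]
      exact l4 n x
    · obtain ⟨w, hw⟩ := l1 ⟨x, hx⟩
      exact ⟨inl w, by simp [hw]⟩
    · obtain ⟨m, hm⟩ := exists_pow_eq_self_of_coprime (x := y) (n := j) (k2 ▸ hj.pow_right r)
      exact ⟨inr c ^ m, by rw [map_pow, lift_inr, hχ, hm]⟩
    · have e : (ψ g.left : X) * χ g.right = 1 := hg
      obtain ⟨n, hn⟩ := k1 (ψ g.left)⁻¹
      have e2 : χ g.right = 1 := (pow_eq_one_iff_of_coprime (hpq'.pow n r)).1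
        ⟨by rw [eq_inv_of_mul_eq_one_right e]; exact congrArg Subtype.val hn,
          by rw [← map_pow, ← hC, pow_card_eq_one', map_one]⟩
      rw [e2, mul_one] at e
      obtain ⟨i, hi⟩ := hck g.right
      rw [← hi, map_pow, hχ, ← orderOf_dvd_iff_pow_eq_one, hyj, ← hco, orderOf_dvd_iff_pow_eq_one,
        hi] at e2
      rw [← inl_left_mul_inr_right g, e2, map_one, mul_one]
      exact hcent _ (l3 _ (Subtype.ext e))

end Cfsg.Agent.S4395
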