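import Cfsg.Statements.S4419
import Cfsg.Agent.Trans.PNilpMore
import Cfsg.Agent.Solv.PConstrained

set_option autoImplicit false
open Cfsg

namespace Cfsg.Agent.S4419

open Cfsg.Lib.Trans Cfsg.Lib.Solv Subgroup


/-- Let p be a prime and G a finite group whose Sylow p-subgroups are metacyclic (a cyclic normal subgroup with cyclic quotient). Then G has a normal p-complement if and only if the order of G/O_{p′,p}(G) is coprime to p² − 1. -/
theorem result {G : Type*} [Group G] [Finite G] (p : ℕ) [Fact p.Prime] (S : Sylow p G) (hS : Cfsg.IsMetacyclic ↥(S : Subgroup G)) : Cfsg.HasNormalPComplement p G ↔ Nat.Coprime (Nat.card (G ⧸ Cfsg.pPrimePCore p G)) (p ^ 2 - 1) := by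
  have hp : p.Prime := Fact.out
  constructor
  · intro h
    have h1 : pPrimePCore p G = ⊤ := by
      rw [eq_top_iff]
      obtain ⟨k, hk⟩ := exists_index_pResidual_eq (p := p) (G := G)
      exact le_pPrimePCore_of_relIndex (K := pResidual p G) inferInstance inferInstance
        (hasNormalPComplement_iff_coprime.mp h) (by rw [relIndex_top_right, hk])
    rw [← index_eq_card, h1, index_top]
    exact Nat.coprime_one_left _
  · intro h
    refine hasNormalPComplement_of_quotient_coprime (pPrimeCore p G) (coprime_card_pPrimeCore p G)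
      (hasNormalPComplement_of_isMetacyclic (S.mapSurjective (QuotientGroup.mk'_surjective _))
        ?_ fun q hq h1 h2 => ?_)
    · exact isMetacyclic_of_surjective _ (MonoidHom.subgroupMap_surjective _ _) hS
    · obtain ⟨k, hk⟩ := exists_relIndex_pPrimePCore p G
      rw [← index_eq_card, ← relIndex_mul_index (pPrimeCore_le_pPrimePCore p G), hk] at h1
      rcases hq.dvd_mul.mp h1 with h3 | h3
      · have h4 := (Nat.prime_dvd_prime_iff_eq hq hp).mp (hq.dvd_of_dvd_pow h3)
        subst h4
        have h5 := (Nat.dvd_sub_iff_right (Nat.one_le_pow 2 q hq.pos)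
          (dvd_pow_self q two_ne_zero)).mp h2
        exact hq.not_dvd_one h5
      · exact hq.not_dvd_one (h ▸ Nat.dvd_gcd h3 h2)

end Cfsg.Agent.S4419
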