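import Cfsg.Statements.S4542
import Cfsg.Agent.Block.BDCen

set_option autoImplicit false
open Cfsg

namespace Cfsg.Agent.S4542

/-- Let B be a p-block of the finite group G (relative to a maximal ideal M of the algebraic integers containing p) with defect group D, and suppose D has a cyclic subgroup Z, central in D, of index at most 16 in D. Then B contains at most as many irreducible characters as D has elements (Brauer's k(B) bound holds for B); in particular this covers every 2-block of defect at most 5. -/
theorem result {G : Type*} [Group G] [Finite G] (p : ℕ) [Fact p.Prime] (M : Ideal Cfsg.AlgInt) (hM : Cfsg.IsPModular p M) (B : Set (Cfsg.IrrCharacter G)) (hB : Cfsg.IsPBlock M B) (D : Subgroup G) (hD : Cfsg.IsDefectGroup p M B D) (Z : Subgroup G) (hZD : Z ≤ D) (hZc : ∀ z ∈ Z, ∀ d ∈ D, z * d = d * z) (hcyc : IsCyclic Z) (hidx : Z.relIndex D ≤ 16) : Nat.card B ≤ Nat.card D := by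
  obtain ⟨b, h1, -⟩ := Lib.Block.BD.exists_of hM hB hD
  have : IsCyclic (Z.subgroupOf D) :=
    isCyclic_of_surjective _ (Subgroup.subgroupOfEquivOfLe hZD).symm.surjective
  obtain ⟨u, hu⟩ := (Subgroup.isCyclic_iff_exists_zpowers_eq_top _).1 this
  have h2 : u ∈ Z.subgroupOf D := hu ▸ Subgroup.mem_zpowers u
  exact h1 ▸ Lib.Block.BD.k_le_of_central (u := u)
    (Subgroup.mem_center_iff.2 fun d => Subtype.ext (hZc u h2 d d.2).symm) (hu ▸ hidx)

end Cfsg.Agent.S4542
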