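import Cfsg.Statements.S4573
import Cfsg.Agent.Char.PiChar
import Cfsg.Agent.Char.RelM
import Cfsg.Agent.Char.GoingDown
import Cfsg.Agent.Char.Gallagher
import Mathlib.GroupTheory.RegularWreathProduct

set_option autoImplicit false
universe u
open Cfsg

namespace Cfsg.Agent.S4573

open Cfsg.Lib.Char Cfsg.Lib.Char.Deg

/-- M-groups. -/
def IsM (M : Type*) [Group M] [Fintype M] : Prop :=
  ∀ χ : M → ℂ, IsIrrCharacter M χ →
    ∃ (H : Subgroup M) (lam : H →* ℂˣ), χ = indFun H (fun h => (lam h : ℂ))

theorem IsM.of_equiv {A B : Type*} [Group A] [Fintype A] [Group B] [Fintype B] (h : IsM A)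
    (e : B ≃* A) : IsM B := by
  intro χ hχ
  obtain ⟨H, lam, he⟩ := h (fun a => χ (e.symm a))
    (hχ.comp_of_surjective e.symm.toMonoidHom e.symm.surjective)
  refine ⟨H.comap e.toMonoidHom, lam.comp (e.toMonoidHom.subgroupComap H), funext fun b => ?_⟩
  refine Eq.trans ?_ (indFun_mulEquiv e (H.comap e.toMonoidHom) H (fun _ => Iff.rfl) _
    (fun h => (lam h : ℂ)) (fun _ => rfl) b).symm
  rw [← he]
  simp

/-- The product of linear characters on a product subgroup. -/
def piLin {ι : Type*} [Fintype ι] {H : Type*} [Group H] (K : ι → Subgroup H)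
    (lam : ∀ i, K i →* ℂˣ) : Subgroup.pi Set.univ K →* ℂˣ where
  toFun y := ∏ i, lam i ⟨y.1 i, y.2 i trivial⟩
  map_one' := Finset.prod_eq_one fun i _ => map_one (lam i)
  map_mul' a b := by
    rw [← Finset.prod_mul_distrib]
    exact Finset.prod_congr rfl fun i _ => by rw [← map_mul]; rfl

theorem IsM.pi {ι H : Type*} [Fintype ι] [Group H] [Fintype H] [Fintype (ι → H)] (h : IsM H) :
    IsM (ι → H) := by
  intro χ hχ
  obtain ⟨φ, hφ, rfl⟩ := exists_pi_of_irr hχ
  choose K lam hK using fun i => h (φ i) (hφ i)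
  refine ⟨Subgroup.pi Set.univ K, piLin K lam, funext fun x => ?_⟩
  have := indFun_pi (H := fun _ : ι => H) K (fun i k => (lam i k : ℂ)) x
  simp only [hK, ← this, piLin, MonoidHom.coe_mk, OneHom.coe_mk, Units.coe_prod]

open RegularWreathProduct in
/-- The base group of the wreath product. -/
def baseEquiv (H Q : Type*) [Group H] [Group Q] :
    (rightHom : H ≀ᵣ Q →* Q).ker ≃* (Q → H) where
  toFun b := b.1.left
  invFun f := ⟨⟨f, 1⟩, rfl⟩
  left_inv b := Subtype.ext (RegularWreathProduct.ext rfl (MonoidHom.mem_ker.mp b.2).symm)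
  right_inv _ := rfl
  map_mul' a b := by
    have : a.1.right = 1 := MonoidHom.mem_ker.mp a.2
    funext q
    simp [this]

open RegularWreathProduct in
theorem IsM.wreath {H Q : Type*} [Group H] [Fintype H] [Group Q] [Finite Q] [Fintype (H ≀ᵣ Q)]
    (h : IsM H) (hQ : (Nat.card Q).Prime) : IsM (H ≀ᵣ Q) := by
  classical
  have := Fintype.ofFinite Q
  let B := (rightHom : H ≀ᵣ Q →* Q).ker
  have := Fintype.ofFinite B
  have hidx : B.index = Nat.card Q := by
    rw [Subgroup.index_ker, MonoidHom.range_eq_top.mpr fun q => ⟨inl q, rfl⟩, Subgroup.card_top]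
  let e := baseEquiv H Q
  intro χ hχ
  rcases res_irr_or_eq_indFun_of_prime_index (N := B) (hidx ▸ hQ) hχ with h1 | ⟨θ, hθ, -, rfl⟩
  · obtain ⟨φ, hφ, he⟩ := exists_pi_of_irr (H := fun _ : Q => H)
      (h1.comp_of_surjective e.symm.toMonoidHom e.symm.surjective)
    have he' : ∀ f : Q → H, χ ⟨f, 1⟩ = ∏ q, φ q (f q) := fun f => congrFun he f
    have hconst : ∀ q, φ q = φ 1 := by
      intro q₀
      have h2 : (fun f : Q → H => ∏ q, φ (q₀ * q) (f q)) = fun f => ∏ q, φ q (f q) := by
        funext f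
        rw [← he', ← hχ.isClassFunction ⟨f, 1⟩ (inl q₀)]
        have : inl q₀ * (⟨f, 1⟩ : H ≀ᵣ Q) * (inl q₀)⁻¹ = ⟨fun q => f (q₀⁻¹ * q), 1⟩ := by
          ext q <;> simp
        rw [this, he']
        exact Fintype.prod_equiv (Equiv.mulLeft q₀) _ _ fun q => by simp
      have h3 := pi_irr_injective (H := fun _ : Q => H) (fun q => hφ (q₀ * q)) hφ h2
      simpa using congrFun h3 1
    obtain ⟨K, lam, hK⟩ := h (φ 1) (hφ 1)
    let U : Subgroup (H ≀ᵣ Q) :=
      { carrier := {w | ∀ q, w.left q ∈ K}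
        one_mem' := fun _ => K.one_mem
        mul_mem' := fun ha hb q => K.mul_mem (ha q) (hb _)
        inv_mem' := fun ha q => K.inv_mem (ha _) }
    let mu : U →* ℂˣ :=
      { toFun := fun w => ∏ q, lam ⟨w.1.left q, w.2 q⟩
        map_one' := Finset.prod_eq_one fun q _ => map_one lam
        map_mul' := fun a b => by
          rw [← Fintype.prod_equiv (Equiv.mulLeft a.1.right⁻¹)
            (fun q => lam ⟨b.1.left (a.1.right⁻¹ * q), b.2 _⟩)
            (fun q => lam ⟨b.1.left q, b.2 q⟩) (fun _ => rfl),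
            ← Finset.prod_mul_distrib]
          exact Finset.prod_congr rfl fun q _ => by rw [← map_mul]; rfl }
    have hsup : U ⊔ B = ⊤ := by
      rw [eq_top_iff]
      intro w _
      have : w = (⟨w.left, 1⟩ : H ≀ᵣ Q) * inl w.right := by ext q <;> simp
      rw [this]
      exact Subgroup.mul_mem _ (Subgroup.mem_sup_right rfl)
        (Subgroup.mem_sup_left fun _ => K.one_mem)
    have hmu := isIrrCharacter_monoidHom mu
    have hres : ∀ b : B, χ b = indFun U (fun u => (mu u : ℂ)) b := by
      intro b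
      rw [indFun_res_of_sup_eq_top U B hsup hmu.isClassFunction,
        indFun_mulEquiv e (U.subgroupOf B) (Subgroup.pi Set.univ fun _ => K)
          (fun x => ⟨fun hx q _ => hx q, fun hx q => hx q trivial⟩) _
          (fun y => ∏ q, (lam ⟨y.1 q, y.2 q trivial⟩ : ℂ)) (fun x => by
            simp only [mu, MonoidHom.coe_mk, OneHom.coe_mk, Units.coe_prod]; rfl),
        indFun_pi (H := fun _ : Q => H) (fun _ => K) (fun _ k => (lam k : ℂ)), ← hK]
      have : (b : H ≀ᵣ Q) = ⟨e b, 1⟩ := (congrArg Subtype.val (e.symm_apply_apply b)).symm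
      rw [this, he']
      exact Finset.prod_congr rfl fun q _ => by rw [hconst q]
    obtain ⟨la, -, hla⟩ := exists_monoidHom_of_extensions (N := B)
      (isCharacter_indFun hmu.isCharacter) (by rw [← funext hres]; exact h1) hχ.isCharacter hres
    refine ⟨U, mu * la.comp U.subtype, ?_⟩
    have := indFun_mul_res U (fun u => (mu u : ℂ)) (isIrrCharacter_monoidHom la).isClassFunction
    rw [hla]
    refine Eq.trans ?_ this.symm
    funext g
    rw [Pi.mul_apply, mul_comm]
  · exact monomial_indFun ((h.pi.of_equiv e) θ hθ)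

open RegularWreathProduct in
/-- The Kaloujnine–Krasner embedding. -/
theorem exists_embedding {G M : Type*} [Group G] [Group M] (N : Subgroup G) [N.Normal]
    (f : N →* M) (hf : Function.Injective f) :
    ∃ F : G →* M ≀ᵣ (G ⧸ N), Function.Injective F := by
  have hmem : ∀ (g : G) (q : G ⧸ N), q.out⁻¹ * g * (((g : G ⧸ N)⁻¹ * q).out) ∈ N := by
    intro g q
    rw [← QuotientGroup.eq_one_iff]
    simp
  let F : G →* M ≀ᵣ (G ⧸ N) := MonoidHom.mk' (fun g => ⟨fun q => f ⟨_, hmem g q⟩, g⟩) fun a b => by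
    ext q
    · simp only [mul_left, Pi.mul_apply, ← map_mul]
      congr 1
      apply Subtype.ext
      simp [mul_assoc]
    · simp
  refine ⟨F, (injective_iff_map_eq_one F).mpr fun g hg => ?_⟩
  have h1 : (g : G ⧸ N) = 1 := congrArg RegularWreathProduct.right hg
  have h2 : f ⟨_, hmem g 1⟩ = 1 := congrFun (congrArg RegularWreathProduct.left hg) 1
  have h3 := congrArg Subtype.val ((injective_iff_map_eq_one f).mp hf _ h2)
  simp only [h1, inv_one, one_mul, OneMemClass.coe_one] at h3
  rwa [mul_assoc, inv_mul_eq_one, right_eq_mul] at h3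

theorem exists_normal_prime {G : Type*} [Group G] [Finite G] [Group.IsSolvable G] [Nontrivial G] :
    ∃ N : Subgroup G, N.Normal ∧ N.index.Prime := by
  obtain ⟨M, hM, hle⟩ := (eq_top_or_exists_le_coatom (commutator G)).resolve_left
    (Group.IsSolvable.commutator_lt_top_of_nontrivial G).ne
  have hn : M.Normal := Subgroup.Normal.of_commutator_le G hle
  refine ⟨M, hn, ?_⟩
  obtain ⟨p, hp, hd⟩ := Nat.exists_prime_and_dvd (fun h => hM.1 (Subgroup.index_eq_one.mp h))
  have := Fact.mk hp
  obtain ⟨x, hx⟩ := exists_prime_orderOf_dvd_card' (G := G ⧸ M) p hd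
  have h1 : (Subgroup.zpowers x).comap (QuotientGroup.mk' M) = ⊤ := by
    refine hM.2 _ (lt_of_le_of_ne (QuotientGroup.le_comap_mk' M _) fun h => ?_)
    obtain ⟨g, rfl⟩ := QuotientGroup.mk_surjective x
    have : g ∈ M := h ▸ Subgroup.mem_zpowers (g : G ⧸ M)
    rw [(QuotientGroup.eq_one_iff g).mpr this, orderOf_one] at hx
    exact hp.one_lt.ne hx
  have h2 : Subgroup.zpowers x = ⊤ :=
    Subgroup.comap_injective (QuotientGroup.mk'_surjective M) (h1.trans (Subgroup.comap_top _).symm)
  rw [Subgroup.index, ← Subgroup.card_top, ← h2, Nat.card_zpowers, hx]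
  exact hp

/-- Every finite solvable group is isomorphic to a subgroup of a finite M-group, a group each of whose irreducible characters is induced from a homomorphism of some subgroup into ℂˣ. -/
theorem result {G : Type u} [Group G] [Finite G] (hsolv : Group.IsSolvable G) : ∃ (M : Type u) (_ : Group M) (_ : Fintype M), (∀ χ : M → ℂ, Cfsg.IsIrrCharacter M χ → (∃ (H : Subgroup M) (lam : ↥H →* ℂˣ), χ = Cfsg.indFun H (fun h => (lam h : ℂ)))) ∧ ∃ f : G →* M, Function.Injective f := by
  induction hn : Nat.card G using Nat.strong_induction_on generalizing G with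
  | _ n ih =>
    have := Fintype.ofFinite G
    rcases subsingleton_or_nontrivial G with hG | hG
    · refine ⟨G, inferInstance, inferInstance, fun χ hχ => ?_, MonoidHom.id G,
        Function.injective_id⟩
      obtain ⟨lam, rfl⟩ := hχ.exists_monoidHom_of_comm fun a b => Subsingleton.elim _ _
      exact ⟨⊤, lam.comp (Subgroup.subtype ⊤), (indFun_top hχ.isClassFunction).symm⟩
    · obtain ⟨N, hN, hp⟩ := exists_normal_prime (G := G)
      have hlt : Nat.card N < n := by
        rw [← hn, ← N.card_mul_index]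
        exact lt_mul_of_one_lt_right Nat.card_pos hp.one_lt
      obtain ⟨M, _, _, hM, f, hf⟩ := ih _ hlt (G := N) inferInstance rfl
      have := Fintype.ofFinite (M ≀ᵣ (G ⧸ N))
      exact ⟨M ≀ᵣ (G ⧸ N), inferInstance, inferInstance, IsM.wreath hM hp,
        exists_embedding N f hf⟩

end Cfsg.Agent.S4573
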