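import Cfsg.Statements.S4577
import Cfsg.Agent.R16.ElK
import Cfsg.Agent.R16.E88

set_option autoImplicit false
open Cfsg

namespace Cfsg.Agent.S4577

/-- Let G be a finite group, M a maximal ideal of the algebraic integers containing 2, and B a 2-block of G with a defect group D of order 16. For every irreducible character χ in B, 2 raised to the height of χ is at most the index of the centre Z(D) in D, with equality exactly when D is abelian. -/
theorem result {G : Type*} [Group G] [Finite G] (M : Ideal Cfsg.AlgInt) (hM : Cfsg.IsPModular 2 M) (B : Set (Cfsg.IrrCharacter G)) (hB : Cfsg.IsPBlock M B) (D : Subgroup G) (hD : Cfsg.IsDefectGroup 2 M B D) (h16 : Nat.card D = 16) (χ : Cfsg.IrrCharacter G) (hχ : χ ∈ B) :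
    Cfsg.blockHeight 2 B (χ : G → ℂ) ≤ ((Subgroup.center D).index).factorization 2 ∧
      (Cfsg.blockHeight 2 B (χ : G → ℂ) = ((Subgroup.center D).index).factorization 2 ↔ IsMulCommutative D) := by
  exact Cfsg.Lib.R16.allK (fun c h8 he => Cfsg.Lib.R16.kkl88 c h8 he) hM B hB D hD h16 χ hχ

end Cfsg.Agent.S4577
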