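import Cfsg.Statements.S4587
import Cfsg.Agent.Char.TwoGenSylow
import Cfsg.Agent.Trans.OrbitProd
import Cfsg.Agent.Trans.SylowIn
import Cfsg.Agent.Local.SylowJoin
import Cfsg.Agent.Solv.CommCalc
import Cfsg.Agent.FT.BG4.Elem
import Cfsg.Agent.S3866

set_option autoImplicit false
open Cfsg

namespace Cfsg.Agent.S4587

open Cfsg.Lib.Char

open Subgroup Cfsg.Lib.Solv Cfsg.Lib.Trans
open scoped Pointwise

theorem key {Q : Type*} [Group Q] [Finite Q] {p : ℕ} [Fact p.Prime] (hQ : IsPGroup p Q)
    {A S C : Subgroup Q} [hA : A.Normal] (hi : (_root_.commutator Q).relIndex A = p) (hSC : A = S ⊔ C)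
    (hc : S ≤ centralizer (C : Set Q)) (hout : ∀ g ∉ A, ∀ s ∈ S, g⁻¹ * s * g ∈ C) :
    ⁅A, A⁆ ≤ C := by
  classical
  have := Fintype.ofFinite (Q ⧸ A)
  have hS : S ≤ A := hSC ▸ le_sup_left
  have hC : C ≤ A := hSC ▸ le_sup_right
  obtain ⟨B, _, ψ, h1, h2, h3⟩ := exists_transfer_fun (M := A) (F := C ⊔ ⁅A, A⁆) le_sup_right
  have h4 : ∀ x ∈ S, x ∈ _root_.commutator Q → x ∈ C ⊔ ⁅A, A⁆ := fun x hx hx' => by
    have h5 := h3 A hA le_rfl x (hS hx) hx'
    rw [Finset.prod_eq_single ((1 : Q) : Q ⧸ A) (fun q _ hq => ?_) (by simp)] at h5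
    · have h6 : ((1 : Q) : Q ⧸ A).out ∈ A := by
        rw [← QuotientGroup.eq_one_iff]; simp
      rw [h1 _ (mul_mem (inv_mem h6) (hS hx)) _ h6, h1 _ (inv_mem h6) _ (hS hx), mul_right_comm,
        ← h1 _ (inv_mem h6) _ h6, inv_mul_cancel, (h2 1 (one_mem _)).2 (one_mem _), one_mul] at h5
      exact (h2 x (hS hx)).1 h5
    · have h6 := hout q.out (fun h => hq (by
        rw [← QuotientGroup.eq_one_iff] at h; simpa using h)) x hx
      exact (h2 _ (hC h6)).2 (mem_sup_left h6)
  obtain ⟨s, hs, h5⟩ : ∃ s ∈ S, S ≤ zpowers s ⊔ (C ⊔ ⁅A, A⁆) := by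
    by_cases h : S ≤ _root_.commutator Q
    · exact ⟨1, one_mem _, fun x hx => mem_sup_right (h4 x hx (h hx))⟩
    obtain ⟨s, hs, hs'⟩ := SetLike.not_le_iff_exists.1 h
    refine ⟨s, hs, fun x hx => ?_⟩
    obtain ⟨i, -, h6⟩ := exists_pow_inv_mul_mem_of_index_prime (L := A)
      (L₁ := (_root_.commutator Q).subgroupOf A) hi (v := ⟨s, hS hs⟩) hs' ⟨x, hS hx⟩
    have h7 := h4 _ (mul_mem (inv_mem (pow_mem hs i)) hx) h6
    simpa using mul_mem (mem_sup_left (npow_mem_zpowers s i)) (mem_sup_right (S := zpowers s) h7)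
  have hz : zpowers s ≤ S := zpowers_le.2 hs
  have h6 : A ≤ zpowers s ⊔ C := by
    have h7 : (zpowers s ⊔ C).subgroupOf A ⊔ frattini A = ⊤ := by
      apply map_injective A.subtype_injective
      rw [Subgroup.map_sup, map_subgroupOf_eq_of_le (sup_le (hz.trans hS) hC),
        ← MonoidHom.range_eq_map, range_subtype]
      refine le_antisymm (sup_le (sup_le (hz.trans hS) hC) (map_subtype_le _)) ?_
      refine hSC.le.trans (sup_le (h5.trans ?_) (le_sup_of_le_left le_sup_right))
      rw [sup_assoc]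
      exact sup_le_sup_left (sup_le_sup_left (commutator_le_map_frattini (hQ.to_subgroup A)) _) _
    exact subgroupOf_eq_top.1 (frattini_nongenerating h7)
  have hn : zpowers s ≤ normalizer (C : Set Q) := hz.trans (hc.trans (centralizer_le_normalizer _))
  have h8 : ⁅zpowers s, C⁆ = ⊥ := commutator_eq_bot_iff_le_centralizer.2 (hz.trans hc)
  refine (commutator_mono h6 h6).trans (commutator_sup_left_le_of_le_normalizer hn le_normalizer
    (commutator_sup_right_le_of_le_normalizer hn le_normalizer ?_ (h8.trans_le bot_le))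
    (commutator_sup_right_le_of_le_normalizer hn le_normalizer ?_ (commutator_le.2 fun a ha b hb => ?_)))
  · exact (commutator_eq_bot_iff_le_centralizer.2 (le_centralizer _)).trans_le bot_le
  · rw [Subgroup.commutator_comm, h8]; exact bot_le
  · exact mul_mem (mul_mem (mul_mem ha hb) (inv_mem ha)) (inv_mem hb)

theorem card_cent {Q : Type*} [Group Q] [Finite Q] {A : Subgroup Q} [A.Normal]
    (hA : IsMulCommutative A) {x : Q} (h : A ⊔ zpowers x = ⊤) :
    Nat.card (centralizer ({x} : Set Q)) = (_root_.commutator Q).index := by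
  have h1 := (Agent.S3866.result A hA x h).2.2.2
  have h2 := card_mul_relIndex (inf_le_right : A ⊓ centralizer ({x} : Set Q) ≤ _)
  have h3 : A ⊔ centralizer ({x} : Set Q) = ⊤ := top_unique (h.ge.trans
    (sup_le_sup_left (zpowers_le.2 (mem_centralizer_singleton_iff.2 rfl)) _))
  rw [inf_relIndex_right, ← relIndex_sup_left, h3, relIndex_top_right] at h2
  apply Nat.eq_of_mul_eq_mul_left (Nat.card_pos (α := _root_.commutator Q))
  rw [← h2, ← mul_assoc, h1, card_mul_index, card_mul_index]

theorem main {G : Type*} [Group G] [Finite G] {p : ℕ} [hp : Fact p.Prime] (P : Sylow p G)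
    (hcore : pPrimeCore p G = ⊥) (hcore' : (⁅(P : Subgroup G), (P : Subgroup G)⁆).normalCore = ⊥)
    (hnas : ¬ ∃ S : Subgroup G, S.Normal ∧ IsSimpleGroup S ∧ ¬ IsMulCommutative S ∧
      centralizer (S : Set G) = ⊥) (hna : ¬ IsMulCommutative (P : Subgroup G))
    (h2 : (_root_.commutator (P : Subgroup G)).index = p ^ 2) :
    ¬ (P : Subgroup G) ≤ generalizedFittingSubgroup G ∧ ∀ y : (P : Subgroup G),
      (y : G) ∉ generalizedFittingSubgroup G → Nat.card (centralizer {y}) = p ^ 2 := by
  have hP := P.isPGroup'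
  have hfr : frattini (P : Subgroup G) = _root_.commutator (P : Subgroup G) := by
    have h3 := commutator_le_frattini_of_isPGroup hP
    have h4 := relIndex_mul_index h3
    rw [Nat.dvd_antisymm (h2 ▸ index_dvd_of_le h3) (sq_dvd_index_frattini_of_not_isCyclic hP
      fun h => hna h.isMulCommutative), h2, mul_eq_right₀ (pow_ne_zero 2 hp.out.ne_zero),
      relIndex_eq_one] at h4
    exact le_antisymm h4 h3
  obtain ⟨⟨hF0, hmin⟩, hA, htr⟩ := two_gen_sylow P hna (hfr ▸ h2) hcore
    (by rw [hfr, Subgroup.map_subtype_commutator]; exact hcore')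
  have hPF := commutator_le_of_not_le hP (hfr ▸ h2) le_normalizer_of_normal hA
  set F := generalizedFittingSubgroup G with hF
  have hcases : IsMulCommutative F ∨ (centralizer (F : Set G) = ⊥ ∧ F = layer G ∧
      ∀ K : Subgroup G, IsComponent K → ¬ (P : Subgroup G) ≤ normalizer (K : Set G)) := by
    by_cases hC : centralizer (F : Set G) = ⊥
    swap
    · exact Or.inl (le_centralizer_iff_isMulCommutative.1 (hmin _ inferInstance hC))
    by_cases hL : layer G = ⊥
    · left
      have h3 : F ≤ P := by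
        rw [hF, genFitting_eq_pCore_iff'.2 ⟨hL, hcore⟩]; exact pCore_le_sylow P
      exact le_centralizer_iff_isMulCommutative.1 (commutator_eq_bot_iff_le_centralizer.1
        (eq_bot_iff.2 (hcore' ▸ normal_le_normalCore.2 (commutator_mono h3 h3))))
    have h3 : F = layer G := le_antisymm (hmin _ inferInstance hL) (layer_le_genFitting G)
    refine Or.inr ⟨hC, h3, fun K hK h => hnas ?_⟩
    have h4 : F = K := le_antisymm (h3 ▸ layer_le_iff.2 fun L hL => by
      obtain ⟨x, hx, rfl⟩ := htr K L hK hL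
      exact conj_smul_le_of_mem_normalizer (h hx) le_rfl) (IsComponent.le_genFitting hK)
    refine ⟨F, inferInstance, ?_, fun h => IsComponent.not_le_centralizer hK
      (h4 ▸ le_centralizer_iff_isMulCommutative.2 h), hC⟩
    refine IsQuasisimple.isSimpleGroup_of_center_eq_bot (h4 ▸ IsComponent.isQuasisimple hK)
      (eq_bot_iff.2 fun z hz => Subtype.ext (mem_bot.1 (hC ▸ fun g hg => ?_)))
    exact congrArg Subtype.val (mem_center_iff.1 hz ⟨g, hg⟩)
  have hnl : ¬ (P : Subgroup G) ≤ F := fun h => by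
    rcases hcases with h3 | ⟨-, h3, h4⟩
    · exact hna (le_centralizer_iff_isMulCommutative.1
        (h.trans ((le_centralizer F).trans (centralizer_le h))))
    · obtain ⟨K, hK⟩ := exists_isComponent_of_layer_ne_bot (h3 ▸ hF0)
      exact h4 K hK (h.trans (IsComponent.genFitting_le_normalizer hK))
  set A := F.subgroupOf P with hAdef
  have hPA : _root_.commutator (P : Subgroup G) ≤ A := by
    rwa [← Subgroup.map_subtype_commutator, map_le_iff_le_comap] at hPF
  have h5 := relIndex_mul_index hPA
  rw [h2, hp.out.mul_eq_prime_sq_iff (fun h => hA (by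
    rw [hfr, ← subgroupOf_map_subtype]; exact map_mono (relIndex_eq_one.1 h)))
    (fun h => hnl (subgroupOf_eq_top.1 (index_eq_one.1 h)))] at h5
  have hco := PG.isCoatom_of_index_prime (M := A) (by rw [h5.2]; exact hp.out)
  have hab : IsMulCommutative A := by
    rcases hcases with h3 | ⟨hC, h3, h4⟩
    · infer_instance
    rw [← le_centralizer_iff_isMulCommutative, ← commutator_eq_bot_iff_le_centralizer,
      ← map_eq_bot_iff_of_injective _ (P : Subgroup G).subtype_injective, eq_bot_iff, ← hC,
      le_centralizer_iff, h3, layer_le_iff]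
    intro K hK
    have hD : ∀ L ∈ {L : Subgroup G | IsComponent L ∧ L ≠ K}, IsComponent L := fun _ h => h.1
    have hKD := commutator_eq_bot_iff_le_centralizer.1
      (IsComponent.commutator_sSup_eq_bot hK hD fun h => h.2 rfl)
    set D := sSup {L : Subgroup G | IsComponent L ∧ L ≠ K}
    refine hKD.trans (centralizer_le ?_)
    rw [SetLike.coe_subset_coe, map_le_iff_le_comap]
    refine key hP (S := K.subgroupOf P) h5.1 ?_ (fun x hx y hy => Subtype.ext (hKD hx y hy))
      fun g hg s hs => ?_
    · apply map_injective (P : Subgroup G).subtype_injective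
      rw [Subgroup.map_sup, hAdef, subgroupOf_map_subtype, subgroupOf_map_subtype, h3,
        IsComponent.layer_eq_sup hK, inf_comm, Lib.Local.MSS.sylow_inf_sup (isSylowIn_top P)
        (SubnormalIn.top_iff.2 hK.1) (SubnormalIn.top_iff.2 (isSubnormal_sSup_components hD)),
        inf_comm, inf_comm (P : Subgroup G)]
      exact congrArg _ (subgroupOf_map_subtype _ _).symm
    · have h6 : MulAut.conj (g : G)⁻¹ • K ≤ D := le_sSup ⟨IsComponent.conj_smul hK _, fun e => h4 K hK ?_⟩
      · exact h6 ⟨s, hs, by simp⟩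
      rw [← subgroupOf_eq_top]
      refine hco.2 _ ⟨fun x hx => IsComponent.genFitting_le_normalizer hK hx, fun h => hg (h ?_)⟩
      exact (inv_mem_iff (x := (g : G))).1 (mem_normalizer_iff_conj_smul_eq.2 e)
  exact ⟨hnl, fun y hy => h2 ▸ card_cent hab (hco.2 _ ⟨le_sup_left, fun h =>
    hy (h (mem_sup_right (mem_zpowers y)))⟩)⟩

/-- Let G be a finite group, p a prime and P a Sylow p-subgroup of order at least p². Assume that G has no nontrivial normal subgroup of order prime to p, that the derived subgroup P' of P contains no nontrivial normal subgroup of G, and that G is not almost simple (there is no non-abelian simple normal subgroup of G with trivial centralizer). Then [P : P'] = p² if and only if some p-element x of G has centralizer whose order has p-part exactly p². -/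
theorem result {G : Type*} [Group G] [Finite G] (p : ℕ) [Fact p.Prime] (P : Sylow p G) (hbig : p ^ 2 ∣ Nat.card G) (hcore : Cfsg.pPrimeCore p G = ⊥)
    (hcore' : (⁅(P : Subgroup G), (P : Subgroup G)⁆).normalCore = ⊥) (hnas : ¬ ∃ S : Subgroup G, S.Normal ∧ IsSimpleGroup S ∧ ¬ IsMulCommutative S ∧ Subgroup.centralizer (S : Set G) = ⊥) :
    (⁅(P : Subgroup G), (P : Subgroup G)⁆).relIndex (P : Subgroup G) = p ^ 2 ↔
      ∃ x : G, (∃ k : ℕ, orderOf x = p ^ k) ∧ (Nat.card (Subgroup.centralizer ({x} : Set G))).factorization p = 2 := by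
  have hp : p.Prime := Fact.out
  have hP := P.isPGroup'
  have hcP : Nat.card (P : Subgroup G) = p ^ (Nat.card G).factorization p := P.card_eq_multiplicity
  have hri : (⁅(P : Subgroup G), (P : Subgroup G)⁆).relIndex (P : Subgroup G) =
      (_root_.commutator (P : Subgroup G)).index := by
    rw [← Subgroup.map_subtype_commutator, relIndex, subgroupOf,
      comap_map_eq_self_of_injective (subtype_injective _)]
  have hc : ∀ y : (P : Subgroup G), Nat.card (centralizer {y}) =
      Nat.card ↥((P : Subgroup G) ⊓ centralizer {(y : G)}) := fun y => by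
    rw [← card_map_subtype]
    congr 2
    ext z
    simp only [mem_map, mem_centralizer_singleton_iff, mem_inf]
    exact ⟨by rintro ⟨z, h, rfl⟩; exact ⟨z.2, congrArg Subtype.val h⟩,
      fun h => ⟨⟨z, h.1⟩, Subtype.ext h.2, rfl⟩⟩
  have hcj : ∀ y : G, (∃ k : ℕ, orderOf y = p ^ k) → ∃ g : G, g * y * g⁻¹ ∈ (P : Subgroup G) ∧
      Nat.card ↥((P : Subgroup G) ⊓ centralizer {g * y * g⁻¹}) =
        p ^ (Nat.card (centralizer ({y} : Set G))).factorization p := by
    rintro y ⟨k, hk⟩
    obtain ⟨T, h1, h2⟩ := exists_isSylowIn_ge (p := p) (Q := zpowers y) (H := centralizer {y})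
      (IsPGroup.of_card (by rw [Nat.card_zpowers, hk]))
      (zpowers_le.2 (mem_centralizer_singleton_iff.2 rfl))
    obtain ⟨g, -, h3⟩ := (isSylowIn_top P).exists_cj_le h1.isPGroup le_top
    refine ⟨g, cj_le_iff.1 h3 y (h2 (mem_zpowers y)), ?_⟩
    have h4 : cj g (centralizer ({y} : Set G)) = centralizer {g * y * g⁻¹} := by
      ext z
      simp only [mem_cj, mem_centralizer_singleton_iff]
      constructor <;> intro h
      · calc _ = g * (g⁻¹ * z * g * y) * g⁻¹ := by group
          _ = _ := by rw [h]; group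
      · calc _ = g⁻¹ * (z * (g * y * g⁻¹)) * g := by group
          _ = _ := by rw [h]; group
    rw [← h4, (h1.cj g).eq_inf hP h3, ← h1.card_eq]
    exact card_map_of_injective (MulAut.conj g).injective
  rw [hri]
  constructor
  · intro h2
    by_cases hna : IsMulCommutative (P : Subgroup G)
    · refine ⟨1, ⟨0, by simp⟩, ?_⟩
      rw [(_root_.commutator_eq_bot_iff _).2 hna, index_bot, hcP] at h2
      rw [← Nat.pow_right_injective hp.two_le h2, show centralizer ({1} : Set G) = ⊤ from
        top_unique fun x _ => by simp [mem_centralizer_singleton_iff], card_top]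
    obtain ⟨h3, h4⟩ := main P hcore hcore' hnas hna h2
    obtain ⟨y, hy, hy'⟩ := SetLike.not_le_iff_exists.1 h3
    have h5 : ∃ k : ℕ, orderOf y = p ^ k := by
      simpa using IsPGroup.iff_orderOf.1 hP ⟨y, hy⟩
    obtain ⟨g, h6, h7⟩ := hcj y h5
    refine ⟨y, h5, (Nat.pow_right_injective hp.two_le ?_).symm⟩
    simp only
    rw [← h7, ← hc ⟨_, h6⟩, h4 ⟨_, h6⟩ fun h => hy' ?_]
    simpa [mul_assoc] using (genFitting_normal G).conj_mem _ h g⁻¹
  · rintro ⟨y, h5, h6⟩
    obtain ⟨g, h7, h8⟩ := hcj y h5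
    rw [h6, ← hc ⟨_, h7⟩] at h8
    have h9 := Lib.FT.BG4.relIndex_centralizer_le_card (H := ⊤) (v := (⟨_, h7⟩ : (P : Subgroup G)))
      (S := _root_.commutator (P : Subgroup G))
      fun x _ => commutator_mem_commutator (mem_top _) (mem_top _)
    rw [relIndex_top_right] at h9
    have h10 := card_mul_index (centralizer ({⟨_, h7⟩} : Set (P : Subgroup G)))
    rw [h8, ← card_mul_index (_root_.commutator (P : Subgroup G))] at h10
    refine le_antisymm (Nat.le_of_mul_le_mul_left ?_
      (Nat.card_pos (α := _root_.commutator (P : Subgroup G)))) (Nat.le_of_dvd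
      (Nat.pos_of_ne_zero index_ne_zero_of_finite) ?_)
    · rw [← h10, mul_comm]; exact Nat.mul_le_mul_right _ h9
    by_cases hcy : IsCyclic (P : Subgroup G)
    · rw [(_root_.commutator_eq_bot_iff _).2 hcy.isMulCommutative, index_bot, hcP]
      exact pow_dvd_pow _ ((hp.pow_dvd_iff_le_factorization Nat.card_pos.ne').1 hbig)
    · exact (sq_dvd_index_frattini_of_not_isCyclic hP hcy).trans
        (index_dvd_of_le (commutator_le_frattini_of_isPGroup hP))

end Cfsg.Agent.S4587
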