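import Cfsg.Statements.S4591
import Cfsg.Agent.Char.DegThompson

set_option autoImplicit false
open Cfsg

namespace Cfsg.Agent.S4591

set_option linter.unusedSectionVars false
set_option linter.style.haveILetI false
open Cfsg Cfsg.Lib.Char Cfsg.Lib.Char.Deg

section
variable {G : Type*} [Group G] [Finite G] {p : ℕ} [hp : Fact p.Prime]

theorem conj_mem_aux (L : Subgroup G) [hL : L.Normal] (P : Subgroup G) :
    ∀ s ∈ P, ∀ g ∈ L, s * g * s⁻¹ ∈ L := fun s _ g hg => hL.conj_mem g hg s

theorem not_dvd_of_cent (P : Sylow p G) (L : Subgroup G) [L.Normal]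
    (h : L ⊓ Subgroup.centralizer ((P : Subgroup G) : Set G) = ⊥) : ¬ p ∣ Nat.card L := by
  intro hd
  have h1 := (isFixedEmb_conjHom (conj_mem_aux L P) h.symm bot_le).card_modEq P.isPGroup'
  rw [Subgroup.card_bot] at h1
  exact hp.out.one_lt.ne' (Nat.dvd_one.1 ((h1.dvd_iff dvd_rfl).2 hd))

theorem inv_iff (P : Sylow p G) (L : Subgroup G) [hL : L.Normal] (θ : L → ℂ) :
    IsInv (conjHom L P (conj_mem_aux L P)) θ ↔ (P : Subgroup G) ≤ inertia L θ := by
  rw [isInv_conjHom_iff]
  constructor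
  · intro h s hs
    exact mem_inertia'.2 fun n => h s hs n _ rfl
  · intro h s hs g g' e
    rw [← mem_inertia'.1 (h hs) g]
    congr 1
    exact Subtype.ext e

theorem eq_one_of_inv (P : Sylow p G) (L : Subgroup G) [L.Normal]
    (h : L ⊓ Subgroup.centralizer ((P : Subgroup G) : Set G) = ⊥) {θ : L → ℂ}
    (hθ : IsIrrCharacter L θ) (hP : (P : Subgroup G) ≤ inertia L θ) : θ = fun _ => 1 := by
  haveI := Fintype.ofFinite (⊥ : Subgroup G)
  obtain ⟨e, -⟩ := exists_glauberman_equiv P.isPGroup'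
    (isFixedEmb_conjHom (conj_mem_aux L P) h.symm bot_le) (not_dvd_of_cent P L h)
  have hs : ∀ β β' : IrrCharacter (⊥ : Subgroup G), β = β' := fun β β' => by
    refine Subtype.ext ?_
    rw [β.2.eq_one_of_forall_eq fun g => by rw [Subsingleton.elim g 1],
      β'.2.eq_one_of_forall_eq fun g => by rw [Subsingleton.elim g 1]]
  have := e.injective (hs (e ⟨⟨θ, hθ⟩, (inv_iff P L θ).2 hP⟩)
    (e ⟨⟨fun _ => 1, isIrrCharacter_one⟩, (inv_iff P L _).2 fun s _ => mem_inertia'.2 fun _ => rfl⟩))
  exact congrArg (fun x => x.1.1) this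

theorem exists_inv_ne_one (P : Sylow p G) (L : Subgroup G) [L.Normal] (hL : ¬ p ∣ Nat.card L)
    (h : L ⊓ Subgroup.centralizer ((P : Subgroup G) : Set G) ≠ ⊥) :
    ∃ θ : L → ℂ, IsIrrCharacter L θ ∧ (P : Subgroup G) ≤ inertia L θ ∧ θ ≠ fun _ => 1 := by
  set C := L ⊓ Subgroup.centralizer ((P : Subgroup G) : Set G) with hC
  haveI := Fintype.ofFinite C
  obtain ⟨e, -⟩ := exists_glauberman_equiv P.isPGroup'
    (isFixedEmb_conjHom (conj_mem_aux L P) hC inf_le_left) hL
  by_contra hcon
  push Not at hcon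
  have hs : ∀ β β' : IrrCharacter C, β = β' := fun β β' => by
    refine e.symm.injective (Subtype.ext (Subtype.ext ?_))
    rw [hcon _ (e.symm β).1.2 ((inv_iff P L _).1 (e.symm β).2),
      hcon _ (e.symm β').1.2 ((inv_iff P L _).1 (e.symm β').2)]
  obtain ⟨c, hc1⟩ := (Subgroup.ne_bot_iff_exists_ne_one).1 h
  obtain ⟨β, hβ, hne⟩ := exists_irr_apply_ne hc1
  have := congrArg Subtype.val (hs ⟨β, hβ⟩ ⟨fun _ => 1, isIrrCharacter_one⟩)
  simp only at this
  exact hne (by rw [this])

theorem not_dvd_index_commutator_closure (S : Set G) (hS : ∀ s ∈ S, (orderOf s).Coprime p) :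
    ¬ p ∣ (commutator (Subgroup.closure S)).index := by
  intro h
  rw [← card_monoidHom_units] at h
  obtain ⟨lam, hlam⟩ := exists_prime_orderOf_dvd_card' p h
  have h1 : ∀ x (hx : x ∈ Subgroup.closure S), lam ⟨x, hx⟩ = 1 := by
    intro x hx
    induction hx using Subgroup.closure_induction with
    | mem s hs =>
      have h2 : orderOf (lam ⟨s, Subgroup.subset_closure hs⟩) ∣ orderOf lam :=
        orderOf_dvd_of_pow_eq_one (monoidHom_pow_orderOf lam _)
      rw [hlam] at h2
      refine orderOf_eq_one_iff.1 (Nat.eq_one_of_dvd_coprimes (hS s hs) ?_ h2)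
      rw [← Subgroup.orderOf_mk s (Subgroup.subset_closure hs)]
      exact orderOf_map_dvd lam _
    | one => exact map_one lam
    | mul a b ha hb iha ihb =>
      exact (map_mul lam ⟨a, ha⟩ ⟨b, hb⟩).trans (by rw [iha, ihb, mul_one])
    | inv a ha iha => exact (map_inv lam ⟨a, ha⟩).trans (by rw [iha, inv_one])
  have : lam = 1 := MonoidHom.ext fun x => h1 x x.2
  rw [this, orderOf_one] at hlam
  exact hp.out.one_lt.ne hlam

theorem coprime_orderOf_pow (x : G) :
    (orderOf (x ^ p ^ (orderOf x).factorization p)).Coprime p := by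
  rw [orderOf_pow' x (pow_ne_zero _ hp.out.ne_zero),
    Nat.gcd_eq_right (Nat.ordProj_dvd _ _)]
  exact (Nat.coprime_ordCompl hp.out (orderOf_pos x).ne').symm

end

/-- Let G be a finite group, p a prime and P a Sylow p-subgroup, and let N be the largest normal subgroup of G in which P has trivial centralizer (N is normal with C_N(P) = 1 and contains every normal subgroup with that property). Then the intersection of the kernels of the irreducible characters of G of degree prime to p is the normal core in G of the subgroup N·P' (P' the derived subgroup of P). In particular, when G has no nontrivial normal subgroup of order prime to p, that intersection is the normal core of P'. -/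
theorem result {G : Type*} [Group G] [Finite G] (p : ℕ) [Fact p.Prime] (P : Sylow p G) (N : Subgroup G) [N.Normal]
    (hN : N ⊓ Subgroup.centralizer ((P : Subgroup G) : Set G) = ⊥)
    (hmax : ∀ L : Subgroup G, L.Normal → L ⊓ Subgroup.centralizer ((P : Subgroup G) : Set G) = ⊥ → L ≤ N) :
    {g : G | ∀ χ : Cfsg.IrrCharacter G, ¬ p ∣ Cfsg.charDegree (χ : G → ℂ) → (χ : G → ℂ) g = (χ : G → ℂ) 1} =
      ((N ⊔ ⁅(P : Subgroup G), (P : Subgroup G)⁆).normalCore : Set G) := by
  classical
  have hp : p.Prime := Fact.out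
  haveI := Fintype.ofFinite G
  set T : Subgroup G := N ⊔ P with hT
  haveI := Fintype.ofFinite T
  have hNT : N ≤ T := le_sup_left
  have hPT : (P : Subgroup G) ≤ T := le_sup_right
  have hRT : N ⊔ ⁅(P : Subgroup G), (P : Subgroup G)⁆ ≤ T :=
    sup_le_sup_left (Subgroup.commutator_le.2 fun a ha b hb => by
      rw [commutatorElement_def]
      exact mul_mem (mul_mem (mul_mem ha hb) (inv_mem ha)) (inv_mem hb)) _
  have hTi : ¬ p ∣ T.index := fun h =>
    P.not_dvd_index (h.trans (Subgroup.index_dvd_of_le hPT))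
  obtain ⟨k, hk⟩ : ∃ k, N.relIndex T = p ^ k := by
    rw [hT, sup_comm]; exact relIndex_sup_eq_pow N P.isPGroup'
  have hTT : ⁅T, T⁆ ≤ N ⊔ ⁅(P : Subgroup G), (P : Subgroup G)⁆ := by
    have h1 : (⁅T, T⁆).map (QuotientGroup.mk' N) =
        (⁅(P : Subgroup G), (P : Subgroup G)⁆).map (QuotientGroup.mk' N) := by
      have h2 : N.map (QuotientGroup.mk' N) = ⊥ :=
        (Subgroup.map_eq_bot_iff _).2 (QuotientGroup.ker_mk' N).ge
      rw [Subgroup.map_commutator, Subgroup.map_commutator, hT, Subgroup.map_sup, h2, bot_sup_eq]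
    have h3 := Subgroup.map_le_iff_le_comap.1 h1.le
    rwa [Subgroup.comap_map_eq, QuotientGroup.ker_mk', sup_comm] at h3
  let K : Subgroup G := ⨅ χ : {χ : IrrCharacter G // ¬ p ∣ charDegree (χ : G → ℂ)}, charKer χ.1.1
  have memK : ∀ g, g ∈ K ↔ ∀ χ, IsIrrCharacter G χ → ¬ p ∣ charDegree χ → g ∈ charKer χ := by
    intro g
    rw [Subgroup.mem_iInf]
    exact ⟨fun h χ hχ hd => h ⟨⟨χ, hχ⟩, hd⟩, fun h χ => h _ χ.1.2 χ.2⟩
  haveI hKn : K.Normal := ⟨fun n hn g => (memK _).2 fun χ hχ hd =>
    hχ.charKer_normal.conj_mem n ((memK n).1 hn χ hχ hd) g⟩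
  have hset : {g : G | ∀ χ : Cfsg.IrrCharacter G, ¬ p ∣ Cfsg.charDegree (χ : G → ℂ) →
      (χ : G → ℂ) g = (χ : G → ℂ) 1} = (K : Set G) := by
    ext g
    rw [Set.mem_ofPred_eq, SetLike.mem_coe, memK]
    exact ⟨fun h χ hχ hd => hχ.mem_charKer_iff.2 (h ⟨χ, hχ⟩ hd),
      fun h χ hd => χ.2.mem_charKer_iff.1 (h χ χ.2 hd)⟩
  rw [hset, SetLike.coe_set_eq]
  apply le_antisymm
  · rw [Subgroup.normal_le_normalCore]
    let M : Subgroup G := Subgroup.closure {g | g ∈ K ∧ (orderOf g).Coprime p}
    have hMK : M ≤ K := (Subgroup.closure_le _).2 fun g hg => hg.1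
    haveI hMn : M.Normal := by
      refine ⟨fun n hn g => ?_⟩
      have h1 : M.map (MulAut.conj g).toMonoidHom ≤ M := by
        rw [MonoidHom.map_closure]
        refine Subgroup.closure_mono ?_
        rintro _ ⟨x, hx, rfl⟩
        refine ⟨hKn.conj_mem x hx.1 g, ?_⟩
        rw [show orderOf ((MulAut.conj g).toMonoidHom x) = orderOf x from
          MulEquiv.orderOf_eq (MulAut.conj g) x]
        exact hx.2
      exact h1 ⟨n, hn, rfl⟩
    haveI := Fintype.ofFinite M
    have hM1 : ¬ p ∣ Nat.card M := fun h => by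
      obtain ⟨χ, hχ, h1, h2⟩ := relative_thompson hp M h
        (not_dvd_index_commutator_closure _ fun s hs => hs.2)
      exact h1 fun g hg => (memK g).1 (hMK (Subgroup.commutator_le_left M M hg)) χ hχ h2
    have hMN : M ≤ N := by
      refine hmax M hMn ?_
      by_contra h
      obtain ⟨θ, hθ, h1, h2⟩ := exists_inv_ne_one P M hM1 h
      obtain ⟨χ, hχ, h3, h4⟩ := exists_over_not_dvd_deg P hθ h1
        (fun h => hM1 (h.trans (deg_dvd_card hθ))) (fun h => hM1 (h.trans (detOrder_dvd_card θ)))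
      have h5 := le_charKer_of_lies_over (D := M) hχ.isCharacter hθ h3
        fun g hg => (memK g).1 (hMK hg) χ hχ h4
      rw [Subgroup.subgroupOf_self, top_le_iff, hθ.charKer_eq_top_iff] at h5
      exact h2 h5
    have hKT : K ≤ T := by
      have h1 : IsPGroup p (K.map (QuotientGroup.mk' N)) := by
        rintro ⟨_, x, hx, rfl⟩
        refine ⟨(orderOf x).factorization p, Subtype.ext ?_⟩
        rw [Subgroup.coe_pow, Subgroup.coe_one, ← map_pow]
        exact (QuotientGroup.eq_one_iff _).2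
          (hMN (Subgroup.subset_closure ⟨K.pow_mem hx _, coprime_orderOf_pow x⟩))
      haveI := hKn.map (QuotientGroup.mk' N) (QuotientGroup.mk'_surjective N)
      let Q := P.mapSurjective (QuotientGroup.mk'_surjective N)
      have h2 := Q.is_maximal' (h1.to_sup_of_normal_left Q.isPGroup') le_sup_right
      have h3 : K.map (QuotientGroup.mk' N) ≤ (P : Subgroup G).map (QuotientGroup.mk' N) :=
        le_sup_left.trans h2.le
      have h4 := Subgroup.map_le_iff_le_comap.1 h3
      rwa [Subgroup.comap_map_eq, QuotientGroup.ker_mk', sup_comm] at h4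
    intro x hx
    by_contra hxR
    obtain ⟨lam, h1, h2⟩ := exists_monoidHom_ker_ge_apply_ne_one
      ((N ⊔ ⁅(P : Subgroup G), (P : Subgroup G)⁆).subgroupOf T)
      ((commutator_le_subgroupOf_self T).trans (Subgroup.subgroupOf_mono T hTT))
      (g := ⟨x, hKT hx⟩) hxR
    have hl := isIrrCharacter_monoidHom lam
    obtain ⟨χ, hχ, h3, h4⟩ := exists_irr_not_dvd_deg (isCharacter_indFun hl.isCharacter) (p := p)
      (by rwa [deg_indFun T hl.isCharacter, deg_monoidHom, mul_one])
    rw [classInner_indFun_irr_eq hl.isCharacter hχ.isCharacter] at h3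
    have h5 := le_charKer_of_lies_over (D := K) hχ.isCharacter hl h3
      fun g hg => (memK g).1 hg χ hχ h4
    rw [charKer_monoidHom] at h5
    exact h2 (h5 (show (⟨x, hKT hx⟩ : T) ∈ K.subgroupOf T from hx))
  · intro x hx
    refine (memK x).2 fun χ hχ hd => ?_
    set L := (N ⊔ ⁅(P : Subgroup G), (P : Subgroup G)⁆).normalCore with hL
    have hLR : L ≤ N ⊔ ⁅(P : Subgroup G), (P : Subgroup G)⁆ := Subgroup.normalCore_le _
    haveI := Fintype.ofFinite L
    haveI := Fintype.ofFinite N
    haveI := Fintype.ofFinite (N.subgroupOf T)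
    obtain ⟨ψ, hψ, h1, h2⟩ := exists_irr_not_dvd_deg (hχ.isCharacter.res T) (p := p)
      (by rwa [deg_res])
    have hcop : (charDegree ψ).Coprime (N.subgroupOf T).index := by
      rw [show (N.subgroupOf T).index = p ^ k from hk]
      exact ((hp.coprime_iff_not_dvd.2 h2).symm).pow_right _
    have h3 := (irr_res_of_coprime hψ (apply_one_eq hψ.isCharacter) hcop).of_subgroupOf hNT
    have h4 := eq_one_of_inv P N hN h3 fun s hs => mem_inertia'.2 fun n =>
      hψ.isClassFunction.apply_conj ⟨n, hNT n.2⟩ ⟨s, hPT hs⟩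
    have h5 : ψ 1 = 1 := congrFun h4 1
    have h6 : (N ⊔ ⁅(P : Subgroup G), (P : Subgroup G)⁆) ≤ (charKer ψ).map T.subtype := by
      refine sup_le (fun n hn => ⟨⟨n, hNT hn⟩, hψ.mem_charKer_iff.2 ?_, rfl⟩) ?_
      · rw [h5]; exact congrFun h4 ⟨n, hn⟩
      · refine (Subgroup.commutator_mono hPT hPT).trans ?_
        rw [← Subgroup.map_subtype_commutator]
        exact Subgroup.map_mono (hψ.commutator_le_charKer_iff.2 h5)
    refine hχ.le_charKer_of_classInner_res_one_ne_zero L
      (lies_over_trans (hLR.trans hRT) hχ.isCharacter hψ isCharacter_one h1 ?_) hx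
    have h7 : (fun n : L => ψ ⟨n, (hLR.trans hRT) n.2⟩) = fun _ => 1 := by
      funext n
      obtain ⟨y, hy, e⟩ := h6 (hLR n.2)
      rw [← h5, ← hψ.mem_charKer_iff.1 hy]
      congr 1
      exact Subtype.ext e.symm
    rw [h7, classInner_one_one]
    exact one_ne_zero

end Cfsg.Agent.S4591
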