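import Cfsg.Statements.S4621
import Cfsg.Agent.Base.RedFin
import Cfsg.Agent.Base.PrimMain

set_option autoImplicit false
open Cfsg

namespace Cfsg.Agent.S4621



/-- Let F be a finite field of odd characteristic, V a finite-dimensional vector space over F, and G a finite solvable group acting faithfully and linearly on V with the order of G coprime to the number of vectors of V. Then there are two vectors x, y ∈ V such that the only element of G fixing both x and y is the identity. -/
theorem result {F : Type*} [Field F] [Fintype F] (hF : ringChar F ≠ 2) {V : Type*} [AddCommGroup V] [Module F V] [FiniteDimensional F V] [Finite V]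
    {G : Type*} [Group G] [Finite G] [Group.IsSolvable G] (ρ : Representation F G V) (hfaith : Function.Injective ρ) (hcop : (Nat.card G).Coprime (Nat.card V)) :
    ∃ x y : V, ∀ g : G, ρ g x = x → ρ g y = y → g = 1 := by
  let act : DistribMulAction G V :=
    { smul := fun g v => ρ g v
      one_smul := fun v => by
        change ρ 1 v = v
        simp
      mul_smul := fun a b v => by
        change ρ (a * b) v = ρ a (ρ b v)
        simp
      smul_zero := fun a => map_zero (ρ a)
      smul_add := fun a v w => map_add (ρ a) v w }
  have hp : (ringChar F).Prime := CharP.char_is_prime F (ringChar F)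
  have hcr : Cfsg.Lib.Base.CR G V := Cfsg.Lib.Base.cr_of_coprime hp (fun v => by
    rw [← Nat.cast_smul_eq_nsmul F, ringChar.Nat.cast_ringChar, zero_smul]) hcop
  obtain ⟨x, y, h⟩ := Cfsg.Lib.Base.hasBase_two.1
    ((Cfsg.Lib.Base.concl_of_primCase Cfsg.Lib.Base.primCase inferInstance hcr).2
      (Or.inr (Or.inr hcop)))
  exact ⟨x, y, fun a h1 h2 => hfaith (LinearMap.ext fun q => by
    rw [map_one]; exact h a h1 h2 q)⟩

end Cfsg.Agent.S4621
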