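import Cfsg.Statements.S4762
import Cfsg.Agent.S4768
import Cfsg.Agent.Char.DegExtraspecial
import Cfsg.Agent.Char.Prod
import Cfsg.Agent.Solv.ExtraSub
import Cfsg.Agent.Solv.NilpotentHall

set_option autoImplicit false
open Cfsg

namespace Cfsg.Agent.S4762

open Cfsg.Lib.Char Cfsg.Lib.Char.Deg Cfsg.Lib.Solv

/-- Let p be a prime and G a finite nilpotent group. Then G has exactly one irreducible complex character of degree divisible by p if and only if p = 2 and G is an extraspecial 2-group. -/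
theorem result {G : Type*} [Group G] [Finite G] [Group.IsNilpotent G] (p : ℕ) [Fact p.Prime] : Nat.card {χ : Cfsg.IrrCharacter G // p ∣ Cfsg.charDegree (χ : G → ℂ)} = 1 ↔ (p = 2 ∧ Cfsg.IsExtraspecial 2 G) := by
  classical
  have hp : p.Prime := Fact.out
  have := Fintype.ofFinite G
  have hpg : IsPGroup p G → ∀ χ : IrrCharacter G,
      (p ∣ charDegree (χ : G → ℂ) ↔ charDegree (χ : G → ℂ) ≠ 1) := fun hG χ =>
    ⟨fun h h1 => hp.not_dvd_one (h1 ▸ h),
      fun h => by_contra fun h1 => h (S4768.deg_eq_one_of_isPGroup hG χ.2 h1)⟩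
  refine ⟨fun h => ?_, ?_⟩
  swap
  · rintro ⟨rfl, hG⟩
    rw [Nat.card_congr (Equiv.subtypeEquivRight (hpg hG.1.1)), card_nonlinear_of_extraspecial hG]
  obtain ⟨⟨χ, hχ⟩, huniq⟩ := Nat.card_eq_one_iff_exists.1 h
  have hu : ∀ ψ, IsIrrCharacter G ψ → p ∣ charDegree ψ → ψ = χ := fun ψ hψ h1 =>
    congrArg (·.1.1) (huniq ⟨⟨ψ, hψ⟩, h1⟩)
  have hG : IsPGroup p G := by
    have hc : ∀ a ∈ pCore p G, ∀ b ∈ pPrimeCore p G, a * b = b * a := fun a ha b hb =>
      (pCore_le_centralizer_pPrimeCore p G ha b hb).symm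
    have hs := pCore_sup_pPrimeCore_of_isNilpotent (G := G) p
    obtain ⟨φ, ψ, hφ, hψ, h1⟩ := χ.2.exists_mul_of_commute hc hs
    have hd : ∀ {ξ : G → ℂ} {ψ : pPrimeCore p G → ℂ}, IsIrrCharacter _ ψ →
        (∀ (a : pCore p G) (b : pPrimeCore p G), ξ (a * b) = φ a * ψ b) →
        charDegree ξ = charDegree φ * charDegree ψ := fun hψ h => deg_eq (by
      rw [Nat.cast_mul, cast_deg_irr hφ, cast_deg_irr hψ, ← h]; simp)
    have hφp : p ∣ charDegree φ := (hp.dvd_mul.1 (hd hψ h1 ▸ hχ)).resolve_right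
      fun h2 => not_dvd_card_pPrimeCore p G (h2.trans (deg_dvd_card hψ))
    have h2 : ∀ η, IsIrrCharacter (pPrimeCore p G) η → η = ψ := fun η hη => by
      obtain ⟨ξ, hξ, h3⟩ := exists_irr_of_commute_of_inf_eq_bot hc hs (pCore_inf_pPrimeCore p G)
        hφ hη
      rw [hu ξ hξ (hd hη h3 ▸ hφp.mul_right _)] at h3
      exact funext fun b => mul_left_cancel₀ hφ.apply_one_ne_zero ((h3 1 b).symm.trans (h1 1 b))
    have h3 : pPrimeCore p G = ⊥ := (Subgroup.eq_bot_iff_forall _).2 fun x hx =>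
      congrArg Subtype.val (eq_one_of_forall_irr_apply_eq (g := (⟨x, hx⟩ : pPrimeCore p G))
        fun η hη => by rw [(h2 η hη).trans (h2 _ isIrrCharacter_one).symm])
    rwa [h3, sup_bot_eq, pCore_eq_top_iff] at hs
  have hχ1 := (hpg hG χ).1 hχ
  have h1 := sum_deg_sq_not_le_charKer (commutator G)
  rw [Finset.sum_eq_single_of_mem χ (Finset.mem_filter.2 ⟨Finset.mem_univ _,
    mt (commutator_le_charKer_iff χ.2).1 hχ1⟩) fun ψ hψ hne => absurd (Subtype.ext (hu ψ ψ.2
      ((hpg hG ψ).2 (mt (commutator_le_charKer_iff ψ.2).2 (Finset.mem_filter.1 hψ).2)))) hne,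
    ← (commutator G).index_mul_card] at h1
  have hne : commutator G ≠ ⊥ := fun h0 => hχ1 ((commutator_le_charKer_iff χ.2).1 (h0 ▸ bot_le))
  have hpc : p ∣ Nat.card (commutator G) :=
    ((hG.to_subgroup _).card_eq_or_dvd).resolve_left (mt Subgroup.card_eq_one.1 hne)
  obtain ⟨c, hc⟩ : ∃ c, Nat.card (commutator G) = c + 1 := ⟨_, (Nat.succ_pred Nat.card_pos.ne').symm⟩
  rw [hc, mul_add, mul_one, add_left_inj] at h1
  have hc1 : c = 1 := by
    obtain ⟨n, hn⟩ := IsPGroup.iff_card.1 hG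
    have h2 : c ∣ (p ^ n) ^ 2 := (Dvd.intro_left _ h1.symm).trans
      (pow_dvd_pow_of_dvd (hn ▸ deg_dvd_card χ.2) 2)
    refine Nat.eq_one_of_dvd_coprimes (Nat.Coprime.pow_right 2 (Nat.Coprime.pow_right n ?_))
      dvd_rfl h2
    exact (hp.coprime_iff_not_dvd.2 fun h3 =>
      hp.not_dvd_one ((Nat.dvd_add_right h3).1 (hc ▸ hpc))).symm
  subst hc1
  obtain rfl : p = 2 := (Nat.prime_dvd_prime_iff_eq hp Nat.prime_two).1 (hpc.trans hc.dvd)
  have hZ := PG.le_center_of_card_eq_prime hG _ hc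
  have h2 := deg_sq_le_index χ.2 χ.2.center_le_charCenter
  rw [h1, mul_one] at h2
  have h3 : Subgroup.center G = commutator G := by
    refine (Subgroup.eq_of_le_of_card_ge hZ ?_).symm
    refine Nat.le_of_mul_le_mul_left ?_ (Nat.pos_of_ne_zero (commutator G).index_ne_zero_of_finite)
    rw [(commutator G).index_mul_card, ← (Subgroup.center G).index_mul_card]
    exact Nat.mul_le_mul_right _ h2
  refine ⟨rfl, PG.isExtraspecial_of_mulEquiv Subgroup.topEquiv (PG.isExtraspecial_of ?_ ?_ ?_)⟩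
  · rw [Subgroup.coe_top, Subgroup.centralizer_univ, top_inf_eq, h3, hc]
  · rwa [Subgroup.coe_top, Subgroup.centralizer_univ]
  · rw [Subgroup.coe_top, Subgroup.centralizer_univ, top_le_iff]
    intro h4
    exact hχ1 (deg_eq_one_of_comm χ.2 fun a b =>
      Subgroup.mem_center_iff.1 (h4 ▸ Subgroup.mem_top b) a)

end Cfsg.Agent.S4762
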