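import Cfsg.Statements.S4776
import Cfsg.Agent.Char.RelGraph

set_option autoImplicit false
open Cfsg

namespace Cfsg.Agent.S4776

open Cfsg.Lib.Char Cfsg.Lib.Char.RelG

/-- Let N be a normal subgroup of the finite group G that is not perfect and is contained in the derived subgroup of G. Consider the common-divisor graph on the relative degree set cd(G|N) (the degrees of the irreducible complex characters of G whose kernel does not contain N; two distinct degrees adjacent when they have a common divisor greater than one). Then this graph has at most two connected components; and if a, b ∈ cd(G|N) lie in different components, then one of a, b is coprime to the index m of the derived subgroup of N in N while the other is divisible by every prime divisor of m. -/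
theorem result {G : Type*} [Group G] [Finite G] (N : Subgroup G) [N.Normal] (hN : ⁅N, N⁆ < N) (hNG : N ≤ commutator G) : Nat.card (Cfsg.commonDivisorGraph.induce (Cfsg.relCharDegrees N)).ConnectedComponent ≤ 2 ∧ ∀ (a b : ℕ) (ha : a ∈ Cfsg.relCharDegrees N) (hb : b ∈ Cfsg.relCharDegrees N), ¬ (Cfsg.commonDivisorGraph.induce (Cfsg.relCharDegrees N)).Reachable ⟨a, ha⟩ ⟨b, hb⟩ → (Nat.Coprime a (⁅N, N⁆.relIndex N) ∧ ∀ r : ℕ, r.Prime → r ∣ ⁅N, N⁆.relIndex N → r ∣ b) ∨ (Nat.Coprime b (⁅N, N⁆.relIndex N) ∧ ∀ r : ℕ, r.Prime → r ∣ ⁅N, N⁆.relIndex N → r ∣ a) := by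
  have := Fintype.ofFinite G
  have := Fintype.ofFinite N
  rw [relIndex_commutator]
  have hm : (commutator N).index ≠ 1 := fun e => by
    rw [← relIndex_commutator, Subgroup.relIndex_eq_one] at e
    exact hN.not_ge e
  obtain ⟨a0, h⟩ := exists_base hNG hm
  obtain ⟨q, hq, hqm⟩ := Nat.exists_prime_and_dvd hm
  have key : ∀ a b : relCharDegrees N,
      ¬ (commonDivisorGraph.induce (relCharDegrees N)).Reachable a b →
      ¬ (commonDivisorGraph.induce (relCharDegrees N)).Reachable a0 b →
      a.1.Coprime (commutator N).index ∧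
        ∀ r : ℕ, r.Prime → r ∣ (commutator N).index → r ∣ b := fun a b h1 h2 =>
    ⟨Nat.coprime_of_dvd fun r hr h3 h4 => h1 (reach_of_dvd a b hr.ne_one h3 (h b h2 r hr h4)),
      h b h2⟩
  refine ⟨Deg.card_component_le_two _
    (fun b => (commonDivisorGraph.induce (relCharDegrees N)).Reachable a0 b)
    (fun b => ¬ (commonDivisorGraph.induce (relCharDegrees N)).Reachable a0 b)
    (fun _ => em _) (fun _ _ h1 h2 => h1.symm.trans h2)
    (fun v w h1 h2 => reach_of_dvd v w hq.ne_one (h v h1 q hq hqm) (h w h2 q hq hqm)),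
    fun a b ha hb hab => ?_⟩
  by_cases h1 : (commonDivisorGraph.induce (relCharDegrees N)).Reachable a0 ⟨b, hb⟩
  · exact Or.inr (key ⟨b, hb⟩ ⟨a, ha⟩ (fun h2 => hab h2.symm) fun h2 => hab (h2.symm.trans h1))
  · exact Or.inl (key ⟨a, ha⟩ ⟨b, hb⟩ hab h1)

end Cfsg.Agent.S4776
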