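import Cfsg.Statements.S4779
import Cfsg.Agent.Char.RelGraph

set_option autoImplicit false
open Cfsg

namespace Cfsg.Agent.S4779

open Cfsg.Lib.Char Cfsg.Lib.Char.RelG Cfsg.Lib.Char.Deg

/-- Let N be a solvable normal subgroup of the finite group G contained in the derived subgroup of G, and consider the common-divisor graph on the relative degree set cd(G|N) (degrees of irreducible complex characters of G whose kernel does not contain N, two distinct degrees adjacent when not coprime). If this graph has two vertices that are not joined by any path, then there is a vertex a₀ such that any two distinct vertices in the component of a₀ are adjacent, and any two distinct vertices outside that component are adjacent or have a common neighbour (one component is complete, the other has diameter at most 2). -/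
theorem result {G : Type*} [Group G] [Finite G] (N : Subgroup G) [N.Normal] [Group.IsSolvable N] (hNG : N ≤ commutator G) (hdisc : ¬ (Cfsg.commonDivisorGraph.induce (Cfsg.relCharDegrees N)).Preconnected) : ∃ a₀ : ↥(Cfsg.relCharDegrees N), (∀ b c : ↥(Cfsg.relCharDegrees N), (Cfsg.commonDivisorGraph.induce (Cfsg.relCharDegrees N)).Reachable a₀ b → (Cfsg.commonDivisorGraph.induce (Cfsg.relCharDegrees N)).Reachable a₀ c → b ≠ c → (Cfsg.commonDivisorGraph.induce (Cfsg.relCharDegrees N)).Adj b c) ∧ (∀ b c : ↥(Cfsg.relCharDegrees N), ¬ (Cfsg.commonDivisorGraph.induce (Cfsg.relCharDegrees N)).Reachable a₀ b → ¬ (Cfsg.commonDivisorGraph.induce (Cfsg.relCharDegrees N)).Reachable a₀ c → b ≠ c → (Cfsg.commonDivisorGraph.induce (Cfsg.relCharDegrees N)).Adj b c ∨ ∃ d : ↥(Cfsg.relCharDegrees N), (Cfsg.commonDivisorGraph.induce (Cfsg.relCharDegrees N)).Adj b d ∧ (Cfsg.commonDivisorGraph.induce (Cfsg.relCharDegrees N)).Adj d c) := by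
  have := Fintype.ofFinite G
  have := Fintype.ofFinite N
  obtain ⟨x, y, hxy⟩ : ∃ x y, ¬ (commonDivisorGraph.induce (relCharDegrees N)).Reachable x y := by
    simpa [SimpleGraph.Preconnected] using hdisc
  have hII := not_invariant hNG hxy
  have hm : (commutator N).index ≠ 1 := fun e => by
    obtain ⟨_, χ, ⟨n, hn, hn'⟩, -⟩ := x
    have : Nontrivial N := ⟨⟨⟨n, hn⟩, 1, fun e => hn' (by rw [show n = 1 from congrArg Subtype.val e])⟩⟩
    exact (Group.IsSolvable.commutator_lt_top_of_nontrivial N).ne (Subgroup.index_eq_one.1 e)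
  obtain ⟨a0, h⟩ := exists_base hNG hm
  obtain ⟨p, hp, hpm⟩ := Nat.exists_prime_and_dvd hm
  obtain ⟨a, ha⟩ : ∃ a, ¬ (commonDivisorGraph.induce (relCharDegrees N)).Reachable a0 a := by
    by_contra! h1
    exact hxy ((h1 x).symm.trans (h1 y))
  have hD : ∀ b : relCharDegrees N,
      ¬ (commonDivisorGraph.induce (relCharDegrees N)).Reachable a b →
      b.1.Coprime (commutator N).index := fun b hb =>
    Nat.coprime_of_dvd fun r hr h3 h4 => hb (reach_of_dvd a b hr.ne_one (h a ha r hr h4) h3)
  refine ⟨a, fun b c hb hc hbc => (eq_or_adj b c (not_coprime_of_dvd hp.ne_one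
    (h b (fun h1 => ha (h1.trans hb.symm)) p hp hpm)
    (h c (fun h1 => ha (h1.trans hc.symm)) p hp hpm))).resolve_left hbc, fun b c hb hc hbc => ?_⟩
  suffices H : ∃ w : relCharDegrees N, ¬ b.1.Coprime w ∧ ¬ w.1.Coprime c by
    obtain ⟨w, h1, h2⟩ := H
    rcases eq_or_adj b w h1 with rfl | h1
    · exact Or.inl ((eq_or_adj _ c h2).resolve_left hbc)
    rcases eq_or_adj w c h2 with rfl | h2
    · exact Or.inl h1
    exact Or.inr ⟨w, h1, h2⟩
  obtain ⟨θ, hθ⟩ := exists_ov b
  obtain ⟨φ, hφ⟩ := exists_ov c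
  by_cases h1 : charDegree θ = 1
  · obtain ⟨mu, rfl⟩ : ∃ mu : Lin N, θ = lin mu := hθ.1.isCharacter.exists_monoidHom_of_apply_one
      ((deg_eq_one_iff hθ.1.isCharacter).1 h1)
    exact exists_common hII hθ hφ (hD b hb) (hD c hc)
  by_cases h2 : charDegree φ = 1
  · obtain ⟨mu, rfl⟩ : ∃ mu : Lin N, φ = lin mu := hφ.1.isCharacter.exists_monoidHom_of_apply_one
      ((deg_eq_one_iff hφ.1.isCharacter).1 h2)
    obtain ⟨w, h3, h4⟩ := exists_common hII hφ hθ (hD c hc) (hD b hb)
    exact ⟨w, fun e => h4 e.symm, fun e => h3 e.symm⟩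
  obtain ⟨q, hq, β, hβ, hβ1, hβm, hq'⟩ := exists_prime_mul_irr (H := N) fun e =>
    h1 ((commutator_le_charKer_iff hθ.1).1 (e.trans bot_le))
  have key : ∀ (v : relCharDegrees N) ψ, Ov N v ψ → charDegree ψ ≠ 1 →
      ¬ (commonDivisorGraph.induce (relCharDegrees N)).Reachable a v → q ∣ v := by
    intro v ψ hv h3 h4
    refine Dvd.dvd.trans (by_contra fun h5 => ?_) hv.deg_dvd
    have h6 := hq' ψ hv.1 h5 ((hD v h4).coprime_dvd_left hv.deg_dvd)
    have h7 := deg_mul hβ.isCharacter hv.1.isCharacter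
    obtain ⟨w, hw⟩ := exists_vertex h6 fun e => by
      rw [e, deg_const_one] at h7
      exact hβ1 (Nat.eq_one_of_mul_eq_one_right h7.symm)
    have h8 := h7 ▸ hw.deg_dvd
    have h9 := hD w fun e => h4 (e.trans (reach_of_dvd w v h3 ((Dvd.intro_left _ rfl).trans h8)
      hv.deg_dvd))
    exact not_coprime_of_dvd hβ1 ((Dvd.intro _ rfl).trans h8) hβm h9
  exact ⟨b, not_coprime_of_dvd hq.ne_one (key b θ hθ h1 hb) (key b θ hθ h1 hb),
    not_coprime_of_dvd hq.ne_one (key b θ hθ h1 hb) (key c φ hφ h2 hc)⟩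

end Cfsg.Agent.S4779
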