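import Cfsg.Statements.S4783
import Cfsg.Agent.Char.DegFour

set_option autoImplicit false
open Cfsg

namespace Cfsg.Agent.S4783

/-- A finite solvable group with exactly four distinct irreducible complex character degrees has trivial fourth derived subgroup (derived length at most 4). -/
theorem result {G : Type*} [Group G] [Finite G] [Group.IsSolvable G] (hcd : Nat.card ↥(Cfsg.charDegrees G) = 4) : derivedSeries G 4 = ⊥ := by
  classical
  have hfin : (Cfsg.charDegrees G).Finite := Set.finite_coe_iff.1 (Nat.finite_of_card_ne_zero (by omega))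
  have h1 : 1 ∈ hfin.toFinset := hfin.mem_toFinset.2
    ⟨⟨_, Cfsg.Lib.Char.isIrrCharacter_one⟩, Cfsg.Lib.Char.Deg.deg_const_one⟩
  refine Cfsg.Lib.Char.Deg.Four.four_degrees G inferInstance (hfin.toFinset.erase 1) ?_ fun χ hχ =>
    or_iff_not_imp_left.2 fun h => Finset.mem_erase.2 ⟨h, hfin.mem_toFinset.2 ⟨⟨χ, hχ⟩, rfl⟩⟩
  rw [Finset.card_erase_of_mem h1, ← Set.ncard_eq_toFinset_card _ hfin, ← Nat.card_coe_set_eq, hcd]

end Cfsg.Agent.S4783
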