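import Cfsg.Statements.S4805
import Cfsg.Agent.Block.PrimClass
import Cfsg.Agent.Char.Camina
import Cfsg.Agent.Char.DegThompson
import Cfsg.Agent.Trans.ClassTwo
import Cfsg.Agent.Trans.NormalComplement
import Cfsg.Agent.Solv.FpfThompson
import Cfsg.Agent.Inst.S0108
import Cfsg.Agent.FT.Final
import Cfsg.Agent.S4558

set_option autoImplicit false
open Cfsg

namespace Cfsg.Agent.S4805

open Cfsg.Lib.Solv Cfsg.Lib.Char Subgroup
open scoped commutatorElement ComplexConjugate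

section Grp

variable {Γ : Type*} [Group Γ] {p : ℕ} {P Q : Subgroup Γ} {x : Γ}

structure Hyp (p : ℕ) (P Q : Subgroup Γ) (x : Γ) : Prop where
  nP : P.Normal
  nQ : Q.Normal
  le : Q ≤ P
  comm : commutator Γ ≤ P
  mem : x ∈ P
  nmem : x ∉ Q
  cj : ∀ y ∈ P, y ∉ Q → IsConj x y
  cent : ∀ s, ∀ y ∈ P, y ∉ Q → (⁅s, y⁆ ∈ Q ↔ s ∈ P)
  pow : ∀ y ∈ P, y ^ p ∈ Q

theorem mem_map_iff {R S : Subgroup Γ} [R.Normal] (h : R ≤ S) (y : Γ) :
    QuotientGroup.mk' R y ∈ S.map (QuotientGroup.mk' R) ↔ y ∈ S := by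
  rw [← mem_comap, comap_map_eq_self (by simpa using h)]

theorem Hyp.map (h : Hyp p P Q x) (R : Subgroup Γ) [R.Normal] (hR : R ≤ Q) :
    Hyp p (P.map (QuotientGroup.mk' R)) (Q.map (QuotientGroup.mk' R)) (QuotientGroup.mk' R x) := by
  have hs := QuotientGroup.mk'_surjective R
  refine ⟨h.nP.map _ hs, h.nQ.map _ hs, map_mono h.le, ?_, ⟨x, h.mem, rfl⟩,
    fun h' => h.nmem ((mem_map_iff hR x).1 h'), ?_, ?_, ?_⟩
  · rw [_root_.commutator_def, ← map_top_of_surjective _ hs, ← map_commutator]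
    exact map_mono h.comm
  · rintro _ ⟨y, hy, rfl⟩ hy'
    exact (QuotientGroup.mk' R).map_isConj (h.cj y hy fun h' => hy' ⟨y, h', rfl⟩)
  · rintro s _ ⟨y, hy, rfl⟩ hy'
    obtain ⟨s, rfl⟩ := hs s
    rw [← map_commutatorElement, mem_map_iff hR, mem_map_iff (hR.trans h.le)]
    exact h.cent s y hy fun h' => hy' ⟨y, h', rfl⟩
  · rintro _ ⟨y, hy, rfl⟩
    rw [← map_pow]
    exact ⟨_, h.pow y hy, rfl⟩

theorem Hyp.comm_mem (h : Hyp p P Q x) {s y : Γ} (hs : s ∈ P) (hy : y ∈ P) : ⁅s, y⁆ ∈ Q := by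
  by_cases hyQ : y ∈ Q
  · exact Q.mul_mem (h.nQ.conj_mem y hyQ s) (Q.inv_mem hyQ)
  · exact (h.cent s y hy hyQ).2 hs

theorem Hyp.mul_nmem (h : Hyp p P Q x) {z : Γ} (hz : z ∈ Q) : z * x ∉ Q := fun h' =>
  h.nmem ((Q.mul_mem_cancel_left hz).1 h')

theorem Hyp.exists_comm (h : Hyp p P Q x) {z : Γ} (hz : z ∈ Q) : ∃ s ∈ P, ⁅s, x⁆ = z := by
  obtain ⟨s, hs⟩ := isConj_iff.1 (h.cj _ (P.mul_mem (h.le hz) h.mem) (h.mul_nmem hz))
  have : ⁅s, x⁆ = z := by rw [commutatorElement_def, hs, mul_inv_cancel_right]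
  exact ⟨s, (h.cent s x h.mem h.nmem).1 (this ▸ hz), this⟩

theorem Hyp.cent_le (h : Hyp p P Q x) : centralizer {x} ≤ P := fun s hs =>
  (h.cent s x h.mem h.nmem).1 (by
    rw [commutatorElement_eq_one_iff_mul_comm.2 (mem_centralizer_singleton_iff.1 hs)]
    exact Q.one_mem)

variable [Finite Γ]

theorem Hyp.card_map (h : Hyp p P Q x) [Q.Normal] :
    Nat.card (P.map (QuotientGroup.mk' Q)) = P.index + 1 ∧
      Nat.card (centralizer {x}) = P.index + 1 := by
  have h' := h.map Q le_rfl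
  have hQ : Q.map (QuotientGroup.mk' Q) = ⊥ := Deg.map_mk'_eq_bot_iff.2 le_rfl
  rw [hQ] at h'
  have := h'.nP
  have hC : centralizer {QuotientGroup.mk' Q x} = P.map (QuotientGroup.mk' Q) :=
    le_antisymm h'.cent_le fun s hs => mem_centralizer_singleton_iff.2
      (commutatorElement_eq_one_iff_mul_comm.1 (mem_bot.1 (h'.comm_mem hs h'.mem)))
  have h1 := index_centralizer_add_one_of_isConj (N := P.map (QuotientGroup.mk' Q))
    (fun a ha b hb ha1 hb1 => (h'.cj a ha ha1).symm.trans (h'.cj b hb hb1)) h'.mem h'.nmem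
  rw [hC, index_map_eq _ (QuotientGroup.mk'_surjective Q) (by simpa using h.le)] at h1
  refine ⟨h1.symm, ?_⟩
  rw [card_centralizer_eq_quotient_of_isConj_mul (N := Q) fun n hn =>
    h.cj _ (P.mul_mem h.mem (h.le hn)) fun h' => h.nmem ((Q.mul_mem_cancel_right hn).1 h'), h1]
  exact congrArg (fun S : Subgroup (Γ ⧸ Q) => Nat.card S) hC

theorem Hyp.card_le (h : Hyp p P Q x) {Z : Subgroup Γ} (hZ : Z ≤ Q) (hZ' : Z ≤ centralizer {x}) :
    Nat.card Z ≤ P.index := by
  have := h.nQ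
  have h1 : Z < centralizer {x} := lt_of_le_of_ne hZ' fun h' =>
    h.nmem (hZ (h' ▸ mem_centralizer_singleton_iff.2 rfl))
  have := card_lt_of_lt h1
  rw [h.card_map.2] at this
  omega

theorem index_dvd_card_sub_one {W : Subgroup Γ} (hW : IsMinNormal W)
    (hc : commutator Γ ≤ centralizer (W : Set Γ)) :
    (centralizer (W : Set Γ)).index ∣ Nat.card W - 1 := by
  classical
  have := hW.normal
  let _ : Fintype Γ := Fintype.ofFinite Γ
  let _ : MulAction Γ W := MulAction.compHom W (MulAut.conjNormal (H := W))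
  let _ : ∀ s : Γ, Fintype (MulAction.fixedBy W s) := fun _ => Fintype.ofFinite _
  let _ : Fintype (Quotient (MulAction.orbitRel Γ W)) := Fintype.ofFinite _
  have h1 := MulAction.sum_card_fixedBy_eq_card_orbits_mul_card_group Γ W
  have h2 : ∀ s : Γ, Fintype.card (MulAction.fixedBy W s) =
      1 + if s ∈ centralizer (W : Set Γ) then Nat.card W - 1 else 0 := by
    intro s
    have e : Fintype.card (MulAction.fixedBy W s) = Nat.card ↥(W ⊓ centralizer {s}) := by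
      rw [← Nat.card_eq_fintype_card, ← Cfsg.Lib.Block.FixAvg.card_fixed_conjNormal]; rfl
    have hn : (W ⊓ centralizer {s}).Normal := ⟨fun w hw t => ⟨this.conj_mem w hw.1 t, by
      have h3 : Commute w ⁅s⁻¹, t⁻¹⁆ :=
        hc (commutator_mem_commutator (mem_top s⁻¹) (mem_top t⁻¹)) w hw.1
      have h4 : Commute w s := mem_centralizer_singleton_iff.1 hw.2
      have h5 := (h4.mul_right h3).eq
      refine mem_centralizer_singleton_iff.2 ?_
      calc t * w * t⁻¹ * s = t * (w * (s * ⁅s⁻¹, t⁻¹⁆)) * t⁻¹ := by group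
        _ = _ := by rw [h5]; group⟩⟩
    rw [e]
    split_ifs with hs
    · rw [inf_eq_left.2 fun w hw => mem_centralizer_singleton_iff.2 (hs w hw)]
      have := Nat.card_pos (α := W); omega
    · rcases hW.min _ hn inf_le_left with h | h
      · rw [h, card_bot]
      · exact absurd (fun w hw => mem_centralizer_singleton_iff.1 (inf_eq_left.1 h hw)) hs
  simp only [h2, Finset.sum_add_distrib, Finset.sum_const, Finset.card_univ, smul_eq_mul, mul_one,
    ← Finset.sum_filter] at h1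
  have h3 : (Finset.univ.filter fun s : Γ => s ∈ centralizer (W : Set Γ)).card =
      Nat.card (centralizer (W : Set Γ)) := by
    rw [Nat.card_eq_fintype_card, Fintype.card_subtype]
  rw [h3, ← Nat.card_eq_fintype_card, ← (centralizer (W : Set Γ)).card_mul_index] at h1
  have h4 : Nat.card (centralizer (W : Set Γ)) * (centralizer (W : Set Γ)).index ∣
      Nat.card (centralizer (W : Set Γ)) * (Nat.card W - 1) :=
    (Nat.dvd_add_right dvd_rfl).1 (h1 ▸ dvd_mul_left _ _)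
  exact Nat.dvd_of_mul_dvd_mul_left Nat.card_pos h4

omit [Finite Γ] in
theorem num {p a n i : ℕ} (hp : p.Prime) (ha : 0 < a) (han : p ^ a < p ^ n) (h1 : i ∣ p ^ a - 1)
    (h2 : i ∣ p ^ n - 1) : (i + 1) ^ 2 ≤ p ^ n := by
  have han' : a < n := (Nat.pow_lt_pow_iff_right hp.one_lt).1 han
  have h3 : i ∣ p ^ Nat.gcd a n - 1 := Nat.pow_sub_one_gcd_pow_sub_one p a n ▸ Nat.dvd_gcd h1 h2
  have hd : 0 < Nat.gcd a n := Nat.gcd_pos_of_pos_left n ha
  have h4 : 1 < p ^ Nat.gcd a n := Nat.one_lt_pow hd.ne' hp.one_lt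
  have h5 : i + 1 ≤ p ^ Nat.gcd a n := by
    have := Nat.le_of_dvd (by omega) h3
    omega
  obtain ⟨k, hk⟩ := Nat.gcd_dvd_right a n
  have h6 : Nat.gcd a n ≤ a := Nat.gcd_le_left n ha
  have h7 : Nat.gcd a n * 2 ≤ n := by
    have : 2 ≤ k := by
      by_contra h
      have : k = 0 ∨ k = 1 := by omega
      rcases this with rfl | rfl <;> omega
    calc _ ≤ Nat.gcd a n * k := Nat.mul_le_mul_left _ this
      _ = n := hk.symm
  calc (i + 1) ^ 2 ≤ (p ^ Nat.gcd a n) ^ 2 := Nat.pow_le_pow_left h5 2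
    _ ≤ p ^ n := by rw [← pow_mul]; exact Nat.pow_le_pow_right hp.pos h7

variable [hp : Fact p.Prime]

theorem Hyp.sq_le (h : Hyp p P Q x) (hP : IsPGroup p P) {W : Subgroup Γ} (hW : IsMinNormal W)
    (hWQ : W ≤ Q) (hc : P ≤ centralizer (W : Set Γ)) :
    ((centralizer (W : Set Γ)).index + 1) ^ 2 ≤ P.index + 1 := by
  have := h.nQ
  obtain ⟨n, hn⟩ := IsPGroup.iff_card.1 (hP.to_le h.cent_le)
  rw [h.card_map.2] at hn
  have h1 : Nontrivial W := (nontrivial_iff_ne_bot W).2 hW.ne_bot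
  obtain ⟨a, ha0, ha⟩ := (hP.to_le (hWQ.trans h.le)).nontrivial_iff_card.1 h1
  have h2 := h.card_le hWQ fun w hw => mem_centralizer_singleton_iff.2 (hc h.mem w hw)
  rw [hn]
  refine num hp.out ha0 (by omega) (ha ▸ index_dvd_card_sub_one hW (h.comm.trans hc)) ?_
  rw [← hn]
  exact index_dvd_of_le hc

theorem Hyp.not_isMinNormal (h : Hyp p P Q x) (hP : IsPGroup p P) : ¬ IsMinNormal ⁅Q, P⁆ := by
  intro hW
  have := h.nQ
  have := h.nP
  have hWQ : ⁅Q, P⁆ ≤ Q := commutator_le_left Q P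
  have hc : P ≤ centralizer ((⁅Q, P⁆ : Subgroup Γ) : Set Γ) := by
    rw [← le_centralizer_iff, ← commutator_eq_bot_iff_le_centralizer]
    exact commutator_eq_bot_of_minimal_normal_of_isNilpotent hW.min hP.isNilpotent
  let Z := Q ⊓ centralizer (P : Set Γ)
  have hWZ : ⁅Q, P⁆ ≤ Z := le_inf hWQ (le_centralizer_iff.1 hc)
  have hZ : Z < Q := lt_of_le_of_ne inf_le_left fun h' => hW.ne_bot
    (commutator_eq_bot_iff_le_centralizer.2 (h' ▸ inf_le_right))
  obtain ⟨W, hWn, hZW, hWQ', hchief⟩ := Deg.exists_chief_above hZ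
  have hW2 := Deg.isMinNormal_map_of_chief hZW hchief
  have h' := h.map Z inf_le_left
  have hc2 : P.map (QuotientGroup.mk' Z) ≤
      centralizer (W.map (QuotientGroup.mk' Z) : Set (Γ ⧸ Z)) := by
    rw [← le_centralizer_iff, ← commutator_eq_bot_iff_le_centralizer, ← map_commutator,
      Deg.map_mk'_eq_bot_iff]
    exact (commutator_mono hWQ' le_rfl).trans hWZ
  have h1 := h.sq_le hP hW hWQ hc
  have h2 := h'.sq_le (hP.map _) hW2 (map_mono hWQ') hc2
  rw [index_map_eq _ (QuotientGroup.mk'_surjective Z) (by simpa using inf_le_left.trans h.le),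
    ← index_comap_of_surjective _ (QuotientGroup.mk'_surjective Z)] at h2
  set S₁ := centralizer ((⁅Q, P⁆ : Subgroup Γ) : Set Γ)
  set S₂ := (centralizer (W.map (QuotientGroup.mk' Z) : Set (Γ ⧸ Z))).comap (QuotientGroup.mk' Z)
  have hle : S₁ ⊓ S₂ ≤ P := by
    rintro s ⟨hs₁, hs₂⟩
    by_contra hs
    refine hZW.not_ge fun w hw => ⟨hWQ' hw, ?_⟩
    -- the elements `[s, y]` and `Q` centralise `w`
    have hwP : w ∈ P := h.le (hWQ' hw)
    have hz : ⁅s, w⁆ ∈ Z := by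
      rw [← QuotientGroup.eq_one_iff]
      exact commutatorElement_eq_one_iff_mul_comm.2 (hs₂ _ ⟨w, hw, rfl⟩).symm
    have hcomm : ∀ y ∈ P, ⁅w, y⁆ ∈ ⁅Q, P⁆ := fun y hy => commutator_mem_commutator (hWQ' hw) hy
    have h3 : ∀ y ∈ P, Commute w ⁅s, y⁆ := by
      intro y hy
      have hy' : s * y * s⁻¹ ∈ P := h.nP.conj_mem y hy s
      have e1 : s * ⁅w, y⁆ * s⁻¹ = ⁅w, y⁆ := by
        rw [← hs₁ _ (hcomm y hy), mul_inv_cancel_right]
      have e2 : s * ⁅w, y⁆ * s⁻¹ = ⁅w, s * y * s⁻¹⁆ := by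
        have a1 := hz.2 _ (P.mul_mem (P.mul_mem hwP hy') (P.inv_mem hwP))
        calc s * ⁅w, y⁆ * s⁻¹
            = (⁅s, w⁆ * (w * (s * y * s⁻¹) * w⁻¹)) * ⁅s, w⁆⁻¹ * (s * y * s⁻¹)⁻¹ := by group
          _ = _ := by rw [← a1]; group
      have e3 := hc (P.mul_mem hy' (P.inv_mem hy)) _ (hcomm y hy)
      have e4 : w * (s * y * s⁻¹) * w⁻¹ = ⁅w, y⁆ * (s * y * s⁻¹) := by
        rw [← e1, e2]; group
      change w * ⁅s, y⁆ = ⁅s, y⁆ * w
      calc w * ⁅s, y⁆ = (w * (s * y * s⁻¹) * w⁻¹) * (⁅w, y⁆ * y)⁻¹ * w := by group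
        _ = (⁅w, y⁆ * (s * y * s⁻¹ * y⁻¹)) * ⁅w, y⁆⁻¹ * w := by rw [e4]; group
        _ = _ := by rw [e3]; group
    have h4 : ∀ z ∈ Q, Commute w z := by
      intro z hz
      obtain ⟨t, ht, rfl⟩ := h.exists_comm hz
      have a1 := hc ht _ (hcomm x h.mem)
      have a2 := hc h.mem _ (hcomm t ht)
      have a3 := hc ht _ (hcomm t ht)
      have a4 := hc h.mem _ (hcomm x h.mem)
      have c1 : Commute ⁅w, t⁆ t := a3
      have c2 : Commute ⁅w, t⁆ x := a2
      have c3 : Commute ⁅w, x⁆ t := a1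
      have c4 : Commute ⁅w, x⁆ x := a4
      have c5 : Commute ⁅w, t⁆ ⁅w, x⁆ := hc (h.le (hWQ (hcomm x h.mem))) _ (hcomm t ht)
      have e : w * ⁅t, x⁆ * w⁻¹ = ⁅⁅w, t⁆ * t, ⁅w, x⁆ * x⁆ := by group
      change w * ⁅t, x⁆ = ⁅t, x⁆ * w
      rw [← mul_inv_eq_iff_eq_mul, e]
      generalize ⁅w, t⁆ = a at *
      generalize ⁅w, x⁆ = b at *
      have c6 : Commute a (t * (b * x)) := c1.mul_right (c5.mul_right c2)
      have c7 : Commute b (x * t⁻¹ * x⁻¹) := (c4.mul_right c3.inv_right).mul_right c4.inv_right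
      calc ⁅a * t, b * x⁆ = (a * (t * (b * x)) * a⁻¹) * (a * t⁻¹ * a⁻¹) * x⁻¹ * b⁻¹ := by group
        _ = t * (b * (x * t⁻¹ * x⁻¹)) * b⁻¹ := by
          rw [c6.eq, c1.inv_right.eq]; group
        _ = _ := by rw [c7.eq]; group
    -- the map `y ↦ [s, y]` is onto modulo `Q`
    let f : P.map (QuotientGroup.mk' Q) → P.map (QuotientGroup.mk' Q) := fun y =>
      ⟨⁅QuotientGroup.mk' Q s, y⁆, mul_mem ((h.map Q le_rfl).nP.conj_mem _ y.2 _) (inv_mem y.2)⟩
    have hf : Function.Injective f := by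
      rintro ⟨_, a, ha, rfl⟩ ⟨_, b, hb, rfl⟩ hab
      have hab' : QuotientGroup.mk' Q ⁅s, a⁆ = QuotientGroup.mk' Q ⁅s, b⁆ := by
        simpa only [map_commutatorElement] using congrArg Subtype.val hab
      have h5 : ⁅s, a⁆⁻¹ * ⁅s, b⁆ ∈ Q := QuotientGroup.eq.1 hab'
      have h6 : ⁅s, a⁻¹ * b⁆ ∈ Q := by
        have e : ⁅s, a⁻¹ * b⁆ = a⁻¹ * (⁅s, a⁆⁻¹ * ⁅s, b⁆) * a⁻¹⁻¹ := by group
        rw [e]
        exact h.nQ.conj_mem _ h5 _
      have h7 : a⁻¹ * b ∈ Q := by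
        by_contra h7
        exact hs ((h.cent s _ (P.mul_mem (P.inv_mem ha) hb) h7).1 h6)
      exact Subtype.ext (QuotientGroup.eq.2 h7)
    intro u hu
    obtain ⟨⟨_, y, hy, rfl⟩, hyu⟩ := Finite.injective_iff_surjective.1 hf ⟨_, u, hu, rfl⟩
    have h5 : QuotientGroup.mk' Q ⁅s, y⁆ = QuotientGroup.mk' Q u := by
      simpa only [map_commutatorElement] using congrArg Subtype.val hyu
    have h6 := (h3 y hy).mul_right (h4 _ (QuotientGroup.eq.1 h5))
    rw [mul_inv_cancel_left] at h6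
    exact h6.eq.symm
  have h3 : P.index ≤ S₁.index * S₂.index :=
    (Nat.le_of_dvd (Nat.pos_of_ne_zero index_ne_zero_of_finite) (index_dvd_of_le hle)).trans
      index_inf_le
  have h4 : 0 < S₁.index := Nat.pos_of_ne_zero index_ne_zero_of_finite
  nlinarith [sq_nonneg ((S₁.index : ℤ) - S₂.index)]

theorem Hyp.commutator_eq_bot (h : Hyp p P Q x) (hP : IsPGroup p P) : ⁅Q, P⁆ = ⊥ := by
  by_contra h0
  have := h.nQ
  have := h.nP
  obtain ⟨R, hR, -, hlt, hchief⟩ := Deg.exists_chief_below (bot_lt_iff_ne_bot.2 h0)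
  have h1 := Deg.isMinNormal_map_of_chief hlt hchief
  rw [map_commutator] at h1
  exact (h.map R (hlt.le.trans (commutator_le_left Q P))).not_isMinNormal (hP.map _) h1

theorem Hyp.pow_eq_one (h : Hyp p P Q x) (hP : IsPGroup p P) (hp2 : p ≠ 2) : x ^ p = 1 := by
  have := h.nQ
  have hc : ∀ z ∈ Q, ∀ y ∈ P, Commute z y := fun z hz y hy =>
    (commutator_eq_bot_iff_le_centralizer.1 (h.commutator_eq_bot hP) hz y hy).symm
  have h1 : ∀ a ∈ P, ∀ b ∈ P, ⁅a, b⁆ ^ p = 1 := fun a ha b hb => by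
    rw [← Cfsg.Lib.Trans.commutatorElement_pow_right_of_commute (hc _ (h.comm_mem ha hb) b hb)]
    exact commutatorElement_eq_one_iff_mul_comm.2 (hc _ (h.pow b hb) a ha).eq.symm
  let f : P →* Γ := MonoidHom.mk' (fun y => (y : Γ) ^ p) fun a b =>
    Cfsg.Lib.Trans.mul_pow_of_odd_of_commutator_pow_eq_one (hc _ (h.comm_mem b.2 a.2) _ a.2)
      (hc _ (h.comm_mem b.2 a.2) _ b.2) (hp.out.odd_of_ne_two hp2) (h1 _ b.2 _ a.2)
  by_contra hx
  have hker : f.ker = Q.subgroupOf P := by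
    ext y
    rw [MonoidHom.mem_ker, mem_subgroupOf]
    constructor
    · intro hy
      by_contra hyQ
      obtain ⟨s, hs⟩ := isConj_iff.1 (h.cj y y.2 hyQ)
      have hy' : (y : Γ) ^ p = 1 := hy
      rw [← hs, conj_pow, mul_inv_eq_one, mul_eq_left] at hy'
      exact hx hy'
    · intro hy
      obtain ⟨s, hs, e⟩ := h.exists_comm hy
      change (y : Γ) ^ p = 1
      rw [← e]; exact h1 s hs x h.mem
  have h2 : Nat.card f.range = P.index + 1 := by
    rw [← h.card_map.1, ← index_ker, hker, ← relIndex_ker, QuotientGroup.ker_mk']; rfl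
  have h3 : f.range ≤ Q := by rintro _ ⟨y, rfl⟩; exact h.pow y y.2
  have h4 := h.card_le h3 fun z hz => mem_centralizer_singleton_iff.2 (hc z (h3 hz) x h.mem).eq
  omega

omit hp [Finite Γ] in
theorem centralizer_le {A : Subgroup Γ} [hA : A.Normal] (hc : commutator Γ ≤ A)
    (hab : ∀ a ∈ A, ∀ b ∈ A, a * b = b * a) (hodd : Odd p) (hexp : ∀ a ∈ A, a ^ p = 1)
    (hcj : ∀ a ∈ A, ∀ b ∈ A, a ≠ 1 → b ≠ 1 → IsConj a b) (hZ : center Γ ≤ A) {y : Γ} (hy : y ∈ A)
    (hy1 : y ≠ 1) : centralizer {y} ≤ A := by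
  have hcm : ∀ a b : Γ, ⁅a, b⁆ ∈ A := fun a b =>
    hc (commutator_mem_commutator (mem_top a) (mem_top b))
  obtain ⟨k, hk⟩ := hodd
  obtain ⟨t, ht⟩ := isConj_iff.1 (hcj y hy y⁻¹ (A.inv_mem hy) hy1 (inv_ne_one.2 hy1))
  have hall : ∀ a ∈ A, a = 1 ∨ ∃ u, u * y * u⁻¹ = a := fun a ha => by
    by_cases h : a = 1
    · exact Or.inl h
    · exact Or.inr (isConj_iff.1 (hcj y hy a ha hy1 h))
  have hinv : ∀ a ∈ A, t * a * t⁻¹ = a⁻¹ := by
    intro a ha
    rcases hall a ha with rfl | ⟨u, rfl⟩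
    · simp
    · have h1 := hab _ (hcm u⁻¹ t) _ (A.inv_mem hy)
      calc t * (u * y * u⁻¹) * t⁻¹ = u * (⁅u⁻¹, t⁆ * (t * y * t⁻¹)) * ⁅u⁻¹, t⁆⁻¹ * u⁻¹ := by group
        _ = _ := by rw [ht, h1]; group
  intro d hd
  have hd' : d * y = y * d := mem_centralizer_singleton_iff.1 hd
  have hdA : ∀ a ∈ A, d * a = a * d := by
    intro a ha
    rcases hall a ha with rfl | ⟨u, rfl⟩
    · simp
    · have h1 := hab _ (hcm d⁻¹ u⁻¹) _ hy
      calc d * (u * y * u⁻¹) = u * d * (⁅d⁻¹, u⁻¹⁆ * y) * u⁻¹ := by group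
        _ = u * (d * y) * ⁅d⁻¹, u⁻¹⁆ * u⁻¹ := by rw [h1]; group
        _ = _ := by rw [hd']; group
  obtain ⟨a, ha, ha2⟩ : ∃ a ∈ A, a * a = ⁅t, d⁆ := by
    refine ⟨⁅t, d⁆ ^ (k + 1), A.pow_mem (hcm t d) _, ?_⟩
    rw [← pow_add, show k + 1 + (k + 1) = p + 1 by omega, pow_succ, hexp _ (hcm t d), one_mul]
  have h1 : t * (a * d) * t⁻¹ = a * d := by
    calc t * (a * d) * t⁻¹ = (t * a * t⁻¹) * ⁅t, d⁆ * d := by group
      _ = _ := by rw [hinv a ha, ← ha2]; group
  have h2 : ∀ b ∈ A, a * d * b = b * (a * d) := fun b hb => by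
    rw [mul_assoc, hdA b hb, ← mul_assoc, hab a ha b hb, mul_assoc]
  have h3 : a * d ∈ center Γ := by
    generalize a * d = e at h1 h2
    rw [mem_center_iff]
    intro z
    have h4 := hinv _ (hcm e z)
    have h5 : t * ⁅e, z⁆ * t⁻¹ = ⁅e, z⁆ := by
      have a1 := h2 _ (hcm t z)
      have a2 := hab _ (hcm t z) _ (hcm e z)
      calc t * ⁅e, z⁆ * t⁻¹
          = ((t * e * t⁻¹) * ⁅t, z⁆) * z * (t * e * t⁻¹)⁻¹ * z⁻¹ * ⁅t, z⁆⁻¹ := by group
        _ = (⁅t, z⁆ * ⁅e, z⁆) * ⁅t, z⁆⁻¹ := by rw [h1, a1]; group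
        _ = _ := by rw [a2]; group
    have h6 : ⁅e, z⁆ ^ 2 = 1 := by
      rw [sq]; nth_rewrite 1 [← h5, h4]; exact inv_mul_cancel _
    have h7 := hexp _ (hcm e z)
    rw [hk, pow_succ, pow_mul, h6, one_pow, one_mul] at h7
    exact (commutatorElement_eq_one_iff_mul_comm.1 h7).symm
  exact (A.mul_mem_cancel_left ha).1 (hZ h3)

end Grp

theorem solvable_of_normal {G : Type*} [Group G] (N : Subgroup G) [N.Normal] [Group.IsSolvable N]
    [Group.IsSolvable (G ⧸ N)] : Group.IsSolvable G :=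
  Group.isSolvable_of_ker_le_range N.subtype (QuotientGroup.mk' N) (by simp)

theorem solvable_main {G : Type*} [Group G] [Finite G] {g : G} {χ : G → ℂ}
    (hχ : IsIrrCharacter G χ) (hg : g ∈ commutator G) (hgK : g ∉ charKer χ)
    (hcj : ∀ y ∈ commutator G, y ∉ charKer χ → IsConj g y)
    (hvan : ∀ y, y ∉ commutator G → χ y = 0)
    (hker : ∀ ψ, IsIrrCharacter G ψ → ψ g ≠ 0 → charKer χ ≤ charKer ψ) :
    Group.IsSolvable G := by
  set N := commutator G with hN
  set K := charKer χ with hK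
  have hKn : K.Normal := hχ.charKer_normal
  have hKN : K ≤ N := fun y hy => by
    by_contra h
    exact hχ.apply_one_ne_zero ((apply_of_mem_charKer hy).symm.trans (hvan y h))
  have hs := QuotientGroup.mk'_surjective K
  let A := N.map (QuotientGroup.mk' K)
  have hAn : A.Normal := Normal.map inferInstance _ hs
  have hne : ∀ y, QuotientGroup.mk' K y ≠ 1 ↔ y ∉ K := fun y =>
    not_congr (QuotientGroup.eq_one_iff y)
  have hAcj : ∀ a ∈ A, ∀ b ∈ A, a ≠ 1 → b ≠ 1 → IsConj a b := by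
    rintro _ ⟨a, ha, rfl⟩ _ ⟨b, hb, rfl⟩ ha1 hb1
    exact (QuotientGroup.mk' K).map_isConj
      ((hcj a ha ((hne a).1 ha1)).symm.trans (hcj b hb ((hne b).1 hb1)))
  obtain ⟨p, hp, hexp⟩ := exists_prime_pow_eq_one_of_isConj (N := A)
    (fun h => (hne g).2 hgK (mem_bot.1 (h ▸ ⟨g, hg, rfl⟩))) hAcj
  have hp' : Fact p.Prime := ⟨hp⟩
  have hAp : IsPGroup p A := fun a => ⟨1, Subtype.ext (by simpa using hexp a a.2)⟩
  have hAab := comm_of_isConj_of_isPGroup hAp hAcj
  have hpow : ∀ y ∈ N, y ^ p ∈ K := fun y hy => by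
    rw [← QuotientGroup.eq_one_iff]; exact hexp _ ⟨y, hy, rfl⟩
  -- `g` is a `p`-element
  obtain ⟨j, hj⟩ : ∃ j, orderOf g = p ^ j := by
    obtain ⟨j, m, hm, hjm⟩ := Nat.exists_eq_pow_mul_and_not_dvd (orderOf_pos g).ne' p hp.ne_one
    have h1 : g ^ m ∉ K := by
      rw [← hne, map_pow, ne_eq, ← orderOf_dvd_iff_pow_eq_one,
        orderOf_eq_prime (hexp _ ⟨g, hg, rfl⟩) ((hne g).2 hgK)]
      exact hm
    have h2 := (hcj _ (N.pow_mem hg m) h1)
    obtain ⟨i, -, hi⟩ := (Nat.dvd_prime_pow hp).1 (orderOf_dvd_of_pow_eq_one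
      (show (g ^ m) ^ p ^ j = 1 by rw [← pow_mul, mul_comm, ← hjm, pow_orderOf_eq_one]))
    obtain ⟨c, hc⟩ := h2
    exact ⟨i, hi ▸ (SemiconjBy.orderOf_eq (c : G) hc)⟩
  -- the normal `p`-complement of `N`
  let L := (pResidual p N).map N.subtype
  have hLn : L.Normal := inferInstance
  have hLK : L ≤ K := by
    have : pResidual p N ≤ ((QuotientGroup.mk' K).subgroupMap N).ker :=
      Cfsg.Lib.Trans.pResidual_le_ker _ hAp
    rintro _ ⟨y, hy, rfl⟩
    exact (QuotientGroup.eq_one_iff _).1 (congrArg Subtype.val (this hy))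
  have hL : ¬ p ∣ Nat.card L := by
    intro hd
    have e : pResidual p N ≃* L := equivMapOfInjective _ _ N.subtype_injective
    obtain ⟨ψ, hψ, h1, h2⟩ := Deg.relative_thompson hp L hd (by
      have := Deg.not_dvd_index_commutator_pResidual (G := N) hp
      rwa [← card_monoidHom_units, Nat.card_congr (MulEquiv.monoidHomCongrLeft e).toEquiv,
        card_monoidHom_units] at this)
    refine h1 ((commutator_le_left L L).trans (hLK.trans (hker ψ hψ fun h0 => h2 ?_)))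
    exact Cfsg.Agent.S4558.result p ψ hψ.isCharacter g ⟨j, hj⟩ h0
  have hNp : IsPGroup p (N.map (QuotientGroup.mk' L)) := by
    rintro ⟨_, y, hy, rfl⟩
    obtain ⟨k, hk⟩ := Cfsg.Lib.Trans.isPGroup_quotient_pResidual (p := p) (G := N)
      (QuotientGroup.mk ⟨y, hy⟩)
    refine ⟨k, Subtype.ext ((QuotientGroup.eq_one_iff _).2 ⟨_, (QuotientGroup.eq_one_iff _).1 hk, rfl⟩)⟩
  have hq : Group.IsSolvable (G ⧸ L) := by
    have hn : (N.map (QuotientGroup.mk' L)).Normal :=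
      Normal.map inferInstance _ (QuotientGroup.mk'_surjective L)
    have := hNp.isNilpotent
    have : IsMulCommutative ((G ⧸ L) ⧸ N.map (QuotientGroup.mk' L)) := by
      rw [Normal.quotient_commutative_iff_commutator_le, _root_.commutator_def,
        ← map_top_of_surjective _ (QuotientGroup.mk'_surjective L), ← map_commutator]
      exact le_rfl
    have : Group.IsSolvable ((G ⧸ L) ⧸ N.map (QuotientGroup.mk' L)) :=
      Group.isSolvable_of_comm fun a b => this.is_comm.comm a b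
    exact solvable_of_normal (N.map (QuotientGroup.mk' L))
  suffices Group.IsSolvable L from solvable_of_normal L
  by_cases hp2 : p = 2
  · subst hp2
    exact Cfsg.Lib.FT.odd_order_solvable (Nat.odd_iff.2 (Nat.two_dvd_ne_zero.1 hL))
  have hZ : center (G ⧸ K) ≤ A := by
    intro z hz
    obtain ⟨z, rfl⟩ := hs z
    refine ⟨z, ?_, rfl⟩
    by_contra h
    refine apply_ne_zero_of_mem_charCenter hχ.apply_one_ne_zero ?_ (hvan z h)
    rw [hχ.charCenter_eq_comap_center]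
    exact hz
  have hyp : Hyp p N K g := by
    refine ⟨inferInstance, hKn, hKN, le_rfl, hg, hgK, hcj, fun s y hy hyK => ?_, hpow⟩
    rw [← QuotientGroup.eq_one_iff, ← mem_map_iff hKN]
    change QuotientGroup.mk' K _ = 1 ↔ _
    rw [map_commutatorElement, commutatorElement_eq_one_iff_mul_comm]
    refine ⟨fun h => centralizer_le ?_ hAab (hp.odd_of_ne_two hp2) hexp hAcj hZ ⟨y, hy, rfl⟩
      ((hne y).2 hyK) (mem_centralizer_singleton_iff.2 h), fun h => hAab _ h _ ⟨y, hy, rfl⟩⟩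
    rw [_root_.commutator_def, ← map_top_of_surjective _ hs, ← map_commutator]
    exact le_rfl
  have h1 := (hyp.map L hLK).pow_eq_one hNp hp2
  rw [← map_pow] at h1
  have hpL : ∀ l ∈ L, ∀ i, l ^ p ^ i = 1 → l = 1 := by
    intro l hl i h
    have h2 : orderOf l ∣ Nat.card L := orderOf_dvd_natCard L hl
    rw [← orderOf_eq_one_iff]
    exact Nat.eq_one_of_dvd_coprimes (((Nat.Prime.coprime_iff_not_dvd hp).2 hL).pow_left i)
      (orderOf_dvd_of_pow_eq_one h) h2
  have hgp : g ^ p = 1 := hpL _ ((QuotientGroup.eq_one_iff _).1 h1) j (by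
    rw [← pow_mul, mul_comm, pow_mul, ← hj, pow_orderOf_eq_one, one_pow])
  have := Fpf.isNilpotent_of_prime (K := L) hp (by rw [normalizer_eq_top]; trivial) hgp (by
    rw [eq_bot_iff]
    rintro l ⟨hl, hlg⟩
    have hc : Commute l g := mem_centralizer_singleton_iff.1 hlg
    obtain ⟨c, hc'⟩ := isConj_iff.1 (hcj _ (N.mul_mem (hKN (hLK hl)) hg) (hyp.mul_nmem (hLK hl)))
    refine hpL l hl 1 ?_
    have : (l * g) ^ p = 1 := by rw [← hc', conj_pow, hgp]; simp
    rwa [hc.mul_pow, hgp, mul_one, ← pow_one p] at this)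
  infer_instance

/-- Let G be a finite group, g an element outside the centre of G, and χ an irreducible complex character of degree greater than one with χ(g) ≠ 0 such that every other irreducible character of degree greater than one vanishes at g. Then g lies in the derived subgroup G′ and χ(g) = −[G : G′]/χ(1); G′ is the union of the kernel of χ (the elements where χ takes the value χ(1)) and the conjugacy class of g, and χ vanishes outside G′; every irreducible character of degree greater than one whose kernel contains that of χ equals χ; and G is solvable. -/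
theorem result {G : Type*} [Group G] [Finite G] (g : G) (hg : g ∉ Subgroup.center G) (χ : Cfsg.IrrCharacter G) (hχ1 : Cfsg.charDegree (χ : G → ℂ) ≠ 1) (hχg : (χ : G → ℂ) g ≠ 0) (hother : ∀ ψ : Cfsg.IrrCharacter G, Cfsg.charDegree (ψ : G → ℂ) ≠ 1 → ψ ≠ χ → (ψ : G → ℂ) g = 0) : g ∈ commutator G ∧ (χ : G → ℂ) g = -(((commutator G).index : ℂ) / (χ : G → ℂ) 1) ∧ ((commutator G : Set G) = {x : G | (χ : G → ℂ) x = (χ : G → ℂ) 1} ∪ {h : G | IsConj g h}) ∧ (∀ x : G, x ∉ commutator G → (χ : G → ℂ) x = 0) ∧ (∀ ψ : Cfsg.IrrCharacter G, Cfsg.charDegree (ψ : G → ℂ) ≠ 1 → (∀ x : G, (χ : G → ℂ) x = (χ : G → ℂ) 1 → (ψ : G → ℂ) x = (ψ : G → ℂ) 1) → ψ = χ) ∧ Group.IsSolvable G := by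
  classical
  have hlin : ∀ ψ : IrrCharacter G, commutator G ≤ charKer (ψ : G → ℂ) ↔
      charDegree (ψ : G → ℂ) = 1 := fun ψ => Deg.commutator_le_charKer_iff ψ.2
  let S := Finset.univ.filter fun ψ : IrrCharacter G => commutator G ≤ charKer (ψ : G → ℂ)
  have hsum : ∀ h : G, ∑ ψ : IrrCharacter G, (ψ : G → ℂ) g * conj ((ψ : G → ℂ) h) =
      ∑ ψ ∈ S, (ψ : G → ℂ) g * conj ((ψ : G → ℂ) h) + (χ : G → ℂ) g * conj ((χ : G → ℂ) h) := by
    intro h
    have hχS : χ ∉ S := by simp [S, hlin, hχ1]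
    rw [add_comm, ← Finset.sum_insert (f := fun ψ : IrrCharacter G =>
      (ψ : G → ℂ) g * conj ((ψ : G → ℂ) h)) hχS]
    refine (Finset.sum_subset (Finset.subset_univ _) fun ψ _ hψ => ?_).symm
    simp only [S, Finset.mem_insert, Finset.mem_filter, Finset.mem_univ, true_and, not_or,
      hlin] at hψ
    rw [hother ψ hψ.2 hψ.1, zero_mul]
  have hS1 : ∀ ψ ∈ S, (ψ : G → ℂ) 1 = 1 := fun ψ hψ =>
    ψ.2.commutator_le_charKer_iff.1 (Finset.mem_filter.1 hψ).2
  have hSsum : ∀ h : G, ∑ ψ ∈ S, (ψ : G → ℂ) h =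
      if h ∈ commutator G then ((commutator G).index : ℂ) else 0 := fun h => by
    rw [← sum_irr_ker_degree_mul]
    exact Finset.sum_congr rfl fun ψ hψ => by rw [hS1 ψ hψ, one_mul]
  have hg1 : ¬ IsConj g 1 := fun h => hg (by rw [isConj_one_right.1 h.symm]; exact one_mem _)
  have hc1 : conj ((χ : G → ℂ) 1) = (χ : G → ℂ) 1 := by
    rw [← Deg.cast_deg_irr χ.2]; simp
  have hχ0 := χ.2.apply_one_ne_zero
  have h1 := hsum 1
  rw [sum_irr_mul_conj_of_not_isConj hg1, Finset.sum_congr rfl fun ψ hψ => by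
    rw [hS1 ψ hψ, map_one, mul_one], hSsum, hc1] at h1
  have hgN : g ∈ commutator G := by
    by_contra h
    rw [if_neg h, zero_add] at h1
    exact mul_ne_zero hχg hχ0 h1.symm
  rw [if_pos hgN] at h1
  have h2 : ∀ h : G, ¬ IsConj g h → (χ : G → ℂ) h =
      if h ∈ commutator G then (χ : G → ℂ) 1 else 0 := by
    intro h hh
    have h3 := hsum h
    rw [sum_irr_mul_conj_of_not_isConj hh, Finset.sum_congr rfl fun ψ hψ => by
      rw [apply_of_mem_charKer ((Finset.mem_filter.1 hψ).2 hgN), hS1 ψ hψ, one_mul], ← map_sum,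
      hSsum] at h3
    apply (starRingEnd ℂ).injective
    apply mul_left_cancel₀ hχg
    split_ifs at h3 ⊢
    · rw [hc1]
      simp only [map_natCast] at h3
      linear_combination h1 - h3
    · simpa using h3.symm
  have hcjN : ∀ h, IsConj g h → h ∈ commutator G := fun h hh => by
    obtain ⟨c, rfl⟩ := isConj_iff.1 hh
    exact Normal.conj_mem inferInstance g hgN c
  have hvan : ∀ x : G, x ∉ commutator G → (χ : G → ℂ) x = 0 := fun x hx => by
    rw [h2 x fun h => hx (hcjN x h), if_neg hx]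
  have hcj : ∀ y ∈ commutator G, y ∉ charKer (χ : G → ℂ) → IsConj g y := fun y hy hy' => by
    by_contra h
    exact hy' (χ.2.mem_charKer_iff.2 (by rw [h2 y h, if_pos hy]))
  have hgK : g ∉ charKer (χ : G → ℂ) := fun h => hχ1 ((hlin χ).1 fun y hy => by
    by_contra hy'
    obtain ⟨c, rfl⟩ := isConj_iff.1 (hcj y hy hy')
    exact hy' (χ.2.charKer_normal.conj_mem g h c))
  have hKN : charKer (χ : G → ℂ) ≤ commutator G := fun y hy => by
    by_contra h
    exact hχ0 ((apply_of_mem_charKer hy).symm.trans (hvan y h))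
  refine ⟨hgN, ?_, ?_, hvan, fun ψ hψ1 hψ => ?_, solvable_main χ.2 hgN hgK hcj hvan ?_⟩
  · field_simp
    linear_combination -h1
  · ext y
    simp only [SetLike.mem_coe, Set.mem_union, Set.mem_ofPred_eq, ← χ.2.mem_charKer_iff]
    refine ⟨fun hy => or_iff_not_imp_left.2 (hcj y hy), ?_⟩
    rintro (h | h)
    · exact hKN h
    · exact hcjN y h
  · by_contra hne
    have h0 := hother ψ hψ1 hne
    let _ : Fintype (commutator G) := Fintype.ofFinite _
    have h3 := ψ.2.sum_res_eq_zero (commutator G) fun h => hψ1 ((hlin ψ).1 h)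
    rw [Finset.sum_congr rfl (g := fun n : commutator G =>
      if (n : G) ∈ charKer (χ : G → ℂ) then (ψ : G → ℂ) 1 else 0) fun n _ => by
        split_ifs with hn
        · exact hψ n (apply_of_mem_charKer hn)
        · rw [← ψ.2.isClassFunction.eq_of_isConj (hcj n n.2 hn), h0], ← Finset.sum_filter,
      Finset.sum_const, nsmul_eq_mul, mul_eq_zero, Nat.cast_eq_zero, Finset.card_eq_zero] at h3
    rcases h3 with h3 | h3
    · have : (1 : commutator G) ∈ (∅ : Finset (commutator G)) := h3 ▸ by simp [one_mem]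
      simp at this
    · exact ψ.2.apply_one_ne_zero h3
  · intro ψ hψ h0
    by_cases hψ1 : charDegree ψ = 1
    · exact hKN.trans ((hlin ⟨ψ, hψ⟩).2 hψ1)
    · by_contra hne
      exact h0 (hother ⟨ψ, hψ⟩ hψ1 fun h => hne (h ▸ le_rfl))

end Cfsg.Agent.S4805
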