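import Cfsg.Statements.S4811
import Cfsg.Agent.Char.DegGraph

set_option autoImplicit false
open Cfsg

namespace Cfsg.Agent.S4811

/-- For every finite solvable group G the character degree graph of G (vertices: the primes dividing some irreducible complex character degree; edges: distinct primes whose product divides some degree) has at most two connected components. -/
theorem result {G : Type*} [Group G] [Finite G] [Group.IsSolvable G] : Nat.card ((Cfsg.degreeGraph G).induce (Cfsg.degreePrimes G)).ConnectedComponent ≤ 2 := by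
  obtain ⟨r, s, hr, hs, h⟩ := Lib.Char.Deg.exists_two_primes (G := G)
  have key : ∀ t : ℕ, t.Prime → ∀ v w : degreePrimes G, (∃ e ∈ charDegrees G, v.1 ∣ e ∧ t ∣ e) →
      (∃ e ∈ charDegrees G, w.1 ∣ e ∧ t ∣ e) →
      ((degreeGraph G).induce (degreePrimes G)).Reachable v w := by
    rintro t ht v w ⟨d, hd, h1, h2⟩ ⟨e, he, h3, h4⟩
    exact (Lib.Char.Deg.degreeGraph_reachable (w := ⟨t, ht, d, hd, h2⟩) hd h1 h2).trans
      (Lib.Char.Deg.degreeGraph_reachable he h4 h3)
  refine Lib.Char.Deg.card_component_le_two _ _ _ (fun v => ?_) (key r hr) (key s hs)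
  obtain ⟨d, hd, hv⟩ := v.2.2
  obtain ⟨e, he, h1, h2 | h2⟩ := h v v.2.1 d hd hv
  exacts [Or.inl ⟨e, he, h1, h2⟩, Or.inr ⟨e, he, h1, h2⟩]

end Cfsg.Agent.S4811
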