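import Cfsg.Statements.S4848
import Cfsg.Agent.VanP.NV
import Cfsg.Agent.S4558
import Cfsg.Agent.S4456
import Cfsg.Agent.Char.DegBasic
import Cfsg.Agent.Char.Cyclo
import Mathlib.GroupTheory.SchurZassenhaus

set_option autoImplicit false
open Cfsg
open scoped Pointwise

namespace Cfsg.Agent.S4848

open Cfsg.Lib.NonVan

theorem eq_one_of_pow {G : Type*} [Group G] [Finite G] {p : ℕ} {K : Subgroup G}
    (hK : (Nat.card K).Coprime p) {x : G} (hx : x ∈ K) {e : ℕ} (he : x ^ p ^ e = 1) : x = 1 := by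
  have h1 : orderOf x ∣ Nat.card K := Subgroup.orderOf_dvd_natCard K hx
  have h2 : orderOf x ∣ p ^ e := orderOf_dvd_of_pow_eq_one he
  exact orderOf_eq_one_iff.mp
    (Nat.eq_one_of_dvd_coprimes (Nat.Coprime.pow_right e hK) h1 h2)

/-- A `p`-element centralising a non-trivial element of the normal `p`-complement is central. -/
theorem central {G : Type*} [Group G] [Finite G] {p : ℕ} [hp : Fact p.Prime]
    (hvan : ∀ g : G, (∃ χ : Cfsg.IrrCharacter G, (χ : G → ℂ) g = 0) →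
      ∃ m : ℕ, 1 ≤ m ∧ orderOf g = p ^ m)
    {K : Subgroup G} [hN : K.Normal] (hK : (Nat.card K).Coprime p) {k : ℕ} (hk : K.index = p ^ k)
    {u x : G} {e : ℕ} (hu : u ^ p ^ e = 1) (hx : x ∈ K) (hx1 : x ≠ 1) (hc : Commute x u) :
    u ∈ Subgroup.center G := by
  have hg : ∀ χ : IrrCharacter G, (χ : G → ℂ) (x * u) ≠ 0 := by
    intro χ h0
    obtain ⟨m, -, hm⟩ := hvan _ ⟨χ, h0⟩
    apply hx1
    apply eq_one_of_pow hK hx (e := m + e)
    have h1 : (x * u) ^ p ^ (m + e) = 1 := by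
      rw [pow_add, pow_mul, ← hm, pow_orderOf_eq_one, one_pow]
    have h2 : u ^ p ^ (m + e) = 1 := by
      rw [pow_add, mul_comm, pow_mul, hu, one_pow]
    rwa [hc.mul_pow, h2, mul_one] at h1
  have hQ : IsPGroup p (G ⧸ K) := IsPGroup.of_card (n := k) hk
  have := hQ.isNilpotent
  have hcm := comm_mem_of_nilpotent hg K
  have hnd : ¬ p ∣ Nat.card K := (Nat.Prime.coprime_iff_not_dvd hp.out).mp hK.symm
  have hcen : ∀ a ∈ K, u * a * u⁻¹ = a := by
    intro a ha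
    have h := aut_eq_of_isConj hnd (MulAut.conjNormal (H := K) u) (e := e)
      (by rw [← map_pow, hu, map_one]) (fun b => by
        obtain ⟨c, hc', h⟩ := exists_conj hg K hcm (hN.conj_mem _ (hN.conj_mem _ b.2 u) x)
        refine (isConj_iff.mpr ⟨⟨x⁻¹ * c, K.mul_mem (K.inv_mem hx) hc'⟩, Subtype.ext ?_⟩).symm
        simp only [Subgroup.coe_mul, Subgroup.coe_inv, MulAut.conjNormal_apply]
        have h2 : (x * u)⁻¹ * (x * (u * b * u⁻¹) * x⁻¹) * (x * u) = b := by group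
        rw [h2] at h
        calc x⁻¹ * c * b * (x⁻¹ * c)⁻¹ = x⁻¹ * (c * b * c⁻¹) * x := by group
          _ = u * b * u⁻¹ := by rw [h]; group) ⟨a, ha⟩
    exact congrArg Subtype.val h
  rw [Subgroup.mem_center_iff]
  intro y
  have hc1 : u⁻¹ * y * u * y⁻¹ ∈ K := by
    have h1 := hcm y
    have h2 : u⁻¹ * y * u * y⁻¹ =
        (u⁻¹ * x * u) * ((x * u)⁻¹ * y * (x * u) * y⁻¹) * (y * (u⁻¹ * x⁻¹ * u) * y⁻¹) := by group
    rw [h2]
    refine K.mul_mem (K.mul_mem ?_ h1) (hN.conj_mem _ ?_ y)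
    · simpa using hN.conj_mem _ hx u⁻¹
    · simpa using hN.conj_mem _ (K.inv_mem hx) u⁻¹
  have hcomm : Commute u (u⁻¹ * y * u * y⁻¹) := by
    have := hcen _ hc1
    exact mul_inv_eq_iff_eq_mul.mp this
  have h3 : (u * (u⁻¹ * y * u * y⁻¹)) ^ p ^ e = 1 := by
    have : u * (u⁻¹ * y * u * y⁻¹) = y * u * y⁻¹ := by group
    rw [this, conj_pow, hu]; group
  rw [hcomm.mul_pow, hu, one_mul] at h3
  have h4 := eq_one_of_pow hK hc1 h3
  calc y * u = u * (u⁻¹ * y * u * y⁻¹) * y := by group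
    _ = u * y := by rw [h4, mul_one]

/-- Let p be a prime and G a finite non-commutative group in which every vanishing element (an element at which some irreducible character is zero) has order a positive power of p. Then either G is a p-group, or the centre of G equals O_p(G) and G/Z(G) is a Frobenius group with a Frobenius complement of p-power order. -/
theorem result {G : Type*} [Group G] [Finite G] (hna : ¬ IsMulCommutative G) (p : ℕ) [Fact p.Prime] (hvan : ∀ g : G, (∃ χ : Cfsg.IrrCharacter G, (χ : G → ℂ) g = 0) → ∃ m : ℕ, 1 ≤ m ∧ orderOf g = p ^ m) :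
    IsPGroup p G ∨ (Subgroup.center G = Cfsg.pCore p G ∧ ∃ H : Subgroup (G ⧸ Subgroup.center G), Cfsg.IsFrobeniusComplement H ∧ IsPGroup p H) := by
  have hp : p.Prime := Fact.out
  have hzero : ∀ χ : IrrCharacter G, charDegree (χ : G → ℂ) ≠ 1 → ∃ g, (χ : G → ℂ) g = 0 := by
    intro χ h
    apply Cfsg.Lib.Char.irr_exists_eq_zero χ.2
    intro h1
    exact h (Cfsg.Lib.Block.Princ.charDegree_eq_of_apply_one (by rw [h1]; simp))
  obtain ⟨K, hN, hK, k, hk⟩ := Cfsg.Agent.S4456.result (G := G) p hp (fun χ h => by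
    obtain ⟨g, hg⟩ := hzero χ h
    obtain ⟨m, -, hm⟩ := hvan g ⟨χ, hg⟩
    exact Cfsg.Agent.S4558.result p χ χ.2.isCharacter g ⟨m, hm⟩ hg)
  by_cases hK1 : K = ⊥
  · left
    rw [hK1, Subgroup.index_bot] at hk
    exact IsPGroup.of_card hk
  right
  obtain ⟨⟨x₀, hx₀⟩, hx₀1⟩ := Subgroup.ne_bot_iff_exists_ne_one.mp hK1
  have hx₀1 : x₀ ≠ 1 := fun h => hx₀1 (Subtype.ext h)
  -- a vanishing element
  obtain ⟨g₀, e₀, hg₀, hg₀c⟩ : ∃ g₀ : G, ∃ e₀ : ℕ, g₀ ^ p ^ e₀ = 1 ∧ g₀ ∉ Subgroup.center G := by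
    by_contra hcon
    push Not at hcon
    apply hna
    refine ⟨⟨Cfsg.Lib.Char.Deg.comm_of_forall_deg_eq_one fun χ hχ => ?_⟩⟩
    by_contra h
    obtain ⟨g, hg⟩ := hzero ⟨χ, hχ⟩ h
    obtain ⟨m, -, hm⟩ := hvan g ⟨_, hg⟩
    exact ne_zero_of_mem_center (hcon g m (by rw [← hm, pow_orderOf_eq_one])) _ hg
  have hZK : ∀ x ∈ Subgroup.center G, x ∈ K → x = 1 := by
    intro x hxZ hxK
    by_contra hx1
    exact hg₀c (central hvan hK hk hg₀ hxK hx1 (Subgroup.mem_center_iff.mp hxZ g₀).symm)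
  have hZp : ∀ z ∈ Subgroup.center G, z ^ p ^ k = 1 := fun z hz =>
    hZK _ (Subgroup.pow_mem _ hz _) (hk ▸ K.pow_index_mem z)
  obtain ⟨P, hP⟩ := Subgroup.exists_right_complement'_of_coprime (N := K)
    (by rw [hk]; exact Nat.Coprime.pow_right k hK)
  have hPc : Nat.card P = p ^ k := by rw [← hk, hP.symm.index_eq_card]
  have hPp : ∀ v ∈ P, v ^ p ^ k = 1 := fun v hv => by
    rw [← hPc]; exact orderOf_dvd_iff_pow_eq_one.mp (Subgroup.orderOf_dvd_natCard P hv)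
  have hdec : ∀ g : G, ∃ a ∈ K, ∃ v ∈ P, a * v = g := fun g => by
    obtain ⟨⟨a, v⟩, h, -⟩ := hP.existsUnique g
    exact ⟨a, a.2, v, v.2, h⟩
  have hZP : Subgroup.center G ≤ P := by
    intro z hz
    obtain ⟨a, ha, v, hv, h⟩ := hdec z
    have h1 : a = z * v⁻¹ := by rw [← h]; group
    have hc : Commute z v⁻¹ := (Subgroup.mem_center_iff.mp hz v⁻¹).symm
    have h2 : a = 1 := eq_one_of_pow hK ha (e := k) (by
      rw [h1, hc.mul_pow, hZp z hz, hPp _ (P.inv_mem hv), one_mul])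
    rw [← h, h2, one_mul]; exact hv
  refine ⟨le_antisymm ?_ ?_, P.map (QuotientGroup.mk' _), ⟨?_, ?_, ?_⟩, ?_⟩
  · exact le_sSup ⟨inferInstance, fun z => ⟨k, Subtype.ext (hZp z z.2)⟩⟩
  · refine sSup_le ?_
    rintro N ⟨hNn, hNp⟩ u hu
    obtain ⟨e, he⟩ := hNp ⟨u, hu⟩
    refine central hvan hK hk (e := e) (congrArg Subtype.val he) hx₀ hx₀1 ?_
    refine Subgroup.commute_of_normal_of_disjoint K N hN hNn ?_ x₀ u hx₀ hu
    rw [Subgroup.disjoint_def]
    intro y hyK hyN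
    obtain ⟨f, hf⟩ := hNp ⟨y, hyN⟩
    exact eq_one_of_pow hK hyK (e := f) (congrArg Subtype.val hf)
  · intro h
    rw [Subgroup.map_eq_bot_iff, QuotientGroup.ker_mk'] at h
    obtain ⟨a, ha, v, hv, hav⟩ := hdec g₀
    have hc : Commute g₀ v⁻¹ := Subgroup.mem_center_iff.mp (h (P.inv_mem hv)) g₀
    have h1 : a = g₀ * v⁻¹ := by rw [← hav]; group
    have h2 : a = 1 := eq_one_of_pow hK ha (e := e₀ + k) (by
      rw [h1, hc.mul_pow, pow_add, pow_mul, hg₀, one_pow, one_mul, mul_comm, pow_mul,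
        hPp _ (P.inv_mem hv), one_pow])
    apply hg₀c
    rw [← hav, h2, one_mul]; exact h hv
  · intro h
    have h1 : QuotientGroup.mk' (Subgroup.center G) x₀ ∈ P.map (QuotientGroup.mk' _) := by
      rw [h]; trivial
    rw [← Subgroup.mem_comap, Subgroup.comap_map_eq, QuotientGroup.ker_mk', sup_eq_left.mpr hZP] at h1
    exact hx₀1 (eq_one_of_pow hK hx₀ (hPp _ h1))
  · intro g hg
    obtain ⟨g, rfl⟩ := QuotientGroup.mk'_surjective _ g
    rw [eq_bot_iff]
    rintro w ⟨⟨w, hw, rfl⟩, hw2⟩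
    have hw3 : g⁻¹ * w * g ∈ P := by
      have h1 := Subgroup.mem_pointwise_smul_iff_inv_smul_mem.mp hw2
      rw [← map_inv, MulAut.smul_def, MulAut.conj_apply, inv_inv, ← map_inv, ← map_mul, ← map_mul,
        ← Subgroup.mem_comap, Subgroup.comap_map_eq, QuotientGroup.ker_mk',
        sup_eq_left.mpr hZP] at h1
      exact h1
    obtain ⟨a, ha, v, hv, rfl⟩ := hdec g
    have ha1 : a ≠ 1 := by
      rintro rfl
      exact hg ⟨1 * v, by simpa using hv, rfl⟩
    have h1 : w⁻¹ * a⁻¹ * w * a ∈ P := by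
      have : w⁻¹ * a⁻¹ * w * a = w⁻¹ * (v * ((a * v)⁻¹ * w * (a * v)) * v⁻¹) := by group
      rw [this]
      exact P.mul_mem (P.inv_mem hw) (P.mul_mem (P.mul_mem hv hw3) (P.inv_mem hv))
    have h2 : w⁻¹ * a⁻¹ * w * a ∈ K :=
      K.mul_mem (by simpa using hN.conj_mem _ (K.inv_mem ha) w⁻¹) ha
    have h3 := eq_one_of_pow hK h2 (hPp _ h1)
    have hc : Commute a w := by
      show a * w = w * a
      calc a * w = a * w * (w⁻¹ * a⁻¹ * w * a) := by rw [h3, mul_one]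
        _ = w * a := by group
    rw [Subgroup.mem_bot]
    exact (QuotientGroup.eq_one_iff _).mpr (central hvan hK hk (hPp w hw) ha ha1 hc)
  · exact (IsPGroup.of_card hPc).map _

end Cfsg.Agent.S4848
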