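import Cfsg.Statements.S4878
import Cfsg.Agent.Char.PReg2
import Cfsg.Agent.Solv.Ambivalent
import Cfsg.Agent.S2325

set_option autoImplicit false
open Cfsg

namespace Cfsg.Agent.S4878

/-- Let p be a prime and G a finite p-solvable group of order divisible by p in which all non-identity p-elements are conjugate. Then G has at least p conjugacy classes of p-regular elements; or G has exactly p − 1 of them and is isomorphic to the one-dimensional affine group over the field with p elements; or p = 11, G has exactly 9 of them, G has order 121·120 and G is a Frobenius group whose complement is isomorphic to SL(2,5). -/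
theorem result {G : Type*} [Group G] [Finite G] (p : ℕ) [Fact p.Prime] (hsolv : Cfsg.IsPSolvable p G) (hdiv : p ∣ Nat.card G) (hconj : ∀ x y : G, x ≠ 1 → y ≠ 1 → (∃ k : ℕ, orderOf x = p ^ k) → (∃ k : ℕ, orderOf y = p ^ k) → IsConj x y) : p ≤ Nat.card {c : ConjClasses G // ∃ g : G, ConjClasses.mk g = c ∧ ¬ p ∣ orderOf g} ∨ (Nat.card {c : ConjClasses G // ∃ g : G, ConjClasses.mk g = c ∧ ¬ p ∣ orderOf g} = p - 1 ∧ Nonempty (G ≃* ↥(Cfsg.affineGroup (ZMod p)))) ∨ (p = 11 ∧ Nat.card {c : ConjClasses G // ∃ g : G, ConjClasses.mk g = c ∧ ¬ p ∣ orderOf g} = 9 ∧ (Nat.card G = 121 * 120 ∧ ∃ H : Subgroup G, Cfsg.IsFrobeniusComplement H ∧ Nonempty (↥H ≃* Matrix.SpecialLinearGroup (Fin 2) (ZMod 5)))) := by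
  open Subgroup Cfsg.Lib.Solv Cfsg.Lib.Char.PReg Cfsg.Lib.Char.Ct in
  have hp : p.Prime := Fact.out
  have h9 : ∀ {K : Type _} [Group K], (K ≃* Matrix.SpecialLinearGroup (Fin 2) (ZMod 5)) →
      Nat.card (ConjClasses K) = 9 := fun e => by
    have : Fact (Nat.Prime 5) := ⟨by norm_num⟩
    rw [card_classes_congr e, Cfsg.Agent.S2325.result (by simp; decide)]
    simp
  by_cases hN : pPrimeCore p G = ⊥
  · obtain ⟨V, K, h⟩ := exists_st (hsolv.centralizer_pCore_le hN) hdiv hconj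
    obtain ⟨π, h1, h2⟩ := h.exists_proj
    have h3 := card_reg_eq π (fun k => ⟨k, h2 k⟩) h.cop (h1 ▸ fun v => ⟨1, Subtype.ext (by
      simpa using h.exp v v.2)⟩)
    rw [h3]
    rcases h.low with h4 | ⟨h4, h5⟩ | ⟨h4, h5, h6, ⟨e⟩, h7⟩
    · exact Or.inl h4
    · by_cases h6 : p ≤ Nat.card (ConjClasses K)
      · exact Or.inl h6
      · exact Or.inr (Or.inl ⟨by omega, h5⟩)
    refine Or.inr (Or.inr ⟨h4, h9 e, by rw [← h.compl.card_mul_card, h5, h6], K,
      ⟨fun e => by simp [e] at h6, fun e => h.ne (disjoint_top.1 (e ▸ h.compl.disjoint)),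
        fun g hg => eq_bot_iff.2 ?_⟩, ⟨e⟩⟩)
    rintro _ ⟨hx, y, hy, rfl⟩
    obtain ⟨⟨u, k⟩, rfl⟩ := h.compl.2 g
    have h8 : (u : G) ≠ 1 := fun e => hg (by simp [e])
    have h10 : π u = 1 := h1.ge u.2
    have h11 : (u : G) * k * y * ((u : G) * k)⁻¹ = k * y * (k : G)⁻¹ :=
      congrArg Subtype.val ((h2 ⟨_, hx⟩).symm.trans (Eq.trans (by simp [h10])
        (h2 ⟨_, mul_mem (mul_mem k.2 hy) (inv_mem k.2)⟩)))
    refine disjoint_def.1 h.compl.disjoint (h7 _ u u.2 h8 ?_) hx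
    change (u : G) * k * y * ((u : G) * k)⁻¹ * u = u * ((u : G) * k * y * ((u : G) * k)⁻¹)
    conv_rhs => rw [h11]
    group
  left
  set N := pPrimeCore p G
  have hc : (Nat.card N).Coprime p := coprime_card_pPrimeCore p G
  have hk : (QuotientGroup.mk' N).ker = N := QuotientGroup.ker_mk' N
  have hs := QuotientGroup.mk'_surjective N
  have hG := card_eq_card_quotient_mul_card_subgroup N
  obtain ⟨V, K, h⟩ := exists_st (X := G ⧸ N)
    ((hsolv.quotient N).centralizer_pCore_le (pPrimeCore_quotient_pPrimeCore p G))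
    (hc.symm.dvd_of_dvd_mul_right (hG ▸ hdiv)) fun x y hx hy ⟨i, hi⟩ ⟨j, hj⟩ => by
      obtain ⟨x, rfl, hx1⟩ := exists_lift_prime_pow _ hs hp hi
      obtain ⟨y, rfl, hy1⟩ := exists_lift_prime_pow _ hs hp hj
      exact MonoidHom.map_isConj _ (hconj x y (fun e => hx (by simp [e])) (fun e => hy (by simp [e]))
        hx1 hy1)
  obtain ⟨π, h1, h2⟩ := h.exists_proj
  have hπ : Function.Surjective (π.comp (QuotientGroup.mk' N)) :=
    Function.Surjective.comp (g := π) (fun k => ⟨k, h2 k⟩) hs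
  have h3 : ∀ n ∈ N, ¬ p ∣ orderOf n := fun n hn e =>
    hp.coprime_iff_not_dvd.1 hc.symm (e.trans (N.orderOf_dvd_natCard hn))
  have h4 : ∀ n ∈ N, π.comp (QuotientGroup.mk' N) n = 1 := fun n hn => by
    simp [(QuotientGroup.eq_one_iff n).2 hn]
  obtain ⟨⟨n, hn⟩, hn1⟩ := (ne_bot_iff_exists_ne_one).1 hN
  obtain ⟨h5, h6⟩ := card_reg_ge _ hπ h.cop (n := n) (fun e => hn1 (Subtype.ext e)) (h3 n hn)
    (h4 n hn)
  rcases h.low with h7 | ⟨h7, -⟩ | ⟨h7, h8, h10, ⟨e⟩, h11⟩
  · omega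
  · omega
  by_contra h12
  replace h6 := h6 (by rw [h9 e]; omega)
  have h13 : ∀ g : G, π.comp (QuotientGroup.mk' N) g ≠ 1 → ¬ p ∣ orderOf g := fun g hg e => by
    have e1 := orderOf_pow_orderOf_div (orderOf_pos g).ne' e
    have e2 := Real.orderOf_map_of_coprime_ker (QuotientGroup.mk' N) (x := g ^ (orderOf g / p))
      (by rw [hk, e1]; exact hc.symm)
    rw [e1] at e2
    refine hg (h1.ge (h11 _ (QuotientGroup.mk' N (g ^ (orderOf g / p))) (h1.le ?_)
      (fun e => hp.one_lt.ne (by rw [← e2, e, orderOf_one]))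
      (by rw [← map_mul, ← map_mul, ← pow_succ, ← pow_succ'])))
    exact orderOf_eq_one_iff.1 (Nat.eq_one_of_dvd_coprimes (hp.coprime_iff_not_dvd.2 h.cop)
      ((orderOf_map_dvd π _).trans e2.dvd) (orderOf_dvd_natCard _))
  have h14 := (e.toMonoidHom.comp (π.comp (QuotientGroup.mk' N))).ker.card_mul_index
  have h15 := (Nat.card_congr e.toEquiv).symm.trans h10
  have h16 := e.surjective.comp hπ
  rw [index_ker, MonoidHom.range_eq_top.2 h16, card_top, h15, hG, ← h.compl.card_mul_card, h8,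
    h10] at h14
  refine no_ext h15 (e.toMonoidHom.comp (π.comp (QuotientGroup.mk' N))) h16 N hN
    (h7 ▸ hp.coprime_iff_not_dvd.1 hc.symm)
    (fun n hn => (congrArg e (h4 n hn)).trans (map_one e)) (by omega)
    (fun a ha b hb ha1 hb1 => h6 a b ha1 hb1 (h3 a ha) (h3 b hb) (by rw [h4 a ha, h4 b hb]))
    fun g y hg hy => ?_
  have e1 : π.comp (QuotientGroup.mk' N) g ≠ 1 := fun f => hg ((congrArg e f).trans (map_one e))
  have e2 : IsConj (π.comp (QuotientGroup.mk' N) g) (π.comp (QuotientGroup.mk' N) y) := by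
    simpa using e.symm.toMonoidHom.map_isConj hy
  have e3 : π.comp (QuotientGroup.mk' N) y ≠ 1 := fun f => e1 (isConj_one_left.1 (f ▸ e2))
  exact h6 g y (fun f => e1 (by simp [f])) (fun f => e3 (by simp [f])) (h13 g e1) (h13 y e3) e2

end Cfsg.Agent.S4878
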