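import Cfsg.Statements.S4885
import Cfsg.Agent.Block.PQSolv
import Cfsg.Agent.Block.FongPrinc
import Cfsg.Agent.S4591
import Cfsg.Agent.Solv.PGroupBasic
import Cfsg.Agent.Solv.Fitting

set_option autoImplicit false
open Cfsg

namespace Cfsg.Agent.S4885

open Cfsg.Lib.Char Cfsg.Lib.Char.Deg Cfsg.Lib.Block Cfsg.Lib.Block.PQ Cfsg.Lib.Solv Subgroup

/-- Let p and q be primes dividing the order of the finite group G, and suppose G is p-solvable and q-solvable. Fix maximal ideals of the algebraic integers containing p and q, defining the principal p-block and the principal q-block. If the irreducible characters of degree prime to p in the principal p-block are exactly the irreducible characters of degree prime to q in the principal q-block, then p = q. -/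
theorem result {G : Type*} [Group G] [Finite G] (p q : ℕ) [Fact p.Prime] [Fact q.Prime] (hp : p ∣ Nat.card G) (hq : q ∣ Nat.card G) (hps : Cfsg.IsPSolvable p G) (hqs : Cfsg.IsPSolvable q G) (Mp Mq : Ideal Cfsg.AlgInt) (hMp : Cfsg.IsPModular p Mp) (hMq : Cfsg.IsPModular q Mq) (h : ∀ χ : Cfsg.IrrCharacter G, (χ ∈ Cfsg.principalBlock Mp G ∧ ¬ p ∣ Cfsg.charDegree (χ : G → ℂ)) ↔ (χ ∈ Cfsg.principalBlock Mq G ∧ ¬ q ∣ Cfsg.charDegree (χ : G → ℂ))) : p = q := by
  by_contra hpq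
  have h3 : Hyp p q G := fun χ hχ hk hd =>
    ((h ⟨χ, hχ⟩).1 ⟨(mem_principalBlock_iff_of_isPSolvable hMp hps).2 hk, hd⟩).2
  have h4 : Hyp q p G := fun χ hχ hk hd =>
    ((h ⟨χ, hχ⟩).2 ⟨(mem_principalBlock_iff_of_isPSolvable hMq hqs).2 hk, hd⟩).2
  have h5 := h4.not_dvd_index (Ne.symm hpq) hqs hps h3
  obtain ⟨P⟩ : Nonempty (Sylow p G) := inferInstance
  set N := pPrimeCore p G with hN
  set P' := P.mapSurjective (QuotientGroup.mk'_surjective N) with hP'
  have hnil := P'.isPGroup'.isNilpotent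
  have h6 := Cfsg.Agent.S4591.result p P' ⊥ (bot_inf_eq _) fun L hL hLP => by
    by_contra h0
    have h7 := (((hps.quotient N).subgroup L).core_inf_ne_bot (mt le_bot_iff.2 h0)).resolve_right
      (by rw [pPrimeCore_quotient_pPrimeCore, bot_inf_eq, not_not])
    obtain ⟨⟨x, hx⟩, hx1⟩ := ne_bot_iff_exists_ne_one.1 h7
    obtain ⟨⟨z, hz⟩, hz1⟩ := ne_bot_iff_exists_ne_one.1 (PG.inf_center_ne_bot
      (L.subgroupOf (P' : Subgroup (G ⧸ N))) (ne_bot_iff_exists_ne_one.2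
        ⟨⟨⟨x, pCore_le_sylow P' hx.1⟩, hx.2⟩, fun e => hx1
          (Subtype.ext (congrArg (fun y => y.1.1) e))⟩))
    exact hz1 (Subtype.ext (Subtype.ext (eq_bot_iff.1 hLP ⟨hz.1, fun y hy =>
      congrArg Subtype.val (mem_center_iff.1 hz.2 ⟨y, hy⟩)⟩)))
  have h7 : (P' : Subgroup (G ⧸ N)) ≤ ⁅(P' : Subgroup (G ⧸ N)), (P' : Subgroup (G ⧸ N))⁆ := by
    rintro _ ⟨x, hx, rfl⟩
    have h8 : QuotientGroup.mk' N x ∈ {g : G ⧸ N | ∀ χ : IrrCharacter (G ⧸ N),
        ¬ p ∣ charDegree (χ : G ⧸ N → ℂ) → (χ : G ⧸ N → ℂ) g = (χ : G ⧸ N → ℂ) 1} := fun χ hχ =>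
      (apply_of_mem_charKer ((mem_principalBlock_iff_of_isPSolvable hMq hqs).1
        ((h ⟨_, χ.2.inflate⟩).1 ⟨(mem_principalBlock_iff_of_isPSolvable hMp hps).2
          (le_charKer_comp_mk N _), deg_inflate N _ ▸ hχ⟩).1 (le_of_not_dvd P.isPGroup' h5 hx)) :)
    rw [h6, bot_sup_eq] at h8
    exact normalCore_le _ h8
  have h8 := eq_bot_of_le_commutator_of_isNilpotent hnil le_rfl h7
  rw [hP', Sylow.coe_mapSurjective, Subgroup.map_eq_bot_iff, QuotientGroup.ker_mk'] at h8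
  exact not_dvd_card_pPrimeCore p G ((P.dvd_card_of_dvd_card hp).trans (card_dvd_of_le h8))

end Cfsg.Agent.S4885
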