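import Cfsg.Statements.S4957
import Cfsg.Agent.Char.CtMain
import Cfsg.Agent.Solv.ElemAb
import Cfsg.Agent.S4956

set_option autoImplicit false
open Cfsg

namespace Cfsg.Agent.S4957

open Cfsg.Lib.Char

/-- Let X be a finite group and V a normal subgroup of X in which every element has order dividing the prime p, whose index in X is prime to p and which is its own centralizer in X; so V is an elementary abelian normal Sylow p-subgroup, and any complement G to V in X is a group of order prime to p acting faithfully on the vector space V by conjugation (the coprime linear setting of the k(GV) problem). Suppose a complement G to V in X is transitive by conjugation on the nonidentity elements of V. Then X has at most (order of V) conjugacy classes, and if equality holds then G is cyclic (hence, being transitive, a Singer cycle), or V has order 8 and G has order 21 (the nonabelian group of order 21 inside the simple group of order 168), or V has order 9 and G has order 16 (a semidihedral Sylow 2-subgroup of the 2-dimensional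 general linear group over the field with 3 elements). -/
theorem result {X : Type*} [Group X] [Finite X] (p : ℕ) [Fact p.Prime] (V : Subgroup X) [V.Normal] (hVexp : ∀ v ∈ V, v ^ p = 1) (hidx : ¬ p ∣ V.index) (hself : Subgroup.centralizer (V : Set X) = V) (G : Subgroup X) (hGV : Subgroup.IsComplement' V G) (htrans : ∀ v ∈ V, ∀ w ∈ V, v ≠ 1 → w ≠ 1 → ∃ g ∈ G, g * v * g⁻¹ = w) : Nat.card (ConjClasses X) ≤ Nat.card V ∧ (Nat.card (ConjClasses X) = Nat.card V → (IsCyclic G ∨ (Nat.card V = 8 ∧ Nat.card G = 21) ∨ (Nat.card V = 9 ∧ Nat.card G = 16))) := by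
  open Subgroup Cfsg.Lib.Solv Cfsg.Lib.Perm Cfsg.Lib.Char.Ct in
  classical
  by_cases h0 : V = ⊥
  · have h1 : Subsingleton X := ⟨fun a b => by
      have h2 : ∀ x : X, x = 1 := fun x => by
        rw [← mem_bot, ← h0, ← hself, h0]
        rintro _ rfl
        simp
      rw [h2 a, h2 b]⟩
    refine ⟨(card_classes_le_card X).trans ?_, fun _ => Or.inl inferInstance⟩
    rw [Nat.card_unique]
    exact Nat.card_pos
  have hcomm : ∀ a ∈ V, ∀ b ∈ V, a * b = b * a := fun a ha b hb => (hself.ge hb) a ha
  have : ElemAb p V := ⟨fun a b => Subtype.ext (hcomm a a.2 b b.2),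
    fun a => Subtype.ext (hVexp a a.2)⟩
  have hG : ¬ p ∣ Nat.card G := hGV.symm.index_eq_card ▸ hidx
  have := (nontrivial_iff_ne_bot V).2 h0
  let α := conjAutOf V G le_normalizer_of_normal
  let ρ : G →* (Vec p V ≃ₗ[ZMod p] Vec p V) := (Vec.autEquiv p V).toMonoidHom.comp α
  have hρ1 : ∀ (g : G) (v : V) (w : V), ρ g (Vec.ofMul p v) = Vec.ofMul p w ↔
      (g : X) * v * (g : X)⁻¹ = w := fun g v w =>
    (Vec.ofMul p).injective.eq_iff.trans Subtype.ext_iff
  have hρ : Function.Injective ρ := (Vec.autEquiv p V).injective.comp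
    ((injective_iff_map_eq_one α).2 fun g hg => Subtype.ext (disjoint_def.1 hGV.disjoint
      (hself.le ((mem_ker_conjAutOf _).1 hg)) g.2))
  have ht : VTrans ρ := fun v w hv hw => by
    obtain ⟨g, hg, h1⟩ := htrans _ (Vec.toMul v).2 _ (Vec.toMul w).2
      (fun e => hv (Vec.toMul_eq_one.1 (Subtype.ext e)))
      (fun e => hw (Vec.toMul_eq_one.1 (Subtype.ext e)))
    exact ⟨⟨g, hg⟩, (hρ1 _ _ _).2 h1⟩
  obtain ⟨v, hv⟩ := exists_ne (1 : V)
  have hv1 : (v : X) ≠ 1 := fun e => hv (Subtype.ext e)
  have h1 := Cfsg.Agent.S4956.result V hcomm G hGV (by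
    obtain ⟨k, hk⟩ := IsPGroup.iff_card.1 (ElemAb.isPGroup p V)
    rw [hk]
    exact ((Fact.out : p.Prime).coprime_iff_not_dvd.2 hG).pow_left k) {1, (v : X)}
    (by simp) fun w hw => by
      by_cases hw1 : w = 1
      · refine ⟨1, ⟨by simp, 1, G.one_mem, by simp [hw1]⟩, ?_⟩
        rintro _ ⟨-, g, -, rfl⟩
        simp [hw1]
      · refine ⟨v, ⟨by simp, htrans w hw v v.2 hw1 hv1⟩, ?_⟩
        rintro s ⟨hs, g, -, rfl⟩
        simpa [hw1] using hs
  rw [Finset.sum_pair hv1.symm, inf_eq_left.2 (fun g _ => by simp [mem_centralizer_singleton_iff])] at h1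
  obtain ⟨h2, h3⟩ := upper ht hρ hG (v := Vec.ofMul p v) fun e => hv (Vec.ofMul_eq_zero.1 e)
  have h4 : Nat.card (G ⊓ centralizer {(v : X)} : Subgroup X) =
      Nat.card (vStab ρ (Vec.ofMul p v)) := by
    rw [← card_map_of_injective (K := vStab ρ _) G.subtype_injective]
    congr 2
    ext g
    simp only [mem_inf, mem_centralizer_singleton_iff, mem_map, mem_vStab, hρ1,
      mul_inv_eq_iff_eq_mul]
    exact ⟨fun h => ⟨⟨g, h.1⟩, h.2, rfl⟩, fun ⟨a, ha, e⟩ => e ▸ ⟨a.2, ha⟩⟩
  have h5 := card_classes_le_card (G ⊓ centralizer {(v : X)} : Subgroup X)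
  rw [Vec.card_vec] at h2 h3
  exact ⟨by omega, fun e => h3 (by omega)⟩

end Cfsg.Agent.S4957
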