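import Cfsg.Statements.S4997
import Cfsg.Agent.Van.Main
import Cfsg.Agent.Solv.Nilpotent
-- import your own Cfsg.Agent.* helpers here

set_option autoImplicit false
open Cfsg

namespace Cfsg.Agent.S4997

/-- Let p be an odd prime and G a finite solvable group with exactly one conjugacy class consisting of vanishing elements (elements at which some irreducible complex character is zero) of order divisible by p. Let P be a Sylow p-subgroup of G. Then the order of P is at most p times the order of the largest normal p-subgroup of G. -/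
theorem result {G : Type*} [Group G] [Finite G] (hsolv : Group.IsSolvable G) (p : ℕ) [Fact p.Prime] (hp : p ≠ 2) (h1 : Set.ncard {C : ConjClasses G | (∀ g ∈ C.carrier, ∃ χ : Cfsg.IrrCharacter G, (χ : G → ℂ) g = 0) ∧ ∃ g ∈ C.carrier, p ∣ orderOf g} = 1) (P : Sylow p G) : Nat.card ↥(P : Subgroup G) ≤ p * Nat.card ↥(Cfsg.pCore p G) := by
  obtain ⟨C, hC⟩ := Set.ncard_eq_one.1 h1
  have hmem : ∀ g : G, Cfsg.Lib.Van.IsVan g → p ∣ orderOf g → ConjClasses.mk g = C := by
    intro g ⟨χ, hχ, h0⟩ hpg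
    rw [← Set.mem_singleton_iff, ← hC]
    refine ⟨fun x hx => ⟨⟨χ, hχ⟩, ?_⟩, g, ConjClasses.mem_carrier_mk, hpg⟩
    obtain ⟨c, rfl⟩ := isConj_iff.1
      (ConjClasses.mk_eq_mk_iff_isConj.1 (ConjClasses.mem_carrier_iff_mk_eq.1 hx)).symm
    exact (hχ.isClassFunction _ _).trans h0
  obtain ⟨g₀, rfl⟩ := ConjClasses.mk_surjective C
  have h2 : Nat.card ((P : Subgroup G).map (QuotientGroup.mk' (Cfsg.pCore p G))) ∣ p :=
    Cfsg.Lib.Van.card_map_dvd (b := orderOf g₀) (fun g hg hpg => by
      obtain ⟨c, rfl⟩ := isConj_iff.1 (ConjClasses.mk_eq_mk_iff_isConj.1 (hmem g hg hpg))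
      exact ((MulAut.conj c).orderOf_eq g).symm) P.isPGroup'
  rw [Cfsg.Lib.Solv.ClassNum.card_eq_card_map_mul (QuotientGroup.mk' (Cfsg.pCore p G))
    (P : Subgroup G), QuotientGroup.ker_mk']
  exact Nat.mul_le_mul (Nat.le_of_dvd (Fact.out : p.Prime).pos h2)
    (Subgroup.card_le_of_le inf_le_right)

end Cfsg.Agent.S4997
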