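import Cfsg.Statements.S5143
import Cfsg.Agent.Fus.ProdUse

set_option autoImplicit false
open Cfsg

namespace Cfsg.Agent.S5143

open Cfsg.Lib.Fus Cfsg.FusionSystem


/-- Let F be a saturated fusion system over a finite p-group S, E a normal subsystem over T, and R a subgroup with T ≤ R ≤ S. Then there is exactly one saturated subsystem D of F over R (exactly one family of map sets) whose p-residual subsystem is that of E: the hyperfocal subgroups of D and E coincide and the p-residual subsystems of D and of E have the same maps. -/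
theorem result {Ω : Type*} [Group Ω] {S : Subgroup Ω} [Finite S] (p : ℕ) [Fact p.Prime] (hS : IsPGroup p S) (F : Cfsg.FusionSystem S) (hF : F.IsSaturated p) {T : Subgroup Ω} (E : Cfsg.FusionSystem T) (hE : E.IsNormalIn F p) (R : Subgroup Ω) (hTR : T ≤ R) (hRS : R ≤ S) : ∃ D : Cfsg.FusionSystem R, (D.IsSaturated p ∧ D.IsSubsystemOf F ∧ D.hyperfocalSubgroup p = E.hyperfocalSubgroup p ∧ ∀ (D₁ : Cfsg.FusionSystem (D.hyperfocalSubgroup p)) (E₁ : Cfsg.FusionSystem (E.hyperfocalSubgroup p)), D.IsPResidual p D₁ → E.IsPResidual p E₁ → ∀ P : Subgroup Ω, D₁.Hom P = E₁.Hom P) ∧ ∀ D' : Cfsg.FusionSystem R, D'.IsSaturated p → D'.IsSubsystemOf F → D'.hyperfocalSubgroup p = E.hyperfocalSubgroup p → (∀ (D₁ : Cfsg.FusionSystem (D'.hyperfocalSubgroup p)) (E₁ : Cfsg.FusionSystem (E.hyperfocalSubgroup p)), D'.IsPResidual p D₁ → E.IsPResidual p E₁ → ∀ P : Subgroup Ω, D₁.Hom P = E₁.Hom P) → ∀ P : Subgroup Ω, D'.Hom P = D.Hom P := by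
  have hT := hE.1.2.2.2.1
  have := finite_of_le hT.1
  have := finite_of_le hRS
  have hpT := hS.to_le hT.1
  have hpR := hS.to_le hRS
  obtain ⟨E₀, h₀⟩ := exists_pResidual hpT hE.1.1
  have hn₀ : E₀.IsNormalIn F p := isNormalIn_of_conjInv hS hE (pResidual_normal hpT hE.1.1 h₀) fun a ha => by
    have h1 := fIso_of_piso hE.1.2.2 ha
    have h2 : ∀ {a : Equiv.Perm Ω}, PIso F a T T → ∀ x ∈ E.hyperfocalSubgroup p,
        a x ∈ E.hyperfocalSubgroup p := fun {a} ha x hx => by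
      have := mem_img_of_mem a hx
      rwa [← (fIso_of_piso hE.1.2.2 ha).fImg.hyperfocal hpT hE.1.1] at this
    exact ⟨h2 ha, conjInv_of_pPowerIndex hpT hE.1.1 h₀.1 h₀.2 h1 ⟨ha.mor.mulOn.mono hyperfocalSubgroup_le,
      fun x => ⟨fun hx => by simpa using h2 ha.symm _ hx, h2 ha x⟩⟩⟩
  obtain ⟨D, h1, h2, h3⟩ := exists_product hS hn₀ (hyperfocalSubgroup_le.trans hTR) hRS
  have e : D.hyperfocalSubgroup p = E.hyperfocalSubgroup p :=
    (HasPPowerIndexIn.hyperfocal_eq hpR h3).symm.trans (HasPPowerIndexIn.hyperfocal_eq hpT h₀.2)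
  refine ⟨D, ⟨h1, sub_trans h2.1 esSys_sub, e, fun D₁ E₁ hD₁ hE₁ P => ?_⟩, fun D' a1 a2 a3 a4 P => ?_⟩
  · obtain rfl := pResidual_unique hpT h₀ hE₁
    exact Set.Subset.antisymm (HasPPowerIndexIn.sub hpR h3 hD₁.1 hD₁.2.1 e.le P)
      (HasPPowerIndexIn.sub hpR hD₁.2 h₀.1 h3.1 e.ge P)
  · obtain ⟨D₁, hD₁⟩ := exists_pResidual hpR a1
    have b1 := a4 D₁ E₀ hD₁ h₀
    have b2 : E₀.HasPPowerIndexIn D' p := hasPPowerIndexIn_of_piso (fun P => b1 P ▸ hD₁.2.1 P) a3.le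
      fun P f hP hf hp' => (hom_eq_iff.1 b1 P f).1
        (HasPPowerIndexIn.piso hD₁.2 (hP.trans a3.ge) hf hp').mor
    have b3 := HasPPowerIndexIn.sub hS h2 a1 (sub_esSys_of_pPowerIndex hS hn₀.1 a1 a2 b2) le_rfl
    exact Set.Subset.antisymm (b3 P) (sub_of_pPowerIndex_of_sub hpR h1 a1 b3 (isNormalIn_of_pPowerIndex hpR a1
      (hRS.trans (le_normalizer_of_stronglyClosed hn₀.1.2.2.2.1)) h₀.1 b2) h3 P)

end Cfsg.Agent.S5143
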