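import Cfsg.Statements.S5178
import Cfsg.Agent.Fus.EssCentSq
import Cfsg.Agent.S5233

set_option autoImplicit false
universe u
open Cfsg

namespace Cfsg.Agent.S5178

open Cfsg.Lib.Fus Cfsg.Lib.Fus.Ess Cfsg.FusionSystem Cfsg.Lib.Solv
open Subgroup hiding upperCentralSeries
open scoped commutatorElement

/-- Let p be an odd prime, S a finite p-group containing an extraspecial subgroup Q of index p, and F a saturated fusion system over S whose largest subgroup normal in F is trivial. Then the centre of S equals the centre of Q. -/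
theorem result {Ω : Type u} [Group Ω] {S : Subgroup Ω} [Finite S] (p : ℕ) [Fact p.Prime] (hp : Odd p) (hS : IsPGroup p S)
    (Q : Subgroup Ω) (hQS : Q ≤ S) (hQ : Cfsg.IsExtraspecial p ↥Q) (hQi : (Q.subgroupOf S).index = p)
    (F : Cfsg.FusionSystem S) (hF : F.IsSaturated p) (hO : F.core = ⊥) :
    S ⊓ Subgroup.centralizer (S : Set Ω) = Q ⊓ Subgroup.centralizer (Q : Set Ω) := by
  have hp0 : Fact p.Prime := inferInstance
  have hp2 : p ≠ 2 := fun e => by subst e; exact absurd hp (by decide)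
  have := finite_of_le hQS
  have hc := card_eq_of_index hQS hQi
  have hN := le_normalizer_of_card_le hS hc.le hQS
  have hZQ : Nat.card (centralizerIn Q Q) = p := by
    rw [centralizerIn, ← map_subtype_center, card_map_of_injective Q.subtype_injective, hQ.2]
  have hD : ⁅Q, Q⁆ = centralizerIn Q Q := by
    rw [← Subgroup.map_subtype_commutator, hQ.1.2.2, map_subtype_center]; rfl
  have hZS : centralizerIn Q Q ≤ S := centralizerIn_le.trans hQS
  refine le_antisymm (fun y hy => ?_) fun a ha => ⟨hZS ha, fun s hs => ?_⟩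
  swap
  · have : ((centralizerIn Q Q).subgroupOf S).Normal := (normal_subgroupOf_iff_le_normalizer hZS).2
      (hD ▸ le_normalizer_commutator hN hN)
    exact congrArg Subtype.val (mem_center_iff.1 (PG.le_center_of_card_eq_prime hS _
      ((card_subgroupOf_of_le hZS).trans hZQ) (show (⟨a, hZS ha⟩ : S) ∈ _ from ha)) ⟨s, hs⟩)
  by_contra hn
  have hyQ : y ∉ Q := fun e => hn ⟨e, fun q hq => hy.2 q (hQS hq)⟩
  have hdec : ∀ s ∈ S, ∃ q ∈ Q, ∃ w ∈ zpowers y, s = q * w := fun s hs =>
    (PG.mem_sup_iff_of_le_normalizer (zpowers_le_of_mem (hN hy.1))).1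
      ((sup_zpowers_eq_of_card_le hS hc.le hQS hy.1 hyQ).ge hs)
  have hw : ∀ {w}, w ∈ zpowers y → w ∈ centralizerIn S S := fun hw => zpowers_le_of_mem hy hw
  have hSS : ⁅S, S⁆ = ⁅Q, Q⁆ := le_antisymm (commutator_le.2 fun a ha b hb => by
    obtain ⟨q, hq, u, hu, rfl⟩ := hdec a ha
    obtain ⟨r, hr, v, hv, rfl⟩ := hdec b hb
    have : ⁅q * u, r * v⁆ = ⁅q, r⁆ := by
      rw [commutatorElement_def, mul_assoc q u, ← (hw hu).2 _ hb, mul_inv_rev q, ← mul_assoc q,
        ← mul_assoc, mul_inv_cancel_right, mul_inv_rev r, ← mul_assoc q, mul_assoc _ v,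
        ← (hw hv).2 _ (inv_mem (hQS hq)), ← mul_assoc, ← mul_assoc, mul_inv_cancel_right,
        commutatorElement_def]
    exact this ▸ commutator_mem_commutator hq hr) (commutator_mono hQS hQS)
  have hS1 : S ≠ ⊥ := fun e => hyQ (e.le hy.1 ▸ one_mem _)
  have hnn : ¬ F.IsNormal S := fun h => hS1 (eq_bot_iff.2 (hO ▸ le_core h))
  have hyp : y ^ p ∈ Q := PG.pow_mem_of_index_eq_prime hS hQi ⟨y, hy.1⟩
  obtain ⟨E, _, A, _, h1, h2, -, -, ⟨e⟩⟩ := not_not.1 fun h => hnn (S5233.result p hS F hF S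
    (stronglyClosed_top F) ⟨map_injective S.subtype_injective (by
      rw [Subgroup.map_subtype_commutator]
      refine le_antisymm ((map_frattini_le_iff hS _).2 ⟨le_rfl, fun s hs => ?_⟩)
        ((map_frattini_le_iff hS _).1 le_rfl).1
      obtain ⟨q, hq, u, hu, rfl⟩ := hdec s hs
      obtain ⟨i, rfl⟩ := mem_zpowers_iff.1 hu
      rw [Commute.mul_pow ((hw hu).2 q (hQS hq)), hSS, hD, ← zpow_natCast (y ^ i), ← zpow_mul,
        mul_comm i, zpow_mul, zpow_natCast]
      refine mul_mem ?_ (zpow_mem (show _ ∈ centralizerIn Q Q from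
        ⟨hyp, fun a ha => (pow_mem hy p).2 a (hQS ha)⟩) i)
      rw [centralizerIn, ← map_subtype_center, ← hQ.1.2.1]
      exact ⟨_, pow_mem_frattini hQ.1.1 ⟨q, hq⟩, rfl⟩), by
        rw [← card_map_of_injective S.subtype_injective, Subgroup.map_subtype_commutator, hSS, hD,
          hZQ]⟩ (fun h => (hp2 h).elim) fun _ => h)
  have h3 : CSq p S := ⟨hS, fun hc => hnn (isNormal_top_of_comm hS hF fun _ hx _ hy =>
    PG.mul_comm_of_mem hx hy), by
      rw [centralizerIn, ← map_subtype_center, card_map_of_injective S.subtype_injective,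
        Nat.card_congr e.toEquiv, Nat.card_prod, h2, pow_succ, mul_assoc, ← h1.2,
        ← card_top (G := A), ← Nat.card_prod, ← Nat.card_congr (prodEquiv _ _).toEquiv,
        ← card_map_of_injective (f := e.symm.toMonoidHom) e.symm.injective]
      refine Nat.mul_le_mul_left _ (card_le_of_le ?_)
      rintro _ ⟨a, ha, rfl⟩
      refine mem_center_iff.2 fun b => e.injective ?_
      simp only [map_mul, MulEquiv.coe_toMonoidHom, MulEquiv.apply_symm_apply]
      exact Prod.ext (mem_center_iff.1 ha.1 _) (mul_comm _ _)⟩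
  obtain ⟨P, hP⟩ := exists_essential_of_core_eq_bot hS hF hS1 hO
  exact hyQ (commutator_le_self Q (((h3.cent_eq hp2 hF hO hP).trans hSS).le hy))

end Cfsg.Agent.S5178
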