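import Cfsg.Statements.S5177
import Cfsg.Agent.XS.Glue
import Cfsg.Agent.XS.Co
import Cfsg.Agent.XS.EC
import Cfsg.Agent.XS.Emb
import Cfsg.Agent.XS.Exp
import Cfsg.Agent.XS.L22
import Cfsg.Agent.XS.L4
import Cfsg.Agent.XS.LNa
import Cfsg.Agent.XS.LNb
import Cfsg.Agent.XS.LP3
import Cfsg.Agent.XS.LR
import Cfsg.Agent.XS.LR2
import Cfsg.Agent.XS.MG2
import Cfsg.Agent.XS.MSL
import Cfsg.Agent.XS.MSU
import Cfsg.Agent.XS.P1a
import Cfsg.Agent.XS.P1b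
import Cfsg.Agent.XS.P2
import Cfsg.Agent.XS.P4
import Cfsg.Agent.XS.R2
import Cfsg.Agent.XS.Up
import Cfsg.Agent.XS.V
import Cfsg.Agent.XS.Char
import Cfsg.Agent.XS.Q1
import Cfsg.Agent.XS.QG
import Cfsg.Agent.XS.N1
import Cfsg.Agent.XS.Kap
import Cfsg.Agent.S5178

set_option autoImplicit false
universe u
open Cfsg Cfsg.Lib.XS

namespace Cfsg.Agent.S5177

/-- Let p be an odd prime, S a finite p-group of order at least p⁶ containing an extraspecial subgroup Q of index p, and F a saturated fusion system over S whose largest subgroup normal in F is trivial. Then S is isomorphic to a Sylow p-subgroup of SL(4,p), to a Sylow p-subgroup of SU(4,p), to a Sylow p-subgroup of G₂(p) with p ≥ 5, or p ≥ 11 and S has order p^(p−1), exponent p and maximal nilpotency class. -/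
theorem result {Ω : Type u} [Group Ω] {S : Subgroup Ω} [Finite S] (p : ℕ) [Fact p.Prime] (hp : Odd p) (hS : IsPGroup p S)
    (Q : Subgroup Ω) (hQS : Q ≤ S) (hQ : Cfsg.IsExtraspecial p ↥Q) (hQi : (Q.subgroupOf S).index = p)
    (h6 : p ^ 6 ≤ Nat.card S)
    (F : Cfsg.FusionSystem S) (hF : F.IsSaturated p) (hO : F.core = ⊥) [Group.IsNilpotent ↥S] :
    (∃ P : Sylow p (Matrix.SpecialLinearGroup (Fin 4) (ZMod p)),
        Nonempty (↥S ≃* ↥(P : Subgroup (Matrix.SpecialLinearGroup (Fin 4) (ZMod p))))) ∨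
      (∃ (K : Type) (_ : Field K) (_ : Fintype K), Fintype.card K = p ^ 2 ∧
        ∃ P : Sylow p ↥(Cfsg.SU 4 K p), Nonempty (↥S ≃* ↥(P : Subgroup ↥(Cfsg.SU 4 K p)))) ∨
      (5 ≤ p ∧ ∃ P : Sylow p ↥(Cfsg.Lie.G2 (ZMod p)), Nonempty (↥S ≃* ↥(P : Subgroup ↥(Cfsg.Lie.G2 (ZMod p))))) ∨
      (11 ≤ p ∧ Nat.card S = p ^ (p - 1) ∧ (∀ x : ↥S, x ^ p = 1) ∧ Group.nilpotencyClass ↥S = p - 2) := by
  have h2 : p ≠ 2 := fun e => absurd (e ▸ hp) (by decide)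
  obtain ⟨m, ⟨C⟩⟩ := wCo p h2 hS Q hQS hQ hQi h6
    (Cfsg.Agent.S5178.result p hp hS Q hQS hQ hQi F hF hO)
  have hC : C.WChar F := C.wChar
  rcases C.good_or hO (C.wQ hF C.wQ1 (fun _ => lJor _ _) (C.wExp hF) hC (wV C)) (C.wN1 hF)
    (wEC C) C.wKap (fun _ _ _ => lNb _ _ _ _ (lNa _ _ _ _)) (C.wR1 fun _ _ => lR1 _)
    (wR2 C hF (fun _ _ => lR2 _) hC) (C.wP0 fun _ _ => lP0 _)
    (wP2 C (wUp hS hF) C.wP1a (C.wP1b C.wP1a)) (wP3 C hC fun _ => lP3 _ _) C.wP4 with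
    ⟨e, he⟩ | h
  · rcases C.lie3 he (wSpl C) (wEmb C) (fun _ _ _ _ _ _ => l4 _ _ _ _)
      (fun _ _ _ _ _ _ => l22 _ _ _ _) (mSL p) (mSU p) (mG2 p) with h | h | h
    exacts [Or.inl h, Or.inr (Or.inl h), Or.inr (Or.inr (Or.inl h))]
  · exact Or.inr (Or.inr (Or.inr h))

end Cfsg.Agent.S5177
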