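import Cfsg.Statements.S5179
import Cfsg.Agent.Fus.EssAbP

set_option autoImplicit false
universe u
open Cfsg

namespace Cfsg.Agent.S5179

open Cfsg.Lib.Fus Cfsg.Lib.Fus.Ess Cfsg.FusionSystem Cfsg.Lib.Solv
open Subgroup hiding upperCentralSeries
open scoped commutatorElement

/-- Let p be an odd prime, S a finite p-group of order at least p⁶ containing an extraspecial subgroup Q of index p, and F a saturated fusion system over S whose largest subgroup normal in F is trivial. Then no proper subgroup of Q is essential in F: an essential subgroup of F contained in Q equals Q. -/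
theorem result {Ω : Type u} [Group Ω] {S : Subgroup Ω} [Finite S] (p : ℕ) [Fact p.Prime] (hp : Odd p) (hS : IsPGroup p S)
    (Q : Subgroup Ω) (hQS : Q ≤ S) (hQ : Cfsg.IsExtraspecial p ↥Q) (hQi : (Q.subgroupOf S).index = p)
    (h6 : p ^ 6 ≤ Nat.card S)
    (F : Cfsg.FusionSystem S) (hF : F.IsSaturated p) (hO : F.core = ⊥)
    (E : Subgroup Ω) (hEQ : E ≤ Q) (hE : F.IsEssential p E) : E = Q := by
  by_contra hne
  have hES := hEQ.trans hQS
  have := finite_of_le hQS
  have := finite_of_le hES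
  have hP := Lib.Trans.ES.IsPre.of_isExtraspecial hQ
  obtain ⟨z, hz, hz1⟩ := hP.exists_center_ne_one
  have hzE : (z : Ω) ∈ E := isCentric_self hE.1 ⟨hQS z.2, fun x hx =>
    congrArg Subtype.val (mem_center_iff.1 hz ⟨x, hEQ hx⟩)⟩
  have hcm : ∀ x ∈ Q, ∀ q ∈ Q, ⁅x, q⁆ ∈ zpowers (z : Ω) := fun x hx q hq =>
    coe_mem_zpowers_iff.2 (show ⁅(⟨x, hx⟩ : Q), ⟨q, hq⟩⁆ ∈ zpowers z from by
      rw [hP.zpowers_eq hz hz1, ← hQ.1.2.2]
      exact commutator_mem_commutator (mem_top _) (mem_top _))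
  have hN : Q ≤ normalizer (E : Set Ω) := fun q hq => PG.mem_normalizer_of_commutator_mem hEQ hq
    fun s hs => zpowers_le_of_mem hzE (hcm q hq s hs)
  have htv : ∀ q (hq : q ∈ Q), Tv p (conjAut E q (hN hq)) ⟨z, hzE⟩ := fun q hq =>
    ⟨Subtype.ext (congrArg (Subtype.val : Q → Ω) (hP.pow_eq_one_of_mem_center hz)),
      Subtype.ext (mul_inv_eq_iff_eq_mul.2 (congrArg Subtype.val (mem_center_iff.1 hz ⟨q, hq⟩))),
      fun u _ => coe_mem_zpowers_iff.1 (by
        rw [coe_mul, coe_inv, conjAut_apply, inv_mul_conj_eq]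
        exact hcm _ (inv_mem (hEQ u.2)) q hq)⟩
  obtain ⟨x, hx, hxE⟩ := SetLike.exists_of_lt (lt_of_le_of_ne hEQ hne)
  have hR := (radIn_of_essential hS hE).rad hS le_rfl hES (hQS hx) (hN hx) hxE
  have hc : IsMulCommutative E := ⟨⟨fun a b => by_contra fun hab => hR.not_triv_frattini
    ((htv x hx).triv.mono le_rfl ?_)⟩⟩
  swap
  · have h1 : ⁅a, b⁆ ∈ zpowers (⟨z, hzE⟩ : E) :=
      coe_mem_zpowers_iff.1 (hcm a (hEQ a.2) b (hEQ b.2))
    rw [← zpowers_eq_of_card_prime' (p := p) (by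
      rw [Nat.card_zpowers, ← orderOf_coe]
      exact (orderOf_coe z).trans (hP.orderOf_eq hz hz1)) h1
        (fun e => hab (commutatorElement_eq_one_iff_mul_comm.1 e))]
    refine zpowers_le_of_mem ((frattini_eq_commutator_sup_closure hR.pg).ge (mem_sup_left ?_))
    exact commutator_mem_commutator (mem_top _) (mem_top _)
  obtain ⟨α, -, hα⟩ := exists_apart hS hF hE
  have hin : ∀ q (hq : q ∈ Q), q ∉ E → conjAut E q (hN hq) ∉ Inn E := fun q hq h hi =>
    h ((conjAut_mem_inn_iff (isCentric_self hE.1) hES ⟨hQS hq, hN hq⟩).1 hi)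
  let w : Q := ⟨(α⁻¹ ⟨z, hzE⟩ : E), hEQ (α⁻¹ ⟨z, hzE⟩ : E).2⟩
  have hw : centralizer {w} ≤ E.subgroupOf Q := fun q hq => by_contra fun hqE =>
    hα _ (conjAut_mem_autInducedBy (hQS hx) (hN hx)) (hin x hx hxE) _
      (conjAut_mem_autInducedBy (hQS q.2) (hN q.2)) (hin q q.2 hqE) _
      ((htv x hx).isPGroup hR.pg ((htv q q.2).conj α) (by
        have : conjAut E q (hN q.2) (α⁻¹ ⟨z, hzE⟩) = α⁻¹ ⟨z, hzE⟩ := Subtype.ext
          (mul_inv_eq_iff_eq_mul.2 (congrArg Subtype.val (hq w rfl)).symm)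
        rw [MulAut.mul_apply, MulAut.mul_apply, this, MulAut.apply_inv_self]))
      (subset_closure (by simp)) (subset_closure (by simp))
  have hi : (E.subgroupOf Q).index ∣ p := by
    refine (index_dvd_of_le hw).trans ?_
    by_cases h : w ∈ center Q
    · rw [show centralizer {w} = ⊤ from eq_top_iff.2 fun q _ g hg =>
        hg ▸ (mem_center_iff.1 h q).symm, index_top]
      exact one_dvd _
    · exact (hP.index_centralizer h).dvd
  have hi' : (E.subgroupOf Q).index = p := ((Nat.dvd_prime Fact.out).1 hi).resolve_left fun e =>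
    hxE ((index_eq_one.1 e).ge (mem_top (⟨x, hx⟩ : Q)))
  have hA : AbP p Q E := ⟨hQ.1.1, fun h => hz1 ?_, hEQ, hc, card_eq_of_index hEQ hi'⟩
  swap
  · have h2 : z ∈ commutator Q := hQ.1.2.2 ▸ hz
    rwa [(commutator_eq_bot_iff Q).2 h] at h2
  have h3 := hA.card_commutator
  have h4 : Nat.card ↥⁅Q, Q⁆ = p := by
    rw [← Subgroup.map_subtype_commutator, card_map_of_injective Q.subtype_injective, hQ.1.2.2, hQ.2]
  have h5 : centralizerIn Q Q = (center Q).map Q.subtype := by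
    ext y
    exact ⟨fun h => ⟨⟨y, h.1⟩, mem_center_iff.2 fun g => Subtype.ext (h.2 g g.2), rfl⟩,
      by rintro ⟨y, hy, rfl⟩
         exact ⟨y.2, fun g hg => congrArg Subtype.val (mem_center_iff.1 hy ⟨g, hg⟩)⟩⟩
  rw [h4, h5, card_map_of_injective Q.subtype_injective, hQ.2] at h3
  rw [card_eq_of_index hQS hQi, hA.card, ← h3, show p * (p * (p * p)) = p ^ 4 by ring] at h6
  exact absurd ((Nat.pow_le_pow_iff_right (Fact.out : p.Prime).one_lt).1 h6) (by norm_num)

end Cfsg.Agent.S5179
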