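import Cfsg.Statements.S5181
import Cfsg.Agent.Fus.R3Fus

set_option autoImplicit false
universe u
open Cfsg

namespace Cfsg.Agent.S5181

open Cfsg.Lib.Fus Cfsg.Lib.Fus.R3

/-- Let p be an odd prime, S a finite p-group of sectional p-rank exactly 3, and F a saturated fusion system over S whose largest subgroup normal in F is trivial. Then either S is isomorphic to a Sylow p-subgroup of Sp(4,p), or some essential subgroup of F is not normal in S. -/
theorem result {Ω : Type u} [Group Ω] {S : Subgroup Ω} [Finite S] (p : ℕ) [Fact p.Prime] (hp : Odd p) (hS : IsPGroup p S) (hsr : Cfsg.SectionalPRankLE p 3 ↥S ∧ ¬ Cfsg.SectionalPRankLE p 2 ↥S)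
    (F : Cfsg.FusionSystem S) (hF : F.IsSaturated p) (hO : F.core = ⊥) :
    (∃ P : Sylow p ↥(Matrix.symplecticGroup (Fin 2) (ZMod p)),
        Nonempty (↥S ≃* ↥(P : Subgroup ↥(Matrix.symplecticGroup (Fin 2) (ZMod p))))) ∨
      ∃ E : Subgroup Ω, F.IsEssential p E ∧ ¬ S ≤ Subgroup.normalizer (E : Set Ω) := by
  have hp2 : p ≠ 2 := fun e => by simp [e, Nat.odd_iff] at hp
  refine or_iff_not_imp_right.2 fun hn => ?_
  push Not at hn
  obtain ⟨E₁, E₂, h1, h2, hne, b⟩ := exists_outB hS hF hp2 hsr.1 hsr.2 hO hn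
  exact b.sp4 hp2 (h1.two hS hF h2 hne hp2 hsr.1).symm.not_le

end Cfsg.Agent.S5181
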