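import Cfsg.Statements.S5182
import Cfsg.Agent.Fus.R3Five

set_option autoImplicit false
universe u
open Cfsg

namespace Cfsg.Agent.S5182

open Cfsg.Lib.Fus Cfsg.Lib.Fus.R3 Cfsg.Lib.Solv

/-- Let p ≥ 5 be a prime, S a finite p-group of sectional p-rank exactly 3, and F a saturated fusion system over S whose largest subgroup normal in F is trivial. Then F has an essential subgroup that is either elementary abelian of order p² or extraspecial of order p³ and exponent p. -/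
theorem result {Ω : Type u} [Group Ω] {S : Subgroup Ω} [Finite S] (p : ℕ) [Fact p.Prime] (hp : 5 ≤ p) (hS : IsPGroup p S) (hsr : Cfsg.SectionalPRankLE p 3 ↥S ∧ ¬ Cfsg.SectionalPRankLE p 2 ↥S)
    (F : Cfsg.FusionSystem S) (hF : F.IsSaturated p) (hO : F.core = ⊥) :
    ∃ E : Subgroup Ω, (F.IsEssential p E ∧ ((Cfsg.IsElementaryAbelian p E ∧ Nat.card E = p ^ 2) ∨
        (Cfsg.IsExtraspecial p ↥E ∧ Nat.card E = p ^ 3 ∧ ∀ x ∈ E, x ^ p = 1))) := by
  have hp2 : p ≠ 2 := by omega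
  by_cases hn : ∀ E, F.IsEssential p E → S ≤ Subgroup.normalizer (E : Set Ω)
  · obtain ⟨E₁, E₂, h1, h2, hne⟩ := exists_two_essential hS hF hp2 hsr.1 hsr.2 hO hn
    have k1 := essP_of_normal hS hF hsr.1 h1 (hn _ h1)
    have k2 := essP_of_normal hS hF hsr.1 h2 (hn _ h2)
    rcases outB_of_two hS hF hp2 hsr.1 hsr.2 hO h1 k1 k2 hne with b | b
    · obtain ⟨a1, a2, a3, -⟩ := b.shape k1 k2
      exact ⟨E₂, h2, .inr ⟨a1, a2, a3⟩⟩
    · obtain ⟨a1, a2, a3, -⟩ := b.shape k2 k1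
      exact ⟨E₁, h1, .inr ⟨a1, a2, a3⟩⟩
  push Not at hn
  obtain ⟨E, hE, hn⟩ := hn
  have h := essP_of_essential hS hF hsr.1 hE
  have hne : Cfsg.FusionSystem.normalizerIn S E ≠ S := fun e => hn fun _ hx => (e.ge hx).2
  refine ⟨E, hE, h.pearl hS hF hne hp2 hsr.1 ?_⟩
  have := finite_of_le h.leS
  obtain ⟨k, hk⟩ := IsPGroup.iff_card.1 ((hS.to_le h.leS).to_quotient (frattini E))
  have h1 := index_frattini_le hS hsr.1 h.leS
  have h2 := mt (h.eq_of_rank' hS hF hp hsr.1) hne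
  rw [Subgroup.index, hk] at h1 h2 ⊢
  rw [Nat.pow_le_pow_iff_right (by omega)] at h1 ⊢
  by_contra h3
  exact h2 (by rw [show k = 3 by omega])

end Cfsg.Agent.S5182
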