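import Cfsg.Statements.S5185
import Cfsg.Agent.Fus.EssPlane
import Cfsg.Agent.Trans.FFPlane

set_option autoImplicit false
universe u
open Cfsg

namespace Cfsg.Agent.S5185

open Cfsg.Lib.Fus Cfsg.Lib.Fus.Ess Cfsg.FusionSystem Subgroup Cfsg.Lib.Solv
open scoped commutatorElement

theorem nonempty_SL2 {V : Type*} [Group V] [Finite V] {p : ℕ} [Fact p.Prime] {t s : MulAut V}
    {z y : V} (h : Plane p t s z y) (hc : Nat.card V = p ^ 2) (he : ∀ x : V, x ^ p = 1) :
    Nonempty (closure ({t, s} : Set (MulAut V)) ≃* Matrix.SpecialLinearGroup (Fin 2) (ZMod p)) := by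
  let φ : MulAut V →* MulAut V := MonoidHom.id _
  let M := closure ({t, s} : Set (MulAut V))
  have ht : t ∈ M := subset_closure (Set.mem_insert _ _)
  have hs : s ∈ M := subset_closure (Set.mem_insert_of_mem _ rfl)
  have hy : y ≠ 1 := fun e => h.not_mem (e ▸ one_mem _)
  obtain ⟨θ, h1, h2⟩ := Lib.Trans.TJ.exists_hom_SL2 (p := p) (W := Act.L φ ⊤) (M := Act.R φ M)
    (a := SemidirectProduct.inr t) (b := SemidirectProduct.inr s) (u := SemidirectProduct.inl z)
    (v := SemidirectProduct.inl y) (isElementaryAbelian_of_forall (fun a b => by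
      obtain ⟨a, rfl⟩ := (Act.equivL (φ := φ) ⊤).surjective a
      obtain ⟨b, rfl⟩ := (Act.equivL (φ := φ) ⊤).surjective b
      rw [← map_mul, ← map_mul]
      exact congrArg _ (Subtype.ext (h.comm _ _))) fun a => by
        obtain ⟨a, rfl⟩ := (Act.equivL (φ := φ) ⊤).surjective a
        rw [← map_pow, show a ^ p = 1 from Subtype.ext (he _), map_one])
    (Act.card_L_top.trans hc) (Act.R_le_normalizer_L_top M) (by
      show M.map _ ≤ _
      rw [MonoidHom.map_closure]
      refine closure_mono ?_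
      rintro _ ⟨x, rfl | rfl, rfl⟩
      · exact ⟨Act.inr_mem_R.2 ht, by rw [← map_pow, h.tv1.pow_eq_one, map_one]⟩
      · exact ⟨Act.inr_mem_R.2 hs, by rw [← map_pow, h.tv2.pow_eq_one, map_one]⟩)
    (Act.inr_mem_R.2 ht) (Act.inr_mem_R.2 hs) (Act.inl_mem_L.2 trivial) (Act.inl_mem_L.2 trivial)
    (Act.inr_mul_inl_eq_iff.2 h.tv1.fix)
    (fun e => h.ne (left_eq_mul.1 ((Act.inr_mul_inl_eq_iff.1 e).symm.trans h.e1)))
    (Act.inr_mul_inl_eq_iff.2 h.tv2.fix)
    (fun e => hy (inv_eq_one.1 (left_eq_mul.1 ((Act.inr_mul_inl_eq_iff.1 e).symm.trans h.e2))))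
  have h3 : θ.ker = ⊥ := by
    rw [h1, ← inf_subgroupOf_left, Act.R_inf_centralizer_L_top, show φ.ker = ⊥ from
      MonoidHom.ker_id, inf_bot_eq, Act.R_eq_bot_iff.2 rfl, bot_subgroupOf]
  have h4 := h2 _ (Act.inr_mem_R.2 ht) (Act.inr_mem_R.2 hs)
  rw [subgroupOf_self, ← MonoidHom.range_eq_map, MonoidHom.range_eq_top] at h4
  exact ⟨(Act.equivR M).trans (MulEquiv.ofBijective θ ⟨θ.ker_eq_bot_iff.1 h3, h4⟩)⟩

/-- Let F be a saturated fusion system over a finite p-group S and H an essential subgroup of order p². Then H is elementary abelian (isomorphic to C_p × C_p) and its F-automorphism group contains a subgroup isomorphic to SL(2,p). -/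
theorem result {Ω : Type u} [Group Ω] {S : Subgroup Ω} [Finite S] (p : ℕ) [Fact p.Prime] (hS : IsPGroup p S)
    (F : Cfsg.FusionSystem S) (hF : F.IsSaturated p) (H : Subgroup Ω) (hH : F.IsEssential p H) (hcard : Nat.card H = p ^ 2) :
    Cfsg.IsElementaryAbelian p H ∧
      ∃ K : Subgroup ↥(F.autGroup H), Nonempty (↥K ≃* Matrix.SpecialLinearGroup (Fin 2) (ZMod p)) := by
  have : Finite H := Finite.of_injective _ (inclusion_injective hH.1.1)
  obtain ⟨t, ht⟩ := exists_rad_of_essential hS hF hH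
  have hc : ∀ a b : H, a * b = b * a := fun a b =>
    (IsPGroup.isMulCommutative_of_card_eq_prime_sq hcard).is_comm.comm a b
  have he : ∀ x : H, x ^ p = 1 := fun x => by
    by_contra hx
    refine ht.not_isCyclic (isCyclic_of_orderOf_eq_card x ?_)
    rw [hcard]
    exact orderOf_eq_prime_pow (by rwa [pow_one]) (hcard ▸ pow_card_eq_one')
  refine ⟨isElementaryAbelian_of_forall hc he, ?_⟩
  obtain ⟨K, -, -, hK, h1, h2⟩ := exists_triv_triv (X := ⊤) (Y := ⊥) ht.pg ht.pelt
    (fun _ _ => trivial) (fun x hx => aInv_bot t ht.mem x hx) bot_le (by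
      rw [card_top, card_bot, mul_one, hcard])
  have hK1 : K ≠ ⊥ := fun e => ht.ne_one (triv_top_bot_iff.1 (e ▸ h1))
  obtain ⟨z, hz, hz1⟩ := (K.bot_or_exists_ne_one).resolve_left hK1
  rw [card_bot, mul_one] at hK
  rw [← zpowers_eq_of_card_prime (hK.antisymm (prime_le_card (ht.pg.to_subgroup K) hK1)) hz hz1]
    at h1
  obtain ⟨t', s, y, h3, h4, h5⟩ := ht.exists_plane hc ⟨he z, triv_bot_iff.1 h2 z hz, h1⟩
  obtain ⟨e⟩ := nonempty_SL2 h5 hcard he
  have hle : closure {t', s} ≤ F.autGroup H := (closure_le _).2 (Set.pair_subset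
    (zpowers_le_of_mem ht.mem (h3 ▸ mem_zpowers t')) h4)
  exact ⟨_, ⟨(subgroupOfEquivOfLe hle).trans e⟩⟩

end Cfsg.Agent.S5185
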