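import Cfsg.Statements.S5187
import Cfsg.Agent.Fus.EssStep

set_option autoImplicit false
universe u
open Cfsg

namespace Cfsg.Agent.S5187

open Cfsg.Lib.Fus Cfsg.Lib.Fus.Ess Cfsg.FusionSystem Subgroup Cfsg.Lib.Solv
open scoped commutatorElement

/-- Let F be a saturated fusion system over a finite p-group S and H an abelian essential subgroup that can be generated by two elements (its Frattini quotient has order at most p²). Then H is elementary abelian of order p², or p ≤ 3 and H is homocyclic of rank two, that is isomorphic to C_{pᵏ} × C_{pᵏ} for some k. -/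
theorem result {Ω : Type u} [Group Ω] {S : Subgroup Ω} [Finite S] (p : ℕ) [Fact p.Prime] (hS : IsPGroup p S)
    (F : Cfsg.FusionSystem S) (hF : F.IsSaturated p) (H : Subgroup Ω) (hH : F.IsEssential p H) (hab : IsMulCommutative ↥H) (hrk : (frattini ↥H).index ≤ p ^ 2) :
    (Cfsg.IsElementaryAbelian p H ∧ Nat.card H = p ^ 2) ∨
      (p ≤ 3 ∧ ∃ k : ℕ, Nonempty (↥H ≃* Multiplicative (ZMod (p ^ k) × ZMod (p ^ k)))) := by
  have := finite_of_le hH.1.1
  obtain ⟨t, ht, htp⟩ := exists_rad_pow_of_essential hS hF hH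
  have hc : ∀ x y : H, x * y = y * x := fun x y => mul_comm' x y
  obtain ⟨k, h1, h2, -, ⟨e⟩⟩ := ht.abelian_rank_two hc hrk (htp hc)
  rcases h1 with rfl | h1
  · refine Or.inl ⟨isElementaryAbelian_of_forall hc (by simpa using h2), ?_⟩
    rw [Nat.card_congr e.toEquiv, Nat.card_prod, Nat.card_congr Multiplicative.toAdd, Nat.card_zmod,
      zero_add, pow_one, sq]
  · exact Or.inr ⟨h1, k + 1, ⟨e.trans (MulEquiv.prodMultiplicative _ _).symm⟩⟩

end Cfsg.Agent.S5187
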