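import Cfsg.Statements.S5188
import Cfsg.Agent.Fus.EssStep

set_option autoImplicit false
universe u
open Cfsg

namespace Cfsg.Agent.S5188

open Cfsg.Lib.Fus Cfsg.Lib.Fus.Ess Cfsg.FusionSystem Subgroup Cfsg.Lib.Solv
open scoped commutatorElement

/-- Let F be a saturated fusion system over a finite p-group S and H an essential subgroup of order p⁴. Then H is isomorphic to one of: C_p⁴ or C_{p²} × C_p × C_p (any p); C_{p²} × C_{p²} with p ∈ {2, 3}; p^{1+2}_+ × C_p with p odd (the direct product of an extraspecial group of order p³ and exponent p with a group of order p); Q₈ × C₂ (p = 2); or the non-abelian group of order p⁴ of exponent p² whose centre is cyclic of order p² (the central product of an extraspecial group of order p³ with a cyclic group of order p²; for p = 2 this is D₈ ∘ C₄). -/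
theorem result {Ω : Type u} [Group Ω] {S : Subgroup Ω} [Finite S] (p : ℕ) [Fact p.Prime] (hS : IsPGroup p S)
    (F : Cfsg.FusionSystem S) (hF : F.IsSaturated p) (H : Subgroup Ω) (hH : F.IsEssential p H) (hcard : Nat.card H = p ^ 4) :
    Cfsg.IsElementaryAbelian p H ∨
      Nonempty (↥H ≃* Multiplicative (ZMod (p ^ 2) × ZMod p × ZMod p)) ∨
      ((p = 2 ∨ p = 3) ∧ Nonempty (↥H ≃* Multiplicative (ZMod (p ^ 2) × ZMod (p ^ 2)))) ∨
      (Odd p ∧ ∃ (E : Type) (_ : Group E) (_ : Finite E), Cfsg.IsExtraspecial p E ∧ Nat.card E = p ^ 3 ∧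
        (∀ x : E, x ^ p = 1) ∧ Nonempty (↥H ≃* E × Multiplicative (ZMod p))) ∨
      (p = 2 ∧ Nonempty (↥H ≃* QuaternionGroup 2 × Multiplicative (ZMod 2))) ∨
      (¬ IsMulCommutative ↥H ∧ (∀ x ∈ H, x ^ (p ^ 2) = 1) ∧ IsCyclic ↥(Subgroup.center ↥H) ∧
        Nat.card (Subgroup.center ↥H) = p ^ 2) := by
  have := finite_of_le hH.1.1
  obtain ⟨t, ht, htp⟩ := exists_rad_pow_of_essential hS hF hH
  rcases ht.card_four hcard htp with ⟨h1, h2⟩ | h1 | h1 | ⟨h1, X, h2, h3, h4, ⟨e⟩⟩ | h1 |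
    ⟨h1, h2, h3⟩
  · exact Or.inl (isElementaryAbelian_of_forall h1 h2)
  · exact Or.inr (Or.inl h1)
  · exact Or.inr (Or.inr (Or.inl h1))
  · obtain ⟨E, _, _, ⟨f⟩⟩ := Finite.exists_type_univ_nonempty_mulEquiv.{_, 0} X
    refine Or.inr (Or.inr (Or.inr (Or.inl ⟨(Fact.out : p.Prime).odd_of_ne_two h1, E, _,
      inferInstance, PG.isExtraspecial_of_mulEquiv f h2, (Nat.card_congr f.toEquiv).symm.trans h3,
      fun x => ?_, ⟨e.trans (f.prodCongr (MulEquiv.refl _))⟩⟩)))
    rw [← f.apply_symm_apply x, ← map_pow, show f.symm x ^ p = 1 from Subtype.ext (h4 _), map_one]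
  · exact Or.inr (Or.inr (Or.inr (Or.inr (Or.inl h1))))
  · exact Or.inr (Or.inr (Or.inr (Or.inr (Or.inr ⟨fun _ => h1 fun x y => mul_comm' x y,
      fun x hx => congrArg Subtype.val (h2 ⟨x, hx⟩), h3⟩))))

end Cfsg.Agent.S5188
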