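import Cfsg.Statements.S5189
import Cfsg.Agent.Fus.R3Fus

set_option autoImplicit false
universe u
open Cfsg

namespace Cfsg.Agent.S5189

open Cfsg.Lib.Fus Cfsg.Lib.Fus.R3

/-- Let p be an odd prime, S a finite p-group of sectional p-rank exactly 3, and F a saturated fusion system over S whose largest subgroup normal in F is trivial. Suppose S has two distinct essential subgroups E₁, E₂ each of which is invariant under every F-automorphism of S. Then S is isomorphic to a Sylow p-subgroup of Sp(4,p), and one of E₁, E₂ is extraspecial of order p³ and exponent p while the other is elementary abelian of order p³. -/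
theorem result {Ω : Type u} [Group Ω] {S : Subgroup Ω} [Finite S] (p : ℕ) [Fact p.Prime] (hp : Odd p) (hS : IsPGroup p S)
    (hsr : Cfsg.SectionalPRankLE p 3 ↥S ∧ ¬ Cfsg.SectionalPRankLE p 2 ↥S)
    (F : Cfsg.FusionSystem S) (hF : F.IsSaturated p) (hO : F.core = ⊥)
    (E₁ E₂ : Subgroup Ω) (hne : E₁ ≠ E₂) (hE₁ : F.IsEssential p E₁) (hE₂ : F.IsEssential p E₂)
    (hc₁ : (∀ φ : MulAut ↥S, φ ∈ F.autGroup S → (E₁.subgroupOf S).map φ.toMonoidHom = E₁.subgroupOf S))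
    (hc₂ : (∀ φ : MulAut ↥S, φ ∈ F.autGroup S → (E₂.subgroupOf S).map φ.toMonoidHom = E₂.subgroupOf S)) :
    (∃ P : Sylow p ↥(Matrix.symplecticGroup (Fin 2) (ZMod p)),
        Nonempty (↥S ≃* ↥(P : Subgroup ↥(Matrix.symplecticGroup (Fin 2) (ZMod p))))) ∧
      ((Cfsg.IsExtraspecial p ↥E₁ ∧ Nat.card E₁ = p ^ 3 ∧ (∀ x ∈ E₁, x ^ p = 1) ∧
          Cfsg.IsElementaryAbelian p E₂ ∧ Nat.card E₂ = p ^ 3) ∨
        (Cfsg.IsExtraspecial p ↥E₂ ∧ Nat.card E₂ = p ^ 3 ∧ (∀ x ∈ E₂, x ^ p = 1) ∧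
          Cfsg.IsElementaryAbelian p E₁ ∧ Nat.card E₁ = p ^ 3)) := by
  have hp2 : p ≠ 2 := fun e => by simp [e, Nat.odd_iff] at hp
  have k : ∀ E, F.IsEssential p E → (∀ φ : MulAut S, φ ∈ F.autGroup S →
      (E.subgroupOf S).map φ.toMonoidHom = E.subgroupOf S) → EssP F p E S := fun E hE hc =>
    have := finite_of_le hE.1.1
    essP_of_normal hS hF hsr.1 hE fun s hs => mem_normalizer_of_finite fun y hy =>
      (hc _ ((sat_aut_top hS hF).le ⟨⟨s, hs⟩, rfl⟩)).le ⟨⟨y, hE.1.1 hy⟩, hy, rfl⟩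
  have h1 := k E₁ hE₁ hc₁
  have h2 := k E₂ hE₂ hc₂
  have t := h1.two hS hF h2 hne hp2 hsr.1
  exact (outB_of_two hS hF hp2 hsr.1 hsr.2 hO hE₁ h1 h2 hne).elim
    (fun b => ⟨b.sp4 hp2 t.symm.not_le, .inr (b.shape h1 h2)⟩)
    fun b => ⟨b.sp4 hp2 t.not_le, .inl (b.shape h2 h1)⟩

end Cfsg.Agent.S5189
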