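import Cfsg.Statements.S5192
import Cfsg.Agent.Fus.Transfer

set_option autoImplicit false
open Cfsg

namespace Cfsg.Agent.S5192

open Cfsg.Lib.Fus Cfsg.FusionSystem

/-- A Thompson-type transfer for saturated fusion systems. Let F be a saturated fusion system on a finite 2-group S, T a subgroup of S of index 2, and i an involution of S such that every fully normalized F-conjugate of i lies in S but outside T. Then i does not lie in the hyperfocal subgroup of F (the Sylow group of the 2-residual subsystem). -/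
theorem result {Ω : Type*} [Group Ω] [Finite Ω] {S : Subgroup Ω}
    (hS : IsPGroup 2 ↥S) (F : Cfsg.FusionSystem S) (hF : F.IsSaturated 2)
    (T : Subgroup Ω) (hTS : T ≤ S) (hT : T.relIndex S = 2)
    (i : Ω) (hi : i ∈ S) (hi2 : orderOf i = 2)
    (h : ∀ j : Ω, F.IsConjElt i j → F.IsFullyNormalized (Subgroup.zpowers j) → j ∉ T) :
    i ∉ F.hyperfocalSubgroup 2 := by
  intro hh
  classical
  obtain ⟨Q, hQ, hQ'⟩ := exists_fullyNormalized F (Subgroup.zpowers_le.2 hi)
  obtain ⟨f, hf, rfl⟩ := isConj_iff.1 hQ
  rw [img_zpowers hf.mulOn (Subgroup.mem_zpowers i)] at hQ'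
  let lam : S →* ℤˣ := MonoidHom.mk' (fun x => if x ∈ T.subgroupOf S then 1 else -1) fun a b => by
    simp only [Subgroup.mul_mem_iff_of_index_two hT]
    by_cases ha : a ∈ T.subgroupOf S <;> by_cases hb : b ∈ T.subgroupOf S <;> simp [ha, hb]
  obtain ⟨j, h1, h2, h3⟩ := thompson_transfer_fusion hS hF lam
    ((hf.orderOf_eq (Subgroup.mem_zpowers i)).trans hi2) (hyperfocal_le_focal
      (hf.mem_of_stronglyClosed (stronglyClosed_hyperfocal hS hF) (Subgroup.mem_zpowers i) hh)) hQ'
  refine h j (isConjElt_trans (hf.isConjElt (Subgroup.mem_zpowers i)) h1) h2 ?_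
  by_contra hj
  have : lam j = -1 := if_neg hj
  rw [h3] at this
  exact absurd this (by decide)

end Cfsg.Agent.S5192
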