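import Cfsg.Statements.S5200
import Cfsg.Agent.Fus.ProdUse

set_option autoImplicit false
open Cfsg

namespace Cfsg.Agent.S5200

open Cfsg.Lib.Fus Cfsg.FusionSystem


/-- Let F be a saturated fusion system over a finite p-group S and E a normal subsystem of F over T whose centralizer in S lies in T: every subgroup Y of C_S(T) such that E is contained in the centralizer fusion system of Y in F satisfies Y ≤ T. Then T·C_S(T)/T is abelian (the commutator subgroup of T·C_S(T) lies in T), and if p is odd then C_S(T) ≤ T. -/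
theorem result {Ω : Type*} [Group Ω] {S : Subgroup Ω} [Finite S] (p : ℕ) [Fact p.Prime] (hS : IsPGroup p S) (F : Cfsg.FusionSystem S) (hF : F.IsSaturated p) {T : Subgroup Ω} (E : Cfsg.FusionSystem T) (hE : E.IsNormalIn F p) (hCE : ∀ Y : Subgroup Ω, Y ≤ Cfsg.FusionSystem.centralizerIn S T → (∀ C : Cfsg.FusionSystem (Cfsg.FusionSystem.centralizerIn S Y), F.IsCentralizerSystem Y C → E.IsSubsystemOf C) → Y ≤ T) : ⁅T ⊔ Cfsg.FusionSystem.centralizerIn S T, T ⊔ Cfsg.FusionSystem.centralizerIn S T⁆ ≤ T ∧ (p ≠ 2 → Cfsg.FusionSystem.centralizerIn S T ≤ T) := by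
  have hT := hE.1.2.2.2.1
  have h6 : centE p F E ≤ T := hCE _ centE_le fun C hC => by
    rw [eq_centSys hC (le_of_isCentralizerSystem hC)]
    exact (centE_iff_sub_centSys hT.1).1 (centE_centE hS hE)
  refine ⟨Subgroup.commutator_le.2 fun a ha b hb => ?_, fun hp =>
    (centralizerIn_le_centE_sup hS hE hp).trans (sup_le h6 le_rfl)⟩
  obtain ⟨t, ht, c, hc, rfl⟩ := exists_mul_of_mem_pc ha
  obtain ⟨t', ht', c', hc', rfl⟩ := exists_mul_of_mem_pc hb
  have h1 := h6 (focal_centSys_le_centE hS hE (hT := hT.1)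
    (commutator_le_focal (Subgroup.commutator_mem_commutator hc hc')))
  have e1 := (mem_centralizerIn'.1 hc).2
  have e2 := (mem_centralizerIn'.1 hc').2
  have h2 := T.mul_mem (T.mul_mem (T.mul_mem (T.mul_mem ht ht') h1) (T.inv_mem ht)) (T.inv_mem ht')
  convert h2 using 1
  rw [commutatorElement_def, commutatorElement_def]
  calc t * c * (t' * c') * (t * c)⁻¹ * (t' * c')⁻¹
      = t * (c * t' * c⁻¹) * (c * c' * c⁻¹ * c'⁻¹) * (c' * t⁻¹ * c'⁻¹) * t'⁻¹ := by group
    _ = _ := by rw [e1 _ ht', e2 _ (T.inv_mem ht)]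

end Cfsg.Agent.S5200
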