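import Cfsg.Statements.S5210
import Cfsg.Agent.U4F.Main

set_option autoImplicit false
open Cfsg

namespace Cfsg.Agent.S5210

/-- Let p be a prime, K a finite field with q² elements where q = pⁿ (n ≥ 1), and S a finite p-group isomorphic to a Sylow p-subgroup of the projective special unitary group PSU₄(q) realised over K. Then every saturated fusion system F over S with no nontrivial normal subgroup (O_p(F) = 1) is realizable: it is the fusion system of a finite group on a Sylow p-subgroup. -/
theorem result {Ω : Type*} [Group Ω] {S : Subgroup Ω} [Finite S] (p : ℕ) [Fact p.Prime] (hS : IsPGroup p S) (F : Cfsg.FusionSystem S) (hF : F.IsSaturated p) {K : Type*} [Field K] [Fintype K] [CharP K p] (n : ℕ) (hn : 1 ≤ n) (hK : Fintype.card K = (p ^ n) ^ 2) (T : Sylow p (Cfsg.PSU 4 K (p ^ n))) (e : ↥S ≃* ↥(T : Subgroup (Cfsg.PSU 4 K (p ^ n)))) (hcore : F.core = ⊥) : F.IsRealizable p := by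
  obtain ⟨_, _⟩ : ∃ _ : StarRing K, Lib.U5F.UF K :=
    ⟨{ star := Lib.Class.frobq hK
       star_involutive := Lib.Class.frobq_frobq hK
       star_mul := fun a b => by rw [map_mul, mul_comm]
       star_add := map_add _ },
     @Lib.U5F.UF.mk K _ (_) (not_forall.1 fun h => Lib.Class.frobq_ne_id hK (RingHom.ext h))⟩
  have hq : p ^ n = Lib.U5F.qq K := Nat.pow_left_injective two_ne_zero
    (hK.symm.trans (Nat.card_eq_fintype_card.symm.trans Lib.U5F.card_K))
  generalize p ^ n = q at *
  subst hq
  obtain ⟨e'⟩ := Lib.U4F.exists_equiv T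
  obtain ⟨D, h1, h2, -⟩ := Lib.U5F.transport hS hF (e'.trans e.symm)
  exact h2 (Lib.U4F.realizable_U h1)

end Cfsg.Agent.S5210
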