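import Cfsg.Statements.S5213
import Cfsg.Agent.Rank2.Fusion
import Cfsg.Agent.Fus.Normal
import Cfsg.Agent.Fus.Normalizer

set_option autoImplicit false
set_option maxHeartbeats 400000
open Cfsg
open Cfsg.Lib.Rank2

namespace Cfsg.Agent.S5213

theorem eq_of_mem_zpowers_of_mul_self' {G : Type*} [Group G] {z : G} (hz : z * z = 1) (i : ℤ)
    (h : z ^ i ≠ 1) : z ^ i = z := by
  have hw2 : z ^ (2 : ℤ) = 1 := by rw [zpow_two, hz]
  rcases Int.even_or_odd' i with ⟨k, rfl | rfl⟩
  · exact absurd (by rw [zpow_mul, hw2, one_zpow]) h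
  · rw [zpow_add, zpow_mul, hw2, one_zpow, one_mul, zpow_one]

/-- Functions on `Fin 2` as pairs. -/
def AddEquiv.piFinTwo' (R : Type*) [Add R] : (Fin 2 → R) ≃+ R × R :=
  { finTwoArrowEquiv R with map_add' := fun _ _ => rfl }

/-- Let S be a finite 2-group of 2-rank 2 (it has an elementary abelian subgroup of order 4 and none of order 8) and F a saturated fusion system over S with trivial centre. Then S is dihedral, semidihedral, wreathed, homocyclic abelian (a direct product of cyclic groups of one common order), or isomorphic to a Sylow 2-subgroup of the projective special unitary group PSU₃(4) (realised over the field with 16 elements). -/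
theorem result {Ω : Type*} [Group Ω] {S : Subgroup Ω} [Finite S] (hS : IsPGroup 2 S) (F : Cfsg.FusionSystem S) (hF : F.IsSaturated 2) (hr : Cfsg.PRankAtLeast 2 2 ↥S ∧ ¬ Cfsg.PRankAtLeast 2 3 ↥S) (hZ : F.center = ⊥) {K : Type*} [Field K] [Fintype K] (hK : Fintype.card K = 16) : (∃ m : ℕ, Nonempty (↥S ≃* DihedralGroup m)) ∨ Cfsg.IsQuasiDihedral ↥S ∨ Cfsg.IsWreathed ↥S ∨ (∃ n k : ℕ, Nonempty (↥S ≃* Multiplicative (Fin k → ZMod (2 ^ n)))) ∨ ∃ T : Sylow 2 (Cfsg.PSU 3 K 4), Nonempty (↥S ≃* ↥(T : Subgroup (Cfsg.PSU 3 K 4))) := by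
  have h2 : PRankLE 2 2 S := fun A hA h => by
    by_contra hlt
    refine hr.2 ⟨A, hA, h, ?_⟩
    obtain ⟨k, hk⟩ := IsPGroup.iff_card.1 (hS.to_subgroup A)
    rw [hk] at hlt ⊢
    exact Nat.pow_le_pow_right two_pos
      ((Nat.pow_lt_pow_iff_right one_lt_two).1 (not_le.1 hlt))
  have h1 : ¬ PRankLE 2 1 S := fun h => by
    obtain ⟨A, hA, h3, h4⟩ := hr.1
    exact absurd (h4.trans (h A hA h3)) (by norm_num)
  rcases rankTwoType_of_saturated hS hF h2 h1 (fun z hz hz2 hz1 => by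
    by_contra hc
    push Not at hc
    have := Lib.Fus.le_center (Lib.Fus.isCentral_of_fixed hS hF (Subgroup.zpowers_le.2 hz)
      fun P k hk x hx hxz => by
        by_cases hx1 : x = 1
        · rw [hx1, hk.map_one]
        obtain ⟨i, rfl⟩ := hxz
        have e : z ^ i = z := eq_of_mem_zpowers_of_mul_self' hz2 i hx1
        simp only [e] at hx ⊢
        by_contra hne
        exact hc _ hne (hk.isConjElt hx))
    rw [hZ, le_bot_iff, Subgroup.zpowers_eq_bot] at this
    exact hz1 this) with ⟨m, -, h⟩ | h | h | ⟨n, -, ⟨e⟩⟩ | h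
  · exact Or.inl ⟨m, h⟩
  · exact Or.inr (Or.inl h)
  · exact Or.inr (Or.inr (Or.inl h))
  · exact Or.inr (Or.inr (Or.inr (Or.inl ⟨n, 2,
      ⟨e.trans (AddEquiv.toMultiplicative (AddEquiv.piFinTwo' _).symm)⟩⟩)))
  · obtain ⟨T⟩ : Nonempty (Sylow 2 (PSU 3 K 4)) := inferInstance
    exact Or.inr (Or.inr (Or.inr (Or.inr ⟨T, h.nonempty_mulEquiv (isU34_sylow hK T)⟩)))

end Cfsg.Agent.S5213
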