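import Cfsg.Statements.S5217
import Cfsg.Agent.Fus.BicMain
import Cfsg.Agent.Fus.Realize

set_option autoImplicit false
open Cfsg

namespace Cfsg.Agent.S5217

/-- Let S be a finite bicyclic 2-group (S = ⟨x⟩⟨y⟩) that is not metacyclic. Then S supports a saturated fusion system other than its inner fusion system if and only if the commutator subgroup of S is cyclic. -/
theorem result {Ω : Type*} [Group Ω] {S : Subgroup Ω} [Finite S] (hS : IsPGroup 2 S) (hb : ∃ x y : ↥S, ∀ g : ↥S, ∃ i j : ℤ, g = x ^ i * y ^ j) (hm : ¬ Cfsg.IsMetacyclic ↥S) : (∃ F : Cfsg.FusionSystem S, F.IsSaturated 2 ∧ ¬ ∀ P : Subgroup Ω, F.Hom P = (Cfsg.innerFusionSystem S).Hom P) ↔ IsCyclic ↥(commutator ↥S) := by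
  have : Fact (Nat.Prime 2) := ⟨Nat.prime_two⟩
  obtain ⟨x, y, hb⟩ := hb
  rw [← Lib.Fus.Bic.exists_noninner_iff hS hb hm]
  refine ⟨Lib.Fus.Bic.transport hS (Lib.Fus.mulOn_extFun (MonoidHom.id S))
    (Lib.Fus.injOn_extFun fun _ _ h => h) ?_, Lib.Fus.Bic.transport (hS.to_subgroup ⊤)
      (Lib.Fus.mulOn_hom ⊤ S.subtype) S.subtype_injective.injOn ?_⟩
  · rw [Lib.Fus.img_extFun_top, MonoidHom.range_eq_top.2 fun x => ⟨x, rfl⟩]
  · rw [Lib.Fus.img_hom, ← MonoidHom.range_eq_map, Subgroup.range_subtype]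

end Cfsg.Agent.S5217
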