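import Cfsg.Statements.S5234
import Cfsg.Agent.Fus.EssTau

set_option autoImplicit false
open Cfsg

namespace Cfsg.Agent.S5234

open Cfsg.Lib.Fus Cfsg.Lib.Fus.Ess Cfsg.FusionSystem Subgroup Cfsg.Lib.Solv
open scoped commutatorElement

/-- Let p be an odd prime, F a saturated fusion system over a finite p-group S and P a metacyclic subgroup of S strongly closed in F. Then P is normal in F. -/
theorem result {Ω : Type*} [Group Ω] {S : Subgroup Ω} [Finite S] (p : ℕ) [Fact p.Prime] (hS : IsPGroup p S) (F : Cfsg.FusionSystem S) (hF : F.IsSaturated p) (P : Subgroup Ω) (hP : F.StronglyClosed P) (hp : p ≠ 2) (hm : Cfsg.IsMetacyclic ↥P) : F.IsNormal P := by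
  by_contra hn
  obtain ⟨R, hlt, hR, h⟩ := exists_radIn hS hF hP hn
  obtain ⟨x, hx, hxN, hxR, hxp, ht⟩ := h.exists_rad hS hP.1 hlt
  have : Finite P := Finite.of_injective _ (inclusion_injective hP.1)
  have : Finite R := Finite.of_injective _ (inclusion_injective hlt.le)
  obtain ⟨hc, he, hcard⟩ := (h.of_isMetacyclic hS hP.1 hlt.le hm hx hxN hxR hxp).resolve_left
    fun h => hp h.1
  obtain ⟨z, hz, hfix⟩ := ht.exists_tv_of_card_sq hcard he
  have h1 := h.pow_eq_one_of_tv hp hS (sat_receptive hS hF hR) hP hlt.le hc he hx hxN hxR hz (by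
    obtain ⟨i, hi⟩ := hfix ⟨_, hxp⟩ (Subtype.ext (by rw [conjAut_apply]; group))
    exact ⟨i, congrArg Subtype.val hi⟩)
  obtain ⟨W, hW, hWc⟩ := Lib.FT.Metacyclic.exists_omega (R := (⊤ : Subgroup P)) hp
    ((hS.of_injective _ (inclusion_injective hP.1)).to_subgroup ⊤)
    (Lib.FT.Metacyclic.isMetacyclic_of_injective _ (subtype_injective ⊤) hm)
  have h2 : R.subgroupOf P ≤ W := fun a ha =>
    (hW a).2 ⟨trivial, Subtype.ext (congrArg Subtype.val (he ⟨a, ha⟩) :)⟩
  have h3 := eq_of_le_of_card_ge h2 (by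
    rwa [Nat.card_congr (subgroupOfEquivOfLe hlt.le).toEquiv, hcard])
  exact hxR (h3.ge ((hW ⟨x, hx⟩).2 ⟨trivial, Subtype.ext h1⟩))

end Cfsg.Agent.S5234
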