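import Cfsg.Statements.S5260
import Cfsg.Agent.Sp4F.Syl
import Cfsg.Agent.Sp4F.Odd
import Cfsg.Agent.Sp4F.Real

set_option autoImplicit false
open Cfsg

namespace Cfsg.Agent.S5260

/-- Let p be a prime, K a finite field of characteristic p, and S a finite p-group isomorphic to a Sylow p-subgroup of the symplectic group Sp₄(K). Then every exotic fusion system F over S (saturated but not the fusion system of a finite group on a Sylow p-subgroup) has no nontrivial normal subgroup: O_p(F) = 1. -/
theorem result {Ω : Type*} [Group Ω] {S : Subgroup Ω} [Finite S] (p : ℕ) [Fact p.Prime] (hS : IsPGroup p S) (F : Cfsg.FusionSystem S) (hF : F.IsSaturated p) {K : Type*} [Field K] [Fintype K] [CharP K p] (T : Sylow p ↥(Matrix.symplecticGroup (Fin 2) K)) (e : ↥S ≃* ↥(T : Subgroup ↥(Matrix.symplecticGroup (Fin 2) K))) (hex : F.IsExotic p) : F.core = ⊥ := by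
  by_contra h
  obtain ⟨P⟩ := Cfsg.Lib.Sp4F.exists_par T e
  obtain rfl | hp := eq_or_ne p 2
  · obtain h' | ⟨h4, P', g1, g2⟩ := Cfsg.Lib.Sp4F.constrained_or_gd P hS hF h
    · exact hex.2 (Cfsg.Lib.Class.FusH.isRealizable_of_isConstrained hS h')
    · exact hex.2 (Cfsg.Lib.Sp4F.realizable_of_gd h4 P' hS hF g1 g2)
  · exact hex.2 (Cfsg.Lib.Class.FusH.isRealizable_of_isConstrained hS
      (Cfsg.Lib.Sp4F.constrained_odd hp P hS hF h))

end Cfsg.Agent.S5260
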