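import Cfsg.Statements.S5261
import Cfsg.Agent.D4F.Fb
import Cfsg.Agent.D4F.R3
import Cfsg.Agent.D4F.R4
import Cfsg.Agent.D4F.R5
import Cfsg.Agent.D4F.R6

set_option autoImplicit false
open Cfsg

namespace Cfsg.Agent.S5261

open Cfsg.Lib.D4F Cfsg.Lib.Fus Cfsg.Lib.Chev

/-- Let p be a prime, q = pⁿ (n ≥ 1), K a finite field with q³ elements, and S a finite p-group isomorphic to a Sylow p-subgroup of the twisted group ³D₄(q) realised over K. Then every saturated fusion system over S is realizable: it is the fusion system of a finite group on a Sylow p-subgroup. -/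
theorem result {Ω : Type*} [Group Ω] {S : Subgroup Ω} [Finite S] (p : ℕ) [Fact p.Prime] (hS : IsPGroup p S) (F : Cfsg.FusionSystem S) (hF : F.IsSaturated p) {K : Type*} [Field K] [Fintype K] [CharP K p] (n : ℕ) (hn : 1 ≤ n) (hK : Fintype.card K = (p ^ n) ^ 3) (T : Sylow p ↥(Cfsg.Lie.twistedD4 K (p ^ n))) (e : ↥S ≃* ↥(T : Subgroup ↥(Cfsg.Lie.twistedD4 K (p ^ n)))) : F.IsRealizable p := by
  have hp : p.Prime := Fact.out
  obtain ⟨f, hf, hq, -⟩ := exists_twD4 hK
  let _ : Cub K := ⟨.ofBijective f (Finite.injective_iff_bijective.1 f.injective), hf, by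
    by_contra! h
    have h1 : 1 < p ^ n := Nat.one_lt_pow (by omega) hp.one_lt
    have h2 := Nat.le_of_dvd (by omega) ((FiniteField.forall_pow_eq_one_iff K (p ^ n - 1)).1
      fun x => by
        have : x ^ p ^ n = x := Units.ext (by simpa [← hq] using h x)
        rw [pow_sub _ h1.le, this, pow_one, mul_inv_cancel])
    have h3 := lt_self_pow₀ h1 (by norm_num : 1 < 3)
    omega⟩
  have hK' : Nat.card K = (p ^ n) ^ 3 := Nat.card_eq_fintype_card.trans hK
  obtain ⟨ι, hι⟩ := exists_io (K := K) hq hK'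
  obtain ⟨ρ, hρ⟩ := io_fld hq hK' hι
  have hR : Rl p ι ρ := ⟨io_inj hq hK' hι, io_idx hq hK' hι, io_tor hq hK' hι, io_nrm hq hK' hι,
    hρ, io_mv1 hq hK' hι, io_mv2 hq hK' hι⟩
  let j : S ≃* M K := e.trans ((T.equiv ((isPGroup_M.of_surjective _
    ι.rangeRestrict_surjective).toSylow hR.idx)).trans (MonoidHom.ofInjective hR.inj).symm)
  have hi : Set.InjOn (extFun j.toMonoidHom) S := fun a ha b hb e => by
    rw [extFun_of_mem _ ha, extFun_of_mem _ hb] at e
    exact congrArg Subtype.val (j.injective e)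
  obtain ⟨D, hD⟩ : ∃ D : FusionSystem (⊤ : Subgroup (M K)), FImg F D (extFun j.toMonoidHom) := by
    have := exists_fImg_of_injOn F (mulOn_extFun j.toMonoidHom) hi
    rwa [img_extFun_top, MonoidHom.range_eq_top.2 j.surjective] at this
  exact realizable_of_fImg hD hi hS (realizable_M hR (hD.saturated hS hF))

end Cfsg.Agent.S5261
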