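import Cfsg.Statements.S5264
import Cfsg.Agent.Grz.Five
import Cfsg.Agent.Fus.FocalImg

set_option autoImplicit false
open Cfsg

namespace Cfsg.Agent.S5264

open Cfsg.Lib.Fus Cfsg.Lib.Fus.Ess Cfsg.Lib.Grz Cfsg.FusionSystem Subgroup

theorem aux {G : Type*} [Group G] [Finite G] {p : ℕ} [Fact p.Prime] {T : Subgroup G} (hT : T = ⊤)
    (F : FusionSystem T) (hc : Nat.card G = p ^ 5) (hF : F.IsSaturated p) (hp2 : p ≠ 2)
    (hp7 : p ≠ 7) (hcore : F.core = ⊥) (hfoc : T ≤ F.focalSubgroup) : ¬ NA p G := by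
  subst hT
  exact five_main hc hF hp2 hp7 hcore hfoc

/-- Let p be an odd prime other than 7, S a finite p-group of order p^5, and F a saturated fusion system over S with no nontrivial normal subgroup and with hyperfocal subgroup equal to S (so F is its own p-residual subsystem). Then S has an abelian subgroup of index p. -/
theorem result {Ω : Type*} [Group Ω] {S : Subgroup Ω} [Finite S] (p : ℕ) [Fact p.Prime] (hS : IsPGroup p ↥S) (F : Cfsg.FusionSystem S) (hF : F.IsSaturated p) (hp : p ≠ 2) (hp7 : p ≠ 7) (hcard : Nat.card S = p ^ 5) (hcore : F.core = ⊥) (hhyp : F.hyperfocalSubgroup p = S) : ∃ A : Subgroup Ω, A ≤ S ∧ IsMulCommutative ↥A ∧ (A.subgroupOf S).index = p := by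
  have ht := mulOn_extFun (MonoidHom.id S)
  have hi : Set.InjOn (extFun (MonoidHom.id S)) S := fun x hx y hy e => by
    rw [extFun_of_mem _ hx, extFun_of_mem _ hy] at e
    exact congrArg Subtype.val e
  obtain ⟨D, hD⟩ := exists_fImg_of_injOn F ht hi
  have hT : img S (extFun (MonoidHom.id S)) = ⊤ := eq_top_iff.2 fun x _ =>
    ht.mem_img.2 ⟨x, x.2, extFun_coe _ x⟩
  have h := aux hT D hcard (hD.saturated hS hF) hp hp7
    (by rw [← hD.img_core hi, hcore, img_bot ht.map_one])
    (by rw [hD.focal]; exact img_mono _ (hhyp.ge.trans hyperfocal_le_focal))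
  simp only [NA, not_forall, not_not] at h
  obtain ⟨A, h1, h2⟩ := h
  exact ⟨A.map S.subtype, map_subtype_le A, inferInstance, index_eq_of_card (map_subtype_le A)
    (by rw [card_map_of_injective S.subtype_injective, hcard, h2, pow_succ'])⟩

end Cfsg.Agent.S5264
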