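import Cfsg.Statements.S5265
import Cfsg.Agent.Fus.EssCentSq
import Cfsg.Agent.S5233

set_option autoImplicit false
open Cfsg

namespace Cfsg.Agent.S5265

open Cfsg.Lib.Fus Cfsg.Lib.Fus.Ess Cfsg.FusionSystem Cfsg.Lib.Solv
open Subgroup hiding upperCentralSeries
open scoped commutatorElement

/-- Let p be a prime, S a nontrivial finite p-group whose centre has index at most p², and F a saturated fusion system over S with no nontrivial normal subgroup and with hyperfocal subgroup equal to S. Then S is extraspecial of order p³; for odd p it has exponent p, and for p = 2 it is dihedral of order 8. -/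
theorem result {Ω : Type*} [Group Ω] {S : Subgroup Ω} [Finite S] (p : ℕ) [Fact p.Prime] (hS : IsPGroup p ↥S) (F : Cfsg.FusionSystem S) (hF : F.IsSaturated p) (hS1 : S ≠ ⊥) (hcore : F.core = ⊥) (hhyp : F.hyperfocalSubgroup p = S) (hZ : (Subgroup.center ↥S).index ≤ p ^ 2) : Cfsg.IsExtraspecial p ↥S ∧ Nat.card S = p ^ 3 ∧ (p ≠ 2 → Monoid.exponent ↥S = p) ∧ (p = 2 → Nonempty (↥S ≃* DihedralGroup 4)) := by
  have hp : Fact p.Prime := inferInstance
  have hn : ¬ IsMulCommutative S := fun hc => hS1 (eq_bot_iff.2 (hcore ▸ le_core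
    (isNormal_top_of_comm hS hF fun _ hx _ hy => PG.mul_comm_of_mem hx hy)))
  have hZc : Nat.card (centralizerIn S S) = Nat.card (Subgroup.center S) := by
    rw [centralizerIn, ← map_subtype_center, card_map_of_injective S.subtype_injective]
  have h : CSq p S := ⟨hS, hn, by
    rw [hZc, ← index_mul_card (Subgroup.center S)]; exact Nat.mul_le_mul_right _ hZ⟩
  have hn' : ¬ ∀ a b : S, a * b = b * a := fun h => hn ⟨⟨h⟩⟩
  obtain ⟨E, hE⟩ := exists_essential_of_core_eq_bot hS hF hS1 hcore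
  obtain ⟨h1, h2⟩ := h.abP hF hE
  obtain ⟨h3, h4⟩ := h.card_commutator hF hE
  obtain ⟨z, hz1, hz⟩ := h.exists_gen hF hE
  have := finite_of_le h1.le
  by_cases hp2 : p = 2
  · subst hp2
    have h5 := h.card_le_eight hF hcore (hhyp.ge.trans hyperfocal_le_focal) hE
    have h6 := h3.ge.trans (card_le_of_le h4)
    have h7 : Nat.card S = 2 ^ 3 := by have := h1.card; omega
    obtain ⟨y, hy, hyZ, hy2, -⟩ := h.exists_focal hF hcore hE
    have hzD := hz.le (mem_zpowers z)
    exact ⟨isExtraspecial_of_card_cube h7 hn', h7, fun h => (h rfl).elim, fun _ =>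
      S5233.nonempty_dihedral h7 hn' (y := ⟨y, h1.le hy⟩) (z := ⟨z, (h4 hzD).1⟩)
        (fun e => hyZ ((show y = 1 from congrArg Subtype.val e) ▸ one_mem _))
        (fun e => hz1 (congrArg Subtype.val e))
        (fun e => hyZ ((show y = z from congrArg Subtype.val e) ▸ h4 hzD)) (Subtype.ext hy2)
        (Subtype.ext (h.hTy hF hE hz).pow)⟩
  have h5 := h.cent_eq hp2 hF hcore hE
  rw [h5, h3, ← pow_two] at h2
  have h7 : Nat.card S = p ^ 3 := by rw [h1.card, h2, ← pow_succ']
  have h8 := isExtraspecial_of_card_cube h7 hn'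
  refine ⟨h8, h7, fun _ => ?_, fun h => (hp2 h).elim⟩
  obtain ⟨t, ht⟩ := exists_rad_of_essential hS hF hE
  have he : ∀ x : E, x ^ p = 1 := fun x => by
    by_contra hx
    refine ht.not_isCyclic (isCyclic_of_orderOf_eq_card x ?_)
    rw [h2]
    exact orderOf_eq_prime_pow (by rwa [pow_one]) (h2 ▸ pow_card_eq_one')
  have : Nontrivial S := (nontrivial_iff_ne_bot S).2 hS1
  refine (Monoid.exponent_eq_prime_iff hp.out).2 fun u hu => orderOf_eq_prime (Subtype.ext ?_) hu
  by_cases huE : (u : Ω) ∈ E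
  · exact (congrArg Subtype.val (he ⟨u, huE⟩) :)
  refine (radIn_of_essential hS hE).pow_eq_one_of_tv hp2 hS (sat_receptive hS hF hE.2.1)
    (stronglyClosed_top F) h1.le h1.comm.is_comm.comm he u.2 (h1.norm u.2) huE
    ((h.hTy hF hE hz).tv ⟨u.2, h1.norm u.2⟩) (hz.ge ?_)
  rw [← Subgroup.map_subtype_commutator, h8.1.2.2, ← h8.1.2.1]
  exact ⟨_, pow_mem_frattini hS u, rfl⟩

end Cfsg.Agent.S5265
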