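import Cfsg.Statements.S5269
import Cfsg.Agent.MCN.Main

set_option autoImplicit false
open Cfsg

namespace Cfsg.Agent.S5269

open Cfsg.Lib Cfsg.Lib.Fus Cfsg.Lib.Fus.Ess Cfsg.FusionSystem Cfsg.Lib.Solv Cfsg.Lib.MCN
open scoped commutatorElement

theorem card_ucs' {G : Type*} [Group G] [Finite G] {p m : ℕ} [hp : Fact p.Prime]
    (h : MC p (m + 2) G) : Nat.card (Subgroup.upperCentralSeries G 2) = p ^ 2 := by
  have h1 := Lib.Trans.MaxClass.card_center h.card h.ne (by omega)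
  rw [← Subgroup.comap_upperCentralSeries_quotient_center 1, card_comap_mk',
    Subgroup.upperCentralSeries_one, h1,
    Lib.Trans.MaxClass.card_center (p := p) (m := m + 1) ?_ (fun e => ?_) (by omega), sq]
  · refine Nat.eq_of_mul_eq_mul_right hp.out.pos ?_
    rw [← pow_succ, ← h.card,
      Subgroup.card_eq_card_quotient_mul_card_subgroup (Subgroup.center G), h1]
  · rw [← Subgroup.map_top_of_surjective _ (QuotientGroup.mk'_surjective _),
      ← Subgroup.map_lowerCentralSeries, ← le_iff_map_mk'_eq_bot] at e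
    have := Subgroup.card_le_of_le e
    rw [h.card_gam (by omega), h1, show m + 2 + 1 - (m + 1) = 1 + 1 by omega, pow_succ] at this
    nlinarith [hp.out.two_le]

/-- Let p ≥ 5 be a prime, S a finite p-group of maximal class of order p^n with n ≥ 4, F a saturated fusion system over S, and E an F-essential subgroup that is normal in S. Then E has index p in S; moreover E is the two-step centralizer Γ₁ = C_S([S,S]/γ₄(S)) or E = C_S(Z₂(S)), unless S has order p^4 and E is extraspecial of order p³ and exponent p. -/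
theorem result {Ω : Type*} [Group Ω] {S : Subgroup Ω} [Finite S] (p : ℕ) [Fact p.Prime] (hS : IsPGroup p ↥S) (n : ℕ) (hn : Nat.card S = p ^ n) (h4 : 4 ≤ n) (hmax : Subgroup.lowerCentralSeries S (n - 2) ≠ ⊥) (F : Cfsg.FusionSystem S) (hF : F.IsSaturated p) (hp : 5 ≤ p) (Γ₁ : Subgroup Ω) (hΓ₁ : ∀ x : Ω, x ∈ Γ₁ ↔ x ∈ S ∧ ∀ y ∈ Subgroup.lowerCentralSeries S 1, x * y * x⁻¹ * y⁻¹ ∈ Subgroup.lowerCentralSeries S 3) (E : Subgroup Ω) (hE : F.IsEssential p E) (hEn : (E.subgroupOf S).Normal) : (E.subgroupOf S).index = p ∧ (E = Γ₁ ∨ E = (S ⊓ Subgroup.centralizer (((Subgroup.upperCentralSeries ↥S 2).map S.subtype) : Set Ω)) ∨ (n = 4 ∧ Nat.card ↥E = p ^ 3 ∧ Cfsg.IsExtraspecial p ↥E ∧ Monoid.exponent ↥E = p)) := by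
  obtain ⟨m, rfl⟩ := Nat.exists_eq_add_of_le' h4
  have hl : ∀ i, Subgroup.lowerCentralSeries S i = (gam S i).map S.subtype := fun i =>
    (Subgroup.top_subtype_lowerCentralSeries S i).symm
  have h : MC p (m + 2) S := ⟨hn, fun e => hmax (by
    rw [hl, Subgroup.map_eq_bot_iff_of_injective _ S.subtype_injective]; exact e)⟩
  have hi := index_eq hp h hF hE hEn
  have hES : E ≤ S := hE.1.1
  have hm : ∀ i (x : S), x.1 ∈ Subgroup.lowerCentralSeries S i ↔ x ∈ gam S i := fun i x => by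
    rw [hl]; exact Subgroup.mem_map_iff_mem S.subtype_injective
  refine ⟨hi, ?_⟩
  by_cases h1 : E.subgroupOf S = twoStep S 1
  · refine Or.inl (Subgroup.ext fun x => ?_)
    rw [hΓ₁]
    refine ⟨fun hx => ⟨hES hx, fun y hy => ?_⟩, fun hx => ?_⟩
    · have hyS : y ∈ S := Subgroup.map_subtype_le _ (hl 1 ▸ hy)
      exact (hm 3 ⁅(⟨x, hES hx⟩ : S), ⟨y, hyS⟩⁆).2
        (mem_twoStep.1 (h1.le (show (⟨x, hES hx⟩ : S) ∈ E.subgroupOf S from hx)) ⟨y, hyS⟩ ((hm 1 ⟨y, hyS⟩).1 hy))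
    · exact h1.ge (show (⟨x, hx.1⟩ : S) ∈ twoStep S 1 from mem_twoStep.2 fun y hy =>
        (hm 3 ⁅(⟨x, hx.1⟩ : S), y⁆).1 (hx.2 y ((hm 1 y).2 hy)))
  by_cases h2 : E.subgroupOf S = twoStep S (m + 2 - 1)
  · have hZ : Subgroup.upperCentralSeries S 2 = gam S (m + 1) :=
      Trans.MaxClass.eq_lowerCentralSeries h.card h.ne _ (i := m) (by omega)
        (by rw [card_ucs' h]; congr 1; omega)
    have hb : gam S (m + 2 - 1 + 2) = ⊥ := h.gam_eq_bot (by omega)
    refine Or.inr (Or.inl (Subgroup.ext fun x => ⟨fun hx => ⟨hES hx, ?_⟩, fun hx => ?_⟩))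
    · rintro _ ⟨y, hy, rfl⟩
      have := mem_twoStep.1 (h2.le (show (⟨x, hES hx⟩ : S) ∈ E.subgroupOf S from hx)) y (hZ.le hy)
      rw [hb, Subgroup.mem_bot, commutatorElement_eq_one_iff_mul_comm] at this
      exact (congrArg Subtype.val this).symm
    · refine h2.ge (show (⟨x, hx.1⟩ : S) ∈ twoStep S (m + 2 - 1) from
        mem_twoStep.2 fun y hy => ?_)
      rw [hb, Subgroup.mem_bot, commutatorElement_eq_one_iff_mul_comm]
      exact Subtype.ext (hx.2 y ⟨y, hZ.ge hy, rfl⟩).symm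
  obtain ⟨e, h3⟩ := max_case hp h (by omega) hF hE hi h1 h2
  exact Or.inr (Or.inr ⟨by omega, h3⟩)

end Cfsg.Agent.S5269
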