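import Cfsg.Statements.S5267
import Cfsg.Agent.MCE.Main
import Cfsg.Agent.S5269
import Cfsg.Agent.Solv.ExtraSub

set_option autoImplicit false
open Cfsg

namespace Cfsg.Agent.S5267

open Cfsg.Lib Cfsg.Lib.Fus Cfsg.Lib.Fus.Ess Cfsg.FusionSystem Cfsg.Lib.Solv Cfsg.Lib.MCE
open scoped commutatorElement

theorem aux {G : Type*} [Group G] [Finite G] {p m : ℕ} [Fact p.Prime] {T : Subgroup G} (hT : T = ⊤)
    (F : FusionSystem T) (h : MC p m G) (hm : 2 ≤ m) (hF : F.IsSaturated p) {E : Subgroup G}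
    (hE : F.IsEssential p E) : (Pearl p E ∨ E = lay G 0 ∨ E = twoStep G (m - 1)) ∧
      (¬ NE m G → Nat.card E ≠ p ^ 3) := by
  subst hT
  exact ⟨ess_cases h hm hF hE, fun hne => ess_card_ne h hm hF hne hE⟩

theorem pearl_map {G H : Type*} [Group G] [Group H] {p : ℕ} {E : Subgroup G} {E' : Subgroup H}
    [Fact p.Prime] [Finite E'] (e : E ≃* E') (h : Pearl p E) : Pearl p E' := by
  have hc := Nat.card_congr e.toEquiv
  rcases h with ⟨h1, h2, h3⟩ | ⟨h1, h2, h3, h4⟩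
  · refine .inl ⟨hc ▸ h1, ⟨⟨fun a b => ?_⟩⟩, fun a ha => ?_⟩
    · obtain ⟨a, rfl⟩ := e.surjective a
      obtain ⟨b, rfl⟩ := e.surjective b
      rw [← map_mul, ← map_mul, h2.is_comm.comm]
    · obtain ⟨b, hb⟩ := e.surjective ⟨a, ha⟩
      have := congrArg e (show b ^ p = 1 from Subtype.ext (h3 b b.2))
      rw [map_pow, hb, map_one] at this
      exact congrArg Subtype.val this
  · exact .inr ⟨hc ▸ h1, PG.isExtraspecial_of_mulEquiv e h2, fun hp => Monoid.exponent_eq_of_mulEquiv e ▸ h3 hp,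
      fun hp => (h4 hp).map e.symm.trans⟩

/-- Let p be a prime and S a finite p-group of maximal class of order p^n with n ≥ 4 (nilpotency class n − 1: the term γ_{n−1}(S) of its lower central series, reached from S after n − 2 commutator steps, is nontrivial), F a saturated fusion system over S and E an F-essential subgroup. Write Γ₁ for the two-step centralizer C_S([S,S]/γ₄(S)) (the elements of S whose commutators with [S,S] lie in the fourth term γ₄(S) of the lower central series) and Z₂(S) for the second centre. Then E is a pearl — elementary abelian of order p², or extraspecial of order p³ of exponent p (p odd) or quaternion of order 8 (p = 2) — or E = Γ₁, or E = C_S(Z₂(S)). Moreover, if Γ₁ ≠ C_S(Z₂(S)) then every pearl of F is elementary abelian of order p². -/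
theorem result {Ω : Type*} [Group Ω] {S : Subgroup Ω} [Finite S] (p : ℕ) [Fact p.Prime] (hS : IsPGroup p ↥S) (n : ℕ) (hn : Nat.card S = p ^ n) (h4 : 4 ≤ n) (hmax : Subgroup.lowerCentralSeries S (n - 2) ≠ ⊥) (F : Cfsg.FusionSystem S) (hF : F.IsSaturated p) (Γ₁ : Subgroup Ω) (hΓ₁ : ∀ x : Ω, x ∈ Γ₁ ↔ x ∈ S ∧ ∀ y ∈ Subgroup.lowerCentralSeries S 1, x * y * x⁻¹ * y⁻¹ ∈ Subgroup.lowerCentralSeries S 3) : (∀ E : Subgroup Ω, F.IsEssential p E → (Nat.card ↥E = p ^ 2 ∧ Cfsg.IsElementaryAbelian p E) ∨ (Nat.card ↥E = p ^ 3 ∧ Cfsg.IsExtraspecial p ↥E ∧ (p ≠ 2 → Monoid.exponent ↥E = p) ∧ (p = 2 → Nonempty (↥E ≃* QuaternionGroup 2))) ∨ E = Γ₁ ∨ E = (S ⊓ Subgroup.centralizer (((Subgroup.upperCentralSeries ↥S 2).map S.subtype) : Set Ω))) ∧ (Γ₁ ≠ (S ⊓ Subgroup.centralizer (((Subgroup.upperCentralSeries ↥S 2).map S.subtype) : Set Ω)) → ∀ E : Subgroup Ω, F.IsEssential p E → (Nat.card ↥E = p ^ 3 ∧ Cfsg.IsExtraspecial p ↥E ∧ (p ≠ 2 → Monoid.exponent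 ↥E = p) ∧ (p = 2 → Nonempty (↥E ≃* QuaternionGroup 2))) → False) := by
  obtain ⟨m, rfl⟩ := Nat.exists_eq_add_of_le' h4
  have hl : ∀ i, Subgroup.lowerCentralSeries S i = (gam S i).map S.subtype := fun i =>
    (Subgroup.top_subtype_lowerCentralSeries S i).symm
  have h : MC p (m + 2) S := ⟨hn, fun e => hmax (by
    rw [hl, Subgroup.map_eq_bot_iff_of_injective _ S.subtype_injective]; exact e)⟩
  have hm : ∀ i (x : S), x.1 ∈ Subgroup.lowerCentralSeries S i ↔ x ∈ gam S i := fun i x => by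
    rw [hl]; exact Subgroup.mem_map_iff_mem S.subtype_injective
  have ht := mulOn_extFun (MonoidHom.id S)
  have hi : Set.InjOn (extFun (MonoidHom.id S)) S := fun x hx y hy e => by
    rw [extFun_of_mem _ hx, extFun_of_mem _ hy] at e
    exact congrArg Subtype.val e
  obtain ⟨D, hD⟩ := exists_fImg_of_injOn F ht hi
  have hT : img S (extFun (MonoidHom.id S)) = ⊤ := eq_top_iff.2 fun x _ =>
    ht.mem_img.2 ⟨x, x.2, extFun_coe _ x⟩
  have hI : ∀ E, E ≤ S → img E (extFun (MonoidHom.id S)) = E.subgroupOf S := fun E hE =>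
    Subgroup.ext fun x => (ht.mono hE).mem_img.trans ⟨fun ⟨y, hy, e⟩ => by
      rw [extFun_of_mem _ (hE hy)] at e
      exact e ▸ hy, fun hx => ⟨x, hx, extFun_coe _ x⟩⟩
  have key : ∀ E, F.IsEssential p E → _ := fun E hE =>
    aux hT D h (by omega) (hD.saturated hS hF) (hI E hE.1.1 ▸ essential_img hS hF hD hi hE)
  have h1 : Γ₁ = (lay S 0).map S.subtype := Subgroup.ext fun x => by
    rw [hΓ₁, lay_zero]
    refine ⟨fun hx => ⟨⟨x, hx.1⟩, mem_twoStep.2 fun y hy =>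
      (hm 3 ⁅(⟨x, hx.1⟩ : S), y⁆).1 (hx.2 y ((hm 1 y).2 hy)), rfl⟩, ?_⟩
    rintro ⟨x, hx, rfl⟩
    refine ⟨x.2, fun y hy => ?_⟩
    have hyS : y ∈ S := Subgroup.map_subtype_le _ (hl 1 ▸ hy)
    exact (hm 3 ⁅x, ⟨y, hyS⟩⁆).2 (mem_twoStep.1 hx ⟨y, hyS⟩ ((hm 1 ⟨y, hyS⟩).1 hy))
  have hZ : Subgroup.upperCentralSeries S 2 = lay S (m + 2 - 1) :=
    normal_card h (by omega) (by omega) (by rw [S5269.card_ucs' h]; congr 1; omega)
  have h2 : S ⊓ Subgroup.centralizer
      (((Subgroup.upperCentralSeries S 2).map S.subtype : Subgroup Ω) : Set Ω) =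
      (twoStep S (m + 2 - 1)).map S.subtype := Subgroup.ext fun x => by
    rw [hZ]
    refine ⟨fun hx => ⟨⟨x, hx.1⟩, (mem_C h (by omega)).2 fun y hy =>
      Subtype.ext (hx.2 y ⟨y, hy, rfl⟩).symm, rfl⟩, ?_⟩
    rintro ⟨x, hx, rfl⟩
    refine ⟨x.2, ?_⟩
    rintro _ ⟨y, hy, rfl⟩
    exact (congrArg Subtype.val ((mem_C h (by omega)).1 hx y hy)).symm
  refine ⟨fun E hE => ?_, fun hne E hE h3 => ?_⟩
  · have e := Subgroup.map_subgroupOf_eq_of_le hE.1.1
    have := finite_of_le hE.1.1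
    rcases (key E hE).1 with h3 | h3 | h3
    · exact or_assoc.1 (.inl (pearl_map (Subgroup.subgroupOfEquivOfLe hE.1.1) h3))
    · exact .inr (.inr (.inl (by rw [h1, ← h3, e])))
    · exact .inr (.inr (.inr (by rw [← h3, e] at h2; exact h2.symm)))
  · refine (key E hE).2 (fun e => hne (h1.trans (Eq.trans ?_ h2.symm)))
      ((Nat.card_congr (Subgroup.subgroupOfEquivOfLe hE.1.1).toEquiv).trans h3.1)
    rw [show twoStep S (m + 2 - 1) = lay S 0 from e]

end Cfsg.Agent.S5267
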