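import Cfsg.Statements.S5270
import Cfsg.Agent.Fus.EssTorus

set_option autoImplicit false
open Cfsg

namespace Cfsg.Agent.S5270

open Cfsg.Lib.Fus Cfsg.Lib.Fus.Ess Cfsg.FusionSystem Cfsg.Lib.Solv
open Subgroup hiding upperCentralSeries
open scoped commutatorElement

theorem card_ucs {G : Type*} [Group G] [Finite G] {p m : ℕ} [hp : Fact p.Prime]
    (h : MC p (m + 2) G) : Nat.card (Subgroup.upperCentralSeries G 2) = p ^ 2 := by
  have h1 := Lib.Trans.MaxClass.card_center h.card h.ne (by omega)
  rw [← Subgroup.comap_upperCentralSeries_quotient_center 1, card_comap_mk', Subgroup.upperCentralSeries_one,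
    h1, Lib.Trans.MaxClass.card_center (p := p) (m := m + 1) ?_ (fun e => ?_) (by omega), sq]
  · refine Nat.eq_of_mul_eq_mul_right hp.out.pos ?_
    rw [← pow_succ, ← h.card, card_eq_card_quotient_mul_card_subgroup (center G), h1]
  · rw [← map_top_of_surjective _ (QuotientGroup.mk'_surjective _), ← map_lowerCentralSeries,
      ← le_iff_map_mk'_eq_bot] at e
    have := card_le_of_le e
    rw [h.card_gam (by omega), h1, show m + 2 + 1 - (m + 1) = 1 + 1 by omega, pow_succ] at this
    nlinarith [hp.out.two_le]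


/-- Let p ≥ 5 be a prime, S a finite p-group of maximal class of order p^n with n ≥ 4, and F a saturated fusion system over S. If some map of F defined on the second centre Z₂(S) with image Z₂(S) does not carry Z(S) into itself, then the centralizer C_S(Z₂(S)) is an F-essential subgroup. -/
theorem result {Ω : Type*} [Group Ω] {S : Subgroup Ω} [Finite S] (p : ℕ) [Fact p.Prime] (hS : IsPGroup p ↥S) (n : ℕ) (hn : Nat.card S = p ^ n) (h4 : 4 ≤ n) (hmax : Subgroup.lowerCentralSeries S (n - 2) ≠ ⊥) (F : Cfsg.FusionSystem S) (hF : F.IsSaturated p) (hp : 5 ≤ p) (φ : ↥((Subgroup.upperCentralSeries ↥S 2).map S.subtype) →* Ω) (hφ : φ ∈ F.Hom ((Subgroup.upperCentralSeries ↥S 2).map S.subtype)) (hφZ : φ.range = ((Subgroup.upperCentralSeries ↥S 2).map S.subtype)) (hmove : ∃ (z : Ω) (hz : z ∈ ((Subgroup.upperCentralSeries ↥S 2).map S.subtype)), z ∈ ((Subgroup.center ↥S).map S.subtype) ∧ φ ⟨z, hz⟩ ∉ ((Subgroup.center ↥S).map S.subtype)) : F.IsEssential p (S ⊓ Subgroup.centralizer (((Subgroup.upperCentralSeries ↥S 2).map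 S.subtype) : Set Ω)) := by
  obtain ⟨m, rfl⟩ := Nat.exists_eq_add_of_le' h4
  have h : MC p (m + 2) S := ⟨hn, fun e => hmax (by
    rw [← top_subtype_lowerCentralSeries, map_eq_bot_iff_of_injective _ S.subtype_injective]; exact e)⟩
  have hc := card_ucs h
  have hi := Lib.FT.BG4.index_centralizer_le hS _ hc.le
  have hZ2 : center S ≤ Subgroup.upperCentralSeries S 2 :=
    (Subgroup.upperCentralSeries_one S).ge.trans (Subgroup.upperCentralSeries_mono S one_le_two)
  have hcomm := PG.isMulCommutative_of_card_eq_sq hc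
  have hC : S ⊓ centralizer ((Subgroup.upperCentralSeries S 2).map S.subtype : Set Ω) =
      (centralizer (Subgroup.upperCentralSeries S 2 : Set S)).map S.subtype := by
    ext x
    refine ⟨fun hx => ⟨⟨x, hx.1⟩, fun y hy => Subtype.ext (hx.2 _ ⟨y, hy, rfl⟩), rfl⟩, ?_⟩
    rintro ⟨x, hx, rfl⟩
    exact ⟨x.2, by rintro _ ⟨y, hy, rfl⟩; exact congrArg Subtype.val (hx y hy)⟩
  have hN : ∀ X : Subgroup S, X.Normal → S ≤ normalizer (X.map S.subtype : Set Ω) := fun X hX =>
    (normal_subgroupOf_iff_le_normalizer (map_subtype_le X)).1 (by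
      rwa [subgroupOf, comap_map_eq_self_of_injective S.subtype_injective])
  have hNZ := hN (Subgroup.upperCentralSeries S 2) inferInstance
  have hNC := hC ▸ hN (centralizer (Subgroup.upperCentralSeries S 2 : Set S)) inferInstance
  have hcard : Nat.card S ≤ p * Nat.card ↥(S ⊓ centralizer
      ((Subgroup.upperCentralSeries S 2).map S.subtype : Set Ω)) := by
    rw [hC, card_map_of_injective S.subtype_injective, ← index_mul_card (centralizer _)]
    exact Nat.mul_le_mul_right _ hi
  have hZC : (Subgroup.upperCentralSeries S 2).map S.subtype ≤ S ⊓ centralizer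
      ((Subgroup.upperCentralSeries S 2).map S.subtype : Set Ω) :=
    hC ▸ map_mono (le_centralizer _)
  have hZS := map_subtype_le (Subgroup.upperCentralSeries S 2)
  have hZZ := map_mono (f := S.subtype) hZ2
  have hlt : ¬ (Subgroup.upperCentralSeries S 2).map S.subtype ≤ (center S).map S.subtype :=
    fun e => by
      have := card_le_of_le ((map_le_map_iff_of_injective S.subtype_injective).1 e)
      rw [hc, Lib.Trans.MaxClass.card_center h.card h.ne (by omega), sq] at this
      nlinarith
  rw [Lib.Solv.map_subtype_center] at hmove hZZ hlt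
  generalize (Subgroup.upperCentralSeries S 2).map S.subtype = Z at *
  obtain ⟨f, hf, e⟩ := exists_perm_of_mem hφ
  have hf' : PIso F f Z Z := by simpa only [← range_eq_img φ e, hφZ] using hf.piso
  obtain ⟨g, hg, e'⟩ := sat_ext_centralizer hS hF hf'
    (sat_centralized hS hF (isFullyNormalized_of_le_normalizer hZS hNZ))
  have hg' : PIso F g (centralizerIn S Z) (centralizerIn S Z) :=
    (hg.restrict le_sup_right).piso_of_maps fun x hx =>
      (hg.piso_of_eqOn le_sup_left hf' e').map_centralizer hg le_sup_left (mem_sup_right hx) hx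
  obtain ⟨z, hz, hz1, hz2⟩ := hmove
  refine (isEssential_iff_closure_extendable hS hF).2 ⟨lt_of_le_not_ge inf_le_left fun h1 =>
    hlt fun x hx => ⟨hZS hx, fun y hy => ((h1 hy).2 x hx).symm⟩,
    isFullyNormalized_of_le_normalizer inf_le_left hNC, fun h1 => hz2 ?_⟩
  have := finite_of_le (inf_le_left : S ⊓ centralizer (Z : Set Ω) ≤ S)
  have key : AInv (closure {α | Extendable F (centralizerIn S Z) α})
      ((centralizerIn S S).subgroupOf (centralizerIn S Z)) := by
    refine aInv_closure_aut ?_
    rintro a ⟨Q, k, h2, h3, h4⟩ x hx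
    obtain rfl := eq_of_lt_of_card_le hS hcard h2 h3.le
    have := PIso.map_cent_self h3.piso_top hx
    rwa [coe_subtype, h4 x x.2, pext_coe] at this
  exact e ⟨z, hz⟩ ▸ e' z hz ▸ (h1 ▸ key).piso hg' (hZC hz) hz1

end Cfsg.Agent.S5270
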