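import Cfsg.Statements.S5272
import Cfsg.Agent.Fus.AxZJ

set_option autoImplicit false
open Cfsg

namespace Cfsg.Agent.S5272

open Cfsg.Lib.Fus

/-- An axiomatic Glauberman–Thompson nilpotency criterion for fusion systems. Let p be an odd prime, F a saturated fusion system over a finite p-group S, and 𝒜 a nonempty family of abelian subgroups of S. For Q ≤ S write I(Q) for the intersection of the members of 𝒜 contained in Q. Assume (invariance) that for every Q ≤ S containing a member of 𝒜, every F-automorphism of Q maps I(Q) into itself, and (replacement) that for every subgroup B of S of nilpotency class at most 2, if some member of 𝒜 contains [B,B] but not B, then B normalizes some member of 𝒜 that contains [B,B] but not B. Then F is the inner fusion system of S if and only if the normalizer fusion system of I(S) in F is the inner fusion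 system of N_S(I(S)). -/
theorem result {Ω : Type*} [Group Ω] {S : Subgroup Ω} [Finite S] (p : ℕ) [Fact p.Prime] (hS : IsPGroup p ↥S) (F : Cfsg.FusionSystem S) (hF : F.IsSaturated p) (hp : p ≠ 2) (𝒜 : Set (Subgroup Ω)) (h𝒜 : ∀ A ∈ 𝒜, A ≤ S ∧ IsMulCommutative ↥A) (hne : 𝒜.Nonempty) (hinv : ∀ Q : Subgroup Ω, Q ≤ S → (∃ A ∈ 𝒜, A ≤ Q) → ∀ α ∈ F.autGroup Q, ∀ x : ↥Q, (x : Ω) ∈ (⨅ A ∈ {A : Subgroup Ω | A ∈ 𝒜 ∧ A ≤ Q}, A) → (((α : MulAut ↥Q) x : ↥Q) : Ω) ∈ (⨅ A ∈ {A : Subgroup Ω | A ∈ 𝒜 ∧ A ≤ Q}, A)) (hrep : ∀ B : Subgroup Ω, B ≤ S → ⁅⁅B, B⁆, B⁆ = ⊥ → (∃ A ∈ 𝒜, ⁅B, B⁆ ≤ A ∧ ¬ B ≤ A) → ∃ A ∈ 𝒜, ⁅B, B⁆ ≤ A ∧ ¬ B ≤ A ∧ B ≤ Subgroup.normalizer (A : Set Ω)) : (∀ P : Subgroup Ω, F.Hom P = (Cfsg.innerFusionSystem S).Hom P) ↔ ∀ N : Cfsg.FusionSystem (Cfsg.FusionSystem.normalizerIn S (⨅ A ∈ 𝒜, A)), F.IsNormalizerSystem (⨅ A ∈ 𝒜, A) N → ∀ P : Subgroup Ω,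 N.Hom P = (Cfsg.innerFusionSystem (Cfsg.FusionSystem.normalizerIn S (⨅ A ∈ 𝒜, A))).Hom P := by
  obtain ⟨A₀, hA₀⟩ := hne
  have e : ⨅ A ∈ 𝒜, A = ⨅ i : 𝒜, (i : Subgroup Ω) := iInf_subtype'
  have hle : ∀ i : 𝒜, (i : Subgroup Ω) ≤ S := fun i => (h𝒜 i i.2).1
  have hinv' : ∀ (Q : Subgroup Ω) (f : Equiv.Perm Ω), PIso F f Q Q → (∃ i : 𝒜, (i : Subgroup Ω) ≤ Q) →
      ∀ x, (∀ i : 𝒜, (i : Subgroup Ω) ≤ Q → x ∈ (i : Subgroup Ω)) →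
        ∀ i : 𝒜, (i : Subgroup Ω) ≤ Q → f x ∈ (i : Subgroup Ω) := fun Q f hf ⟨j, hj⟩ x hx i hi => by
    have := hinv Q hf.mor.le ⟨j, j.2, hj⟩ _ hf.aut_mem ⟨x, hj (hx j hj)⟩
      (Subgroup.mem_iInf.2 fun A => Subgroup.mem_iInf.2 fun hA => hx ⟨A, hA.1⟩ hA.2)
    rw [hf.aut_apply] at this
    exact Subgroup.mem_iInf.1 (Subgroup.mem_iInf.1 this i) ⟨i.2, hi⟩
  have hI : ⨅ i : 𝒜, (i : Subgroup Ω) ≤ S := (iInf_le _ (⟨A₀, hA₀⟩ : 𝒜)).trans (hle _)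
  have := finite_of_le hI
  have hn : S ≤ Subgroup.normalizer ((⨅ i : 𝒜, (i : Subgroup Ω) : Subgroup Ω) : Set Ω) := fun s hs =>
    mem_normalizer_of_finite fun y hy => Subgroup.mem_iInf.2 fun i =>
      hinv' S (cj s) (Mor.conj F le_rfl hs).piso_top ⟨i, hle i⟩ y
        (fun j _ => Subgroup.mem_iInf.1 hy j) i (hle i)
  rw [e, ← isNil_iff_hom_eq hS hF, ← isNil_normSys_iff hS hF (isFullyNormalized_of_le_normalizer hI hn)]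
  refine ⟨fun h => h.of_sub normSys_sub, isNil_of_axiomatic ⟨A₀, hA₀⟩ hle (fun i x hx y hy => ?_) hinv'
    (fun B hB h1 ⟨i, h2⟩ => ?_) hp hS hF⟩
  · exact congrArg Subtype.val ((h𝒜 i i.2).2.is_comm.comm (⟨x, hx⟩ : (i : Subgroup Ω)) ⟨y, hy⟩)
  · obtain ⟨A, h3, -, h4⟩ := hrep B hB h1 ⟨i, i.2, h2⟩
    exact ⟨⟨A, h3⟩, h4⟩

end Cfsg.Agent.S5272
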