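import Cfsg.Statements.S5274
import Cfsg.Agent.Fus.Normal

set_option autoImplicit false
open Cfsg

namespace Cfsg.Agent.S5274

open Cfsg.Lib.Fus FusionSystem Subgroup

section
variable {Ω : Type*} [Group Ω]

theorem comm_of_cent {Q : Subgroup Ω} {y x : Ω} (hy : y ∈ centralizerIn Q Q) (hx : x ∈ Q) : Commute x y :=
  (mem_centralizerIn.1 hy).2 x hx

/-- `n`-th powers of the centre. -/
def B (S : Subgroup Ω) (n : ℕ) : Subgroup Ω where
  carrier := {x | ∃ z ∈ centralizerIn S S, z ^ n = x}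
  one_mem' := ⟨1, one_mem _, one_pow _⟩
  mul_mem' := by
    rintro _ _ ⟨a, ha, rfl⟩ ⟨b, hb, rfl⟩
    exact ⟨a * b, mul_mem ha hb, (comm_of_cent hb ha.1).mul_pow n⟩
  inv_mem' := by
    rintro _ ⟨a, ha, rfl⟩
    exact ⟨a⁻¹, inv_mem ha, inv_pow _ _⟩

theorem B_succ_le (S : Subgroup Ω) (k : ℕ) : B S (2 ^ (k + 1)) ≤ B S (2 ^ k) := by
  rintro _ ⟨a, ha, rfl⟩
  exact ⟨a ^ 2, pow_mem ha 2, by rw [← pow_mul, pow_succ']⟩

theorem B_le (S : Subgroup Ω) (n : ℕ) : B S n ≤ centralizerIn S S := by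
  rintro _ ⟨a, ha, rfl⟩
  exact pow_mem ha n

variable {S : Subgroup Ω} [Finite S]

def SC (F : FusionSystem S) (n : ℕ) : Prop :=
  ∀ (P : Subgroup Ω) (f : Equiv.Perm Ω), Mor F P f → ∀ x ∈ P, x ∈ B S n → f x ∈ B S n

theorem pow_mem_B {F : FusionSystem S}
    (h : ∀ x ∈ S, ∃ z ∈ S ⊓ Subgroup.centralizer (S : Set Ω), F.IsConjElt x z) {n : ℕ} (hn : SC F n)
    {x : Ω} (hx : x ∈ S) : x ^ n ∈ B S n := by
  obtain ⟨z, hz, hxz⟩ := h x hx
  obtain ⟨f, hf, rfl⟩ := isConjElt_iff.1 (isConjElt_symm hxz)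
  obtain ⟨g, hg, e⟩ := hf.exists_perm
  have := hn _ g hg (z ^ n) (pow_mem (mem_zpowers z) n) ⟨z, hz, rfl⟩
  rwa [hg.mulOn.map_pow (mem_zpowers z), e z (mem_zpowers z)] at this

omit [Finite S] in
theorem piso_cent {F : FusionSystem S} {Q : Subgroup Ω} {f : Equiv.Perm Ω} (h : PIso F f Q Q) {y : Ω}
    (hy : y ∈ centralizerIn Q Q) : f y ∈ centralizerIn Q Q :=
  mem_zIn_one.1 (h.map_zIn (mem_zIn_one.2 hy))

theorem exists_sq_mem {Q : Subgroup Ω} (hS : IsPGroup 2 S) (hQ : Q < S) :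
    ∃ t ∈ normalizerIn S Q, t ∉ Q ∧ t ^ 2 ∈ Q := by
  classical
  obtain ⟨s, hs, hsQ⟩ := SetLike.exists_of_lt (lt_normalizerIn hS hQ)
  obtain ⟨j, hj⟩ := hS ⟨s, hs.1⟩
  have hex : ∃ j, s ^ 2 ^ j ∈ Q := ⟨j, by
    have : s ^ 2 ^ j = 1 := congrArg Subtype.val hj
    rw [this]; exact one_mem _⟩
  have h0 : Nat.find hex ≠ 0 := fun h0 => hsQ (by simpa [h0] using Nat.find_spec hex)
  obtain ⟨i, hi⟩ := Nat.exists_eq_succ_of_ne_zero h0
  refine ⟨s ^ 2 ^ i, pow_mem hs _, Nat.find_min hex (by omega), ?_⟩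
  have := Nat.find_spec hex
  rwa [hi, pow_succ, pow_mul] at this

theorem step (hS : IsPGroup 2 S) {F : FusionSystem S} (hF : F.IsSaturated 2)
    (h : ∀ x ∈ S, ∃ z ∈ S ⊓ Subgroup.centralizer (S : Set Ω), F.IsConjElt x z) {k : ℕ}
    (hk : SC F (2 ^ (k + 1))) : SC F (2 ^ k) := by
  refine alperin_cr hS hF (Φ := fun P f => ∀ x ∈ P, x ∈ B S (2 ^ k) → f x ∈ B S (2 ^ k)) ?_ ?_ ?_ ?_
  · intro P f g _ hf e x hx hb
    rw [← e x hx]; exact hf x hx hb
  · intro P Q f _ hf hQ x hx hb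
    exact hf x (hQ hx) hb
  · intro P Q R f g hf _ h1 h2 x hx hb
    exact h2 _ (hf.maps hx) (h1 x hx hb)
  intro Q hN hC _ ih f hf
  have hQS := hf.le_left
  rcases hQS.eq_or_lt with rfl | hlt
  · rintro _ - ⟨z, hz, rfl⟩
    exact ⟨f z, piso_cent hf hz, (hf.mor.mulOn.map_pow hz.1 _).symm⟩
  obtain ⟨t, ht, htQ, ht2⟩ := exists_sq_mem hS hlt
  have hZ : centralizerIn S S ≤ centralizerIn Q Q := fun z hz =>
    ⟨isCentric_self hC (centralizerIn_anti hQS hz), (centralizerIn_anti hQS hz).2⟩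
  have hBQ : ∀ n, B S n ≤ Q := fun n x hx => (hZ (B_le S n hx)).1
  have hinv : ∀ α ∈ F.autGroup Q, ∀ x ∈ B S (2 ^ (k + 1)), pext Q α x ∈ B S (2 ^ (k + 1)) :=
    fun α hα x hx => hk Q _ (piso_pext_of_mem hQS hα).mor x (hBQ _ hx) hx
  let C : Subgroup (MulAut Q) :=
    { carrier := {α | α ∈ F.autGroup Q ∧ ∀ y ∈ centralizerIn Q Q,
        pext Q α (y ^ 2 ^ k) * (y ^ 2 ^ k)⁻¹ ∈ B S (2 ^ (k + 1))}
      one_mem' := ⟨one_mem _, fun y _ => by simp [one_mem]⟩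
      mul_mem' := by
        rintro α β ⟨ha, ha'⟩ ⟨hb, hb'⟩
        refine ⟨mul_mem ha hb, fun y hy => ?_⟩
        have hw : y ^ 2 ^ k ∈ Q := pow_mem hy.1 _
        have h1 := hinv α ha _ (hb' y hy)
        rw [(mulOn_pext α).map_mul ((pext_mem_iff β _).2 hw) (inv_mem hw), (mulOn_pext α).map_inv hw] at h1
        have h2 := mul_mem h1 (ha' y hy)
        rw [map_mul, Equiv.Perm.mul_apply]
        simpa [mul_assoc] using h2
      inv_mem' := by
        rintro α ⟨ha, ha'⟩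
        refine ⟨inv_mem ha, fun y hy => ?_⟩
        have hw : y ^ 2 ^ k ∈ Q := pow_mem hy.1 _
        have h1 := hinv α⁻¹ (inv_mem ha) _ (ha' y hy)
        rw [(mulOn_pext α⁻¹).map_mul ((pext_mem_iff α _).2 hw) (inv_mem hw), (mulOn_pext α⁻¹).map_inv hw,
          map_inv] at h1
        have h2 := inv_mem h1
        rw [map_inv]
        simpa [mul_assoc] using h2 }
  have hCA : C ≤ F.autGroup Q := fun α hα => hα.1
  have hconj : ∀ α ∈ F.autGroup Q, ∀ β ∈ C, α * β * α⁻¹ ∈ C := by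
    rintro α ha β ⟨hb, hb'⟩
    refine ⟨mul_mem (mul_mem ha hb) (inv_mem ha), fun y hy => ?_⟩
    have hy' := piso_cent (piso_pext_of_mem hQS (inv_mem ha)) hy
    have hw : (pext Q α⁻¹ y) ^ 2 ^ k ∈ Q := pow_mem hy'.1 _
    have h1 := hinv α ha _ (hb' _ hy')
    rw [(mulOn_pext α).map_mul ((pext_mem_iff β _).2 hw) (inv_mem hw), (mulOn_pext α).map_inv hw,
      ← (mulOn_pext α⁻¹).map_pow hy.1, map_inv] at h1
    rw [map_mul, map_mul, map_inv]
    simpa using h1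
  have hnorm : F.autGroup Q ≤ normalizer (C : Set (MulAut Q)) := fun α ha =>
    mem_normalizer_of_conj (hconj α ha) (fun β hb => by simpa using hconj α⁻¹ (inv_mem ha) β hb)
  have : Finite Q := finite_of_le hQS
  have hsyl := (sat_sylIn hS hF hN).inf_normal hCA hnorm
  obtain ⟨n, hn, hnα⟩ := hsyl.frattini (hnorm hf.aut_mem)
  have htC : conjAut Q t ht.2 ∈ C := by
    refine ⟨conjAut_mem_autGroup F hQS ht.1 ht.2, fun y hy => ?_⟩
    have hy' : t * y * t⁻¹ ∈ centralizerIn Q Q := by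
      have := piso_cent (PIso.cj F hQS ht) hy
      exact this
    rw [pext_conjAut ht.2 (pow_mem hy.1 _), ← conj_pow]
    have c1 : Commute y (t * y * t⁻¹) := comm_of_cent hy' hy.1
    have c2 : Commute (y * (t * y * t⁻¹)) (t ^ 2) := (comm_of_cent (mul_mem hy hy') ht2).symm
    have e1 : (y * t) ^ 2 ^ (k + 1) = y ^ 2 ^ k * (t * y * t⁻¹) ^ 2 ^ k * t ^ 2 ^ (k + 1) := by
      rw [pow_succ', pow_mul, pow_mul, ← c1.mul_pow, ← c2.mul_pow]
      congr 1
      simp [pow_two, mul_assoc]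
    have h1 := pow_mem_B h hk (mul_mem (hQS hy.1) ht.1)
    have h2 := pow_mem_B h hk ht.1
    have h3 := pow_mem_B h hk (hQS hy.1)
    have h4 := mul_mem (mul_mem h1 (inv_mem h2)) (inv_mem h3)
    rw [e1, mul_inv_cancel_right, (c1.pow_pow _ _).eq, pow_succ, pow_mul] at h4
    simpa [pow_two, mul_assoc, pow_succ] using h4
  have htT : conjAut Q t ht.2 ∈ autInducedBy S Q ⊓ C := ⟨conjAut_mem_autInducedBy ht.1 ht.2, htC⟩
  have hβ : n * hf.aut ∈ F.autGroup Q := mul_mem hn.1 hf.aut_mem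
  have hext : t ∈ extd S Q (pext Q (n * hf.aut)) :=
    (mem_extd_pext_iff ht).2 (conj_mem_of_mem_normalizer hnα htT).1
  obtain ⟨g, hg, e⟩ := (piso_pext_of_mem hQS hβ).exists_ext (sat_receptive hS hF hN)
  have hlt' : Q < extd S Q (pext Q (n * hf.aut)) :=
    lt_of_le_of_ne (piso_pext_of_mem hQS hβ).mor.le_extd fun h => htQ (h ▸ hext)
  have : Finite (extd S Q (pext Q (n * hf.aut))) := finite_of_le extd_le
  intro x hx hb
  obtain ⟨z, hz, hzx⟩ := ih _ g (card_lt_card_of_lt hlt') hg x (hlt'.le hx) hb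
  have h1 := (inv_mem hn : n⁻¹ ∈ C).2 z (hZ hz)
  have h2 := mul_mem (B_succ_le S k h1) (⟨z, hz, rfl⟩ : z ^ 2 ^ k ∈ B S (2 ^ k))
  rw [inv_mul_cancel_right, hzx, e x hx, map_inv, map_mul] at h2
  rw [← hf.pext_aut hx]
  simpa using h2

end


/-- Let F be a saturated fusion system over a finite 2-group S. Suppose that every element of S is F-conjugate to an element of the centre Z(S) (some map of F defined on the cyclic subgroup it generates sends it into Z(S)). Then S is abelian. -/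
theorem result {Ω : Type*} [Group Ω] {S : Subgroup Ω} [Finite S] (hS : IsPGroup 2 ↥S) (F : Cfsg.FusionSystem S) (hF : F.IsSaturated 2) (h : ∀ x ∈ S, ∃ z ∈ S ⊓ Subgroup.centralizer (S : Set Ω), F.IsConjElt x z) : IsMulCommutative ↥S := by
  obtain ⟨e, he⟩ := hS.exists_card_eq
  have h0 : SC F (2 ^ e) := by
    rintro P f hf _ hx ⟨z, hz, rfl⟩
    have : z ^ 2 ^ e = 1 := by
      have := pow_card_eq_one' (x := (⟨z, hz.1⟩ : S))
      rw [he] at this
      exact congrArg Subtype.val this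
    rw [this, hf.mulOn.map_one]; exact one_mem _
  have h1 : SC F (2 ^ 0) :=
    Nat.decreasingInduction (motive := fun k _ => SC F (2 ^ k)) (fun k _ hk => step hS hF h hk) h0
      (Nat.zero_le e)
  refine ⟨⟨fun a b => Subtype.ext ?_⟩⟩
  have := B_le S _ (pow_mem_B h h1 b.2)
  rw [pow_zero, pow_one] at this
  exact comm_of_cent this a.2

end Cfsg.Agent.S5274
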