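import Cfsg.Statements.S5280
import Cfsg.Agent.Fus.PStable
import Cfsg.Agent.Fus.Normal
import Cfsg.Agent.Trans.StableOdd

set_option autoImplicit false
open Cfsg

open Cfsg.Lib Cfsg.Lib.Fus

namespace Cfsg.Agent.S5280

theorem aux {G : Type*} [Group G] [Finite G] (p : ℕ) [Fact p.Prime] (hp : p ≠ 2) (P : Sylow p G)
    (hst : PStab (groupFusionSystem (P : Subgroup G)) p) :
    (groupFusionSystem (P : Subgroup G)).IsConstrained p := by
  obtain ⟨V, hV, hN, hr, hc⟩ := Trans.exists_radicalIn_ctlFus' hp ((pStab_group_iff P).2 hst)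
    (Trans.isSylowIn_top P)
  have hn : (groupFusionSystem (P : Subgroup G)).IsNormal V := isNormal_of_mor_normSys (hQ := hV)
    fun A f hf => by
      obtain ⟨hA, h1, g, hg⟩ := mor_group.1 hf
      obtain ⟨x, hx, e⟩ := Trans.ctlFus_subgroup_iff.1 hc A g trivial hA (by
        rintro _ ⟨a, ha, rfl⟩
        exact (hg a ha ▸ h1 a ha :))
      refine mor_normSys.2 ⟨le_inf hA (hA.trans hN), fun y => x * y * x⁻¹, mor_group.2
        ⟨sup_le hA hV, ?_, x, fun _ _ => rfl⟩, fun a ha => (e a ha).trans (hg a ha).symm,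
        (img_conj V x).trans (Trans.cj_eq_of_mem_normalizer hx)⟩
      rw [← Trans.cj_le_iff, Trans.cj_sup, Trans.cj_eq_of_mem_normalizer hx]
      exact sup_le (Trans.cj_le_iff.2 fun a ha => (e a ha).trans (hg a ha).symm ▸ h1 a ha) hV
  refine ⟨Grp.groupFusionSystem_isSaturated P, V, hn, isCentric_iff_piso.2 ⟨hV, fun Q f hf => ?_⟩⟩
  obtain ⟨g, -, e, hg⟩ := Fus.IsNormal.exists_piso hn hf.mor
  rw [← hf.img_eq, ← img_congr e, hg.img_eq]
  exact hr.inf_centralizer_le le_top

/-- Let p be a prime greater than 3, G a finite group with Sylow p-subgroup P, and F the fusion system of G on P. Suppose F is p-stable: for every fully normalized subgroup Q and every χ in Aut_F(Q) acting quadratically on Q (χ(a⁻¹)·a·χ(a⁻¹)·χ(χ(a)) = 1 for all a in Q), χ lies in O_p(Aut_F(Q)). Then F is constrained: some subgroup normal in F is F-centric. -/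
theorem result {Ω : Type*} [Group Ω] [Finite Ω] (p : ℕ) [Fact p.Prime] (hp : 3 < p) (P : Sylow p Ω) (hst : (∀ Q : Subgroup Ω, (Cfsg.groupFusionSystem (P : Subgroup Ω)).IsFullyNormalized Q → ∀ χ : MulAut ↥Q, χ ∈ (Cfsg.groupFusionSystem (P : Subgroup Ω)).autGroup Q → (∀ a : ↥Q, (χ a⁻¹) * a * (χ a⁻¹) * (χ (χ a)) = 1) → χ ∈ ((Cfsg.pCore p ↥((Cfsg.groupFusionSystem (P : Subgroup Ω)).autGroup Q)).map ((Cfsg.groupFusionSystem (P : Subgroup Ω)).autGroup Q).subtype : Subgroup (MulAut ↥Q)))) : (Cfsg.groupFusionSystem (P : Subgroup Ω)).IsConstrained p := by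
  exact aux p (by omega) P hst

end Cfsg.Agent.S5280
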