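import Cfsg.Statements.S5287
import Cfsg.Agent.Fus.EssReal
import Cfsg.Agent.S5234
import Cfsg.Agent.S5235

set_option autoImplicit false
open Cfsg

namespace Cfsg.Agent.S5287

open Cfsg.Lib.Fus Cfsg.Lib.Fus.Ess Cfsg.FusionSystem Cfsg.Lib.Solv
open Subgroup hiding upperCentralSeries
open scoped commutatorElement

theorem autTor_of_step {G : Type*} [Group G] [Finite G] {p : ℕ} [Fact p.Prime] (hG : IsPGroup p G)
    {H : Subgroup (MulAut G)} (hH : (Nat.card H).Coprime p) {X : Subgroup G} (hX : AInv H X)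
    (h1 : frattini G ≤ X) (h2 : Nat.card X ≤ p * Nat.card (frattini G))
    (h3 : Nat.card (⊤ : Subgroup G) ≤ p * Nat.card X) :
    IsMulCommutative H ∧ ∀ h ∈ H, h ^ (p - 1) = 1 := by
  have key : ∀ K L : Subgroup G, K ≤ L → Nat.card L ≤ p * Nat.card K → ∃ x, L = K ⊔ zpowers x :=
    fun K L h1 h2 => h1.eq_or_lt.elim (fun e => ⟨1, by simp [e]⟩) fun e =>
      have ⟨x, h3, h4⟩ := SetLike.exists_of_lt e
      ⟨x, (sup_zpowers_eq_of_card_le (hG.to_subgroup L) h2 h1 h3 h4).symm⟩
  refine comm_of_chain' hG hH (c := ![frattini G, X, ⊤]) le_rfl rfl (fun i => ?_) (fun i => ?_)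
    fun i => ?_ <;> fin_cases i
  exacts [AInv.of_char (frattini G), hX, aInv_top, (inferInstance : (frattini G).Normal),
    Subgroup.Normal.of_commutator_le _ ((commutator_le_frattini_of_isPGroup hG).trans h1),
    (inferInstance : (⊤ : Subgroup G).Normal), key _ _ h1 h2, key _ _ le_top h3]

/-- Let S be a finite metacyclic p-group (an extension of a cyclic group by a cyclic group). Every saturated fusion system over S is supersoluble (S has a chain of F-strongly closed subgroups from 1 to S with cyclic steps) if and only if S is not homocyclic of rank two (isomorphic to Z/p^n × Z/p^n with n ≥ 1) and, when p = 2, S is not dihedral of order at least 4, not quasi-dihedral (semidihedral) and not generalized quaternion of order at least 8. -/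
theorem result {Ω : Type*} [Group Ω] {S : Subgroup Ω} [Finite S] (p : ℕ) [Fact p.Prime] (hS : IsPGroup p ↥S) (hm : Cfsg.IsMetacyclic ↥S) : (∀ F : Cfsg.FusionSystem S, F.IsSaturated p → (∃ (m : ℕ) (c : Fin (m + 1) → Subgroup Ω), c 0 = ⊥ ∧ c (Fin.last m) = S ∧ (∀ i : Fin (m + 1), F.StronglyClosed (c i)) ∧ ∀ i : Fin m, c i.castSucc ≤ c i.succ ∧ ∃ x ∈ S, c i.succ = c i.castSucc ⊔ Subgroup.zpowers x)) ↔ ¬ ((∃ n : ℕ, 0 < n ∧ Nonempty (↥S ≃* Multiplicative (ZMod (p ^ n)) × Multiplicative (ZMod (p ^ n)))) ∨ (p = 2 ∧ ((∃ n : ℕ, 2 ≤ n ∧ Nonempty (↥S ≃* DihedralGroup n)) ∨ Cfsg.IsQuasiDihedral ↥S ∨ (∃ n : ℕ, 2 ≤ n ∧ Nonempty (↥S ≃* QuaternionGroup n))))) := by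
  have hp : p.Prime := Fact.out
  refine (forall_sSol_iff hS).trans ⟨fun h => ?_, fun h => ⟨fun F hF => ?_, fun H hH => ?_⟩⟩
  · rintro (⟨n, hn, ⟨e⟩⟩ | ⟨rfl, h1⟩)
    · have : Fact (1 < p ^ n) := ⟨Nat.one_lt_pow hn.ne' hp.one_lt⟩
      exact not_autTor_sq (IsPGroup.of_card (n := n) (by simp)) (AutTor.of_equiv h.2 e.symm)
    · obtain ⟨F, hF, h2⟩ := exists_not_sSol_of_maxClass hS h1
      exact h2 ((forall_sSol_iff hS).2 h F hF)
  · by_cases hc : IsMulCommutative S
    · exact isNormal_top_of_comm hS hF fun x hx y hy =>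
        congrArg Subtype.val (hc.1.1 ⟨x, hx⟩ ⟨y, hy⟩)
    by_cases h2 : p = 2
    · refine S5235.result p hS F hF S (stronglyClosed_top F) h2 hm ?_ ?_ fun e =>
        h (.inr ⟨h2, .inr (.inl e)⟩)
      · rintro ⟨_ | _ | n, ⟨e⟩⟩
        · exact not_finite_iff_infinite.2 inferInstance (Finite.of_equiv _ e.toEquiv)
        · exact hc ⟨⟨fun a b => e.injective (by
            rw [map_mul, map_mul]; generalize e a = x, e b = y; revert x y; decide)⟩⟩
        · exact h (.inr ⟨h2, .inl ⟨n + 2, by omega, ⟨e⟩⟩⟩)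
      · rintro ⟨_ | _ | n, ⟨e⟩⟩
        · exact not_finite_iff_infinite.2 inferInstance (Finite.of_equiv _
            (e.trans QuaternionGroup.quaternionGroupZeroEquivDihedralGroupZero).toEquiv)
        · exact hc ⟨⟨fun a b => e.injective (by
            rw [map_mul, map_mul]; generalize e a = x, e b = y; revert x y; decide)⟩⟩
        · exact h (.inr ⟨h2, .inr (.inr ⟨n + 2, by omega, ⟨e⟩⟩)⟩)
    · exact S5234.result p hS F hF S (stronglyClosed_top F) h2 hm
  · have hi := Meta.index_frattini_le hS hm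
    have h1 := index_mul_card (frattini S)
    by_cases hc : IsCyclic S
    · exact autTor_of_step hS hH (AInv.of_char _) le_rfl (Nat.le_mul_of_pos_left _ hp.pos) (by
        rw [card_top, ← h1]
        exact Nat.mul_le_mul_right _ ((isCyclic_iff_index_frattini_le hS).1 hc))
    by_cases hI : Irr H
    · refine (h ?_).elim
      by_cases hc' : ∀ x y : S, x * y = y * x
      · have : Nontrivial S := not_subsingleton_iff_nontrivial.1 fun _ => hc inferInstance
        obtain ⟨k, -, h2⟩ := hI.exists_orderOf hS hc'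
        exact .inl ⟨k + 1, k.succ_pos, nonempty_homocyclic hS hi hc hc' h2⟩
      · obtain ⟨h2, h3⟩ := hI.quaternion_of_isMetacyclic hS hm hc'
        exact .inr ⟨h2, .inr (.inr ⟨2, le_rfl, h3⟩)⟩
    simp only [Irr, not_forall, not_or] at hI
    obtain ⟨X, h2, h3, h4⟩ := hI
    have h5 := PG.prime_mul_card_le_of_lt (hS.to_subgroup _) (left_lt_sup.2 h3)
    have h6 := prime_mul_card_le_card hS (X := frattini S ⊔ X) fun e =>
      h4 (frattini_nongenerating ((sup_comm _ _).trans e))
    have h7 := h1.symm.trans_le (Nat.mul_le_mul_right _ hi)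
    rw [sq, mul_assoc] at h7
    exact autTor_of_step hS hH ((AInv.of_char _).sup h2) le_sup_left
      (Nat.le_of_mul_le_mul_left (h6.trans h7) hp.pos)
      (card_top.trans_le (h7.trans (Nat.mul_le_mul_left p h5)))

end Cfsg.Agent.S5287
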