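import Cfsg.Statements.S5289
import Cfsg.Agent.Fus.EssTor2
import Cfsg.Agent.Fus.EssCentSq
import Cfsg.Agent.Solv.RankBound
import Cfsg.Agent.Trans.QdRankTwo
import Cfsg.Agent.S3888
import Cfsg.Agent.S5234

set_option autoImplicit false
open Cfsg

namespace Cfsg.Agent.S5289

open Cfsg.Lib.Fus Cfsg.Lib.Fus.Ess Cfsg.FusionSystem Cfsg.Lib.Solv
open Subgroup hiding upperCentralSeries
open scoped commutatorElement

section

variable {G : Type*} [Group G] [Finite G] {p : ℕ} [hp : Fact p.Prime] {x y z u : G} {r b : ℕ}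

theorem abP_of_gen (hG : IsPGroup p G) (hn : ¬ IsMulCommutative G) (h : closure {x, y, z} = ⊤)
    (hx : x ^ p = 1) (hc : y * z = z * y) (h1 : x⁻¹ * y * x ∈ closure {y, z})
    (h2 : x⁻¹ * z * x ∈ closure {y, z}) : AbP p ⊤ (closure {y, z}) ∧ x ∉ closure {y, z} := by
  have h3 : closure {y, z} ⊔ zpowers x = ⊤ := by
    rw [← h, zpowers_eq_closure, ← Subgroup.closure_union, Set.union_comm]; rfl
  have h4 : IsMulCommutative (closure ({y, z} : Set G)) := isMulCommutative_closure (by
    rintro _ (rfl | rfl) _ (rfl | rfl) <;> simp [hc])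
  have h5 : closure {y, z} ≠ ⊤ := fun e => hn ⟨⟨fun a b =>
    congrArg Subtype.val (h4.1.1 ⟨a, e ▸ mem_top a⟩ ⟨b, e ▸ mem_top b⟩)⟩⟩
  have h6 : x⁻¹ ∈ normalizer (closure {y, z} : Subgroup G) :=
    mem_normalizer_of_finite fun a ha => (closure_pair_le (H := comap (MulAut.conj x⁻¹).toMonoidHom
      (closure {y, z}))).2 ⟨by simpa using h1, by simpa using h2⟩ ha
  have h7 := card_sup_zpowers_le ((inv_mem_iff (x := x)).1 h6) (hx ▸ one_mem _)
  rw [h3, card_top] at h7
  exact ⟨⟨hG.to_subgroup _, fun e => hn ⟨⟨fun a b => congrArg Subtype.val (e.1.1 ⟨a, trivial⟩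
    ⟨b, trivial⟩)⟩⟩, le_top, h4, card_top.trans (h7.antisymm (prime_mul_card_le_card hG h5))⟩,
    fun e => h5 (h3 ▸ (sup_eq_left.2 (zpowers_le.2 e)).symm)⟩

theorem sq_modEq (h : AbP p ⊤ (closure {y, z})) (hx : x ∉ closure {y, z}) (h1 : dl x z = y)
    (h2 : dl x y = z ^ r) (h3 : y ^ r = 1) (h4 : z ^ r ∈ center G) (h5 : (z ^ r) ^ p = 1)
    (h6 : z ^ r ≠ 1) (β : MulAut G) (hu : u ∉ closure {y, z})
    (hb : (u ^ b)⁻¹ * β u ∈ closure {y, z}) : b * b ≡ 1 [MOD p] := by
  have hz := right_mem_closure_pair y z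
  have hc : ∀ s t : G, ⁅s, t⁆ ∈ closure {y, z} := fun s t =>
    h.commutator_le (commutator_mem_commutator trivial trivial)
  have hd : ∀ s t : G, dl s t ∈ closure {y, z} := fun s t => dl_eq s t ▸ hc _ _
  have hm : ∀ {s t : G}, s ∈ closure {y, z} → t ∈ closure {y, z} → Commute s t := h.mul_comm'
  have k0 : ∀ s ∈ center G, dl x s = 1 := fun s hs => by simp [dl, mul_assoc, ← mem_center_iff.1 hs x]
  have k1 : ∀ s ∈ closure {y, z}, ∀ t ∈ closure {y, z}, dl x (s * t) = dl x s * dl x t :=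
    fun s hs t ht => by
      calc dl x (s * t) = x⁻¹ * s * x * (dl x t * s⁻¹) := by simp only [dl]; group
        _ = _ := by rw [(hm (hd x t) (inv_mem hs)).eq, dl.eq_1 x s]; group
  have k2 : ∀ s ∈ closure {y, z}, dl x (dl x s) = s ^ r ∧ s ^ r ∈ center G := fun s hs => by
    induction hs using closure_induction'' with
    | one => simp [dl]
    | mem s hs =>
      rcases hs with rfl | rfl
      · exact ⟨by rw [h2, h3, k0 _ h4], h3 ▸ one_mem _⟩
      · exact ⟨by rw [h1, h2], h4⟩
    | inv_mem s hs =>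
      have e : ∀ s ∈ closure {y, z}, dl x s⁻¹ = (dl x s)⁻¹ := fun s hs =>
        eq_inv_of_mul_eq_one_left (by rw [← k1 _ (inv_mem hs) _ hs]; simp [dl])
      rw [e _ (subset_closure hs), e _ (hd _ _), inv_pow, inv_inj, inv_mem_iff]
      rcases hs with rfl | rfl
      · exact ⟨by rw [h2, h3, k0 _ h4], h3 ▸ one_mem _⟩
      · exact ⟨by rw [h1, h2], h4⟩
    | mul s t hs ht e1 e2 =>
      rw [k1 s hs t ht, k1 _ (hd _ _) _ (hd _ _), e1.1, e2.1, (hm hs ht).mul_pow]
      exact ⟨rfl, mul_mem e1.2 e2.2⟩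
  have k3 : β y ∈ closure {y, z} := by
    have := hc (β x⁻¹) (β z)
    rwa [← map_commutatorElement, ← dl_eq, h1] at this
  have k4 : β z ∈ closure {y, z} := by
    by_contra e
    have := (h.mem_cent trivial e k3 (by
      rw [← map_mul, ← map_mul, (hm hz (left_mem_closure_pair y z)).eq])).2 (β x) trivial
    rw [← map_mul, ← map_mul, β.apply_eq_iff_eq] at this
    exact h6 (by rw [← h2, dl, mul_assoc x⁻¹, ← this]; group)
  have : (closure {y, z}).Normal := normalizer_eq_top_iff.1 (top_le_iff.1 h.norm)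
  have k5 : (x⁻¹ ^ b)⁻¹ * β x⁻¹ ∈ closure {y, z} := by
    have e : closure (closure {y, z} ∪ {u}) = ⊤ := by
      rw [Subgroup.closure_union, closure_eq, ← zpowers_eq_closure, h.sup trivial hu]
    refine pow_mod_closure β.toMonoidHom _ (σ := closure {y, z} ∪ {u})
      (e ▸ h.commutator_le) ?_ _ (e ▸ mem_top _)
    rintro s (hs | rfl)
    · exact mul_mem (inv_mem (pow_mem hs b))
        ((closure_pair_le (H := comap β.toMonoidHom (closure {y, z}))).2 ⟨k3, k4⟩ hs)
    · exact hb
  obtain ⟨k6, k7⟩ := k2 _ k4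
  rw [← k6, dl_eq, dl_eq] at k7
  have k8 := comm_pow_mod (center G) (u := x⁻¹) (v := β z) (u' := β x⁻¹) (v' := β z) (a := b)
    (b := 1) (commutatorElement_inv x⁻¹ _ ▸ inv_mem k7)
    (commutatorElement_eq_one_iff_commute.2 (hm (hc _ _) k4) ▸ one_mem _)
    (commutatorElement_eq_one_iff_commute.2 (hm k5 k4) ▸ one_mem _) (by simp)
  have k9 := comm_pow_eq (a := b) (mem_center_iff.1 k7 _).symm (mem_center_iff.1 k7 _).symm
    (hm k5 (hc _ _)) (mem_center_iff.1 k8 _)
  rw [← map_commutatorElement, ← map_commutatorElement, ← dl_eq, ← dl_eq, ← dl_eq, ← dl_eq, k6, h1,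
    h2, ← map_pow, ← map_pow, β.apply_eq_iff_eq, mul_one] at k9
  exact orderOf_eq_prime h5 h6 ▸ pow_eq_pow_iff_modEq.1 (k9.symm.trans (pow_one _).symm)

end

/-- Let p ≥ 5 be a prime and S a finite p-group of p-rank two (it has an elementary abelian subgroup of order p² and none of order p³) which is not the extraspecial group of order p³ and exponent p. Then S is resistant: for every saturated fusion system F over S, S is normal in F, that is, every map of F extends to an F-automorphism of S. -/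
theorem result {Ω : Type*} [Group Ω] {S : Subgroup Ω} [Finite S] (p : ℕ) [Fact p.Prime] (hS : IsPGroup p S)
    (F : Cfsg.FusionSystem S) (hF : F.IsSaturated p)
    (hp : 5 ≤ p)
    (hrank2 : ∃ E : Subgroup Ω, E ≤ S ∧ Cfsg.IsElementaryAbelian p E ∧ Nat.card E = p ^ 2)
    (hrank3 : ∀ E : Subgroup Ω, E ≤ S → Cfsg.IsElementaryAbelian p E → Nat.card E ≤ p ^ 2)
    (hnotE : ¬ (Nat.card S = p ^ 3 ∧ Monoid.exponent ↥S = p)) : F.IsNormal S := by
  have hpp : p.Prime := Fact.out
  have hrk : ∀ E ≤ S, PRankLE p 2 E := fun E hE A h1 h2 =>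
    card_map_of_injective (K := A) E.subtype_injective ▸ hrank3 _ ((map_subtype_le A).trans hE)
      ⟨inferInstance, by rintro _ ⟨a, ha, rfl⟩; exact congrArg Subtype.val (h2 a ha)⟩
  have hab : ∀ E, F.IsEssential p E → IsMulCommutative E → Nat.card E = p ^ 2 := fun E hE hc => by
    have := finite_of_le hE.1.1
    obtain ⟨t, ht, htp⟩ := exists_rad_pow_of_essential hS hF hE
    obtain ⟨k, h1, -, -, ⟨e⟩⟩ := ht.abelian_rank_two hc.1.1
      ((RB.index_frattini_le_card_omegaOne (by omega) E ht.pg fun x _ =>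
        mem_center_iff.2 fun y => hc.1.1 y x).trans (hrk E hE.1.1 _ inferInstance
        (Lib.Trans.Qd.omegaOne_rank_two (by omega) (hrk E hE.1.1) (ht.pg.to_subgroup ⊤)).1))
      (htp hc.1.1)
    obtain rfl : k = 0 := by omega
    simp [Nat.card_congr e.toEquiv, sq]
  by_cases hn : IsMulCommutative S
  · exact isNormal_top_of_comm hS hF fun x hx y hy =>
      congrArg Subtype.val (hn.1.1 ⟨x, hx⟩ ⟨y, hy⟩)
  have hA : ∀ A : Subgroup S, AbP p ⊤ A → AbP p S (A.map S.subtype) := fun A h =>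
    ⟨hS, hn, map_subtype_le A, have := h.comm; inferInstance, by
      rw [card_map_of_injective S.subtype_injective, ← h.card, card_top]⟩
  have hm : ∀ {A : Subgroup S} {x : S}, (x : Ω) ∈ A.map S.subtype ↔ x ∈ A :=
    mem_map_iff_mem S.subtype_injective
  obtain ⟨n, hc⟩ := IsPGroup.iff_card.1 hS
  rcases S3888.result (by omega) n hc (hrk S le_rfl) with h | ⟨h3, x, y, z, h, hx, hy, hz, h1, h2, h4⟩ |
    ⟨h3, s, x, y, z, hs, h, hx, hy, hz, h1, h2, h4⟩ | h
  · exact S5234.result p hS F hF S (stronglyClosed_top F) (by omega) h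
  · refine isNormal_top_of_no_essential hS hF fun E hE => hnotE ?_
    obtain ⟨k1, -⟩ := abP_of_gen hS hn h hx h2 (h4 ▸ mul_mem (left_mem_closure_pair y z)
      (pow_mem (right_mem_closure_pair y z) _))
      (by rw [mul_assoc, ← h1, inv_mul_cancel_left]; exact right_mem_closure_pair y z)
    have hzc : z ∈ center S := mem_center_of_top_le (h ▸ (Subgroup.closure_le _).2 (by
      rintro _ (rfl | rfl | rfl) <;> simp [mem_centralizer_singleton_iff, h1, h2]))
    have k2 : CSq p S := ⟨hS, hn, by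
      rw [centralizerIn, ← Lib.Solv.map_subtype_center, card_map_of_injective S.subtype_injective,
        ← card_top (G := S), k1.card, sq, mul_assoc]
      exact Nat.mul_le_mul_left p ((card_le_of_le (closure_pair_le.2 ⟨mem_sup_right (mem_zpowers y),
        mem_sup_left hzc⟩)).trans (card_sup_zpowers_le (normalizer_eq_top (center S) ▸ mem_top y)
          (hy ▸ one_mem _)))⟩
    have k3 := (k2.abP hF hE).1
    have k4 : Nat.card S = p ^ 3 := by rw [k3.card, hab E hE k3.comm, ← pow_succ']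
    obtain rfl : n = 3 := Nat.pow_right_injective hpp.two_le (hc.symm.trans k4)
    have := Finite.one_lt_card_iff_nontrivial.1 (hc ▸ Nat.one_lt_pow (by omega) hpp.one_lt)
    refine ⟨k4, (Monoid.exponent_eq_prime_iff hpp).2 fun g hg => orderOf_eq_prime
      ((Lib.Trans.Qd.omegaOne_rank_two (by omega) (hrk S le_rfl) (hS.to_subgroup ⊤)).1 g
        ((top_le_iff.1 (h.ge.trans (Subgroup.closure_mono ?_))).ge (mem_top g))) hg⟩
    rintro _ (rfl | rfl | rfl)
    exacts [⟨trivial, hx⟩, ⟨trivial, hy⟩, ⟨trivial, by simpa using hz⟩]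
  · refine isNormal_top_of_no_essential hS hF fun E hE => ?_
    obtain ⟨n, rfl⟩ := Nat.exists_eq_add_of_le' h3
    have hyA := left_mem_closure_pair y z
    have hzA := right_mem_closure_pair y z
    obtain ⟨k1, k2⟩ := abP_of_gen hS hn h hx h1 (h2 ▸ mul_mem hyA (pow_mem hzA _))
      (h4 ▸ mul_mem hyA hzA)
    have k3 := hA _ k1
    rw [show n + 4 - 3 = n + 1 from rfl] at h2
    rw [show n + 4 - 2 = n + 1 + 1 from rfl, pow_succ, pow_mul] at hz
    have hyz : Commute y z := h1
    have e1 : y ^ (s * p ^ (n + 1)) = 1 := by rw [pow_succ', mul_left_comm, pow_mul, hy, one_pow]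
    have e0 : x⁻¹ * z ^ (s * p ^ (n + 1)) * x = z ^ (s * p ^ (n + 1)) := by
      have := conj_pow (i := s * p ^ (n + 1)) (a := x⁻¹) (b := z)
      rwa [inv_inv, h4, hyz.mul_pow, e1, one_mul, eq_comm] at this
    have e2 : z ^ (s * p ^ (n + 1)) ∈ center S := mem_center_of_top_le
      (h ▸ (Subgroup.closure_le _).2 (by
        rintro _ (rfl | rfl | rfl)
        · exact mem_centralizer_singleton_iff.2 (inv_mul_eq_iff_eq_mul.1
            ((mul_assoc ..).symm.trans e0)).symm
        · exact mem_centralizer_singleton_iff.2 (hyz.pow_right _)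
        · exact mem_centralizer_singleton_iff.2 (Commute.self_pow _ _)))
    have e3 : z ^ (s * p ^ (n + 1)) ≠ 1 := fun e => by
      have e4 : z ^ p ^ (n + 1) = 1 := mem_bot.1 (mem_of_pow_of_pow (a := 0) (b := s) (mem_bot.2 hz)
        (by rw [← pow_mul, ← pow_mul, mul_comm _ s, e]; simp) fun e => hs.elim
          (fun e' => hpp.not_dvd_one (Nat.modEq_zero_iff_dvd.1 (e' ▸ e.symm))) fun e' =>
            e' ((ZMod.natCast_eq_natCast_iff ..).2 e ▸ by simp))
      have e5 := (card_le_of_le (closure_pair_le.2 ⟨mem_sup_right (mem_zpowers y),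
        mem_sup_left (mem_zpowers z)⟩)).trans (card_sup_zpowers_le
          (PG.mem_normalizer_zpowers (by simp [hyz.eq])) (hy ▸ one_mem _))
      rw [Nat.card_zpowers] at e5
      have e6 := (card_top.symm.trans k1.card).trans_le (Nat.mul_le_mul_left p (e5.trans
        (Nat.mul_le_mul_left p (orderOf_le_of_pow_eq_one (pow_pos hpp.pos _) e4))))
      rw [hc, ← pow_succ', ← pow_succ', Nat.pow_le_pow_iff_right hpp.one_lt] at e6
      omega
    obtain ⟨E, hE, -, hmax⟩ := exists_max_essential (Q := fun _ => True) hE trivial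
    have hES := hE.1.1
    have := finite_of_le hES
    have hne : E ≠ (closure {y, z}).map S.subtype := fun e => by
      have := k3.card
      rw [← e, hab E hE (e ▸ k3.comm), hc, ← pow_succ', Nat.pow_right_inj hpp.one_lt] at this
      omega
    obtain ⟨w, hw, hw'⟩ := AbP.exists_mem_of_ne k3 hE hne
    obtain ⟨a, b, -, hab1, hab2, -⟩ := exists_torus_exp hp
    have key : ∀ Y ≤ E, Y ≤ centralizerIn S S → AInv (F.autGroup E) (Y.subgroupOf E) →
        Nat.card E = p ^ 2 * Nat.card Y → (∀ v ∈ (closure {y, z}).map S.subtype ⊓ E, ∀ t ∈ S,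
          ⁅v⁻¹, t⁆ ∈ Y) → False := fun Y hY1 hY2 hY3 hY4 hY5 => by
      obtain ⟨g, -, v, m1, -, -, -, m2, -, m3, -, -, t, m4, m5⟩ := exists_torus_ess hS hF hE hY1 hY3
        hY4 (fun t ht y hy => by rw [(hY2 hy).2 t ht.1, mul_inv_cancel_right]) hab1
      obtain ⟨g', m6, m7⟩ := exists_ext_top hS hF (fun E hE => hmax E hE trivial) m1.mor
        (card_lt_card_of_lt (lt_normalizerIn hS (lt_of_isEssential hS hF hE)))
      have := sq_modEq k1 k2 (by rw [dl, h4, mul_inv_cancel_right])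
        (by rw [dl, h2, (hyz.pow_right _).eq, mul_inv_cancel_right]) e1 e2
        (by rw [mul_comm, pow_mul, pow_right_comm, hz, one_pow]) e3 m6.aut (u := ⟨v, hES m2⟩) (b := b)
        (fun e => m5 (inv_mul_conj_eq v t ▸ hY5 v ⟨hm.2 e, m2⟩ t m4.1)) (hm.1 (k3.cent_le (hY2 (by
          rw [← m7 v ⟨hES m2, le_normalizer m2⟩] at m3; exact m3))))
      exact hab2 (calc a = a * 1 := (mul_one a).symm
        _ ≡ a * (b * b) [MOD p] := this.symm.mul_left a
        _ = a * b * b := (mul_assoc ..).symm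
        _ ≡ 1 * b [MOD p] := hab1.mul_right b
        _ = b := one_mul b)
    by_cases hcE : IsMulCommutative E
    · refine key ⊥ bot_le bot_le (by simpa using aInv_bot) (by simpa using hab E hE hcE)
        fun v hv t ht => ?_
      rw [(k3.card_le_of_comm hF hE hw hw' hcE).1] at hv
      exact commutatorElement_eq_one_iff_mul_comm.2 ((inv_mem hv).2 t ht).symm
    · obtain ⟨m1, m2, m3, m4⟩ := k3.of_not_comm hF hE hw hw' hcE
      have m5 : AbP p E ((closure {y, z}).map S.subtype ⊓ E) := ⟨hS.to_le hES, hcE, inf_le_right,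
        Lib.FT.BG4.isMulCommutative_of_le k3.comm inf_le_left, k3.card_inf hES hw hw'⟩
      refine key _ (cent_le_of_isCentric hE.1) le_rfl (aInv_of_piso hES fun f hf v _ hv =>
        m2 ▸ PIso.map_cent_self hf (m2 ▸ hv)) ?_ fun v hv t ht =>
          mem_zIn_one.1 ((mem_zIn_succ.1 (inv_mem (m1 ▸ hv).2)).2 t ht)
      rw [m5.card, ← m5.card_commutator, m2, m4.antisymm (m3 ▸ k3.prime_le_card), sq, mul_assoc]
  · omega

end Cfsg.Agent.S5289
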