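import Cfsg.Statements.S5316
import Cfsg.Agent.S5267

set_option autoImplicit false
open Cfsg

namespace Cfsg.Agent.S5316

open Cfsg.Lib Cfsg.Lib.Fus Cfsg.Lib.Fus.Ess Cfsg.FusionSystem Cfsg.Lib.Solv Cfsg.Lib.MCE
open scoped commutatorElement

/-- Let p ≥ 5 be a prime, S a finite p-group of maximal class of order p^n with n ≥ 5 (nilpotency class n − 1), F a saturated fusion system over S, and E an F-essential subgroup that is not a pearl (not elementary abelian of order p² and not extraspecial of order p³ and exponent p). Then E has order at least p⁴. -/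
theorem result {Ω : Type*} [Group Ω] {S : Subgroup Ω} [Finite S] (p : ℕ) [Fact p.Prime] (hp : 5 ≤ p) (hS : IsPGroup p ↥S) (n : ℕ) (hn : Nat.card S = p ^ n) (h5 : 5 ≤ n)
    (hmax : Subgroup.lowerCentralSeries S (n - 2) ≠ ⊥) (F : Cfsg.FusionSystem S) (hF : F.IsSaturated p)
    (E : Subgroup Ω) (hE : F.IsEssential p E)
    (hnp : ¬ ((Nat.card ↥E = p ^ 2 ∧ Cfsg.IsElementaryAbelian p E) ∨ (Nat.card ↥E = p ^ 3 ∧ Cfsg.IsExtraspecial p ↥E ∧ Monoid.exponent ↥E = p))) :
    p ^ 4 ≤ Nat.card ↥E := by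
  obtain ⟨m, rfl⟩ := Nat.exists_eq_add_of_le' h5
  have hl : ∀ i, Subgroup.lowerCentralSeries S i = (gam S i).map S.subtype := fun i =>
    (Subgroup.top_subtype_lowerCentralSeries S i).symm
  have h : MC p (m + 3) S := ⟨hn, fun e => hmax (by
    rw [hl, Subgroup.map_eq_bot_iff_of_injective _ S.subtype_injective]; exact e)⟩
  have ht := mulOn_extFun (MonoidHom.id S)
  have hi : Set.InjOn (extFun (MonoidHom.id S)) S := fun x hx y hy e => by
    rw [extFun_of_mem _ hx, extFun_of_mem _ hy] at e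
    exact congrArg Subtype.val e
  obtain ⟨D, hD⟩ := exists_fImg_of_injOn F ht hi
  have hT : img S (extFun (MonoidHom.id S)) = ⊤ := eq_top_iff.2 fun x _ =>
    ht.mem_img.2 ⟨x, x.2, extFun_coe _ x⟩
  have hI : img E (extFun (MonoidHom.id S)) = E.subgroupOf S :=
    Subgroup.ext fun x => (ht.mono hE.1.1).mem_img.trans ⟨fun ⟨y, hy, e⟩ => by
      rw [extFun_of_mem _ (hE.1.1 hy)] at e
      exact e ▸ hy, fun hx => ⟨x, hx, extFun_coe _ x⟩⟩
  have key := (S5267.aux hT D h (by omega) (hD.saturated hS hF)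
    (hI ▸ essential_img hS hF hD hi hE)).1
  have := finite_of_le hE.1.1
  have hc := Nat.card_congr (Subgroup.subgroupOfEquivOfLe hE.1.1).toEquiv
  have hpw : p ^ 4 ≤ p ^ (m + 3 + 1) := Nat.pow_le_pow_right (by omega) (by omega)
  rcases key with h3 | h3 | h3
  · rcases S5267.pearl_map (Subgroup.subgroupOfEquivOfLe hE.1.1) h3 with k | ⟨k1, k2, k3, -⟩
    · exact absurd (.inl k) hnp
    · exact absurd (.inr ⟨k1, k2, k3 (by omega)⟩) hnp
  · rw [← hc, h3, card_lay h (by omega)]
    exact hpw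
  · rw [← hc, h3, card_twoStep_eq h (by omega) (by omega) (by omega)]
    exact hpw

end Cfsg.Agent.S5316
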