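import Cfsg.Statements.S5405
import Cfsg.Agent.Class.OCohom
import Cfsg.Agent.Known.InvTwoClass

set_option autoImplicit false
open scoped MatrixGroups
open Cfsg

namespace Cfsg.Agent.S5405

/-- Generators. -/
def eA : (Fin 1 ⊕ Fin 1) ⊕ Fin 2 → (Fin 1 ⊕ Fin 1) ⊕ Fin 2 → ZMod 2 :=
  Sum.elim (Sum.elim ![Sum.elim (Sum.elim ![0] ![0]) ![0, 1]] ![Sum.elim (Sum.elim ![1] ![0]) ![0, 1]]) ![Sum.elim (Sum.elim ![1] ![0]) ![1, 1], Sum.elim (Sum.elim ![0] ![1]) ![1, 0]]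

/-- Dual basis. -/
def dA : (Fin 1 ⊕ Fin 1) ⊕ Fin 2 → (Fin 1 ⊕ Fin 1) ⊕ Fin 2 → ZMod 2 :=
  Sum.elim (Sum.elim ![Sum.elim (Sum.elim ![0] ![1]) ![1, 0]] ![Sum.elim (Sum.elim ![1] ![1]) ![0, 1]]) ![Sum.elim (Sum.elim ![1] ![0]) ![0, 1], Sum.elim (Sum.elim ![1] ![0]) ![0, 0]]

/-- Certificate. -/
def cA : List (ℕ × ((Fin 1 ⊕ Fin 1) ⊕ Fin 2)) :=
  [(1, .inr 0), (3, .inr 1), (3, .inl (.inr 0)), (3, .inl (.inl 0)), (3, .inr 1), (2, .inl (.inr 0)), (1, .inl (.inl 0)), (1, .inr 1), (0, .inr 0)]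

/-- Generators. -/
def eB : (Fin 2 ⊕ Fin 2) ⊕ Fin 2 → (Fin 2 ⊕ Fin 2) ⊕ Fin 2 → ZMod 2 :=
  Sum.elim (Sum.elim ![Sum.elim (Sum.elim ![1, 1] ![0, 0]) ![0, 1], Sum.elim (Sum.elim ![1, 1] ![0, 0]) ![1, 1]] ![Sum.elim (Sum.elim ![1, 0] ![0, 1]) ![1, 0], Sum.elim (Sum.elim ![0, 1] ![0, 0]) ![1, 0]]) ![Sum.elim (Sum.elim ![0, 0] ![1, 0]) ![0, 1], Sum.elim (Sum.elim ![0, 1] ![0, 1]) ![0, 0]]

/-- Dual basis. -/
def dB : (Fin 2 ⊕ Fin 2) ⊕ Fin 2 → (Fin 2 ⊕ Fin 2) ⊕ Fin 2 → ZMod 2 :=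
  Sum.elim (Sum.elim ![Sum.elim (Sum.elim ![0, 1] ![0, 1]) ![0, 1], Sum.elim (Sum.elim ![1, 1] ![0, 1]) ![1, 1]] ![Sum.elim (Sum.elim ![1, 0] ![1, 0]) ![1, 0], Sum.elim (Sum.elim ![0, 1] ![1, 1]) ![0, 0]]) ![Sum.elim (Sum.elim ![1, 0] ![0, 0]) ![0, 0], Sum.elim (Sum.elim ![1, 1] ![1, 0]) ![1, 0]]

/-- Certificate. -/
def cB : List (ℕ × ((Fin 2 ⊕ Fin 2) ⊕ Fin 2)) :=
  [(2, .inr 1), (1, .inl (.inr 1)), (9, .inr 1), (8, .inr 0), (11, .inl (.inl 1)), (12, .inr 1), (12, .inr 0), (11, .inl (.inr 1)), (11, .inr 1), (10, .inl (.inr 0)), (10, .inl (.inr 0)), (10, .inr 0), (9, .inl (.inr 0)), (10, .inl (.inr 0)), (10, .inl (.inr 1)), (9, .inl (.inr 0)), (10, .inr 1), (10, .inr 1), (9, .inr 0), (8, .inl (.inr 0)), (8, .inl (.inr 1)), (8, .inr 1), (7, .inl (.inr 1)), (7, .inl (.inr 0)), (6, .inl (.inl 0)), (6, .inr 1), (5, .inl (.inl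 0)), (5, .inl (.inr 0)), (4, .inl (.inl 0)), (4, .inr 0), (3, .inl (.inl 0)), (3, .inr 1), (2, .inr 0), (1, .inl (.inr 1)), (0, .inl (.inl 1))]

/-- Generators. -/
def eC : Fin 4 ⊕ Fin 4 → Fin 4 ⊕ Fin 4 → ZMod 2 :=
  Sum.elim ![Sum.elim ![0, 0, 1, 1] ![0, 0, 1, 0], Sum.elim ![1, 0, 1, 0] ![0, 0, 1, 0], Sum.elim ![1, 1, 1, 0] ![1, 0, 0, 0], Sum.elim ![1, 1, 0, 1] ![1, 1, 0, 1]] ![Sum.elim ![1, 1, 0, 1] ![0, 0, 1, 1], Sum.elim ![0, 0, 1, 0] ![0, 0, 1, 0], Sum.elim ![0, 1, 0, 1] ![0, 0, 0, 1], Sum.elim ![0, 0, 1, 0] ![1, 1, 1, 1]]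

/-- Dual basis. -/
def dC : Fin 4 ⊕ Fin 4 → Fin 4 ⊕ Fin 4 → ZMod 2 :=
  Sum.elim ![Sum.elim ![1, 1, 0, 0] ![0, 1, 0, 1], Sum.elim ![1, 0, 1, 1] ![1, 1, 1, 0], Sum.elim ![1, 1, 0, 0] ![0, 0, 0, 0], Sum.elim ![1, 0, 0, 1] ![0, 1, 0, 0]] ![Sum.elim ![1, 1, 1, 0] ![0, 0, 1, 0], Sum.elim ![0, 1, 1, 0] ![1, 1, 0, 1], Sum.elim ![1, 0, 1, 1] ![0, 0, 1, 0], Sum.elim ![1, 1, 0, 1] ![0, 1, 0, 0]]

/-- Certificate. -/
def cC : List (ℕ × (Fin 4 ⊕ Fin 4)) :=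
  [(1, .inr 1), (1, .inl 1), (1, .inl 2), (4, .inr 3), (5, .inr 3), (6, .inr 2), (8, .inr 2), (12, .inl 2), (12, .inl 2), (13, .inl 1), (13, .inl 1), (13, .inr 3), (12, .inl 3), (12, .inr 0), (13, .inr 3), (12, .inl 3), (13, .inr 1), (13, .inl 3), (12, .inl 0), (17, .inl 2), (17, .inr 3), (16, .inl 3), (16, .inl 1), (16, .inr 3), (15, .inl 3), (19, .inl 2), (19, .inl 1), (20, .inr 2), (24, .inl 2), (24, .inr 3), (23, .inl 2), (24, .inr 3), (29, .inr 1), (28, .inl 1), (29, .inr 2), (30, .inr 3), (29, .inl 3), (29, .inr 3), (28, .inr 2), (28, .inr 3), (27, .inr 2), (28, .inr 1), (28, .inr 1), (28, .inr 1), (28, .inl 2), (27, .inl 1), (27, .inr 3), (29, .inr 2), (28, .inr 1), (28, .inr 0), (29, .inr 0), (29, .inr 3), (28, .inl 2), (27, .inl 1), (27, .inl 3), (27, .inr 3), (26, .inr 2), (25, .inl 3), (25, .inr 0), (25, .inl 1),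 (25, .inr 3), (24, .inl 1), (24, .inr 0), (25, .inr 2), (24, .inr 0), (24, .inr 3), (23, .inr 2), (22, .inr 1), (21, .inr 0), (21, .inr 1), (21, .inr 0), (22, .inr 0), (22, .inl 2), (22, .inr 3), (21, .inr 1), (22, .inr 3), (22, .inr 2), (21, .inr 0), (20, .inl 3), (20, .inr 3), (19, .inl 1), (19, .inl 3), (19, .inr 2), (18, .inl 1), (18, .inl 1), (18, .inr 3), (17, .inr 0), (16, .inl 2), (16, .inr 2), (15, .inr 1), (14, .inl 1), (14, .inr 0), (14, .inl 1), (14, .inl 3), (13, .inl 1), (14, .inr 3), (13, .inr 0), (13, .inr 3), (12, .inr 2), (11, .inl 1), (11, .inl 3), (11, .inr 2), (10, .inr 0), (10, .inr 3), (9, .inr 1), (8, .inl 3), (8, .inl 1), (7, .inl 0), (7, .inr 3), (6, .inl 0), (6, .inl 1), (5, .inl 0), (5, .inr 2), (4, .inr 1), (3, .inl 0), (3, .inr 3), (2, .inr 2), (1, .inl 3), (0, .inl 2)]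


open Cfsg.Lib.Class Cfsg.Lib.Class.Orth QuadraticMap in
theorem partA (f : Omega (ZMod 2) (quadMinus 1 (ZMod 2) 1 1) → _ → ZMod 2)
    (hf : ∀ g h, f (g * h) = f g + Matrix.mulVec (mat g.1) (f h)) :
    ∃ v, ∀ g, f g = Matrix.mulVec (mat g.1) v - v := by
  refine cocycle_principal_mat (quadMinus_nondegenerate_of_discr 1 (by decide))
    (Lib.Known.not_exc_quadMinus 1 (by unfold Lib.Known.Aniso; decide)) eA dA ?_ ?_ (.inl (.inl 0))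
    (fun a i => decide (quadFormMinus 1 (ZMod 2) 1 1 (a + eA i) = quadFormMinus 1 (ZMod 2) 1 1 a))
    (fun a i => ?_) cA ?_ ?_ f hf
  · rw [coe_quadMinus]; decide +kernel
  · simp only [polar, coe_quadMinus]; decide +kernel
  · have h : ∀ i, quadFormMinus 1 (ZMod 2) 1 1 (eA i) = 1 := by decide +kernel
    simp only [polar, coe_quadMinus, h, decide_eq_true_eq]
    exact (by decide : ∀ x y : ZMod 2, x = y ↔ x - y - 1 = 1) _ _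
  · decide +kernel
  · rw [coe_quadMinus]; decide +kernel

open Cfsg.Lib.Class Cfsg.Lib.Class.Orth QuadraticMap in
theorem partB (f : Omega (ZMod 2) (quadMinus 2 (ZMod 2) 1 1) → _ → ZMod 2)
    (hf : ∀ g h, f (g * h) = f g + Matrix.mulVec (mat g.1) (f h)) :
    ∃ v, ∀ g, f g = Matrix.mulVec (mat g.1) v - v := by
  refine cocycle_principal_mat (quadMinus_nondegenerate_of_discr 2 (by decide))
    (not_exc_of_finrank (by simp)) eB dB ?_ ?_ (.inl (.inl 0))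
    (fun a i => decide (quadFormMinus 2 (ZMod 2) 1 1 (a + eB i) = quadFormMinus 2 (ZMod 2) 1 1 a))
    (fun a i => ?_) cB ?_ ?_ f hf
  · rw [coe_quadMinus]; decide +kernel
  · simp only [polar, coe_quadMinus]; decide +kernel
  · have h : ∀ i, quadFormMinus 2 (ZMod 2) 1 1 (eB i) = 1 := by decide +kernel
    simp only [polar, coe_quadMinus, h, decide_eq_true_eq]
    exact (by decide : ∀ x y : ZMod 2, x = y ↔ x - y - 1 = 1) _ _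
  · decide +kernel
  · rw [coe_quadMinus]; decide +kernel

open Cfsg.Lib.Class Cfsg.Lib.Class.Orth QuadraticMap in
theorem partC (f : Omega (ZMod 2) (quadPlus 4 (ZMod 2)) → _ → ZMod 2)
    (hf : ∀ g h, f (g * h) = f g + Matrix.mulVec (mat g.1) (f h)) :
    ∃ v, ∀ g, f g = Matrix.mulVec (mat g.1) v - v := by
  refine cocycle_principal_mat (quadPlus_nondegenerate 4)
    (not_exc_of_finrank (by simp)) eC dC ?_ ?_ (.inl 0)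
    (fun a i => decide (quadFormPlus 4 (ZMod 2) (a + eC i) = quadFormPlus 4 (ZMod 2) a))
    (fun a i => ?_) cC ?_ ?_ f hf
  · rw [coe_quadPlus]; decide +kernel
  · simp only [polar, coe_quadPlus]; decide +kernel
  · have h : ∀ i, quadFormPlus 4 (ZMod 2) (eC i) = 1 := by decide +kernel
    simp only [polar, coe_quadPlus, h, decide_eq_true_eq]
    exact (by decide : ∀ x y : ZMod 2, x = y ↔ x - y - 1 = 1) _ _
  · decide +kernel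
  · rw [coe_quadPlus]; decide +kernel


/-- Vanishing of first cohomology on the natural module for three small orthogonal groups over the field with two elements: for the commutator subgroup of the isometry group of the elliptic quadratic form in dimension 4, of the elliptic form in dimension 6, and of the hyperbolic form in dimension 8, every crossed homomorphism into the natural module (a map f with f(gh) = f(g) + g·f(h)) is principal (of the form g ↦ g·v − v). -/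
theorem result : (∀ f : ↥(Cfsg.Omega (ZMod 2) (Cfsg.quadFormMinus 1 (ZMod 2) 1 1)) → ((Fin 1 ⊕ Fin 1) ⊕ Fin 2 → ZMod 2), (∀ g h : ↥(Cfsg.Omega (ZMod 2) (Cfsg.quadFormMinus 1 (ZMod 2) 1 1)), f (g * h) = f g + Matrix.mulVec (((g : ↥(Cfsg.isometryGroup (ZMod 2) (Cfsg.quadFormMinus 1 (ZMod 2) 1 1))) : GL ((Fin 1 ⊕ Fin 1) ⊕ Fin 2) (ZMod 2)) : Matrix ((Fin 1 ⊕ Fin 1) ⊕ Fin 2) ((Fin 1 ⊕ Fin 1) ⊕ Fin 2) (ZMod 2)) (f h)) → ∃ v : (Fin 1 ⊕ Fin 1) ⊕ Fin 2 → ZMod 2, ∀ g : ↥(Cfsg.Omega (ZMod 2) (Cfsg.quadFormMinus 1 (ZMod 2) 1 1)), f g = Matrix.mulVec (((g : ↥(Cfsg.isometryGroup (ZMod 2) (Cfsg.quadFormMinus 1 (ZMod 2) 1 1))) : GL ((Fin 1 ⊕ Fin 1) ⊕ Fin 2) (ZMod 2)) : Matrix ((Fin 1 ⊕ Fin 1) ⊕ Fin 2) ((Fin 1 ⊕ Fin 1) ⊕ Fin 2) (ZMod 2)) v - v) ∧ (∀ f : ↥(Cfsg.Omega (ZMod 2) (Cfsg.quadFormMinus 2 (ZMod 2) 1 1)) → ((Fin 2 ⊕ Fin 2) ⊕ Fin 2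 → ZMod 2), (∀ g h : ↥(Cfsg.Omega (ZMod 2) (Cfsg.quadFormMinus 2 (ZMod 2) 1 1)), f (g * h) = f g + Matrix.mulVec (((g : ↥(Cfsg.isometryGroup (ZMod 2) (Cfsg.quadFormMinus 2 (ZMod 2) 1 1))) : GL ((Fin 2 ⊕ Fin 2) ⊕ Fin 2) (ZMod 2)) : Matrix ((Fin 2 ⊕ Fin 2) ⊕ Fin 2) ((Fin 2 ⊕ Fin 2) ⊕ Fin 2) (ZMod 2)) (f h)) → ∃ v : (Fin 2 ⊕ Fin 2) ⊕ Fin 2 → ZMod 2, ∀ g : ↥(Cfsg.Omega (ZMod 2) (Cfsg.quadFormMinus 2 (ZMod 2) 1 1)), f g = Matrix.mulVec (((g : ↥(Cfsg.isometryGroup (ZMod 2) (Cfsg.quadFormMinus 2 (ZMod 2) 1 1))) : GL ((Fin 2 ⊕ Fin 2) ⊕ Fin 2) (ZMod 2)) : Matrix ((Fin 2 ⊕ Fin 2) ⊕ Fin 2) ((Fin 2 ⊕ Fin 2) ⊕ Fin 2) (ZMod 2)) v - v) ∧ (∀ f : ↥(Cfsg.Omega (ZMod 2) (Cfsg.quadFormPlus 4 (ZMod 2))) → (Fin 4 ⊕ Fin 4 → ZMod 2), (∀ g h : ↥(Cfsg.Omega (ZMod 2) (Cfsg.quadFormPlus 4 (ZMod 2))), f (g * h) = f g + Matrix.mulVec (((g : ↥(Cfsg.isometryGroup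 (ZMod 2) (Cfsg.quadFormPlus 4 (ZMod 2)))) : GL (Fin 4 ⊕ Fin 4) (ZMod 2)) : Matrix (Fin 4 ⊕ Fin 4) (Fin 4 ⊕ Fin 4) (ZMod 2)) (f h)) → ∃ v : Fin 4 ⊕ Fin 4 → ZMod 2, ∀ g : ↥(Cfsg.Omega (ZMod 2) (Cfsg.quadFormPlus 4 (ZMod 2))), f g = Matrix.mulVec (((g : ↥(Cfsg.isometryGroup (ZMod 2) (Cfsg.quadFormPlus 4 (ZMod 2)))) : GL (Fin 4 ⊕ Fin 4) (ZMod 2)) : Matrix (Fin 4 ⊕ Fin 4) (Fin 4 ⊕ Fin 4) (ZMod 2)) v - v) := by
  rw [← Lib.Class.coe_quadMinus, ← Lib.Class.coe_quadMinus, ← Lib.Class.coe_quadPlus]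
  exact ⟨partA, partB, partC⟩

end Cfsg.Agent.S5405
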