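import Cfsg.Statements.S5418
import Cfsg.Agent.SporChar.MonsterHe

set_option autoImplicit false
open Cfsg Subgroup Cfsg.Lib.SporChar Cfsg.Lib.Spor Cfsg.Lib.Solv Cfsg.Lib.Local

namespace Cfsg.Agent.S5418

/-- Let G be a finite group of Monster type at the involution z with Q the extraspecial normal subgroup of order 2^25 of C = C_G(z) (so C/Q is identified with the first Conway group with Q modulo its centre the Leech lattice modulo 2, and z is not weakly closed in Q). Let s be a conjugate of z in Q other than z and let B be a Sylow 7-subgroup of the joint centralizer of z and s. Then the centralizer of B has index 6 in the normalizer of B; and some involution inverting B induces, by conjugation, a non-inner automorphism of the layer of the centralizer of B. -/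
theorem result {G : Type*} [Group G] [Finite G] (z : G) (Q : Subgroup (Subgroup.centralizer ({z} : Set G))) [Q.Normal] (hM : Cfsg.IsOfMonsterType z Q) (s : G) (hsQ : ∃ hsc : s ∈ Subgroup.centralizer ({z} : Set G), (⟨s, hsc⟩ : Subgroup.centralizer ({z} : Set G)) ∈ Q) (hs : IsConj z s) (hs1 : s ≠ z) (B : Subgroup G) (hB : B ≤ Subgroup.centralizer ({z, s} : Set G)) (hBp : Nat.card B = 7 ^ (Nat.card ↥(Subgroup.centralizer ({z, s} : Set G))).factorization 7) : (Subgroup.centralizer (B : Set G)).relIndex (Subgroup.normalizer (B : Set G)) = 6 ∧ ∃ t : G, orderOf t = 2 ∧ (∀ b ∈ B, t * b * t⁻¹ = b⁻¹) ∧ (∀ x ∈ (Cfsg.layer ↥(Subgroup.centralizer (B : Set G))).map (Subgroup.centralizer (B : Set G)).subtype, t * x * t⁻¹ ∈ (Cfsg.layer ↥(Subgroup.centralizer (B : Set G))).map (Subgroup.centralizer (B : Set G)).subtype) ∧ ¬ ∃ l ∈ (Cfsg.layer ↥(Subgroup.centralizer (B : Set G))).map (Subgroup.centralizer (B : Set G)).subtype, ∀ x ∈ (Cfsg.layer ↥(Subgroup.centralizer (B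 : Set G))).map (Subgroup.centralizer (B : Set G)).subtype, t * x * t⁻¹ = l * x * l⁻¹ := by
  obtain ⟨Q', π, r, R, b, h, hp, hr, hb, ho, rfl⟩ := exists_mon_seven hM hsQ hs hs1 hB hBp
  obtain ⟨π', r', h', hπ⟩ := h.exists_twist_seven hr hb ho
  obtain ⟨g, hg⟩ := exists_conj_cube
  obtain ⟨n, hn⟩ := h'.exists_conj_pow (ho ▸ by decide) hπ hg
  refine ⟨relIndex_eq_six ho hn, ?_⟩
  have hC := centralizer_zpowers_eq_sing b
  have hc : (zpowers b).subgroupOf (centralizer (zpowers b : Set G)) ≤ center _ := fun a ha =>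
    mem_center_iff.2 fun c => Subtype.ext (c.2 a ha).symm
  have := normal_of_le_center hc
  obtain ⟨z', E, h1, h2⟩ := h.exists_emb_seven hp hr hb ho rfl
    (QuotientGroup.mk'_surjective ((zpowers b).subgroupOf _)) (QuotientGroup.ker_mk' _)
  obtain ⟨x, y, hxy⟩ := He.Emb.exists_xy (E := E) (Or.inr h1) (Or.inr h2)
  have := hxy.isSimpleGroup
  have hZ := (inferInstance : (center _).Normal).eq_bot_or_eq_top.resolve_right fun e =>
    E.cj_ne 1 (le_antisymm (fun a _ => E.swap.mem_U_of_comm fun v _ =>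
      mem_center_iff.1 (e ▸ mem_top _) a) fun a _ => (Lib.Trans.cj_one E.U).ge (E.mem_U_of_comm
        fun v _ => mem_center_iff.1 (e ▸ mem_top _) a))
  have b7 : b ^ 7 = 1 := ho ▸ pow_orderOf_eq_one b
  have n3 : n ^ 3 * b * (n ^ 3)⁻¹ = b⁻¹ := by
    calc _ = n * (n * (n * b * n⁻¹) * n⁻¹) * n⁻¹ := by simp only [pow_three, mul_inv_rev, mul_assoc]
      _ = b ^ (7 * 3) * b ^ 7 * b⁻¹ := by rw [hn, ← conj_pow, hn, ← conj_pow, ← conj_pow, hn]; group
      _ = _ := by rw [pow_mul, b7]; simp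
  generalize n ^ 3 = u at n3
  have k : ∀ {u : G}, u * b * u⁻¹ = b⁻¹ → ∀ a ∈ zpowers b, u * a * u⁻¹ = a⁻¹ := by
    rintro u hu _ ⟨j, rfl⟩
    rw [← conj_zpow, hu, inv_zpow]
  have hN := MP.mem_normalizer_zpowers_iff.2 (n3 ▸ inv_mem (mem_zpowers b))
  obtain ⟨c, c1, c2⟩ := exists_invol_of_aut (normalizer_le_normalizer_centralizer _ hN) hN
    (hC.ge (mem_cent_iff_conj.2 (by
      calc _ = u * (u * b * u⁻¹) * u⁻¹ := by group
        _ = b := by rw [n3, k n3 _ (inv_mem (mem_zpowers b)), inv_inv]))) hZ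
    (E.exists_sq_eq_one h1 h2)
  have k' : ∀ {c u : G}, c ∈ centralizer (zpowers b : Set G) → u * b * u⁻¹ = b⁻¹ →
      c * u * b * (c * u)⁻¹ = b⁻¹ := fun {c u} hc hu => by
    calc _ = c * (u * b * u⁻¹) * c⁻¹ := by group
      _ = _ := by rw [hu, ← hc _ (inv_mem (mem_zpowers b)), mul_inv_cancel_right]
  have t1 := k' c1 n3
  generalize c * u = t at c2 t1
  have t2 : t * t = 1 := by
    have e1 := k t1 _ c2
    rw [show t * (t * t) * t⁻¹ = t * t by group, eq_inv_iff_mul_eq_one, ← sq] at e1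
    exact orderOf_eq_one_iff.1 (Nat.eq_one_of_dvd_coprimes (by decide : Nat.Coprime 2 7)
      (orderOf_dvd_of_pow_eq_one e1) (ho ▸ orderOf_dvd_of_mem_zpowers c2))
  have hL : ∀ {a : G}, a * a = 1 → b ∈ centralizer {a} → a ∈ (layer (centralizer
      (zpowers b : Set G))).map (centralizer (zpowers b : Set G)).subtype := fun {a} a2 ha =>
    ⟨⟨a, hC.ge (mem_cent_symm ha)⟩, mem_layer_of_quot hc (by
      rw [Nat.card_congr (subgroupOfEquivOfLe (zpowers_le.2 (hC.ge
        (mem_centralizer_singleton_iff.2 rfl)))).toEquiv, Nat.card_zpowers, ho]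
      decide) hZ (Subtype.ext a2), rfl⟩
  have := Fact.mk Nat.prime_two
  have := Lib.Trans.layer_characteristic (centralizer (zpowers b : Set G))
  refine ⟨t, orderOf_eq_prime (by rw [sq, t2]) fun e => h.not_invert_seven hr hb ho (one_mem _)
    (e ▸ t1), k t1, fun a ha => (mem_normalizer_iff.1 (normalizer_le_normalizer_map_subtype_of_char _
      (normalizer_le_normalizer_centralizer _ (MP.mem_normalizer_zpowers_iff.2
        (t1 ▸ inv_mem (mem_zpowers b))))) a).1 ha, fun ⟨l, l1, l2⟩ => ?_⟩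
  have l3 : ∀ {a : G}, a * a = 1 → b ∈ centralizer {a} → l⁻¹ * t ∈ centralizer {a} := fun a2 ha =>
    mem_cent_iff_conj.2 (by
      rw [mul_inv_rev, mul_assoc l⁻¹, mul_assoc l⁻¹, ← mul_assoc _ t⁻¹, l2 _ (hL a2 ha)]; group)
  exact h.not_invert_seven hr hb ho (mem_cent_pair.2 ⟨l3 h.pre.mul_self (mem_cent_pair.1 hb).1,
    l3 hp.hR.mul_self (mem_cent_pair.1 hb).2⟩) (k' (inv_mem (map_subtype_le _ l1)) t1)

end Cfsg.Agent.S5418
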