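import Cfsg.Statements.S5472
import Cfsg.Agent.Spor.Fi22Cst

set_option autoImplicit false
set_option linter.unusedVariables false
set_option maxRecDepth 100000
open Cfsg

namespace Cfsg.Agent.S5472

open Cfsg.Lib.Spor Cfsg.Lib.Spor.F22 Cfsg.Lib.Spor.Fis

/-- Let G be a finite group with trivial centre generated by a conjugation-invariant set D of 3-transpositions on which it acts primitively, such that for some d in D the subgroup generated by the members of D other than d commuting with d has central largest normal 2- and 3-subgroups, and suppose G with D is of type M(22). Then G has a non-inner automorphism s of order 2 whose fixed-point subgroup is isomorphic to the full automorphism group of Ω⁺(8, 2) (the commutator subgroup of the isometry group of the hyperbolic quadratic form in dimension 8 over the field with two elements), together with distinct commuting members a, b of D fixed by s such that: s, s composed with conjugation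 by a, and s composed with conjugation by a b represent the three classes (under the automorphism group) of non-inner automorphisms of order 2; the elements fixed by the automorphism s composed with conjugation by a are exactly those fixed by s and commuting with a, and they form a group isomorphic to the direct product of a group of order 2 and the symplectic group of dimension 6 over the field with two elements; and the elements fixed by the automorphism s composed with conjugation by a b form a group whose largest normal 2-subgroup is elementary abelian of order 64 with quotient isomorphic to the full isometry group of the elliptic quadratic form in dimension 6 over the field with two elements. -/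
theorem result {G : Type*} [Group G] [Finite G] {D : Set G} (hD : Cfsg.IsThreeTranspositionGroup D) (hprim : Cfsg.IsPrimitiveUnderConj D) (d₀ : G) (hd₀ : d₀ ∈ D) (h3 : Cfsg.pCore 3 ↥(Subgroup.closure {y : G | y ∈ D ∧ y ≠ d₀ ∧ Commute d₀ y}) ≤ Subgroup.center ↥(Subgroup.closure {y : G | y ∈ D ∧ y ≠ d₀ ∧ Commute d₀ y})) (h2 : Cfsg.pCore 2 ↥(Subgroup.closure {y : G | y ∈ D ∧ y ≠ d₀ ∧ Commute d₀ y}) ≤ Subgroup.center ↥(Subgroup.closure {y : G | y ∈ D ∧ y ≠ d₀ ∧ Commute d₀ y})) (h22 : Cfsg.IsOfTypeM22 G D) : ∃ (s : MulAut G) (a b : G) (Cs : Subgroup G), orderOf s = 2 ∧ s ∉ (MulAut.conj : G →* MulAut G).range ∧ (∀ g : G, g ∈ Cs ↔ s g = g) ∧ Nonempty (↥Cs ≃* MulAut (Cfsg.Omega (ZMod 2) (Cfsg.quadFormPlus 4 (ZMod 2)))) ∧ a ∈ D ∧ b ∈ D ∧ a ≠ b ∧ Commute a b ∧ s a = a ∧ s b = b ∧ (∀ t : MulAut G, orderOf t = 2 → t ∉ (MulAut.conj : G →* MulAut G).range → (IsConj t s ∨ IsConj t (s * MulAut.conj a) ∨ IsConj t (s * MulAut.conj (a * b)))) ∧ ¬ IsConj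 s (s * MulAut.conj a) ∧ ¬ IsConj s (s * MulAut.conj (a * b)) ∧ ¬ IsConj (s * MulAut.conj a) (s * MulAut.conj (a * b)) ∧ (∀ g : G, (s * MulAut.conj a) g = g ↔ g ∈ Cs ⊓ Subgroup.centralizer ({a} : Set G)) ∧ Nonempty (↥(Cs ⊓ Subgroup.centralizer ({a} : Set G)) ≃* Multiplicative (ZMod 2) × Cfsg.PSp 3 (ZMod 2)) ∧ ∃ Csab O : Subgroup G, (∀ g : G, g ∈ Csab ↔ (s * MulAut.conj (a * b)) g = g) ∧ O = (Cfsg.pCore 2 ↥Csab).map Csab.subtype ∧ Cfsg.IsElementaryAbelian 2 O ∧ Nat.card O = 64 ∧ ∃ _ : (O.subgroupOf Csab).Normal, Nonempty (↥Csab ⧸ O.subgroupOf Csab ≃* Cfsg.isometryGroup (ZMod 2) (Cfsg.quadFormMinus 2 (ZMod 2) 1 1)) := by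
  obtain ⟨M⟩ := exists_mdl hD hprim h22
  obtain ⟨M', -, a2, a3, a4⟩ := M.exists_aut hD
  obtain ⟨s, hs⟩ := M'.exists_ρ Inv.s_mem
  have key : ∀ (φ : MulAut G) (g : G), g ∈ M.pb (Q.A ⊓ Subgroup.centralizer {M'.ρ φ} ⊓ E) ↔ φ g = g :=
    fun φ g => by
      rw [M.pb_AE, Subgroup.mem_comap, Subgroup.mem_centralizer_singleton_iff, ← M.inj.eq_iff, a3,
        mul_inv_eq_iff_eq_mul, eq_comm]
  have out : ∀ φ : MulAut G, φ ∈ (MulAut.conj : G →* MulAut G).range ↔ M'.ρ φ ∈ E := fun φ =>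
    ⟨fun ⟨g, e⟩ => by rw [← e, a2]; exact (M.ρ_mem g).2, fun h => by
      obtain ⟨g, e⟩ := M.exists_ρ ⟨M'.ρ_mem φ, h⟩
      exact ⟨g, M'.inj ((a2 g).trans e)⟩⟩
  have b1 : M'.ρ (s * MulAut.conj (M.τ (pp 0))) = Inv.s * t (pp 0) := by rw [map_mul, hs, a2, M.ρτ]
  have b2 : M'.ρ (s * MulAut.conj (M.τ (pp 0) * M.τ (pp 6))) = Inv.s * (t (pp 0) * t (pp 6)) := by
    rw [map_mul, hs, a2, map_mul, M.ρτ, M.ρτ]
  have nc : ∀ {φ ψ : MulAut G}, IsConj φ ψ → {p | M'.ρ φ p = p}.ncard = {p | M'.ρ ψ p = p}.ncard := fun h => by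
    obtain ⟨c, rfl⟩ := isConj_iff.1 h
    rw [map_mul, map_mul, map_inv, ncard_fixed_conj]
  have c1 : ∀ g : G, g ∈ M.pb Cs.I ↔ s g = g := fun g => by rw [Cs.I_def, ← hs]; exact key s g
  have c2 : ∀ g : G, g ∈ M.pb (Cst.CC0 ⊓ E) ↔ (s * MulAut.conj (M.τ (pp 0))) g = g := fun g => by
    rw [← key, b1, ← Cst.ev_c]; rfl
  have c3 : M.pb Cs.I ⊓ Subgroup.centralizer {M.τ (pp 0)} = M.pb (Cst.CC0 ⊓ E) := by
    ext g
    have h : g ∈ Subgroup.centralizer {M.τ (pp 0)} → MulAut.conj (M.τ (pp 0)) g = g := fun h => by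
      rw [MulAut.conj_apply, ← Subgroup.mem_centralizer_singleton_iff.1 h, mul_inv_cancel_right]
    rw [Subgroup.mem_inf, c1]
    refine ⟨fun ⟨h1, h2⟩ => (c2 g).2 (by rw [MulAut.mul_apply, h h2, h1]), fun h1 => ?_⟩
    have h2 : g ∈ Subgroup.centralizer {M.τ (pp 0)} := by
      rw [← M.pb_centralizer_one, M.ρτ]; exact Cst.C_le h1
    rw [c2, MulAut.mul_apply, h h2] at h1
    exact ⟨h1, h2⟩
  have hO : Cst.O ≤ G0 := Cst.O_le.trans (AE_le _)
  obtain ⟨φ, d1, d2, d3⟩ := Cst.hom_D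
  obtain ⟨ψ, d4, d5⟩ := M.exists_hom (AE_le _) φ d1 d2 (H := M.pb (Cst.DC0 ⊓ E)) rfl
  have d6 : Nat.card (M.pb Cst.O) = 64 := (M.card_pb_of_le hO).trans d3
  have d7 : M.pb Cst.O ≤ M.pb (Cst.DC0 ⊓ E) := Subgroup.comap_mono Cst.O_le
  refine ⟨s, M.τ (pp 0), M.τ (pp 6), M.pb Cs.I, ?_, fun h => Inv.s_odd (hs ▸ (out s).1 h), c1, M.iso_I,
    M.τ_mem _, M.τ_mem _, M.τ_inj.ne (by decide), M.commute_ττ_iff.2 c0_6, by rw [a4, hs, Inv.s_0],
    by rw [a4, hs, Inv.s_6], fun x h1 h2 => ?_, fun h => ?_, fun h => ?_, fun h => ?_,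
    fun g => by rw [c3, c2], ?_, M.pb (Cst.DC0 ⊓ E), M.pb Cst.O, fun g => ?_, ?_, ⟨?_, fun x hx => ?_⟩, d6,
    quot_iso_of_ker ψ d4 d5⟩
  · refine orderOf_eq_prime (M'.inj (by rw [map_pow, hs, sq, Inv.s_sq, map_one])) fun e => Inv.s_odd ?_
    rw [← hs, e, map_one]; exact one_mem _
  · rw [out] at h2
    obtain ⟨c, hc, h⟩ := Inv.inv_A (M'.ρ_mem x) (by rw [← map_pow, ← h1, pow_orderOf_eq_one, map_one])
      (fun e => h2 (e ▸ one_mem _))
    obtain ⟨c, rfl⟩ := M'.exists_ρ hc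
    have k : ∀ y ∈ E, M'.ρ x ≠ M'.ρ c * y * (M'.ρ c)⁻¹ := fun y hy e =>
      h2 (e ▸ (alternatingGroup.normal).conj_mem y hy _)
    have k' : ∀ y, M'.ρ x = M'.ρ c * M'.ρ y * (M'.ρ c)⁻¹ → IsConj x y := fun y e =>
      (isConj_iff.2 ⟨c, M'.inj (by rw [e, map_mul, map_mul, map_inv])⟩).symm
    rcases h with h | h | h | h | h | h
    · exact absurd h (k _ (t_mem _).2)
    · exact absurd h (k _ (mul_mem (t_mem _).2 (t_mem _).2))
    · exact absurd h (k _ (mul_mem (mul_mem (t_mem _).2 (t_mem _).2) (t_mem _).2))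
    · exact Or.inl (k' _ (hs ▸ h))
    · exact Or.inr (Or.inl (k' _ (b1 ▸ h)))
    · exact Or.inr (Or.inr (k' _ (b2 ▸ h)))
  · have := nc h
    rw [hs, b1, Inv.fix4, Inv.fix5] at this
    omega
  · have := nc h
    rw [hs, b2, Inv.fix4, Inv.fix6] at this
    omega
  · have := nc h
    rw [b1, b2, Inv.fix5, Inv.fix6] at this
    omega
  · rw [c3]
    exact ⟨((M.pbEquiv (AE_le _)).trans Cst.iso_C.some).trans ((MulEquiv.refl _).prodCongr psp_S6.some)⟩
  · rw [← key, b2, ← Cst.ev_d]; rfl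
  · rw [pCore_eq_ker ψ d4 pCore_O6 (IsPGroup.of_card (n := 6) (by rw [d5, card_subgroupOf_of_le d7, d6]; rfl)),
      d5, Subgroup.map_subgroupOf_eq_of_le d7]
  · refine Subgroup.le_centralizer_iff_isMulCommutative.1 fun x hx y hy => M.inj ?_
    have := (Cst.O_ab _ hy _ hx).1
    rwa [mul_inv_eq_one, mul_inv_eq_iff_eq_mul, ← map_mul, ← map_mul] at this
  · exact M.inj (by rw [map_pow, (Cst.O_ab _ hx _ hx).2, map_one])

end Cfsg.Agent.S5472
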