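import Cfsg.Statements.S5522
import Cfsg.Agent.Spor.M11Classes

set_option autoImplicit false
open Cfsg

namespace Cfsg.Agent.S5522

open Cfsg.Lib.Spor Cfsg.Lib.Spor.MP
open scoped Pointwise

/-- The Mathieu group M₁₁, realised as the stabiliser of one point of the dodecad of squares inside the stabiliser M₁₂ of that dodecad in M₂₄, acts on the twelve coordinate positions outside the dodecad of squares (its 3-transitive action of degree 12); in this action every element of prime order fixes a point, i.e. the action is elusive. -/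
theorem result (g : Equiv.Perm Cfsg.GolayPt) (hg : g ∈ Cfsg.Spor.M11) (hord : (orderOf g).Prime) :
    ∃ x : Cfsg.GolayPt, x ∉ Cfsg.Spor.squareDodecad ∧ g x = x := by
  obtain ⟨r, hr, k, hk, rfl⟩ := isClassList_M11.all g hg
  have h1 : orderOf (k * toPerm r.1 * k⁻¹) = r.2.1 :=
    ((MulAut.conj k).orderOf_eq _).trans (isClassList_M11.ord r hr)
  rw [h1] at hord
  have h2 : ∀ r ∈ reps11, r.2.1.Prime → ∃ i < 24, Nat.testBit 340831 i = false ∧ ap r.1 i = i := by
    decide +kernel
  obtain ⟨i, hi, h3, h4⟩ := h2 r hr hord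
  refine ⟨k (idxPt i), fun h => ?_, (conj_apply_eq_iff k _ rfl).2 ?_⟩
  · rw [← (mem_M11.1 hk).2.1, apply_mem_perm_smul_finset, squareDodecad_eq, mem_maskSet,
      ptIdx_idxPt hi, h3] at h
    cases h
  · rw [(isClassList_M11.mem r hr).rep.apply_idxPt hi, h4]

end Cfsg.Agent.S5522
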