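import Cfsg.Statements.S5528
import Cfsg.Agent.Inst.MonAm
import Cfsg.Agent.Cond.S5528

set_option autoImplicit false
open Cfsg

namespace Cfsg.Agent.S5528

/-- Every faithful complex matrix representation of the Monster (the finitely presented group of the definitions) has degree at least 196883: an injective homomorphism from the Monster into GL_n(ℂ) forces n ≥ 196883. -/
theorem result (n : ℕ) (ρ : Cfsg.Spor.Monster →* GL (Fin n) ℂ) (hρ : Function.Injective ρ) : 196883 ≤ n := by
  revert n ρ hρ
  exact @Cfsg.Agent.Gate.S5528.out Cfsg.Agent.Cond.S5528

end Cfsg.Agent.S5528
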