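import Cfsg.Statements.S5535
import Cfsg.Agent.Inst.MonAm
import Cfsg.Agent.Cond.S5535

set_option autoImplicit false
open Cfsg

namespace Cfsg.Agent.S5535

/-- The Monster (realised inside the presented Bimonster) has a subgroup X of order 3 whose normalizer N satisfies: N/X is isomorphic to the Fischer group Fi₂₄ (the full 3-transposition group presented in the definitions, whose commutator subgroup of index 2 is the simple group Fi₂₄′), and X has no complement in N. -/
theorem result : ∃ (X N : Subgroup Cfsg.Spor.Monster), Nat.card ↥X = 3 ∧ N = Subgroup.normalizer (X : Set Cfsg.Spor.Monster) ∧ (∃ _ : (X.subgroupOf N).Normal, Nonempty (↥N ⧸ X.subgroupOf N ≃* Cfsg.Spor.Fi24)) ∧ ∀ L : Subgroup ↥N, ¬ (X.subgroupOf N).IsComplement' L := by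
  exact @Cfsg.Agent.Gate.S5535.out Cfsg.Agent.Cond.S5535

end Cfsg.Agent.S5535
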