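import Cfsg.Statements.S5537
import Cfsg.Agent.Inst.MonAm
import Cfsg.Agent.Cond.S5537

set_option autoImplicit false
open Cfsg

namespace Cfsg.Agent.S5537

/-- The Monster (realised inside the presented Bimonster) has a subgroup isomorphic to the Thompson sporadic group (the finitely presented group of the definitions). -/
theorem result : ∃ H : Subgroup Cfsg.Spor.Monster, Cfsg.Spor.IsoTh ↥H := by
  exact @Cfsg.Agent.Gate.S5537.out Cfsg.Agent.Cond.S5537

end Cfsg.Agent.S5537
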