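import Cfsg.Statements.S5538
import Cfsg.Agent.Inst.MonAm
import Cfsg.Agent.Mon.HNM

set_option autoImplicit false
open Cfsg

namespace Cfsg.Agent.S5538

/-- The Monster (realised inside the presented Bimonster) has a subgroup isomorphic to the Harada–Norton sporadic group (the finitely presented group of the definitions). -/
theorem result : ∃ H : Subgroup Cfsg.Spor.Monster, Cfsg.Spor.IsoHN ↥H :=
  let ⟨_, h⟩ := Gate.MonAm.out
  let ⟨_, _, _, _, K, _, hK⟩ := h.exists_HN
  ⟨K, hK⟩

end Cfsg.Agent.S5538
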