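import Cfsg.Statements.S5582
import Cfsg.Agent.S5629
import Cfsg.Agent.Spor.J4Mx29
import Cfsg.Agent.Spor.J4Mx11
import Cfsg.Agent.Spor.J4Mx37

set_option autoImplicit false
open Cfsg

namespace Cfsg.Agent.S5582

open Cfsg.Lib.Spor Cfsg.Lib.Spor.J4P Cfsg.Lib.Spor.J4X Cfsg.Agent.S5629 Subgroup
open scoped Pointwise

theorem coatom_comap {G G' : Type*} [Group G] [Group G'] (e : G ≃* G') {K : Subgroup G'}
    (h : IsCoatom (normalizer (K : Set G'))) :
    IsCoatom (normalizer (K.comap e.toMonoidHom : Set G)) := by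
  rw [← comap_normalizer_eq_of_surjective _ e.surjective]
  exact (e.comapSubgroup.isCoatom_iff _).2 h

theorem coatom_sylow {G : Type*} [Group G] [Finite G] (e : G ≃* Cfsg.Spor.J4) {p k : ℕ} (hp : p.Prime)
    (h0 : ¬ p ^ (k + 1) ∣ 86775571046077562880) {K : Subgroup Cfsg.Spor.J4} (hK : Nat.card K = p ^ k)
    (h : IsCoatom (normalizer (K : Set Cfsg.Spor.J4))) (U : Sylow p G) :
    IsCoatom (normalizer ((U : Subgroup G) : Set G)) := by
  have := Fact.mk hp
  have h1 := (card_comap e K).trans hK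
  obtain ⟨g, rfl⟩ := MulAction.exists_smul_eq G ((IsPGroup.of_card h1).toSylow fun e1 => h0 (by
    rw [← card_J4, ← Nat.card_congr e.toEquiv, ← (K.comap e.toMonoidHom).card_mul_index, h1, pow_succ]
    exact Nat.mul_dvd_mul_left _ e1)) U
  convert coatom_comap (MulAut.conj g).symm (coatom_comap e h) using 3
  ext a
  exact mem_pointwise_smul_iff_inv_smul_mem

/-- Let G be a finite non-abelian simple group of Janko-four type (Janko's involution-centralizer conditions; such a group is the fourth Janko group). Then the following subgroups are maximal: the centralizer of the involution z of the hypothesis; the normalizer of every elementary abelian subgroup of order 2^11; the normalizer of every self-centralizing elementary abelian subgroup of order 2^10; the normalizer of some special 2-subgroup of order 2^15 with centre of order 8; and the normalizer of every Sylow p-subgroup for p = 11, 29, 37 and 43. -/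
theorem result {G : Type*} [Group G] [Finite G] [IsSimpleGroup G] (hG : ¬ IsMulCommutative G) (z : G) (hJ : Cfsg.IsOfJankoFourTypeAt z) :
    IsCoatom (Subgroup.centralizer ({z} : Set G)) ∧
    (∀ V : Subgroup G, Cfsg.IsElementaryAbelian 2 V → Nat.card ↥V = 2 ^ 11 → IsCoatom (Subgroup.normalizer (V : Set G))) ∧
    (∀ A : Subgroup G, Cfsg.IsElementaryAbelian 2 A → Nat.card ↥A = 2 ^ 10 → Subgroup.centralizer (A : Set G) = A → IsCoatom (Subgroup.normalizer (A : Set G))) ∧
    (∃ L : Subgroup G, Cfsg.IsSpecial 2 ↥L ∧ Nat.card ↥L = 2 ^ 15 ∧ Nat.card ↥(Subgroup.center ↥L) = 8 ∧ IsCoatom (Subgroup.normalizer (L : Set G))) ∧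
    (∀ U : Sylow 11 G, IsCoatom (Subgroup.normalizer ((U : Subgroup G) : Set G))) ∧ (∀ U : Sylow 29 G, IsCoatom (Subgroup.normalizer ((U : Subgroup G) : Set G))) ∧
    (∀ U : Sylow 37 G, IsCoatom (Subgroup.normalizer ((U : Subgroup G) : Set G))) ∧ (∀ U : Sylow 43 G, IsCoatom (Subgroup.normalizer ((U : Subgroup G) : Set G))) := by
  have := simple_J4
  obtain ⟨P, hP⟩ := id hJ
  obtain ⟨e⟩ := Cfsg.Lib.SporChar.J4P.iso hP
  obtain ⟨U, h1, h2⟩ := coatom11
  refine ⟨coatom_cent hG hJ, fun V hV hcard => ?_, fun A => coatom_ten hG ⟨z, hJ⟩,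
    coatom_pentad hG ⟨z, hJ⟩, coatom_sylow e (by norm_num) (by norm_num) h1 h2,
    coatom_sylow e (k := 1) (by norm_num) (by norm_num) ((Nat.card_zpowers _).trans coatom29.1) coatom29.2,
    coatom_sylow e (k := 1) (by norm_num) (by norm_num) ((Nat.card_zpowers _).trans coatom37.1) coatom37.2,
    coatom_sylow e (k := 1) (by norm_num) (by norm_num) ((Nat.card_zpowers _).trans coatom43.1) coatom43.2⟩
  have h2 : ∀ {A : Subgroup G}, IsElementaryAbelian 2 A → IsPGroup 2 A := fun h a =>
    ⟨1, Subtype.ext (h.2 a a.2)⟩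
  have h0 := elem_comap e elem_VV
  obtain ⟨T, hT⟩ := (h2 hV).exists_le_sylow
  obtain ⟨T0, hT0⟩ := (h2 h0).exists_le_sylow
  obtain ⟨g, rfl⟩ := MulAction.exists_smul_eq G T0 T
  rw [show V = (VV.comap e.toMonoidHom).comap (MulAut.conj g).symm.toMonoidHom from
    (Cfsg.Agent.S5566.result hG ⟨z, hJ⟩ (g • T0)).unique ⟨hT, hV, hcard⟩ ⟨fun a ha =>
      mem_pointwise_smul_iff_inv_smul_mem.2 (hT0 ha), elem_comap _ h0,
      by rw [card_comap, card_comap, card_VV]; norm_num⟩]
  refine coatom_comap _ (coatom_comap e (norm_VV ▸ ⟨fun h => ?_, fun K hK =>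
    (maximal hK.le).resolve_left hK.ne'⟩))
  have h3 := card_HH
  rw [h, card_top, card_J4] at h3
  omega

end Cfsg.Agent.S5582
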