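import Cfsg.Statements.S5720
import Cfsg.Agent.Hls.Main

set_option autoImplicit false
open Cfsg

namespace Cfsg.Agent.S5720

/-- Let H be a finite group whose soluble radical (largest soluble normal subgroup) has index greater than 120. Then for every field K and every finite-dimensional K-linear representation of H on a space V there is a non-identity element h of H whose fixed-point subspace on V has dimension at least (dim V)/6. -/
theorem result {H : Type*} [Group H] [Finite H] (hR : 120 < (Cfsg.solvableRadical H).index)
    {K V : Type*} [Field K] [AddCommGroup V] [Module K V] [FiniteDimensional K V] (ρ : Representation K H V) :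
    ∃ h : H, h ≠ 1 ∧ (Module.finrank K V : ℚ) / 6 ≤ Module.finrank K (LinearMap.ker (ρ h - 1)) := by
  let L := AlgebraicClosure K
  let σ : Representation L H (TensorProduct K L V) :=
    { toFun := fun g => (ρ g).baseChange L
      map_one' := by rw [map_one, LinearMap.baseChange_one]
      map_mul' := fun a b => by rw [map_mul, LinearMap.baseChange_mul] }
  obtain ⟨g, h1, h2⟩ := Cfsg.Lib.Hls.main hR σ
  refine ⟨g, h1, ?_⟩
  have h3 := Cfsg.Lib.Hls.nl_baseChange_le L (ρ g - 1)
  rw [LinearMap.baseChange_sub, LinearMap.baseChange_one] at h3
  rw [Module.finrank_baseChange] at h2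
  have h4 : Module.finrank K V ≤ 6 * Module.finrank K (LinearMap.ker (ρ g - 1)) :=
    h2.trans (Nat.mul_le_mul_left 6 h3)
  rw [div_le_iff₀ (by norm_num), mul_comm]
  exact_mod_cast h4

end Cfsg.Agent.S5720
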