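import Cfsg.Statements.S5726
import Cfsg.Agent.Perm.PermModule

set_option autoImplicit false
open Cfsg

namespace Cfsg.Agent.S5726


/-- If a finite group acts faithfully and transitively on a set with p^k elements, p a prime and k ≥ 1, then some element of order p fixes no point. -/
theorem result {G Ω : Type*} [Group G] [Finite G] [MulAction G Ω] [FaithfulSMul G Ω] [Fintype Ω] (htr : MulAction.IsPretransitive G Ω)
    (p k : ℕ) (hp : p.Prime) (hk : 1 ≤ k) (hΩ : Fintype.card Ω = p ^ k) :
    ∃ g : G, orderOf g = p ∧ ∀ ω : Ω, g • ω ≠ ω := by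
  haveI := Fact.mk hp
  obtain ⟨P⟩ : Nonempty (Sylow p G) := inferInstance
  have hcard : Nat.card Ω = p ^ k := by rw [Nat.card_eq_fintype_card, hΩ]
  have hP : MulAction.IsPretransitive (P : Subgroup G) Ω :=
    Cfsg.Lib.Perm.sylow_isPretransitive hcard P
  have hlt : 1 < Fintype.card Ω := by
    rw [hΩ]; exact Nat.one_lt_pow (by omega) hp.one_lt
  obtain ⟨a, b, hab⟩ := Fintype.exists_pair_of_one_lt_card hlt
  haveI : Nontrivial (P : Subgroup G) := by
    obtain ⟨x, hx⟩ := hP.exists_smul_eq a b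
    refine ⟨⟨x, 1, ?_⟩⟩
    rintro rfl
    exact hab (by simpa using hx)
  have hZ : Nontrivial (Subgroup.center (P : Subgroup G)) := P.2.center_nontrivial
  have hpZ : IsPGroup p (Subgroup.center (P : Subgroup G)) := P.2.to_subgroup _
  have hdvd : p ∣ Nat.card (Subgroup.center (P : Subgroup G)) := by
    obtain ⟨n, hn0, hn⟩ := hpZ.nontrivial_iff_card.mp hZ
    rw [hn]; exact dvd_pow_self p hn0.ne'
  obtain ⟨z, hz⟩ := exists_prime_orderOf_dvd_card' p hdvd
  refine ⟨((z : (P : Subgroup G)) : G), by rw [Subgroup.orderOf_coe, Subgroup.orderOf_coe, hz], ?_⟩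
  intro ω hω
  have hz1 : ((z : (P : Subgroup G)) : G) = 1 := by
    apply FaithfulSMul.eq_of_smul_eq_smul (α := Ω)
    intro y
    obtain ⟨x, rfl⟩ := hP.exists_smul_eq ω y
    have hc := Subgroup.mem_center_iff.mp z.2 x
    have hc' : (x : G) * ((z : (P : Subgroup G)) : G) = ((z : (P : Subgroup G)) : G) * x := by
      exact_mod_cast congrArg Subtype.val hc
    rw [one_smul, Subgroup.smul_def, ← mul_smul, ← hc', mul_smul, hω]
  have : z = 1 := by
    apply Subtype.ext; apply Subtype.ext; simpa using hz1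
  rw [this, orderOf_one] at hz
  exact hp.one_lt.ne hz

end Cfsg.Agent.S5726
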