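import Cfsg.Statements.S5727
import Cfsg.Agent.S5726

set_option autoImplicit false
open Cfsg

namespace Cfsg.Agent.S5727


/-- If a finite group acts faithfully and transitively on a set with m·p elements, where p is a prime and 1 ≤ m ≤ p, then some element of order p fixes no point. -/
theorem result {G Ω : Type*} [Group G] [Finite G] [MulAction G Ω] [FaithfulSMul G Ω] [Fintype Ω] (htr : MulAction.IsPretransitive G Ω)
    (p m : ℕ) (hp : p.Prime) (hm : 1 ≤ m) (hmp : m ≤ p) (hΩ : Fintype.card Ω = m * p) :
    ∃ g : G, orderOf g = p ∧ ∀ ω : Ω, g • ω ≠ ω := by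
  classical
  rcases hmp.eq_or_lt with rfl | hlt
  · exact Cfsg.Agent.S5726.result htr m 2 hp (by norm_num) (by rw [hΩ]; ring)
  have := Fact.mk hp
  obtain ⟨P⟩ : Nonempty (Sylow p G) := inferInstance
  set Q : Subgroup G := (P : Subgroup G) with hQ
  have hcard : Nat.card Ω = m * p := by rw [Nat.card_eq_fintype_card, hΩ]
  -- every point stabiliser in `Q` has index `p`
  have hidx : ∀ ω : Ω, (MulAction.stabilizer Q ω).index = p := by
    intro ω
    obtain ⟨n, hn⟩ := IsPGroup.index P.2 (MulAction.stabilizer Q ω)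
    have hle : (MulAction.stabilizer Q ω).index ≤ m * p := by
      rw [MulAction.index_stabilizer, ← hcard]
      exact Set.ncard_le_card _
    have hn0 : n ≠ 0 := by
      rintro rfl
      rw [pow_zero, Subgroup.index_eq_one] at hn
      have hle' : Q ≤ MulAction.stabilizer G ω := by
        intro x hx
        have : (⟨x, hx⟩ : Q) ∈ MulAction.stabilizer Q ω := by rw [hn]; trivial
        exact this
      have h1 := Subgroup.index_dvd_of_le hle'
      rw [MulAction.index_stabilizer_of_transitive, hcard] at h1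
      exact P.not_dvd_index ((Dvd.intro_left m rfl).trans h1)
    have hn2 : n < 2 := by
      by_contra h
      have h2 : p ^ 2 ≤ p ^ n := Nat.pow_le_pow_right hp.pos (by omega)
      have h3 : m * p < p * p := Nat.mul_lt_mul_of_pos_right hlt hp.pos
      rw [hn] at hle
      nlinarith
    have : n = 1 := by omega
    rw [hn, this, pow_one]
  have hQcard : p ∣ Nat.card Q := by
    have hne : Nonempty Ω := by
      rw [← Fintype.card_pos_iff, hΩ]; exact Nat.mul_pos hm hp.pos
    obtain ⟨ω⟩ := hne
    rw [← hidx ω]; exact Subgroup.index_dvd_card _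
  have hnorm : ∀ ω : Ω, (MulAction.stabilizer Q ω).Normal := by
    intro ω
    apply Subgroup.normal_of_index_eq_minFac_card
    obtain ⟨n, hn⟩ := IsPGroup.iff_card.mp P.2
    have hn' : Nat.card Q = p ^ n := hn
    have hn0 : n ≠ 0 := by
      rintro rfl
      rw [hn', pow_zero] at hQcard
      exact hp.one_lt.ne' (Nat.dvd_one.mp hQcard)
    rw [hidx, hn', Nat.Prime.pow_minFac hp hn0]
  have hexp : ∀ x : Q, x ^ p = 1 := by
    intro x
    apply Subtype.ext
    apply FaithfulSMul.eq_of_smul_eq_smul (α := Ω)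
    intro ω
    have := hnorm ω
    have h := Subgroup.pow_index_mem (MulAction.stabilizer Q ω) x
    rw [hidx] at h
    rw [Subgroup.coe_one, one_smul]
    exact h
  by_contra hcon
  push Not at hcon
  have hfix : ∀ x : Q, ∃ ω : Ω, x • ω = ω := by
    intro x
    by_cases hx : x = 1
    · have hne : Nonempty Ω := by
        rw [← Fintype.card_pos_iff, hΩ]; exact Nat.mul_pos hm hp.pos
      obtain ⟨ω⟩ := hne
      exact ⟨ω, by rw [hx, one_smul]⟩
    · apply hcon (x : G)
      rw [Subgroup.orderOf_coe]
      exact orderOf_eq_prime (hexp x) hx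
  have := Fintype.ofFinite Q
  -- double counting
  have hsum : ∑ x : Q, (Finset.univ.filter fun ω : Ω => x • ω = ω).card =
      ∑ ω : Ω, (Finset.univ.filter fun x : Q => x • ω = ω).card := by
    simp only [Finset.card_filter]
    exact Finset.sum_comm
  have h1 : ∀ ω : Ω, (Finset.univ.filter fun x : Q => x • ω = ω).card * p = Nat.card Q := by
    intro ω
    rw [← hidx ω, ← (MulAction.stabilizer Q ω).card_mul_index]
    congr 1
    rw [Nat.card_eq_fintype_card, Fintype.card_subtype]
    congr 1
  have h2 : ∀ x : Q, p ≤ (Finset.univ.filter fun ω : Ω => x • ω = ω).card := by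
    intro x
    obtain ⟨ω, hω⟩ := hfix x
    have hsub : (MulAction.orbit Q ω) ⊆ ((Finset.univ.filter fun ω : Ω => x • ω = ω : Finset Ω) : Set Ω) := by
      rintro _ ⟨y, rfl⟩
      have hmem : y⁻¹ * x * y⁻¹⁻¹ ∈ MulAction.stabilizer Q ω := (hnorm ω).conj_mem x hω y⁻¹
      rw [MulAction.mem_stabilizer_iff, inv_inv, mul_smul, mul_smul, inv_smul_eq_iff] at hmem
      simpa using hmem
    have := Set.ncard_le_ncard hsub
    rwa [← MulAction.index_stabilizer, hidx, Set.ncard_coe_finset] at this
  have h3 : Nat.card Q * p ≤ ∑ x : Q, (Finset.univ.filter fun ω : Ω => x • ω = ω).card := by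
    calc Nat.card Q * p = ∑ _x : Q, p := by simp
      _ ≤ _ := Finset.sum_le_sum fun x _ => h2 x
  have h4 : (∑ ω : Ω, (Finset.univ.filter fun x : Q => x • ω = ω).card) * p = m * p * Nat.card Q := by
    rw [Finset.sum_mul, Finset.sum_congr rfl fun ω _ => h1 ω]
    simp [hΩ]
  rw [hsum] at h3
  have h5 := Nat.mul_le_mul_right p h3
  rw [h4] at h5
  have hpos : 0 < Nat.card Q := Nat.card_pos
  have h6 : m * (p * Nat.card Q) < p * (p * Nat.card Q) :=
    Nat.mul_lt_mul_of_pos_right hlt (Nat.mul_pos hp.pos hpos)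
  nlinarith

end Cfsg.Agent.S5727
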