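import Cfsg.Statements.S5728
import Mathlib.FieldTheory.Finite.GaloisField

set_option autoImplicit false
open Cfsg

namespace Cfsg.Agent.S5728

theorem pow_formula {F : Type*} [Field F] (g : Equiv.Perm F) (a b : F)
    (hg : ∀ x, g x = a * x + b) (c : F) (hc : g c = c) (n : ℕ) (y : F) :
    (g ^ n) (y + c) = a ^ n * y + c := by
  induction n with
  | zero => simp
  | succ n ih =>
    rw [pow_succ', Equiv.Perm.mul_apply, ih, hg]
    have := hg c
    rw [hc] at this
    linear_combination -this + a ^ n * a * y - a ^ (n + 1) * y


/-- An elusive transitive action. Let p = 2^s − 1 be a prime and let F be the field with p² elements. Inside the group of affine maps x ↦ a·x + b of F (a ≠ 0), consider the subgroup of maps with both coefficients in the prime field. Then every element of prime order of the affine group is conjugate, within the affine group, to an element of that subgroup; equivalently, in the transitive action of the affine group on the cosets of that subgroup (of degree p(p + 1)) every element of prime order fixes a point. -/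
theorem result (p s : ℕ) [Fact p.Prime] (hs : p = 2 ^ s - 1)
    (g : Equiv.Perm (GaloisField p 2)) (hg : g ∈ Cfsg.affineGroup (GaloisField p 2)) (hord : (orderOf g).Prime) :
    ∃ x ∈ Cfsg.affineGroup (GaloisField p 2), ∃ a b : ZMod p, a ≠ 0 ∧
      ∀ y : GaloisField p 2, (x * g * x⁻¹) y = algebraMap (ZMod p) (GaloisField p 2) a * y + algebraMap (ZMod p) (GaloisField p 2) b := by
  have hp : p.Prime := Fact.out
  obtain ⟨a, b, hab⟩ := hg
  by_cases ha : (a : GaloisField p 2) = 1
  · have hb : b ≠ 0 := by
      rintro rfl
      have : g = 1 := by ext x; simp [hab, ha]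
      rw [this, orderOf_one] at hord
      exact Nat.not_prime_one hord
    refine ⟨Equiv.mulLeft₀ b⁻¹ (inv_ne_zero hb), ⟨Units.mk0 b⁻¹ (inv_ne_zero hb), 0, fun x => by simp⟩,
      1, 1, one_ne_zero, fun y => ?_⟩
    simp [hab, ha, Equiv.Perm.inv_def, mul_add, hb]
  · set c : GaloisField p 2 := b / (1 - a) with hc
    have h1 : (1 - (a : GaloisField p 2)) ≠ 0 := sub_ne_zero.mpr (Ne.symm ha)
    have hgc : g c = c := by
      rw [hab, hc]; field_simp; ring
    have hpow := pow_formula g a b hab c hgc
    have har : (a : GaloisField p 2) ^ orderOf g = 1 := by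
      have := hpow (orderOf g) 1
      rw [pow_orderOf_eq_one] at this
      simpa using this.symm
    have hoa : orderOf (a : GaloisField p 2) = orderOf g := by
      have := Fact.mk hord
      exact orderOf_eq_prime har ha
    have hcard : Nat.card (GaloisField p 2) = p ^ 2 := GaloisField.card p 2 (by norm_num)
    have := Fintype.ofFinite (GaloisField p 2)
    have hdvd : orderOf g ∣ p ^ 2 - 1 := by
      rw [← hoa]
      apply orderOf_dvd_of_pow_eq_one
      rw [← hcard, Nat.card_eq_fintype_card]
      exact FiniteField.pow_card_sub_one_eq_one _ a.ne_zero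
    have hs0 : s ≠ 0 := by
      rintro rfl
      simp at hs
      exact hp.ne_zero hs
    have h2s : 1 ≤ 2 ^ s := Nat.one_le_two_pow
    have hp1 : p + 1 = 2 ^ s := by omega
    have hdvd' : orderOf g ∣ p - 1 := by
      have h2 : p ^ 2 - 1 = (p + 1) * (p - 1) := by
        have := Nat.sq_sub_sq p 1
        simpa using this
      rw [h2] at hdvd
      rcases (Nat.Prime.dvd_mul hord).mp hdvd with h | h
      · rw [hp1] at h
        have h3 := (Nat.prime_dvd_prime_iff_eq hord Nat.prime_two).mp (hord.dvd_of_dvd_pow h)
        rw [h3]
        have h4 : 2 ∣ p + 1 := by rw [hp1]; exact dvd_pow_self 2 hs0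
        have := hp.pos
        omega
      · exact h
    have hap : (a : GaloisField p 2) ^ p = a := by
      obtain ⟨t, ht⟩ := hdvd'
      have : p = orderOf g * t + 1 := by have := hp.pos; omega
      calc (a : GaloisField p 2) ^ p = (a : GaloisField p 2) ^ (orderOf g * t + 1) := by rw [← this]
        _ = a := by rw [pow_succ, pow_mul, har, one_pow, one_mul]
    obtain ⟨a', ha'⟩ : ∃ a' : ZMod p, algebraMap (ZMod p) (GaloisField p 2) a' = a := by
      have hmem : (a : GaloisField p 2) ∈ (⊥ : Subfield (GaloisField p 2)) :=
        (Subfield.mem_bot_iff_pow_eq_self _ p).mpr hap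
      rw [← ZMod.fieldRange_castHom_eq_bot p] at hmem
      obtain ⟨a', ha'⟩ := hmem
      exact ⟨a', by rw [← ha']; exact congrFun (congrArg _ (Subsingleton.elim _ _)) a'⟩
    refine ⟨Equiv.subRight c, ⟨1, -c, fun x => by simp [sub_eq_add_neg]⟩, a', 0, ?_, fun y => ?_⟩
    · rintro rfl
      exact a.ne_zero (by rw [← ha', map_zero])
    · have := hpow 1 y
      rw [pow_one, pow_one] at this
      simp [Equiv.Perm.inv_def, this, ha']

end Cfsg.Agent.S5728
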