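import Cfsg.Statements.S5732
import Cfsg.Agent.DRG.Main
import Cfsg.Agent.S3549

set_option autoImplicit false
open Cfsg

namespace Cfsg.Agent.S5732

open Cfsg.Lib.Perm.Derange Cfsg.Lib.DRG MulAction

/-- There is a bound N such that for every finite group G acting faithfully and transitively on a set with n ≥ N points, either G is primitive and a Frobenius permutation group (Frobenius as a permutation group: transitive, some non-identity element fixes a point, and no non-identity element fixes two points), or the subgroup generated by the derangements of G has index at most √n − 1 in G. -/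
theorem result : ∃ N : ℕ, ∀ (G Ω : Type*) [Group G] [Finite G] [MulAction G Ω] [FaithfulSMul G Ω] [Fintype Ω],
      MulAction.IsPretransitive G Ω → N ≤ Fintype.card Ω →
      (MulAction.IsPreprimitive G Ω ∧ (MulAction.IsPretransitive G Ω ∧ (∃ g : G, g ≠ 1 ∧ ∃ ω : Ω, g • ω = ω) ∧ ∀ g : G, g ≠ 1 → Nat.card (MulAction.fixedBy Ω g) ≤ 1)) ∨
      ((Subgroup.closure {g : G | ∀ ω : Ω, g • ω ≠ ω}).index : ℝ) ≤ Real.sqrt (Fintype.card Ω) - 1 := by
  refine ⟨4, fun G Ω _ _ _ _ _ htr hn => ?_⟩
  rw [← Nat.card_eq_fintype_card] at hn ⊢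
  by_cases hprim : IsPreprimitive G Ω
  swap
  · exact Or.inr (Cfsg.Agent.S3549.result htr hprim)
  by_cases h9 : ((der G Ω).index + 1) ^ 2 ≤ Nat.card Ω
  · right
    rw [le_sub_iff_add_le]
    apply Real.le_sqrt_of_sq_le
    exact_mod_cast h9
  left
  rw [not_le] at h9
  have h0 : (der G Ω).index ≠ 0 := Subgroup.index_ne_zero_of_finite
  have hm : 2 ≤ (der G Ω).index := by
    by_contra hm
    have h1 : (der G Ω).index = 1 := by omega
    rw [h1] at h9
    omega
  obtain ⟨Q, δ, q, h⟩ := reg (G := G) (Ω := Ω) (by omega) hm h9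
  refine ⟨hprim, htr, ?_, fun g hg => h.frob hg⟩
  have h2 : der G Ω ≠ ⊤ := by
    intro h3
    rw [h3, Subgroup.index_top] at hm
    omega
  obtain ⟨g, hg⟩ : ∃ g, g ∉ der G Ω := by
    by_contra! hh
    exact h2 (eq_top_iff.mpr fun g _ => hh g)
  refine ⟨g, fun h3 => hg (h3 ▸ one_mem _), ?_⟩
  by_contra! hh
  exact hg (Subgroup.subset_closure hh)

end Cfsg.Agent.S5732
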