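import Cfsg.Statements.S5740
import Cfsg.Agent.Chev.E62Tw
import Cfsg.Agent.Chev.SylTor
import Cfsg.Agent.S1070

set_option autoImplicit false
open Cfsg

namespace Cfsg.Agent.S5740

open Cfsg.Lib Cfsg.Lib.Chev Cfsg.Lib.Chev.Core Cfsg.Lib.Chev.E62 Cfsg.Lie Cfsg.Agent.S2227

section
variable {G : Type*} [Group G] {A B : G} {p : ℕ} (hp : p.Prime) (h2 : p ≠ 2) (hA : A ^ p = 1)
  (hB : B ^ p = 1) (hAB : Commute A B) (hn : ∀ j : ℤ, A ≠ B ^ j)
include hp hA hn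

theorem dvd_of_eq {n j : ℤ} (h : A ^ n = B ^ j) : (p : ℤ) ∣ n := by_contra fun hd => by
  obtain ⟨a, b, e⟩ := (Nat.prime_iff_prime_int.1 hp).irreducible.coprime_iff_not_dvd.2 hd
  refine hn (j * b) ?_
  rw [zpow_mul, ← h, ← zpow_mul, ← zpow_one A, ← zpow_mul, one_mul, mul_comm n,
    eq_sub_of_add_eq' e, zpow_sub, mul_comm a, zpow_mul, zpow_natCast, hA]
  simp

include h2 hB hAB

theorem step {v : G} (h1 : v * v = 1) (h3 : Commute v B) {i j : ℤ}
    (h : v * A * v⁻¹ = A ^ i * B ^ j) : Commute v A ∨ v * A * v⁻¹ = A⁻¹ * B ^ j := by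
  have h4 : v * B ^ j * v⁻¹ = B ^ j := mul_inv_eq_of_eq_mul (h3.zpow_right j)
  have h5 : A = A ^ (i * i) * B ^ (j * i + j) := by
    calc A = v * (v * A * v⁻¹) * v⁻¹ := by
          rw [show v * (v * A * v⁻¹) * v⁻¹ = (v * v) * A * (v * v)⁻¹ by group, h1]; simp
      _ = _ := by
          rw [h, ← conj_mul, h4, ← conj_zpow, h, (hAB.zpow_zpow i j).mul_zpow, ← zpow_mul,
            ← zpow_mul, zpow_add, mul_assoc]
  have h6 : (p : ℤ) ∣ (i - 1) * (i + 1) := dvd_of_eq hp hA hn (j := -(j * i + j)) (by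
    rw [show (i - 1) * (i + 1) = -1 + i * i by ring, zpow_add, zpow_neg, zpow_neg, zpow_one,
      inv_mul_eq_iff_eq_mul, eq_mul_inv_iff_mul_eq, ← h5])
  have h7 : ∀ a b : ℤ, (p : ℤ) ∣ a - b → A ^ a = A ^ b := fun a b ⟨c, e⟩ => by
    rw [eq_add_of_sub_eq e, zpow_add, zpow_mul, zpow_natCast, hA, one_zpow, one_mul]
  rcases (Nat.prime_iff_prime_int.1 hp).dvd_or_dvd h6 with h8 | h8
  · rw [h7 i 1 h8, zpow_one] at h
    rw [h7 (i * i) 1 (by convert h6 using 1; ring), zpow_one, left_eq_mul] at h5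
    obtain ⟨c, e⟩ := h8
    rw [eq_add_of_sub_eq e, show j * (p * c + 1) + j = p * (j * c) + j * 2 by ring, zpow_add,
      zpow_mul, zpow_natCast, hB, one_zpow, one_mul, zpow_mul, zpow_ofNat] at h5
    rw [(pow_eq_one_iff_of_coprime ((Nat.coprime_primes Nat.prime_two hp).2 h2.symm)).1
      ⟨h5, by rw [← zpow_natCast, zpow_comm, zpow_natCast, hB, one_zpow]⟩, mul_one] at h
    exact Or.inl (mul_inv_eq_iff_eq_mul.1 h)
  · rw [h7 i (-1) (by simpa using h8), zpow_neg_one] at h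
    exact Or.inr h

theorem four {v w : G} (hv : v * v = 1) (hw : w * w = 1) (hc : Commute v w) (h3 : Commute v B)
    (h4 : Commute w B) (h5 : ∀ u, u = v ∨ u = w ∨ u = v * w → ∃ i j : ℤ, u * A * u⁻¹ = A ^ i * B ^ j) :
    Commute v A ∨ Commute w A ∨ Commute (v * w) A := by
  obtain ⟨i, j, e1⟩ := h5 v (by simp)
  obtain ⟨i', j', e2⟩ := h5 w (by simp)
  obtain ⟨i'', j'', e3⟩ := h5 (v * w) (by simp)
  refine (step hp h2 hA hB hAB hn hv h3 e1).imp_right fun a1 =>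
    (step hp h2 hA hB hAB hn hw h4 e2).imp_right fun a2 =>
    (step hp h2 hA hB hAB hn (by rw [hc.symm.mul_mul_mul_comm, hv, hw, one_mul])
      (h3.mul_left h4) e3).resolve_right fun a3 => ?_
  rw [show v * w * A * (v * w)⁻¹ = v * (w * A * w⁻¹) * v⁻¹ by group, a2, ← conj_mul, ← conj_inv, a1,
    mul_inv_eq_of_eq_mul (h3.zpow_right j').eq, mul_inv_rev, inv_inv,
    ((hAB.zpow_right j).inv_right).symm.eq, eq_inv_mul_iff_mul_eq] at a3
  have := dvd_of_eq hp hA hn (n := 2) (j := j'' - j' + j) (by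
    rw [zpow_add, zpow_sub, ← a3, zpow_two]; group)
  exact h2 ((Nat.prime_dvd_prime_iff_eq hp Nat.prime_two).1 (by exact_mod_cast this))

end

theorem mem3 (n : ℤ) : n % 3 ∈ ([0, 1, 2] : List ℤ) := by
  simp only [List.mem_cons, List.not_mem_nil, or_false]; omega

section
variable {k G : Type*} [Field k] [IsAlgClosed k] [Group G] {φ : k →+* k}
  {e : G →* GL chevE6.Idx k} (hφ : ∀ t, φ t = t ^ 2) {d : Dat} (hd : Ok d) (hp : d.p.Prime)
  (h5 : 5 < d.p) (h : Tw φ d.ω e) {z : kˣ} (hz : orderOf z = 15 * d.p)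
include hp hz

omit [IsAlgClosed k] in
theorem ord {a b : ℕ} (e : a * b = 15 * d.p) : orderOf (z ^ a) = b := by
  have : 0 < a * b := e ▸ mul_pos (by norm_num) hp.pos
  rw [orderOf_pow' _ (Nat.pos_of_mul_pos_right this).ne', hz, ← e, Nat.gcd_mul_right_left,
    Nat.mul_div_cancel_left _ (Nat.pos_of_mul_pos_right this)]

include hd h5

theorem exists_T6 {g : GL chevE6.Idx k} (hg : g ∈ chevE6.group k)
    (h1 : Commute (Tz (z ^ 3) (5 • ev d.μ + ev d.ν)) g) : ∃ c, T6 k c = g := by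
  have h3 := ord hp hz (a := 3) (b := 5 * d.p) (by ring)
  refine exists_T6_of_mem_Cz (fun r hr => ?_) (mem_Cz (n := 5 * d.p) (by omega)
    (Nat.Coprime.mul_right (by norm_num) ((Nat.coprime_primes Nat.prime_three hp).2 (by omega)))
    (h3 ▸ pow_orderOf_eq_one _) hg h1)
  have := hd.2.1 r hr
  rw [dt_eq _ hr, dt_eq _ hr, Finset.mul_sum, ← Finset.sum_add_distrib] at this
  rw [h3]
  push_cast
  convert this using 3 with i
  simp [add_mul, mul_assoc]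

include hφ h

theorem exists_four : ∃ v w : G, v * v = 1 ∧ w * w = 1 ∧ Commute v w ∧ v ≠ 1 ∧ w ≠ 1 ∧ v ≠ w ∧
    Commute (Tz z (ev d.ν)) (e v) ∧ Commute (Tz z (ev d.ν)) (e w) := by
  obtain ⟨-, -, -, c5, c6, ⟨w1, w2, w3, w4, w5⟩, -⟩ := hd
  obtain ⟨τ, hτ⟩ := exists_tau hφ
  have τ7 : τ ^ 7 = 1 := hτ ▸ pow_orderOf_eq_one τ
  obtain ⟨a, ha, h1⟩ := h.lang hφ (K := Cz z (ev d.ν)) (Core.certE6.conn_cent0 rootE6 _)
    (Cz_le _ _) (fun g => stable_Cz hφ fun r hr h0 => by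
      have := c5 r hr (by rw [dt_eq _ hr]; exact_mod_cast hz ▸ h0)
      rw [rT_eq r hr, ev, evL_ofFn, ← hC.ofFn_lin_wprod, dotL_ofFn] at this
      rw [← hC.ofFn_lin_wprod, hz]
      simpa only [ev, evL_ofFn, Nat.cast_mul, Nat.cast_ofNat] using this) (ω1 := d.ω1) (by
      refine Core.certE6.mem_cent0_of_lifts rootE6 (((Core.certE6.Yhat k rootE6).lifts_wprod
        d.ω1).inv.mul ((Core.certE6.Yhat k rootE6).lifts_wprod d.ω)) ?_
      have := W6.mem_WS_of_co (N := 15 * d.p) (μ := ev d.ν) (by omega)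
        (w := (wprod W6.s d.ω1)⁻¹ * wprod W6.s d.ω)
        ((Submodule.mem_span_range_iff_exists_fun ℤ).2 ⟨ev d.y, rfl⟩) (funext fun j => by
          rw [← W6.wprod_reverse, ← wprod_append, hC.co_wprod, ← c6 j]
          simp only [hC _, ev, evL_ofFn, Pi.add_apply, Pi.smul_apply, Finset.sum_apply, smul_eq_mul])
      refine (congrArg (fun S => _ ∈ W6.WS S) (Set.ext fun r => ?_)).mp this
      refine Iff.trans ?_ mem_psi.symm
      rw [hz]
      exact and_congr rootE6.weyl_mem (by push_cast; rfl))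
  obtain ⟨v, hv⟩ := exists_of_cube (h1.cube _ (WOk.mem τ) (w1.fix hφ τ7)) (n := 2) (by norm_num)
    two_pos (w1.sq hφ τ)
  obtain ⟨w, hw⟩ := exists_of_cube (h1.cube _ (WOk.mem τ) (w2.fix hφ τ7)) (n := 2) (by norm_num)
    two_pos (w2.sq hφ τ)
  have h2 : ∀ t ∈ d.l2, ∃ s ∈ d.l1, s.1 = t.1 := fun t ht =>
    List.mem_map.1 (w3 ▸ List.mem_map_of_mem ht)
  have h3 : ∀ (u : G) (l : List (ℕ × ℕ × ℕ)), (∀ t ∈ l, ∃ s ∈ d.l1, s.1 = t.1) →
      ((MulAut.conj a⁻¹).toMonoidHom.comp e) u = wrd τ (l.map fun t => (t.1, t.2.2)) →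
      Commute (Tz z (ev d.ν)) (e u) := fun u l hl hu => by
    have h4 : a⁻¹ * e u * a⁻¹⁻¹ ∈ Cz z (ev d.ν) :=
        (congrArg (· ∈ Cz z (ev d.ν)) hu).mpr <| wrd_mem fun t ht c => by
      obtain ⟨t, ht', rfl⟩ := List.mem_map.1 ht
      obtain ⟨s, hs, e⟩ := hl t ht'
      have h6 := (w1.2.2.2 s hs).1.1
      have h7 := w5 s hs
      rw [dt_eq _ h6, e] at h7
      exact x_mem_Cz (e ▸ h6) (by rw [hz]; exact_mod_cast h7) c
    exact commute_of_mem_Cz (by simpa [mul_assoc] using mul_mem (mul_mem ha h4) (inv_mem ha))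
  refine ⟨v, w, h1.inj (by rw [map_mul, hv, ← pow_two, w1.sq hφ, map_one]),
    h1.inj (by rw [map_mul, hw, ← pow_two, w2.sq hφ, map_one]), h1.inj ?_,
    fun n => w1.ne_one τ (by rw [← hv, n, map_one]), fun n => w2.ne_one τ (by rw [← hw, n, map_one]),
    fun n => w4 ?_, h3 v _ (fun t ht => ⟨t, ht, rfl⟩) hv, h3 w _ h2 hw⟩
  · rw [map_mul, map_mul, hv, hw]
    refine Commute.list_prod_left _ _ fun x hx => Commute.list_prod_right _ _ fun y hy => ?_
    simp only [List.map_map, List.mem_map] at hx hy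
    obtain ⟨s, hs, rfl⟩ := hx
    obtain ⟨t, ht, rfl⟩ := hy
    obtain ⟨t', ht', e⟩ := h2 t ht
    have := w1.comm hs ht' (dec τ s.2.2) (dec τ t.2.2)
    rwa [e] at this
  · have := (Core.certE6.model k rootE6).posInj _ _ (by
      rw [List.map_map, List.map_map, List.map_map, List.map_map]; exact w3)
      (by rw [List.map_map, List.map_map]; exact w1.2.1) (w1.pos τ) (hv.symm.trans (n ▸ hw))
    replace this := congrArg (List.map Prod.snd) this
    simp only [List.map_map] at this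
    refine List.ext_getElem (by simpa using congrArg List.length w3) fun n h1 h2 => ?_
    have h6 := List.getElem_of_eq this (i := n) (by simpa using h1)
    simp only [List.getElem_map, Function.comp] at h6 ⊢
    exact dec_inj hτ (w1.2.2.2 _ (List.getElem_mem _)).2.2.1
      (w2.2.2.2 _ (List.getElem_mem _)).2.2.1 h6

variable {A B : G} (hA : e A = Tz (z ^ 15) (ev d.μ)) (hB : e B = Tz (z ^ 15) (ev d.ν))
include hA hB

omit hφ hd h5 in
theorem basic : A ^ d.p = 1 ∧ B ^ d.p = 1 ∧ Commute A B := by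
  have h1 := pow_orderOf_eq_one (z ^ 15)
  rw [ord hp hz (a := 15) rfl] at h1
  exact ⟨h.inj (by rw [map_pow, hA, Tz_pow_eq_one h1, map_one]),
    h.inj (by rw [map_pow, hB, Tz_pow_eq_one h1, map_one]),
    h.inj (by rw [map_mul, map_mul, hA, hB]; exact T6_comm _ _)⟩

omit hφ h5 in
theorem not_mem (j : ℤ) : A ≠ B ^ j := fun n => by
  have h0 : (0 : ℤ) < d.p := by exact_mod_cast hp.pos
  have h1 := Tz_eq_iff.1 (hA.symm.trans ((congrArg e n).trans (by rw [map_zpow, hB, ← Tz_smul])))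
  rw [ord hp hz (a := 15) rfl] at h1
  refine hd.2.2.2.2.2.2.2.1 (j % d.p).toNat (by
    have := Int.emod_lt_of_pos j h0; omega) fun i => ?_
  rw [Int.toNat_of_nonneg (Int.emod_nonneg _ h0.ne'), Int.emod_def]
  have := dvd_add (h1 i) (dvd_mul_right (d.p : ℤ) (j / d.p * ev d.ν i))
  simp only [Pi.smul_apply, smul_eq_mul] at this
  rwa [show ev d.μ i - j * ev d.ν i + d.p * (j / d.p * ev d.ν i) =
    ev d.μ i - (j - d.p * (j / d.p)) * ev d.ν i by ring] at this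

omit hφ hp hd h5 h hz hB in
theorem reg_eq : Tz (z ^ 3) (5 • ev d.μ + ev d.ν) = e A * Tz z (ev d.ν) ^ 3 := by
  rw [Tz_add, hA, show (5 • ev d.μ : Fin 6 → ℤ) = (5 : ℤ) • ev d.μ from rfl, Tz_smul, Tz_pow, Tz_pow,
    Tz_pow, zpow_ofNat, ← pow_mul]

variable {P : Subgroup G} (hP : ∀ g, g ∈ P ↔ ∃ i j : ℤ, g = A ^ i * B ^ j)
include hP

theorem conj_mem {g : G} (hg : g ∈ Subgroup.normalizer (P : Set G)) :
    e g * Tz (z ^ (5 * d.p)) (ev d.ν) * (e g)⁻¹ ∈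
      Subgroup.zpowers (Tz (z ^ (5 * d.p)) (ev d.ν)) := by
  have h3 := ord hp hz (a := 5 * d.p) (b := 3) (by ring)
  have h15 := ord hp hz (a := 15) rfl
  have z3 := pow_orderOf_eq_one (z ^ (5 * d.p))
  rw [h3] at z3
  have h1 : ∀ u ∈ chevE6.group k, Commute (e A) u → Commute (e B) u →
      Commute (e g * Tz (z ^ (5 * d.p)) (ev d.ν) * (e g)⁻¹) u := fun u hu a b => by
    obtain ⟨i, j, e1⟩ := (hP _).1 ((Subgroup.mem_normalizer_iff.1 hg _).1
      ((hP _).2 ⟨d.i0, d.j0, rfl⟩))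
    have h2 : Commute (e (g * (A ^ d.i0 * B ^ d.j0) * g⁻¹)) u := by
      rw [e1, map_mul, map_zpow, map_zpow]
      exact (a.zpow_left i).mul_left (b.zpow_left j)
    rw [map_mul, map_mul, map_mul, map_zpow, map_zpow, map_inv, hA, hB, ← Tz_smul, ← Tz_smul,
      ← Tz_add] at h2
    have h4 := commute_of_mem_Cz (Cz_mono (z' := z ^ (5 * d.p)) (v' := ev d.ν)
      (v := d.i0 • ev d.μ + d.j0 • ev d.ν) (fun r hr h0 => by
      have := hd.2.2.1 r hr (by
        rw [dt_eq _ hr, dt_eq _ hr, Finset.mul_sum, Finset.mul_sum, ← Finset.sum_add_distrib]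
        rw [h15] at h0
        simpa only [Pi.add_apply, Pi.smul_apply, smul_eq_mul, add_mul, mul_assoc] using h0)
      rwa [dt_eq _ hr, h3] at *) (mem_Cz hp.pos
      ((Nat.coprime_primes Nat.prime_three hp).2 (by omega)) (h15 ▸ pow_orderOf_eq_one _)
      (mul_mem (mul_mem (inv_mem (h.mem g)) hu) (h.mem g)) (by
        simpa [mul_assoc] using h2.map (MulAut.conj (e g)⁻¹))))
    simpa [mul_assoc] using h4.map (MulAut.conj (e g))
  have hm := mul_mem (mul_mem (h.mem g) (Tz_mem (z ^ (5 * d.p)) (ev d.ν))) (inv_mem (h.mem g))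
  obtain ⟨c, hc⟩ := exists_T6 hd hp h5 hz hm
    (h1 _ (Tz_mem _ _) (hA ▸ T6_comm _ _) (hB ▸ T6_comm _ _)).symm
  have h2 : c ^ 3 = 1 := T6_inj (k := k) (by
    rw [map_pow, hc, conj_pow, Tz_pow_eq_one z3, map_one]; group)
  have h4 : ∀ i, ∃ n ∈ ([0, 1, 2] : List ℤ), (z ^ (5 * d.p)) ^ n = c i := fun i => by
    obtain ⟨n, -, hn⟩ := (IsPrimitiveRoot.iff_orderOf.2 ((orderOf_units (y := z ^ (5 * d.p))).trans
      h3)).eq_pow_of_pow_eq_one (ξ := (c i : k)) (congrArg Units.val (congrFun h2 i))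
    refine ⟨n % 3, mem3 n, ?_⟩
    rw [← show (z ^ (5 * d.p)) ^ n = c i from Units.ext hn, ← zpow_natCast _ n, eq_comm]
    exact zpow_eq_zpow_emod n (by exact_mod_cast z3)
  choose t ht ht' using h4
  have h6 : T6 k c = Tz (z ^ (5 * d.p)) (ev [t 0, t 1, t 2, t 3, t 4, t 5]) :=
    congrArg (T6 k) (funext (forall_fin6 (ht' 0).symm (ht' 1).symm (ht' 2).symm (ht' 3).symm
      (ht' 4).symm (ht' 5).symm))
  obtain ⟨n, -, hn⟩ := hd.2.2.2.2.2.2.2.2.2 _ (ht 0) _ (ht 1) _ (ht 2) _ (ht 3) _ (ht 4) _ (ht 5)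
    ((Fx_iff hφ hd.1.1 h3).1 (by
      rw [← h6, hc, map_mul, map_mul, map_inv, h.fix, (Fx_iff hφ hd.1.1 h3).2 hd.1.2.2.2, conj_zpow]
      group)) fun r hr => by
      obtain ⟨a1, a2, a3⟩ := hd.2.2.2.2.2.2.1 r hr
      rw [dt_eq _ a1] at a2 a3 ⊢
      have := h1 _ (Core.certE6.xGL_mem_group rootE6 r 1)
        (hA ▸ commute_of_mem_Cz (x_mem_Cz a1 (h15 ▸ a2) 1))
        (hB ▸ commute_of_mem_Cz (x_mem_Cz a1 (h15 ▸ a3) 1))
      rw [← hc, h6] at this
      have := (chr_eq _ _ r).1 (Core.certE6.chr_eq_one_of_commute rootE6 a1 one_ne_zero this)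
      rwa [h3] at this
  refine Subgroup.mem_zpowers_iff.2 ⟨n, ?_⟩
  rw [← hc, h6, ← Tz_smul, eq_comm, Tz_eq_iff, h3]
  exact hn

theorem main [IsSimpleGroup G] : ¬ IsCoatom (Subgroup.normalizer (P : Set G)) := fun hc => by
  obtain ⟨b1, b2, b3⟩ := basic hp h hz hA hB
  have b4 := not_mem hd hp h hz hA hB
  have h3 := ord hp hz (a := 5 * d.p) (b := 3) (by ring)
  have z3 := pow_orderOf_eq_one (z ^ (5 * d.p))
  rw [h3] at z3
  set Z := Tz (z ^ (5 * d.p)) (ev d.ν) with hZ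
  have : Finite (Subgroup.zpowers Z : Set (GL chevE6.Idx k)) := (finite_zpowers.2
    (isOfFinOrder_iff_pow_eq_one.2 ⟨3, by norm_num, Tz_pow_eq_one z3 _⟩)).to_subtype
  have h1 : ∀ g, e g * Z * (e g)⁻¹ ∈ Subgroup.zpowers Z →
      g ∈ (Subgroup.normalizer (Subgroup.zpowers Z : Set (GL chevE6.Idx k))).comap e :=
    fun g hg => Subgroup.mem_normalizer_fintype (by
      rintro _ ⟨n, rfl⟩
      exact (congrArg (· ∈ Subgroup.zpowers Z) conj_zpow).mp (zpow_mem hg n))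
  obtain ⟨v, w, a1, a2, a3, a4, a5, a6, a7, a8⟩ := exists_four hφ hd hp h5 h hz
  have h2 : ∀ u, Commute (Tz z (ev d.ν)) (e u) → u ∈ _ := fun u hu => h1 u (by
    rw [mul_inv_eq_of_eq_mul (show Commute Z (e u) by
      rw [hZ, Tz_pow]; exact hu.pow_left _).symm.eq]
    exact Subgroup.mem_zpowers _)
  have h4 : ∀ u, Commute (Tz z (ev d.ν)) (e u) → Commute u B := fun u hu => h.inj (by
    rw [map_mul, map_mul, hB, Tz_pow]; exact (hu.pow_left _).symm)
  have h6 : ∀ u, Commute (Tz z (ev d.ν)) (e u) → u * u = 1 → Commute u A → u = 1 :=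
    fun u hu h7 h8 => by
      obtain ⟨c, hc⟩ := exists_T6 hd hp h5 hz (h.mem u) (by
        rw [reg_eq hA]; exact (h8.symm.map e).mul_left (hu.pow_left 3))
      have : CharP k 2 :=
        CharTwo.of_one_ne_zero_of_two_eq_zero one_ne_zero (Cert.two_eq_zero_of_sq hφ)
      have h9 : c * c = 1 := T6_inj (k := k) (by rw [map_mul, hc, ← map_mul, h7, map_one, map_one])
      refine h.inj ?_
      rw [← hc, show c = 1 from funext fun i => Units.ext (CharTwo.sq_injective (R := k) (by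
        simpa [pow_two] using congrArg Units.val (congrFun h9 i))), map_one, map_one]
  have h7 := hc.2 _ (lt_of_le_of_ne (fun g hg => h1 g (conj_mem hφ hd hp h5 h hz hA hB hP hg))
    fun n => by
      rcases four hp (by omega) b1 b2 b3 b4 a1 a2 a3 (h4 v a7) (h4 w a8) (fun u hu => (hP _).1
        ((Subgroup.mem_normalizer_iff.1 (n.ge (h2 u (by
          rcases hu with rfl | rfl | rfl
          exacts [a7, a8, map_mul e v w ▸ a7.mul_right a8]))) _).1 ((hP _).2 ⟨1, 0, by simp⟩)))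
        with h8 | h8 | h8
      · exact a4 (h6 v a7 a1 h8)
      · exact a5 (h6 w a8 a2 h8)
      · exact a6 (mul_left_cancel (a1.trans (h6 _ (map_mul e v w ▸ a7.mul_right a8)
          (by rw [a3.symm.mul_mul_mul_comm, a1, a2, one_mul]) h8).symm)))
  have h8 : ((Subgroup.centralizer {Z}).comap e).Normal := ⟨fun u hu g => by
    obtain ⟨n, hn⟩ := (Subgroup.mem_normalizer_iff.1 (h7.ge (Subgroup.mem_top g⁻¹)) Z).1
      (Subgroup.mem_zpowers _)
    have h9 := (Commute.zpow_right (Subgroup.mem_centralizer_singleton_iff.1 hu) n).map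
      (MulAut.conj (e g))
    rw [show Z ^ n = _ from hn] at h9
    refine Subgroup.mem_centralizer_singleton_iff.2 ?_
    simpa [mul_assoc, Commute, SemiconjBy] using h9⟩
  rcases h8.eq_bot_or_eq_top with h9 | h9
  · exact b4 0 ((Subgroup.mem_bot.1 (h9.le (Subgroup.mem_centralizer_singleton_iff.2
      (by rw [hA]; exact T6_comm _ _)))).trans (zpow_zero B).symm)
  · have := h.cent Z (Tz_mem _ _) (Tz_pow_eq_one z3 _) fun g =>
      (Subgroup.mem_centralizer_singleton_iff.1 (h9.ge (Subgroup.mem_top g))).symm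
    rw [hZ, ← Tz_zero (z ^ (5 * d.p)), Tz_eq_iff, h3] at this
    exact hd.2.2.2.2.2.2.2.2.1 (by simpa using this)

end

theorem gen {G : Type*} [Group G] {A B x : G} {p : ℕ} (hp : p.Prime) (hA : A ^ p = 1)
    (hB : B ^ p = 1) (hAB : Commute A B) {P : Subgroup G} (hx : x ∈ P) (h1 : x ≠ 1) {i j : ℤ}
    (e : x = A ^ i * B ^ j) : (∃ n < p, A * B ^ n ∈ P) ∨ B ∈ P ∧ B ≠ 1 := by
  have h0 : (0 : ℤ) < p := by exact_mod_cast hp.pos
  have h2 : ∀ {C : G}, C ^ p = 1 → ∀ a : ℤ, C ^ (a * p) = 1 := fun h a => by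
    rw [mul_comm, zpow_mul, zpow_natCast, h, one_zpow]
  have h3 := (Nat.prime_iff_prime_int.1 hp).irreducible
  by_cases hi : (p : ℤ) ∣ i
  · obtain ⟨c, rfl⟩ := hi
    rw [mul_comm, h2 hA, one_mul] at e
    obtain ⟨a, b, h⟩ := h3.coprime_iff_not_dvd.2 fun (⟨c, h⟩ : (p : ℤ) ∣ j) =>
      h1 (by rw [e, h, mul_comm, h2 hB])
    refine Or.inr ⟨?_, fun n => h1 (by rw [e, n, one_zpow])⟩
    have := zpow_mem hx b
    rwa [e, ← zpow_mul, mul_comm, eq_sub_of_add_eq' h, zpow_sub, h2 hB, inv_one, mul_one,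
      zpow_one] at this
  · obtain ⟨a, b, h⟩ := h3.coprime_iff_not_dvd.2 hi
    refine Or.inl ⟨(j * b % p).toNat, by have := Int.emod_lt_of_pos (j * b) h0; omega, ?_⟩
    have := zpow_mem hx b
    rwa [e, (hAB.zpow_zpow i j).mul_zpow, ← zpow_mul, ← zpow_mul, mul_comm i, eq_sub_of_add_eq' h,
      zpow_sub, h2 hA, inv_one, mul_one, zpow_one, zpow_eq_zpow_emod (j * b) (zpow_natCast B p ▸ hB),
      ← Int.toNat_of_nonneg (Int.emod_nonneg _ h0.ne'), zpow_natCast] at this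

theorem mem_iff {G : Type*} [Group G] [Finite G] {x : G} {p : ℕ} (hp : p.Prime) {P : Subgroup G}
    (hP : Nat.card P = p) (hx : x ∈ P) (h1 : x ≠ 1) (g : G) :
    g ∈ P ↔ ∃ i j : ℤ, g = x ^ i * 1 ^ j := by
  have : Fact p.Prime := ⟨hp⟩
  refine ⟨fun hg => ?_, by rintro ⟨i, j, rfl⟩; simpa using zpow_mem hx i⟩
  obtain ⟨n, hn⟩ := mem_zpowers_of_prime_card hP (g := ⟨x, hx⟩) (g' := ⟨g, hg⟩)
    fun e => h1 (congrArg Subtype.val e)
  exact ⟨n, 0, by simpa using (congrArg Subtype.val hn).symm⟩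

section
variable {k G : Type*} [Field k] [IsAlgClosed k] [Group G] [Finite G] [IsSimpleGroup G]
  {φ : k →+* k} {e₀ : G →* GL chevE6.Idx k} (hφ : ∀ t, φ t = t ^ 2) (E : Emb φ e₀)
  {d : Dat} (hd : Ok d) (hp : d.p.Prime) (h5 : 5 < d.p) {P : Subgroup G} (hP : IsPGroup d.p P)
include hφ E hd hp h5 hP

theorem setup {n : ℕ} (hn : ¬ d.p ^ (n + 1) ∣ Nat.card G)
    (h1 : n = 1 ∨ n = 2 ∧ ¬ ∀ i, (d.p : ℤ) ∣ ev d.ν i) :
    ∃ (e : G →* GL chevE6.Idx k) (z : kˣ) (A B : G), Tw φ d.ω e ∧ orderOf z = 15 * d.p ∧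
      e A = Tz (z ^ 15) (ev d.μ) ∧ e B = Tz (z ^ 15) (ev d.ν) ∧ ∃ Q : Subgroup G, P ≤ Q ∧
      Nat.card Q = d.p ^ n ∧ ∀ g, g ∈ Q ↔ ∃ i j : ℤ, g = A ^ i * B ^ j := by
  have : Fact d.p.Prime := ⟨hp⟩
  obtain ⟨e, h⟩ := exists_tw hφ E d.ω
  obtain ⟨m, hm⟩ := hp.odd_of_ne_two (by omega)
  obtain ⟨z, hz, -⟩ := exists_unit_order k (n := (15 * d.p : ℕ)) fun h => one_ne_zero (α := k) (by
    rw [hm] at h
    push_cast at h
    linear_combination h - (15 * m + 7) * Cert.two_eq_zero_of_sq hφ)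
  rw [Int.natAbs_natCast] at hz
  have h15 := ord hp hz (a := 15) rfl
  have h2 : ∀ u, Fx d.p d.sr 1 u → ∃ x, e x = Tz (z ^ 15) (ev u) := fun u hu =>
    exists_of_cube (h.cube _ (Tz_mem _ _) (by simpa using (Fx_iff hφ hd.1.1 h15).2 hu))
      ((Nat.coprime_primes Nat.prime_three hp).2 (by omega)) hp.pos
      (Tz_pow_eq_one (h15 ▸ pow_orderOf_eq_one _) _)
  obtain ⟨A, hA⟩ := h2 _ hd.1.2.1
  obtain ⟨B, hB⟩ := h2 _ hd.1.2.2.1
  obtain ⟨b1, b2, b3⟩ := basic hp h hz hA hB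
  have b4 := not_mem hd hp h hz hA hB
  let Q : Subgroup G :=
    { carrier := {g | ∃ i j : ℤ, g = A ^ i * B ^ j}
      one_mem' := ⟨0, 0, by simp⟩
      mul_mem' := by
        rintro _ _ ⟨i, j, rfl⟩ ⟨i', j', rfl⟩
        exact ⟨i + i', j + j', by
          rw [zpow_add, zpow_add, (b3.zpow_zpow i' j).symm.mul_mul_mul_comm]⟩
      inv_mem' := by
        rintro _ ⟨i, j, rfl⟩
        exact ⟨-i, -j, by rw [(b3.zpow_zpow i j).eq, mul_inv_rev, zpow_neg, zpow_neg]⟩ }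
  have h3 : IsPGroup d.p Q := fun ⟨x, i, j, e⟩ => ⟨1, Subtype.ext (show x ^ d.p ^ 1 = 1 by
    rw [pow_one, e, (b3.zpow_zpow i j).mul_pow, ← zpow_natCast,
      ← zpow_natCast, zpow_comm, zpow_comm B, zpow_natCast, zpow_natCast, b1, b2]
    simp)⟩
  have h4 : Nat.card Q = d.p ^ n := by
    obtain ⟨l, hl⟩ := IsPGroup.iff_card.1 h3
    have a1 : A ∈ Q := ⟨1, 0, by simp⟩
    rw [hl]
    refine congrArg _ (le_antisymm (le_of_not_gt fun a2 => hn ((pow_dvd_pow _ a2).trans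
      (hl ▸ Q.card_subgroup_dvd_card))) (le_of_not_gt fun a2 => ?_))
    obtain rfl | rfl : l = 0 ∨ l = 1 := by omega
    · exact b4 0 ((Subgroup.mem_bot.1 ((Subgroup.eq_bot_of_card_eq _ hl).le a1)).trans
        (zpow_zero B).symm)
    obtain ⟨i, j, a3⟩ := (mem_iff hp (hl.trans (pow_one _)) (x := B) ⟨0, 1, by simp⟩ (fun n => by
      rw [n, map_one, ← Tz_zero (z ^ 15), eq_comm, Tz_eq_iff, h15] at hB
      exact (h1.resolve_left (by omega)).2 (by simpa using hB)) A).1 a1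
    exact b4 i (by simpa using a3)
  obtain ⟨g, hg⟩ := exists_conj_le_of_isPGroup hP (T := Q) fun a => hn (by
    rw [← Q.card_mul_index, pow_succ]; exact mul_dvd_mul h4.symm.dvd a)
  refine ⟨_, z, g * A * g⁻¹, g * B * g⁻¹, h.comp (MulAut.conj g).symm, hz, by simpa [mul_assoc],
    by simpa [mul_assoc], Q.map (MulAut.conj g).toMonoidHom, fun x hx => ⟨_, hg x hx, by
      simp [mul_assoc]⟩, by rwa [Subgroup.card_map_of_injective (MulAut.conj g).injective],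
    fun x => ⟨?_, ?_⟩⟩
  · rintro ⟨_, ⟨i, j, rfl⟩, rfl⟩
    exact ⟨i, j, by simp⟩
  · rintro ⟨i, j, rfl⟩
    exact ⟨_, ⟨i, j, rfl⟩, by simp⟩

theorem fin {n : ℕ} (hn : ¬ d.p ^ (n + 1) ∣ Nat.card G) (h0 : P ≠ ⊥)
    (h1 : n = 1 ∨ n = 2 ∧ (¬ ∀ i, (d.p : ℤ) ∣ ev d.ν i) ∧ ∀ j < d.p + 1, ∃ d' ∈ dats, d'.p = d.p ∧
      d'.ω = d.ω ∧ (∀ i, (d.p : ℤ) ∣ ev d'.ν i) ∧
      ∀ i, ev d'.μ i = if j < d.p then ev d.μ i + j * ev d.ν i else ev d.ν i) :
    ¬ IsCoatom (Subgroup.normalizer (P : Set G)) := by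
  have : Fact d.p.Prime := ⟨hp⟩
  obtain ⟨e, z, A, B, h, hz, hA, hB, Q, a1, a2, a3⟩ := setup hφ E hd hp h5 hP hn
    (h1.imp_right fun h => ⟨h.1, h.2.1⟩)
  obtain ⟨l, hl⟩ := IsPGroup.iff_card.1 hP
  by_cases h2 : n ≤ l
  · obtain rfl : P = Q := Subgroup.eq_of_le_of_card_ge a1 (by
      rw [a2, hl]; exact Nat.pow_le_pow_right hp.pos h2)
    exact main hφ hd hp h5 h hz hA hB a3
  have h3 : l ≠ 0 := fun n => h0 (Subgroup.eq_bot_of_card_eq _ (by rw [hl, n, pow_zero]))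
  obtain ⟨-, -, h4⟩ := h1.resolve_left (by omega)
  obtain rfl : l = 1 := by omega
  obtain ⟨b1, b2, b3⟩ := basic hp h hz hA hB
  have h6 : ∀ j < d.p + 1, ∀ x ∈ P, x ≠ 1 → e x = Tz (z ^ 15) (fun i =>
      if j < d.p then ev d.μ i + j * ev d.ν i else ev d.ν i) →
      ¬ IsCoatom (Subgroup.normalizer (P : Set G)) := fun j hj x hx x1 ex => by
    obtain ⟨d', c1, c2, c3, c4, c5⟩ := h4 j hj
    refine main hφ (ok_dats d' c1) (c2 ▸ hp) (c2 ▸ h5) (c3 ▸ h) (c2 ▸ hz)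
      (ex.trans (congrArg _ (funext c5).symm)) ?_ (mem_iff hp (hl.trans (pow_one _)) hx x1)
    rw [map_one, ← Tz_zero (z ^ 15), eq_comm, Tz_eq_iff, ord hp hz (a := 15) rfl]
    simpa using c4
  obtain ⟨⟨x, hx⟩, x1⟩ := (Subgroup.ne_bot_iff_exists_ne_one).1 h0
  obtain ⟨i, j, ex⟩ := (a3 x).1 (a1 hx)
  rcases gen hp b1 b2 b3 hx (fun n => x1 (Subtype.ext n)) ex with ⟨m, c1, c2⟩ | ⟨c1, c2⟩
  · refine h6 m (by omega) _ c2 (fun n => not_mem hd hp h hz hA hB (-m) (by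
      rw [zpow_neg, zpow_natCast]; exact eq_inv_of_mul_eq_one_left n)) ?_
    rw [map_mul, ← zpow_natCast, map_zpow, hA, hB, ← Tz_smul, ← Tz_add]
    simp only [c1, if_true]
    rfl
  · exact h6 d.p (by omega) _ c1 c2 (by simpa using hB)

end

set_option synthInstance.maxSize 8192 in
theorem chk : ∀ p ∈ [7, 11, 13, 17, 19], ∃ d ∈ dats, d.p = p ∧ ∃ n ∈ [1, 2],
    ¬ d.p ^ (n + 1) ∣ 76532479683774853939200 ∧
    (n = 1 ∨ n = 2 ∧ (¬ ∀ i, (d.p : ℤ) ∣ ev d.ν i) ∧ ∀ j < d.p + 1, ∃ d' ∈ dats, d'.p = d.p ∧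
      d'.ω = d.ω ∧ (∀ i, (d.p : ℤ) ∣ ev d'.ν i) ∧
      ∀ i, ev d'.μ i = if j < d.p then ev d.μ i + j * ev d.ν i else ev d.ν i) := by
  decide +kernel

/-- In the simple group ²E₆(2) (the twisted group of type E₆ over the field with 4 elements), for every prime p > 5 no p-local subgroup is maximal: the normaliser of a non-trivial p-subgroup is never a maximal subgroup. -/
theorem result {K : Type*} [Field K] [Fintype K] (hK : Fintype.card K = 4) (p : ℕ) (hp : p.Prime) (h5 : 5 < p)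
    (P : Subgroup (Cfsg.Lie.twistedE6 K 2)) (hP : IsPGroup p P) (hP1 : P ≠ ⊥) :
    ¬ IsCoatom (Subgroup.normalizer (P : Set (Cfsg.Lie.twistedE6 K 2))) := by
  have : Fact p.Prime := ⟨hp⟩
  obtain ⟨φ, e, hφ, E⟩ := exists_emb (K := K) hK
  have hc : Nat.card (twistedE6 K 2) = 76532479683774853939200 := by
    have := S1066.result (K := K) Nat.prime_two.isPrimePow hK
    norm_num at this
    omega
  have := (S1070.result (K := K) Nat.prime_two.isPrimePow hK).1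
  have : Finite (twistedE6 K 2) := Nat.finite_of_card_ne_zero (by rw [hc]; norm_num)
  have h1 : p ∣ 2 ^ 36 * 3 ^ 9 * 5 ^ 2 * 7 ^ 2 * 11 * 13 * 17 * 19 := by
    obtain ⟨l, hl⟩ := IsPGroup.iff_card.1 hP
    have h3 : l ≠ 0 := fun n => hP1 (Subgroup.eq_bot_of_card_eq _ (by rw [hl, n, pow_zero]))
    exact ((dvd_pow_self p h3).trans (hl ▸ P.card_subgroup_dvd_card)).trans (hc ▸ by norm_num)
  have h2 : p ∈ [7, 11, 13, 17, 19] := by
    have h3 : ∀ {a n : ℕ}, a.Prime → p ∣ a ^ n → p = a := fun ha h =>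
      (Nat.prime_dvd_prime_iff_eq hp ha).1 (hp.dvd_of_dvd_pow h)
    have h4 : ∀ {a : ℕ}, a.Prime → p ∣ a → p = a := fun ha h =>
      (Nat.prime_dvd_prime_iff_eq hp ha).1 h
    simp only [hp.dvd_mul] at h1
    rcases h1 with ((((((h | h) | h) | h) | h) | h) | h) | h
    · have := h3 (by norm_num) h; omega
    · have := h3 (by norm_num) h; omega
    · have := h3 (by norm_num) h; omega
    · simp [h3 (by norm_num) h]
    all_goals simp [h4 (by norm_num) h]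
  obtain ⟨d, hd, rfl, n, -, h3, h4⟩ := chk p h2
  exact fin hφ E (ok_dats d hd) hp h5 hP (hc ▸ h3) hP1 h4

end Cfsg.Agent.S5740
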