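import Cfsg.Statements.S5743
import Cfsg.Agent.Chev.FoldTwE6

set_option autoImplicit false
open Cfsg Cfsg.Lib.Chev Cfsg.Lib.Chev.Core

namespace Cfsg.Agent.S5743

/-- The simple group ²E₆(2) (the twisted group of type E₆ over the field with 4 elements) contains at least three pairwise non-conjugate subgroups isomorphic to the Chevalley group F₄(2). -/
theorem result {K : Type*} [Field K] [Fintype K] (hK : Fintype.card K = 4) :
    ∃ H : Fin 3 → Subgroup (Cfsg.Lie.twistedE6 K 2),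
      (∀ i, Nonempty ((H i) ≃* Cfsg.Lie.chevF4.group (ZMod 2))) ∧
      (∀ i j, i ≠ j → ∀ g : (Cfsg.Lie.twistedE6 K 2), (H i).map (MulAut.conj g).toMonoidHom ≠ H j) := by
  classical
  obtain ⟨f, hf, hq, hG⟩ := exists_twE6 (K := K) (q := 2) hK
  have : CharP K 2 := charP_of_card_eq_prime_pow (p := 2) (f := 2) hK
  obtain ⟨ψ, h1, h2, h3, h4⟩ := exists_F4_le_twE6 hf (ZMod.castHom (dvd_refl 2) K) fun t => by
    rw [hq, ← map_pow, ZMod.pow_card]
  obtain ⟨ω, hω⟩ : ∃ ω : Kˣ, ω ≠ 1 := by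
    have : Nontrivial Kˣ := Fintype.one_lt_card_iff_nontrivial.1 (by rw [Fintype.card_units, hK]; norm_num)
    exact exists_ne 1
  have hu : ∀ a : Kˣ, a ^ 3 = 1 := fun a => by
    have := pow_card_eq_one (x := a)
    rwa [Fintype.card_units, hK] at this
  have ho : orderOf ω = 3 := orderOf_eq_prime (hu ω) hω
  let c : Fin Lie.chevE6.rank → Kˣ := (![ω, 1, 1, 1, 1, ω ^ 2] : Fin 6 → Kˣ)
  have hc : c ∈ (subE6 f).fixT := (mem_fixT_E6 f).2 (forall_fin6 (by simp [c, piE6, hq])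
    (by simp [c, piE6]) (by simp [c, piE6]) (by simp [c, piE6]) (by simp [c, piE6]) (by
      have : (ω ^ 2) ^ 2 = ω := by rw [← pow_mul, show 2 * 2 = 3 + 1 from rfl, pow_succ, hu, one_mul]
      simpa [c, piE6, hq] using congrArg Units.val this.symm))
  let d := Core.certE6.twAut (endE6 f hf) (clE6 f hf _) hG ⟨c, hc⟩ (RingEquiv.refl K)
  set τ := torGL rootE6 K c with hτ
  have hd : ∀ (n : ℕ) (x : Lie.twistedE6 K 2), ((d ^ n) x).1 = τ ^ n * x.1 * (τ ^ n)⁻¹ := by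
    intro n x
    induction n with
    | zero => simp
    | succ n ih =>
      rw [pow_succ', MulAut.mul_apply]
      refine (Core.certE6.coe_twAut _ _ hG _ _ _).trans ?_
      rw [ih, pow_succ']
      change τ * (τ ^ n * x.1 * (τ ^ n)⁻¹) * τ⁻¹ = _
      group
  have hle : ψ.range ≤ Lie.twistedE6 K 2 := h2.trans hG.le
  have hG6 := Core.certE6.tw_le (endE6 f hf) (clE6 f hf _) hG
  refine ⟨fun i => (ψ.range.subgroupOf _).map (d ^ (i : ℕ)).toMonoidHom, fun i =>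
    ⟨((Subgroup.equivMapOfInjective _ _ (d ^ (i : ℕ)).injective).symm.trans
      (Subgroup.subgroupOfEquivOfLe hle)).trans (MonoidHom.ofInjective h1).symm⟩, fun i j hij g e => ?_⟩
  have hτ0 : ∀ n : ℕ, τ ^ n ∈ (torGL rootE6 K).range := fun n => pow_mem (MonoidHom.mem_range.2 ⟨c, rfl⟩) n
  have hn : (τ ^ (j : ℕ))⁻¹ * g.1 * τ ^ (i : ℕ) ∈ Subgroup.normalizer (ψ.range : Set (GL _ K)) := by
    refine Subgroup.mem_normalizer_fintype fun x hx => ?_
    obtain ⟨y, hy, e'⟩ := e.le ⟨_, ⟨⟨x, hle hx⟩, hx, rfl⟩, rfl⟩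
    have e2 : τ ^ (j : ℕ) * y.1 * (τ ^ (j : ℕ))⁻¹ =
        g.1 * (τ ^ (i : ℕ) * x * (τ ^ (i : ℕ))⁻¹) * g.1⁻¹ := by
      rw [← hd j y, ← hd i ⟨x, hle hx⟩]
      exact congrArg Subtype.val e'
    have e3 : (τ ^ (j : ℕ))⁻¹ * g.1 * τ ^ (i : ℕ) * x * ((τ ^ (j : ℕ))⁻¹ * g.1 * τ ^ (i : ℕ))⁻¹ = y.1 := by
      calc _ = (τ ^ (j : ℕ))⁻¹ * (g.1 * (τ ^ (i : ℕ) * x * (τ ^ (i : ℕ))⁻¹) * g.1⁻¹) *
            τ ^ (j : ℕ) := by group
        _ = _ := by rw [← e2]; group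
    rw [e3]
    exact hy
  obtain ⟨k, hk, u, hu', c', hc', e'⟩ := Core.certE6.exists_mul_eq_of_normalizes rootE6 f (hle.trans hG6)
    h3 h4 (n := (τ ^ (j : ℕ))⁻¹ * g.1 * τ ^ (i : ℕ)) (by
      rw [Core.certE6.Yhat_G0]
      exact mul_mem (mul_mem (Subgroup.mem_sup_right (inv_mem (hτ0 _)))
        (Subgroup.mem_sup_left (hG6 g.2))) (Subgroup.mem_sup_right (hτ0 _))) hn
  have hc1 : c' = 1 := funext fun i => Units.ext (by
    have := hc' i
    rwa [hq, sq, mul_eq_left₀ (c' i).ne_zero] at this)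
  rw [hc1, map_one, mul_one] at e'
  have h5 : (τ ^ (j : ℕ))⁻¹ * τ ^ (i : ℕ) ∈ Lie.chevE6.group K := by
    have a1 := inv_conj_mem_of_mem_normalizer (Core.certE6.range_torGL_le_normalizer rootE6 (hτ0 j))
      (hG6 g.2)
    have a2 := (Core.certE6.group_eq_Y rootE6).ge (RGD.U_le_G0 _ hu')
    have := mul_mem (inv_mem a1) (mul_mem a2 (inv_mem (hG6 (hle hk))))
    rw [← e'] at this
    convert this using 1
    group
  have h6 := Core.certE6.mem_hSub_of_mem_range rootE6 h5 (mul_mem (inv_mem (hτ0 _)) (hτ0 _))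
  rw [hτ, ← map_pow, ← map_pow, ← map_inv, ← map_mul, Core.certE6.torGL_mem_hSub_iff rootE6] at h6
  obtain ⟨a, ha⟩ := h6
  let v : Fin Lie.chevE6.rank → ℤ := (![1, 0, 2, 0, 1, 2] : Fin 6 → ℤ)
  have h7 := chr_cartanHom' a v
  rw [ha, Finset.prod_eq_one fun i _ => ?_] at h7
  · have h8 : chr c v = ω ^ 5 := by
      refine (Fin.prod_univ_six fun i => c i ^ v i).trans ?_
      simp [c, v]
      group
    rw [chr_mul, chr_inv, chr_pow_left, chr_pow_left, h8, inv_mul_eq_one, ← pow_mul, ← pow_mul,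
      pow_eq_pow_iff_modEq, ho] at h7
    exact (by decide : ∀ i j : Fin 3, i ≠ j → ¬ 5 * (j : ℕ) ≡ 5 * (i : ℕ) [MOD 3]) i j hij h7
  · obtain ⟨m, hm⟩ := (by decide +kernel : ∀ i : Fin Lie.chevE6.rank, (3 : ℤ) ∣
      ∑ j : Fin Lie.chevE6.rank, Lie.chevE6.cartan i (Lie.chevE6.simple j) *
        (![1, 0, 2, 0, 1, 2] : Fin 6 → ℤ) j) i
    rw [hm, zpow_mul, zpow_ofNat, hu, one_zpow]

end Cfsg.Agent.S5743
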