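import Cfsg.Statements.S5744
import Cfsg.Agent.Chev.FiTwE6
import Cfsg.Agent.S1696
import Cfsg.Agent.S1686
import Cfsg.Agent.S2604
import Cfsg.Agent.Known.O73Mult
-- import your own Cfsg.Agent.* helpers here

set_option autoImplicit false
open Cfsg

namespace Cfsg.Agent.S5744

open Cfsg.Lib.Chev Cfsg.Lib.Chev.Core

/-- The simple group ²E₆(2) (the twisted group of type E₆ over the field with 4 elements) contains at least three pairwise non-conjugate subgroups isomorphic to the orthogonal group Ω₇(3) (the commutator subgroup of the isometry group of x₀² + x₁y₁ + x₂y₂ + x₃y₃ over the field with 3 elements). -/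
theorem result {K : Type*} [Field K] [Fintype K] (hK : Fintype.card K = 4) :
    ∃ H : Fin 3 → Subgroup (Cfsg.Lie.twistedE6 K 2),
      (∀ i, Nonempty ((H i) ≃* Cfsg.Omega (ZMod 3) (Cfsg.quadFormOdd 3 (ZMod 3)))) ∧
      (∀ i j, i ≠ j → ∀ g : (Cfsg.Lie.twistedE6 K 2), (H i).map (MulAut.conj g).toMonoidHom ≠ H j) := by
  obtain ⟨ψ, hψ⟩ := exists_Fi22_hom hK
  have := Cfsg.Agent.S1696.result.1
  have hinj : Function.Injective ψ := by
    rcases (MonoidHom.normal_ker ψ).eq_bot_or_eq_top with h | h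
    · exact (MonoidHom.ker_eq_bot_iff ψ).1 h
    · exfalso
      have h1 : ∀ x, ψ x = 1 := fun x => h.ge (Subgroup.mem_top x)
      have h2 := Core.certE6.eq_one_of_commute_one rootE6 (g := xGL Lie.chevE6 K 0 1)
        (by rw [Core.certE6.Yhat_G0]; exact Subgroup.mem_sup_left (Core.certE6.xGL_mem_group rootE6 0 1))
        fun r _ => hψ _ (fun x _ => by rw [h1]; exact Commute.one_right _) _
      exact one_ne_zero ((Core.certE6.xGL_eq_one_iff rootE6 (by decide)).1 h2)
  obtain ⟨e⟩ := Cfsg.Agent.S1686.result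
  have e1 := (Subgroup.equivMapOfInjective _ ψ hinj).symm.trans e
  obtain ⟨e2⟩ := Cfsg.Agent.S2604.result (F := ZMod 3) (p := 3) (f := 1) (m := 3) le_rfl (by simp)
    (by norm_num) le_rfl
  obtain ⟨L, h1, h2⟩ := exists_three_classes hK _
    (sq_mem_Inn e1 (by rw [Nat.card_congr e2.toEquiv]; simp))
    fun c hc => hψ c fun x hx => hc _ ⟨_, ⟨FreeGroup.of x, Subgroup.subset_closure (by
      cases x <;> simp at hx ⊢), rfl⟩, rfl⟩
  exact ⟨L, fun i => ⟨((h1 i).some.trans e1).trans ((QuotientGroup.quotientMulEquivOfEq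
    Cfsg.Lib.Known.o73_cen).trans QuotientGroup.quotientBot)⟩, h2⟩

end Cfsg.Agent.S5744
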