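import Cfsg.Statements.S5756
import Cfsg.Agent.Known.OvalE
import Cfsg.Agent.Known.OvalCfg
import Cfsg.Agent.S0205
import Cfsg.Agent.S0483
import Cfsg.Agent.S0507

set_option autoImplicit false
open Cfsg

namespace Cfsg.Agent.S5756

/-- Let Π be a finite projective plane of odd order n (points P, lines L), and let G be a finite non-abelian simple group acting faithfully on the points, and on the lines compatibly with incidence (a collineation group). If G leaves invariant an oval of Π (a set of n + 1 points, no three of them on a common line), then G is isomorphic to PSL₂(F) for a finite field F of odd order. -/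
theorem result {P L : Type*} [Membership P L] [Fintype P] [Fintype L] [Configuration.ProjectivePlane P L]
    (hodd : Odd (Configuration.ProjectivePlane.order P L))
    {G : Type*} [Group G] [Finite G] [MulAction G P] [MulAction G L] [FaithfulSMul G P]
    (hcoll : ∀ (g : G) (p : P) (l : L), g • p ∈ g • l ↔ p ∈ l)
    [IsSimpleGroup G] (hG : ¬ IsMulCommutative G)
    (O : Finset P) (hcard : O.card = Configuration.ProjectivePlane.order P L + 1)
    (harc : ∀ l : L, ∀ p ∈ O, ∀ q ∈ O, ∀ r ∈ O, p ∈ l → q ∈ l → r ∈ l → p = q ∨ p = r ∨ q = r)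
    (hinv : ∀ g : G, ∀ p ∈ O, g • p ∈ O) :
    ∃ (F : Type) (_ : Field F) (_ : Fintype F), Odd (Fintype.card F) ∧
      Nonempty (G ≃* Matrix.ProjectiveSpecialLinearGroup (Fin 2) F) := by
  have hCG : Lib.Perm.Plane.CG G P L :=
    ⟨hcoll, fun g h => eq_of_smul_eq_smul (α := P) fun p => by rw [h p, one_smul]⟩
  have h : Lib.Known.Oval.IsOval G L (O : Set P) :=
    ⟨by rw [Set.ncard_coe_finset, hcard], harc, hinv,
      fun e => Nat.not_even_iff_odd.2 hodd (even_iff_two_dvd.2 e)⟩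
  have hH := h.isH hG
  have h2 := Lib.Known.Oval.index_ne_two hG
  have n1 : ¬ Lib.Known.OvalCfg.E1 G := by
    rintro ⟨ρ, σ, τ, c, a1, a2, a3, a4, a5, a6, a7, a8⟩
    exact a8 (h.not_E1 hH a1 a2 a3 a4 a5 a6 a7)
  have n2 : ¬ Lib.Known.OvalCfg.E2 G := by
    rintro ⟨r, ρ, σ₁, σ₃, τ, a1, a2, a3, a4, a5, a6, a7, a8, a9, a10, a11, a12, a13, a14, a15⟩
    exact h.not_E2 h2 hH a1 a2 a3 a4 a5 a6 a7 a8 a9 a10 a11 a12 a13 a14 a15
  have hev : Even (Nat.card G) := by
    by_contra hne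
    have := Cfsg.Agent.S0205.result (Nat.not_even_iff_odd.1 hne)
    exact hG ⟨⟨IsSimpleGroup.comm_iff_isSolvable.2 this⟩⟩
  obtain ⟨S⟩ : Nonempty (Sylow 2 G) := inferInstance
  have hS : (S : Subgroup G) ≠ ⊥ := fun e =>
    S.not_dvd_index (by rw [e, Subgroup.index_bot]; exact even_iff_two_dvd.1 hev)
  rcases h.sylow hG S hS with ⟨n, hn, e⟩ | hq
  · have : Group.IsPerfect G := ⟨Lib.Known.Oval.commutator_eq_top hG⟩
    have e0 : G ≃* G ⧸ Cfsg.oddCore G :=
      (QuotientGroup.quotientBot.symm).trans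
        (QuotientGroup.quotientMulEquivOfEq (Lib.Bender.oddCore_eq_bot_of_simple hev).symm)
    rcases Cfsg.Agent.S0483.result S n hn e with ⟨F, _, _, h3, -, ⟨e1⟩⟩ | ⟨⟨e1⟩⟩
    · exact ⟨F, inferInstance, inferInstance, h3, ⟨e0.trans e1⟩⟩
    · exact absurd (Lib.Known.OvalCfg.e2_A7.of_equiv (e0.trans e1)) n2
  · rcases Cfsg.Agent.S0507.result S hq with ⟨F, _, _, h3, ⟨e1⟩⟩ | ⟨F, _, _, q, h3, h4, ⟨e1⟩⟩ | h3
    · exact absurd ((Lib.Known.OvalCfg.e1_PSL3 F (Nat.odd_iff.2 (by omega))).of_equiv e1) n1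
    · exact absurd ((Lib.Known.OvalCfg.e2_PSU3 F q h3 h4).of_equiv e1) n2
    · exact absurd (Lib.Known.OvalCfg.e1_M11 h3) n1

end Cfsg.Agent.S5756
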