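import Cfsg.Statements.S5788
import Cfsg.Agent.Class.Sp4O.Glue
import Cfsg.Agent.Class.Sp4O.T4
import Cfsg.Agent.Class.Sp4O.R9
-- import your own Cfsg.Agent.* helpers here

set_option autoImplicit false
open Cfsg

namespace Cfsg.Agent.S5788

open Cfsg.Lib.Class Cfsg.Lib.Class.Sp4O

/-- The maximal subgroups of Sp_4(q), q odd, in the residual class. Let F be a finite field of odd order q and characteristic p, and H a maximal subgroup of Sp_4(F) (isometries of the standard alternating form on F^4) lying in the residual class of the symplectic case. Then the perfect socle preimage P of H satisfies one of: P modulo scalars is isomorphic to A_6 and q = p with p ≥ 5 and p ≠ 7; or P modulo scalars is isomorphic to A_7 and q = 7; or P modulo scalars is isomorphic to PSL_2(F) itself, with p ≥ 5 and q > 7. -/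
theorem result {F : Type*} [Field F] [Fintype F] (hodd : Odd (Fintype.card F)) (H : Subgroup (Matrix.GeneralLinearGroup (Fin 2 ⊕ Fin 2) F)) (hH : Cfsg.Geo.IsMaximalIn (Cfsg.spGL 2 F) H) (hS : Cfsg.Geo.InSymplecticResidualClass H) :
    ∃ (P : Subgroup (Matrix.GeneralLinearGroup (Fin 2 ⊕ Fin 2) F)) (p : ℕ), Cfsg.Geo.IsResidualCore H P ∧ p.Prime ∧ CharP F p ∧
    ((Nonempty ((P ⧸ (Cfsg.Geo.scalars (Fin 2 ⊕ Fin 2) F).subgroupOf P) ≃* alternatingGroup (Fin 6)) ∧ Fintype.card F = p ∧ 5 ≤ p ∧ p ≠ 7) ∨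
     (Nonempty ((P ⧸ (Cfsg.Geo.scalars (Fin 2 ⊕ Fin 2) F).subgroupOf P) ≃* alternatingGroup (Fin 7)) ∧ Fintype.card F = 7) ∨
     (Nonempty ((P ⧸ (Cfsg.Geo.scalars (Fin 2 ⊕ Fin 2) F).subgroupOf P) ≃* Matrix.ProjectiveSpecialLinearGroup (Fin 2) F) ∧ 5 ≤ p ∧ 7 < Fintype.card F)) := by
  obtain ⟨P, hP, -⟩ := hS
  have h2 : (2 : F) ≠ 0 := fun h => by
    rw [← Nat.not_even_iff_odd, Nat.even_iff, ← FiniteField.even_card_iff_char_two] at hodd
    exact hodd (CharP.ringChar_of_prime_eq_zero Nat.prime_two (by exact_mod_cast h))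
  have h := St.of_core hH.1.le hP
  have C : Ctx P := ⟨h.le, fun t ht v w e => not_not.1 fun n =>
    hH.1.not_ge ((t1 h2 h ht n e).trans hP.le)⟩
  obtain ⟨p, hp⟩ := t4 h2 hH hP h (C.noQuad h2 h.toQS) fun t ht e => by
    by_contra n
    have hW := mem_W_of_invol h2 (h.le ht) e (fun e => n (.inl e)) fun e => n (.inr e)
    have hQ : Qw F ⟨_, hW⟩ = 1 := by
      have := mul_self_W h2 ⟨_, hW⟩
      rw [← Units.val_mul, e] at this
      simpa using (congrFun (congrFun this (.inl 0)) (.inl 0)).symm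
    obtain ⟨g, hg, -, hr⟩ := exists_root h2 _ hQ
    have := h.simple
    have := h.barEquiv.symm.isSimpleGroup
    refine no_root (Qw_nondeg h2) (finrank_W h2) h2 h.phi.range
      (fun c => h.nonabelian ⟨⟨fun x y => h.barEquiv.injective (by rw [map_mul, map_mul, c.1.1])⟩⟩)
      (fun U hU => h.irrW h2 U fun g hg => hU _ ⟨⟨g.1, hg⟩, rfl⟩) (h.isSquare h2) (h.long h2 C)
      (h.short h2 (C.noQuad h2 h.toQS)) (by rw [hQ]; exact one_ne_zero) ⟨⟨t, ht⟩, rfl⟩ ?_
    rwa [show g = ⟨t, h.le ht⟩ from Subtype.ext (Units.ext hg)] at hr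
  exact ⟨P, p, hP, hp⟩

end Cfsg.Agent.S5788
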