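import Cfsg.Statements.S5791
import Cfsg.Agent.Class.Sp4E.Main
import Cfsg.Agent.Mit.Defs
import Cfsg.Agent.Class.Asch.Subfield

set_option autoImplicit false
open Cfsg

namespace Cfsg.Agent.S5791

open Cfsg.Lib Cfsg.Lib.Class Cfsg.Lib.Class.Sp4E Matrix

/-- The maximal subgroups of Sp_4(q), q ≥ 4 even, in the residual class. Let F be a finite field of even order q ≥ 4 and H a maximal subgroup of Sp_4(F) (isometries of the standard alternating form on F^4) lying in the residual class of the symplectic case. Then q = 2^(2m+1) with m ≥ 1 and the perfect socle preimage P of H is, modulo scalars, isomorphic to the Suzuki group over F (the subgroup Sz(F, θ) of the four-dimensional symplectic group with θ(x) = x^(2^(m+1))). -/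
theorem result {F : Type*} [Field F] [Fintype F] (heven : ¬ Odd (Fintype.card F)) (h4 : 4 ≤ Fintype.card F) (H : Subgroup (Matrix.GeneralLinearGroup (Fin 2 ⊕ Fin 2) F)) (hH : Cfsg.Geo.IsMaximalIn (Cfsg.spGL 2 F) H) (hS : Cfsg.Geo.InSymplecticResidualClass H) :
    ∃ (P : Subgroup (Matrix.GeneralLinearGroup (Fin 2 ⊕ Fin 2) F)) (m : ℕ), Cfsg.Geo.IsResidualCore H P ∧ 1 ≤ m ∧ Fintype.card F = 2 ^ (2 * m + 1) ∧
    Nonempty ((P ⧸ (Cfsg.Geo.scalars (Fin 2 ⊕ Fin 2) F).subgroupOf P) ≃* Cfsg.Lie.Sz F (2 ^ (m + 1))) := by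
  obtain ⟨P, hP, hQ, -⟩ := hS
  haveI : CharP F 2 := by
    obtain ⟨p, i, n, hp, hn⟩ := FiniteField.card' F
    exact (hp.eq_two_or_odd'.resolve_right fun h => heven (hn ▸ h.pow)) ▸ i
  let e : (Fin 2 ⊕ Fin 2 → F) ≃ₗ[F] (Fin 4 → F) := LinearEquiv.funCongrLeft F F
    ⟨![.inl 0, .inl 1, .inr 1, .inr 0], Sum.elim ![0, 1] ![3, 2], by decide, by decide⟩
  have hB : ∀ u v, B4 F (e u) (e v) = sympBilin 2 F u v := fun u v => by
    simp [e, B4_apply, sympForm_eq, LinearMap.funLeft_apply]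
    grind
  let ψ : GL (Fin 2 ⊕ Fin 2) F ≃* ((Fin 4 → F) ≃ₗ[F] (Fin 4 → F)) :=
    GeneralLinearGroup.toLin.trans ((LinearMap.GeneralLinearGroup.congrLinearEquiv e).trans
      (LinearMap.GeneralLinearGroup.generalLinearEquiv F _))
  have hψ : ∀ g v, ψ g (e v) = e (g.1 *ᵥ v) := fun g v => congrArg (e <| g.1 *ᵥ ·) (e.symm_apply_apply v)
  have hsp : ∀ g, ψ g ∈ SpB (B4 F) ↔ g ∈ spGL 2 F := fun g => by
    rw [← glLin_mem_SpB_iff, mem_SpB, mem_SpB, e.surjective.forall₂]
    simp only [hψ, hB, glLin_apply]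
  have hle := hP.le.trans hH.1.le
  have hbot : (Geo.scalars (Fin 2 ⊕ Fin 2) F).subgroupOf P = ⊥ := eq_bot_iff.2 fun g hg => by
    obtain ⟨c, hc⟩ := (Geo.mem_scalars_iff _).1 hg
    have := hle g.2 (Pi.single (.inr 0) 1) (Pi.single (.inl 0) 1)
    change sympForm 2 F (g.1.1 *ᵥ _) (g.1.1 *ᵥ _) = _ at this
    rw [show g.1.1 = _ from hc] at this
    have h1 : (c : F) = 1 := eq_of_sq_eq (by simpa [sympForm_eq, smul_mulVec, sq] using this)
    exact Subtype.ext (Units.ext (by simpa [h1] using hc))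
  let θ : (P ⧸ (Geo.scalars (Fin 2 ⊕ Fin 2) F).subgroupOf P) ≃* P.map ψ.toMonoidHom :=
    ((QuotientGroup.quotientMulEquivOfEq hbot).trans QuotientGroup.quotientBot).trans
      (Subgroup.equivMapOfInjective _ _ ψ.injective)
  haveI := hP.simple
  haveI := θ.symm.isSimpleGroup
  obtain ⟨m, hm, hF, ⟨e'⟩⟩ := main (L := P.map ψ.toMonoidHom)
    (fun c => hP.nonabelian ⟨⟨fun x y => θ.injective (by rw [map_mul, map_mul, c.1.1])⟩⟩)
    ⟨B4_nd, B4_alt, by rintro _ ⟨g, hg, rfl⟩; exact (hsp g).2 (hle hg), fun W hW => by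
      refine (hP.absIrred.1 (W.comap e.toLinearMap) ?_).imp (fun h => ?_) fun h => ?_
      · rintro _ ⟨g, hg, rfl⟩ _ ⟨v, hv, rfl⟩
        exact show e (g.1 *ᵥ v) ∈ W from hψ g v ▸ hW _ ⟨g, hg, rfl⟩ _ hv
      · rw [← W.map_comap_eq_of_surjective e.surjective, h, Submodule.map_bot]
      · rw [← W.map_comap_eq_of_surjective e.surjective, h, Submodule.map_top, e.range]⟩ h4
    (fun f hf => by
      obtain ⟨c, hc⟩ := hP.absIrred.2 (LinearMap.toMatrix' (e.symm.conj f)) (by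
        rintro _ ⟨g, hg, rfl⟩
        refine Matrix.ext_of_mulVec_single fun i => ?_
        simp only [← mulVec_mulVec, LinearMap.toMatrix'_mulVec, LinearEquiv.conj_apply_apply,
          LinearEquiv.symm_symm, ← hψ, LinearEquiv.symm_apply_eq, LinearEquiv.apply_symm_apply]
        exact hf _ ⟨g, hg, rfl⟩ _)
      refine ⟨c, e.surjective.forall.2 fun v => ?_⟩
      simpa [LinearEquiv.symm_apply_eq, smul_mulVec] using congrArg (· *ᵥ v) hc)
    (fun F₀ h => by
      by_contra h0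
      obtain ⟨T, hT, -⟩ := Asch.exists_ratl_of_trace_group (F₀ := F₀)
        (Mit.env_eq_top_of_absIrr hP.absIrred) fun g hg => by
          rw [← trace_toLin'_eq, ← LinearMap.trace_conj' _ e]
          exact h _ ⟨g, hg, rfl⟩
      exact hP.no_subfield F₀ h0 (Asch.realisableOver_iff.2 ⟨T, by
        rintro _ ⟨g, hg, rfl⟩; exact hT g hg⟩))
    (fun Q hp hL => by
      have h1 : QuadraticMap.polar (fun v => Q (e v)) = fun u v => sympBilin 2 F u v := by
        ext u v
        rw [← hB, ← hp, QuadraticMap.polar, QuadraticMap.polar, map_add]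
      refine hQ ⟨fun v => Q (e v), ⟨fun c v => by simp [sq, QuadraticMap.map_smul], h1 ▸ ⟨by simp [-sympBilin_apply],
        by simp [-sympBilin_apply], by simp [-sympBilin_apply], by simp [-sympBilin_apply]⟩,
        h1 ▸ fun v hv => ⟨?_, ?_⟩⟩, ?_⟩
      · by_contra! h
        exact hv ((sympBilin_nondegenerate 2).2 v h)
      · by_contra! h
        exact hv ((sympBilin_nondegenerate 2).1 v h)
      · rintro _ ⟨g, hg, rfl⟩ v
        exact show Q (e (g.1 *ᵥ v)) = Q (e v) from hψ g v ▸ Orth.mem_O.1 (hL ⟨g, hg, rfl⟩) _)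
    fun h => hH.1.not_ge fun g hg => hP.le
      ((Subgroup.mem_map_iff_mem (f := ψ.toMonoidHom) ψ.injective).1 (h ((hsp g).2 hg)))
  exact ⟨P, m, hP, hm, hF, ⟨θ.trans e'⟩⟩

end Cfsg.Agent.S5791
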