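import Cfsg.Statements.S5846
import Cfsg.Agent.Class.OTen
import Cfsg.Agent.Class.OFrameMax
import Cfsg.Agent.Class.OField
import Cfsg.Agent.Class.OUnit
import Cfsg.Agent.Class.OMaxSubfield

set_option autoImplicit false
open Cfsg

namespace Cfsg.Agent.S5846

open Cfsg.Lib Cfsg.Lib.Class Cfsg.Lib.Class.OMax

/-- Maximal subgroups of Ω_10^+(q) of geometric type (any q). Let F be a finite field with q elements (characteristic p), Q a non-degenerate quadratic form on F^10 (non-degenerate polar form) of plus type (Witt index 5: some totally singular 5-space), and Ω = Ω_10^+(q) the commutator subgroup of the isometry group of Q, inside GL_10(F). Each of the following, intersected with Ω, is a maximal subgroup of Ω: (1) the stabiliser of any non-zero subspace on which Q vanishes identically other than those of dimension 4 (totally singular subspaces, dimensions 1, 2, 3 and 5); (2) for q odd, the stabiliser of any proper subspace of odd dimension other than 5 on which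 the polar form of Q is non-degenerate; (3) the stabiliser of any non-degenerate 2-space of minus type (containing no non-zero singular vector); (4) for q ≥ 4, the stabiliser of any non-degenerate 2-space of plus type (containing a non-zero singular vector); (5) the stabiliser of any non-degenerate 4-space (either type); (6) for q even, the stabiliser of the 1-space spanned by any non-singular vector v (Q(v) ≠ 0); (7) for q = p prime with p ≡ 1 mod 4, the stabiliser of any decomposition of F^10 into 10 pairwise orthogonal, pairwise Q-isometric non-degenerate 1-spaces; (8) for q ≥ 7, the stabiliser of any decomposition of F^10 into 5 pairwise orthogonal, pairwise Q-isometric non-degenerate 2-spaces; (9) for q ≡ 1 mod 4, the stabiliser of any decomposition of F^10 into 2 pairwise orthogonal, pairwise Q-isometric non-degenerate 5-spaces; (10) for q ≡ 3 mod 4, the stabiliser of any decomposition of F^10 into two orthogonal non-degenerate 5-spaces that are not Q-isometric;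 (11) for q odd, the normaliser of any degree-2 subfield K of the matrix algebra whose elements are self-adjoint for the polar form of Q (Q is then the trace of a quadratic form over K); (12) every subfield group for a subfield F₀ with |F| = |F₀|^r, r prime, whose F₀-structure carries a non-zero scalar multiple of Q. -/
theorem result {F : Type*} [Field F] [Fintype F] (Q : (Fin 10 → F) → F) (hQ : Cfsg.Geo.IsNondegenerateQuadraticForm Q) (hplus : Cfsg.Geo.IsPlusTypeOn Q ⊤) :
    (∀ W : Submodule F (Fin 10 → F), W ≠ ⊥ → Cfsg.Geo.IsTotallySingularQuad Q W → Module.finrank F W ≠ 4 → Cfsg.Geo.IsMaximalIn (Cfsg.Geo.omegaGL Q) (Cfsg.Geo.subspaceStabilizer W ⊓ Cfsg.Geo.omegaGL Q)) ∧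
    (Odd (Fintype.card F) → ∀ W : Submodule F (Fin 10 → F), W ≠ ⊥ → W ≠ ⊤ → Odd (Module.finrank F W) → 2 * Module.finrank F W ≠ 10 → Cfsg.Geo.IsNondegenerateOn (QuadraticMap.polar Q) W → Cfsg.Geo.IsMaximalIn (Cfsg.Geo.omegaGL Q) (Cfsg.Geo.subspaceStabilizer W ⊓ Cfsg.Geo.omegaGL Q)) ∧
    (∀ W : Submodule F (Fin 10 → F), Module.finrank F W = 2 → Cfsg.Geo.IsNondegenerateOn (QuadraticMap.polar Q) W → ¬ Cfsg.Geo.IsPlusTypeOn Q W → Cfsg.Geo.IsMaximalIn (Cfsg.Geo.omegaGL Q) (Cfsg.Geo.subspaceStabilizer W ⊓ Cfsg.Geo.omegaGL Q)) ∧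
    (4 ≤ Fintype.card F → ∀ W : Submodule F (Fin 10 → F), Module.finrank F W = 2 → Cfsg.Geo.IsNondegenerateOn (QuadraticMap.polar Q) W → Cfsg.Geo.IsPlusTypeOn Q W → Cfsg.Geo.IsMaximalIn (Cfsg.Geo.omegaGL Q) (Cfsg.Geo.subspaceStabilizer W ⊓ Cfsg.Geo.omegaGL Q)) ∧
    (∀ W : Submodule F (Fin 10 → F), Module.finrank F W = 4 → Cfsg.Geo.IsNondegenerateOn (QuadraticMap.polar Q) W → Cfsg.Geo.IsMaximalIn (Cfsg.Geo.omegaGL Q) (Cfsg.Geo.subspaceStabilizer W ⊓ Cfsg.Geo.omegaGL Q)) ∧
    (¬ Odd (Fintype.card F) → ∀ v : (Fin 10 → F), Q v ≠ 0 → Cfsg.Geo.IsMaximalIn (Cfsg.Geo.omegaGL Q) (Cfsg.Geo.subspaceStabilizer (Submodule.span F {v}) ⊓ Cfsg.Geo.omegaGL Q)) ∧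
    ((∃ p : ℕ, p.Prime ∧ Fintype.card F = p ∧ (p % 4 = 1)) → ∀ D : Fin 10 → Submodule F (Fin 10 → F), Cfsg.Geo.IsOrthogonalMDecomposition Q 1 D → Cfsg.Geo.IsMaximalIn (Cfsg.Geo.omegaGL Q) (Cfsg.Geo.decompositionStabilizer D ⊓ Cfsg.Geo.omegaGL Q)) ∧
    (7 ≤ Fintype.card F → ∀ D : Fin 5 → Submodule F (Fin 10 → F), Cfsg.Geo.IsOrthogonalMDecomposition Q 2 D → Cfsg.Geo.IsMaximalIn (Cfsg.Geo.omegaGL Q) (Cfsg.Geo.decompositionStabilizer D ⊓ Cfsg.Geo.omegaGL Q)) ∧
    (Fintype.card F % 4 = 1 → ∀ D : Fin 2 → Submodule F (Fin 10 → F), Cfsg.Geo.IsOrthogonalMDecomposition Q 5 D → Cfsg.Geo.IsMaximalIn (Cfsg.Geo.omegaGL Q) (Cfsg.Geo.decompositionStabilizer D ⊓ Cfsg.Geo.omegaGL Q)) ∧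
    (Fintype.card F % 4 = 3 → ∀ D : Fin 2 → Submodule F (Fin 10 → F), Cfsg.Geo.IsNondegenerateMDecomposition (QuadraticMap.polar Q) 5 D → ¬ Cfsg.Geo.AreIsometricFor Q (D 0) (D 1) → Cfsg.Geo.IsMaximalIn (Cfsg.Geo.omegaGL Q) (Cfsg.Geo.decompositionStabilizer D ⊓ Cfsg.Geo.omegaGL Q)) ∧
    (Odd (Fintype.card F) → ∀ K : Subalgebra F (Matrix (Fin 10) (Fin 10) F), Cfsg.Geo.IsFieldSubalgebra 2 K → Cfsg.Geo.IsSelfAdjointFor (QuadraticMap.polar Q) K → Cfsg.Geo.IsMaximalIn (Cfsg.Geo.omegaGL Q) (Cfsg.Geo.subalgebraNormalizer K ⊓ Cfsg.Geo.omegaGL Q)) ∧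
    (∀ (F₀ : Subfield F) (r : ℕ) (P : Matrix.GeneralLinearGroup (Fin 10) F) (ζ : F), r.Prime → Fintype.card F = Nat.card F₀ ^ r → ζ ≠ 0 → Cfsg.Geo.IsQuadFormRationalStructure (fun v : Fin 10 → F => ζ * Q v) F₀ P → Cfsg.Geo.IsMaximalIn (Cfsg.Geo.omegaGL Q) (Cfsg.Geo.subfieldSubgroup F₀ P ⊓ Cfsg.Geo.omegaGL Q)) := by
  have hq := geoQuad_nondegenerate hQ
  refine ⟨fun W h0 h1 h4 => isMaximalIn_singular (Q := geoQuad hQ) hq (by simp) h0 h1
      fun h => by simp at h; omega,
    fun _ W h0 h1 ⟨k, hk⟩ h5 hW => isMaximalIn_nondeg (Q := geoQuad hQ) hq h0 h1 hW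
      (by simp; omega) ?_ fun h => by simp at h; omega,
    fun W h2 hW hp => isMaximalIn_nondeg (Q := geoQuad hQ) hq (by rintro rfl; simp at h2)
      (by rintro rfl; simp at h2) hW (by simp; omega) ?_ fun h => by simp at h; omega,
    fun h4 W h2 hW hp => isMaximalIn_nondeg (Q := geoQuad hQ) hq (by rintro rfl; simp at h2)
      (by rintro rfl; simp at h2) hW (by simp; omega) (fun h => by omega)
      fun h => by simp at h; omega,
    fun W h4 hW => isMaximalIn_nondeg (Q := geoQuad hQ) hq (by rintro rfl; simp at h4)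
      (by rintro rfl; simp at h4) hW (by simp; omega) ?_ fun h => by simp at h; omega,
    fun h v hv => isMaximalIn_nonsingular (Q := geoQuad hQ) hq (by simp) h hv,
    fun ⟨p, hp, h1, h2⟩ D hD => (maxOm_frame (Q := geoQuad hQ) (h1 ▸ hp)
      (two_ne_zero_of_odd_card (Nat.odd_iff.2 (by omega))) (Or.inr (by simp)) hD).isMaximalIn
        (mem_decompositionStabilizer_iff_glLin D),
    fun h D hD => (maxOm_dec_two (odec_of_geo (Q := geoQuad hQ) hD) hq (by simp) (by omega)
      fun _ _ _ _ _ => h).isMaximalIn (mem_decompositionStabilizer_iff_glLin D),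
    fun h D hD => (maxOm_dec (odec_of_geo (Q := geoQuad hQ) hD) hq (by simp) (by simp)
      (by simp) (by simp)).isMaximalIn (mem_decompositionStabilizer_iff_glLin D),
    fun _ D hD hni => isMaximalIn_two_not_isometric (Q := geoQuad hQ) hq (by simp) le_rfl hD hni,
    fun h K hK hs => isMaximalIn_selfAdjoint (Q := geoQuad hQ) hq (two_ne_zero_of_odd_card h)
      Nat.prime_two (by simp) (Or.inl (by simp)) hK hs,
    fun k r P ζ hr hc hζ hP => isMaximalIn_subfield_smul hQ (by simp) hr hc hζ hP⟩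
  · rintro ⟨-, U, h2, -, -, rfl | ⟨-, h3⟩⟩
    · omega
    · simp at h3; omega
  · rintro ⟨-, U, h3, -, h4, rfl | ⟨-, h5⟩⟩
    · exact hp h4
    · simp at h5; omega
  · rintro ⟨-, U, h2, -, -, rfl | ⟨-, h3⟩⟩
    · omega
    · simp at h3; omega

end Cfsg.Agent.S5846
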