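import Cfsg.Statements.S5850
import Cfsg.Agent.Class.AO.Cases

set_option autoImplicit false
open Cfsg

namespace Cfsg.Agent.S5850

open Cfsg.Lib Cfsg.Lib.Class Cfsg.Lib.Class.AO

/-- Every maximal subgroup of Ω_10^-(q) is of one of the listed geometric types or lies in the residual class. Let F be a finite field with q elements (characteristic p), Q a non-degenerate quadratic form on F^10 of minus type (Witt index 4: no totally singular 5-space), Ω the commutator subgroup of its isometry group, and H a maximal subgroup of Ω (inside GL_10(F)). Then H is the intersection with Ω of one of: the stabiliser of a non-zero totally singular subspace; for q odd, the stabiliser of a non-degenerate subspace of odd dimension ≠ 5; the stabiliser of a non-degenerate 2-space of minus type; for q ≥ 4, the stabiliser of a non-degenerate 2-space of plus type; the stabiliser of a non-degenerate 4-space; for q even, the stabiliser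 of the span of a non-singular vector; for q = p prime with p ≡ 3 mod 4, the stabiliser of a decomposition into 10 pairwise orthogonal, pairwise isometric non-degenerate 1-spaces; for q ≠ 3, the stabiliser of a decomposition into 5 pairwise orthogonal, pairwise isometric non-degenerate 2-spaces; for q ≡ 3 mod 4, the stabiliser of a decomposition into 2 pairwise orthogonal, pairwise isometric non-degenerate 5-spaces; for q ≡ 1 mod 4, the stabiliser of a decomposition into two orthogonal, non-isometric non-degenerate 5-spaces; for q odd, the normaliser of a degree-2 subfield of the matrix algebra, self-adjoint for the polar form; the normaliser of a degree-2 subfield K, adjoint-closed but not self-adjoint, acting by similarities of Q; a subfield group (|F| = |F₀|^r, r odd prime) whose F₀-structure carries a non-zero multiple of Q — or else H lies in the residual class of the orthogonal case (modulo scalars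 H is almost simple, with absolutely irreducible perfect socle preimage realisable over no proper subfield and fixing no non-degenerate unitary form). -/
theorem result {F : Type*} [Field F] [Fintype F] (Q : (Fin 10 → F) → F) (hQ : Cfsg.Geo.IsNondegenerateQuadraticForm Q) (hminus : ¬ Cfsg.Geo.IsPlusTypeOn Q ⊤) (H : Subgroup (Matrix.GeneralLinearGroup (Fin 10) F)) (hH : Cfsg.Geo.IsMaximalIn (Cfsg.Geo.omegaGL Q) H) :
    (∃ W : Submodule F (Fin 10 → F), W ≠ ⊥ ∧ Cfsg.Geo.IsTotallySingularQuad Q W ∧ H = Cfsg.Geo.subspaceStabilizer W ⊓ Cfsg.Geo.omegaGL Q) ∨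
    (Odd (Fintype.card F) ∧ ∃ W : Submodule F (Fin 10 → F), W ≠ ⊥ ∧ W ≠ ⊤ ∧ Odd (Module.finrank F W) ∧ 2 * Module.finrank F W ≠ 10 ∧ Cfsg.Geo.IsNondegenerateOn (QuadraticMap.polar Q) W ∧ H = Cfsg.Geo.subspaceStabilizer W ⊓ Cfsg.Geo.omegaGL Q) ∨
    (∃ W : Submodule F (Fin 10 → F), Module.finrank F W = 2 ∧ Cfsg.Geo.IsNondegenerateOn (QuadraticMap.polar Q) W ∧ ¬ Cfsg.Geo.IsPlusTypeOn Q W ∧ H = Cfsg.Geo.subspaceStabilizer W ⊓ Cfsg.Geo.omegaGL Q) ∨
    (4 ≤ Fintype.card F ∧ ∃ W : Submodule F (Fin 10 → F), Module.finrank F W = 2 ∧ Cfsg.Geo.IsNondegenerateOn (QuadraticMap.polar Q) W ∧ Cfsg.Geo.IsPlusTypeOn Q W ∧ H = Cfsg.Geo.subspaceStabilizer W ⊓ Cfsg.Geo.omegaGL Q) ∨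
    (∃ W : Submodule F (Fin 10 → F), Module.finrank F W = 4 ∧ Cfsg.Geo.IsNondegenerateOn (QuadraticMap.polar Q) W ∧ H = Cfsg.Geo.subspaceStabilizer W ⊓ Cfsg.Geo.omegaGL Q) ∨
    (¬ Odd (Fintype.card F) ∧ ∃ v : (Fin 10 → F), Q v ≠ 0 ∧ H = Cfsg.Geo.subspaceStabilizer (Submodule.span F {v}) ⊓ Cfsg.Geo.omegaGL Q) ∨
    ((∃ p : ℕ, p.Prime ∧ Fintype.card F = p ∧ (p % 4 = 3)) ∧ ∃ D : Fin 10 → Submodule F (Fin 10 → F), Cfsg.Geo.IsOrthogonalMDecomposition Q 1 D ∧ H = Cfsg.Geo.decompositionStabilizer D ⊓ Cfsg.Geo.omegaGL Q) ∨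
    (Fintype.card F ≠ 3 ∧ ∃ D : Fin 5 → Submodule F (Fin 10 → F), Cfsg.Geo.IsOrthogonalMDecomposition Q 2 D ∧ H = Cfsg.Geo.decompositionStabilizer D ⊓ Cfsg.Geo.omegaGL Q) ∨
    (Fintype.card F % 4 = 3 ∧ ∃ D : Fin 2 → Submodule F (Fin 10 → F), Cfsg.Geo.IsOrthogonalMDecomposition Q 5 D ∧ H = Cfsg.Geo.decompositionStabilizer D ⊓ Cfsg.Geo.omegaGL Q) ∨
    (Fintype.card F % 4 = 1 ∧ ∃ D : Fin 2 → Submodule F (Fin 10 → F), Cfsg.Geo.IsNondegenerateMDecomposition (QuadraticMap.polar Q) 5 D ∧ ¬ Cfsg.Geo.AreIsometricFor Q (D 0) (D 1) ∧ H = Cfsg.Geo.decompositionStabilizer D ⊓ Cfsg.Geo.omegaGL Q) ∨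
    (Odd (Fintype.card F) ∧ ∃ K : Subalgebra F (Matrix (Fin 10) (Fin 10) F), Cfsg.Geo.IsFieldSubalgebra 2 K ∧ Cfsg.Geo.IsSelfAdjointFor (QuadraticMap.polar Q) K ∧ H = Cfsg.Geo.subalgebraNormalizer K ⊓ Cfsg.Geo.omegaGL Q) ∨
    (∃ K : Subalgebra F (Matrix (Fin 10) (Fin 10) F), Cfsg.Geo.IsFieldSubalgebra 2 K ∧ Cfsg.Geo.IsAdjointClosedFor (QuadraticMap.polar Q) K ∧ ¬ Cfsg.Geo.IsSelfAdjointFor (QuadraticMap.polar Q) K ∧ (∀ k ∈ K, ∃ c : F, ∀ v : (Fin 10 → F), Q (Matrix.mulVec k v) = c * Q v) ∧ H = Cfsg.Geo.subalgebraNormalizer K ⊓ Cfsg.Geo.omegaGL Q) ∨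
    (∃ (F₀ : Subfield F) (r : ℕ) (P : Matrix.GeneralLinearGroup (Fin 10) F) (ζ : F), r.Prime ∧ Odd r ∧ Fintype.card F = Nat.card F₀ ^ r ∧ ζ ≠ 0 ∧ Cfsg.Geo.IsQuadFormRationalStructure (fun v : Fin 10 → F => ζ * Q v) F₀ P ∧ H = Cfsg.Geo.subfieldSubgroup F₀ P ⊓ Cfsg.Geo.omegaGL Q) ∨
    Cfsg.Geo.InOrthogonalResidualClass H := by
  have hn := Fintype.card_fin 10
  have h5 : ∀ q : ℕ, Odd q → (q ^ 5 % 4 = 1 ↔ q % 4 = 1) ∧ (q ^ 5 % 4 = 3 ↔ q % 4 = 3) ∧
      (q % 4 = 1 ∨ q % 4 = 3) := fun q hq => by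
    rw [Nat.odd_iff] at hq
    obtain h | h : q % 4 = 1 ∨ q % 4 = 3 := by omega
    all_goals simp [Nat.pow_mod, h]
  rcases maxCase hQ (by omega) hH with ⟨W, h0, h1, -, h⟩ | ⟨W, W', hW, -, h0, h1, h2, h3⟩ | h |
    ⟨t, k, D, h0, h1, h2, hD, h3, h⟩ | ⟨k, D, -, -, h0, -⟩ | ⟨r, K, h0, h1, -, h2, h3, hK, hs, h⟩ |
    ⟨K, -, -, h⟩ | ⟨d, k, e, P, f₁, f₂, h0, -, h1, h2, -⟩ |
    ⟨d, k, e, P, f₁, f₂, h0, h1, h2, -⟩ |
    ⟨k, r, P, ζ, hr, h0, h1, h2, h3, h⟩ | ⟨k, -, h0⟩ | ⟨k, t, e, P, f, h0, -, h1, h3, -⟩ |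
    ⟨k, t, e, P, f, h0, h1, h2, -⟩ | h
  · exact .inl ⟨W, h0, h1, h⟩
  · obtain ⟨a, b, c, d, e, f⟩ := hW
    obtain h | h | h | h : (Odd (Module.finrank F W) ∧ 2 * Module.finrank F W ≠ 10) ∨
        Module.finrank F W = 2 ∨ Module.finrank F W = 4 ∨ Module.finrank F W = 5 := by
      rw [Nat.odd_iff]; omega
    · exact .inr (.inl ⟨d h.1, W, a, b, h.1, h.2, c, f⟩)
    · by_cases hp : Geo.IsPlusTypeOn Q W
      · exact .inr (.inr (.inr (.inl ⟨e h hp, W, h, c, hp, f⟩)))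
      · exact .inr (.inr (.inl ⟨W, h, c, hp, f⟩))
    · exact .inr (.inr (.inr (.inr (.inl ⟨W, h, c, f⟩))))
    obtain ⟨D, hD, h4⟩ := h3 (by omega)
    rw [h] at hD
    iterate 8 right
    by_cases hi : Geo.AreIsometricFor Q (D 0) (D 1)
    · have h6 := isOrthogonal_of_isometric hD hi
      obtain ⟨h7, h8⟩ := dec_odd hQ h6 (by decide) (m := 5) hn
      exact .inl ⟨by have := h5 _ h7; tauto, D, h6, h4⟩
    · obtain ⟨h7, h8⟩ := pair_odd hQ hD (by decide) hi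
      exact .inr (.inl ⟨by have := h5 _ h7; tauto, D, hD, hi, h4⟩)
  · iterate 5 right
    exact .inl h
  · iterate 6 right
    obtain ⟨rfl, rfl⟩ | ⟨rfl, rfl⟩ | ⟨rfl, rfl⟩ :
        (t = 10 ∧ k = 1) ∨ (t = 5 ∧ k = 2) ∨ (t = 2 ∧ k = 5) := by
      have : t ≤ 10 := Nat.le_of_dvd (by omega) (Dvd.intro _ (h1.symm.trans hn))
      interval_cases t <;> omega
    · obtain ⟨h7, h8⟩ := dec_odd hQ hD (by decide) (m := 5) hn
      exact .inl ⟨⟨_, h2 rfl, rfl, by have := h5 _ h7; tauto⟩, D, hD, h⟩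
    · exact .inr (.inl ⟨fun h4 => h3 (by omega) (.inl ⟨rfl, .inl h4⟩), D, hD, h⟩)
    · obtain ⟨h7, h8⟩ := dec_odd hQ hD (by decide) (m := 5) hn
      exact .inr (.inr (.inl ⟨by have := h5 _ h7; tauto, D, hD, h⟩))
  · exact absurd h0 hminus
  · iterate 10 right
    rcases (Nat.Prime.dvd_mul h0).1 (show r ∣ 2 * 5 by simpa using h1) with h1 | h1
    · obtain rfl := (Nat.prime_dvd_prime_iff_eq h0 Nat.prime_two).1 h1
      exact .inl ⟨h3 (by decide), K, hK, hs, h⟩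
    · obtain rfl := (Nat.prime_dvd_prime_iff_eq h0 Nat.prime_five).1 h1
      omega
  · iterate 11 right
    exact .inl ⟨K, h⟩
  · obtain rfl : d = 3 := by nlinarith
    omega
  · obtain ⟨a, rfl⟩ := h1
    obtain ⟨b, rfl⟩ := h2
    have : 10 = 4 * (a * b) := by rw [← hn, h0]; ring
    omega
  · iterate 12 right
    exact .inl ⟨k, r, P, ζ, hr, h1 (by decide) hminus, h0, h2, h3, h⟩
  · exact absurd h0 hminus
  · obtain ⟨rfl, rfl⟩ | ⟨rfl, rfl⟩ := pow_cases h0 h3 (by omega) (by omega) <;> omega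
  · obtain ⟨rfl, rfl⟩ | ⟨rfl, rfl⟩ := pow_cases h0 h2 (by omega) (by omega) <;> omega
  · iterate 13 right
    exact h

end Cfsg.Agent.S5850
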