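import Cfsg.Statements.S5871
import Cfsg.Agent.Class.AO.Cases

set_option autoImplicit false
open Cfsg

namespace Cfsg.Agent.S5871

open Cfsg.Lib Cfsg.Lib.Class Cfsg.Lib.Class.AO

/-- Every maximal subgroup of Ω_12^+(q) is of one of the listed geometric types or lies in the residual class. Let F be a finite field with q elements (characteristic p), Q a non-degenerate quadratic form on F^12 of plus type (Witt index 6: some totally singular 6-space), Ω the commutator subgroup of its isometry group, and H a maximal subgroup of Ω (inside GL_12(F)). Then H is the intersection with Ω of one of: the stabiliser of a non-zero totally singular subspace of dimension ≠ 5; for q odd, the stabiliser of a non-degenerate subspace of odd dimension; the stabiliser of a non-degenerate 2-space of minus type; for q ≥ 4, the stabiliser of a non-degenerate 2-space of plus type; the stabiliser of a non-degenerate 4-space; for q even, the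 stabiliser of the span of a non-singular vector; for q = p an odd prime, the stabiliser of a decomposition into 12 pairwise orthogonal, pairwise isometric non-degenerate 1-spaces; for q ≥ 7, the stabiliser of a decomposition into 6 pairwise orthogonal, pairwise isometric non-degenerate 2-spaces of plus type; for q ≠ 3, the stabiliser of a decomposition into 6 pairwise orthogonal, pairwise isometric non-degenerate 2-spaces of minus type; for q odd with q ≥ 5, the stabiliser of a decomposition into 4 pairwise orthogonal, pairwise isometric non-degenerate 3-spaces; for q ≥ 3, the stabiliser of a decomposition into 3 pairwise orthogonal, pairwise isometric non-degenerate 4-spaces; the stabiliser of a decomposition into 2 pairwise orthogonal, pairwise isometric non-degenerate 6-spaces; of a decomposition into two totally singular 6-spaces; the normaliser of a degree-2 subfield of the matrix algebra; the normaliser of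 a degree-3 subfield of the matrix algebra; the normaliser of a degree-2 subfield K, adjoint-closed but not self-adjoint, acting by similarities of Q; for q ≥ 3, the stabiliser of a tensor decomposition of Q into alternating forms on F^2 and F^6 (Q vanishing on pure tensors); a subfield group (|F| = |F₀|^r, r prime) whose F₀-structure carries a non-zero multiple of Q — or else H lies in the residual class of the orthogonal case (modulo scalars H is almost simple, with absolutely irreducible perfect socle preimage realisable over no proper subfield and fixing no non-degenerate unitary form). -/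
theorem result {F : Type*} [Field F] [Fintype F] (Q : (Fin 12 → F) → F) (hQ : Cfsg.Geo.IsNondegenerateQuadraticForm Q) (hplus : Cfsg.Geo.IsPlusTypeOn Q ⊤) (H : Subgroup (Matrix.GeneralLinearGroup (Fin 12) F)) (hH : Cfsg.Geo.IsMaximalIn (Cfsg.Geo.omegaGL Q) H) :
    (∃ W : Submodule F (Fin 12 → F), W ≠ ⊥ ∧ Cfsg.Geo.IsTotallySingularQuad Q W ∧ Module.finrank F W ≠ 5 ∧ H = Cfsg.Geo.subspaceStabilizer W ⊓ Cfsg.Geo.omegaGL Q) ∨
    (Odd (Fintype.card F) ∧ ∃ W : Submodule F (Fin 12 → F), W ≠ ⊥ ∧ W ≠ ⊤ ∧ Odd (Module.finrank F W) ∧ 2 * Module.finrank F W ≠ 12 ∧ Cfsg.Geo.IsNondegenerateOn (QuadraticMap.polar Q) W ∧ H = Cfsg.Geo.subspaceStabilizer W ⊓ Cfsg.Geo.omegaGL Q) ∨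
    (∃ W : Submodule F (Fin 12 → F), Module.finrank F W = 2 ∧ Cfsg.Geo.IsNondegenerateOn (QuadraticMap.polar Q) W ∧ ¬ Cfsg.Geo.IsPlusTypeOn Q W ∧ H = Cfsg.Geo.subspaceStabilizer W ⊓ Cfsg.Geo.omegaGL Q) ∨
    (4 ≤ Fintype.card F ∧ ∃ W : Submodule F (Fin 12 → F), Module.finrank F W = 2 ∧ Cfsg.Geo.IsNondegenerateOn (QuadraticMap.polar Q) W ∧ Cfsg.Geo.IsPlusTypeOn Q W ∧ H = Cfsg.Geo.subspaceStabilizer W ⊓ Cfsg.Geo.omegaGL Q) ∨
    (∃ W : Submodule F (Fin 12 → F), Module.finrank F W = 4 ∧ Cfsg.Geo.IsNondegenerateOn (QuadraticMap.polar Q) W ∧ H = Cfsg.Geo.subspaceStabilizer W ⊓ Cfsg.Geo.omegaGL Q) ∨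
    (¬ Odd (Fintype.card F) ∧ ∃ v : (Fin 12 → F), Q v ≠ 0 ∧ H = Cfsg.Geo.subspaceStabilizer (Submodule.span F {v}) ⊓ Cfsg.Geo.omegaGL Q) ∨
    ((∃ p : ℕ, p.Prime ∧ Odd p ∧ Fintype.card F = p) ∧ ∃ D : Fin 12 → Submodule F (Fin 12 → F), Cfsg.Geo.IsOrthogonalMDecomposition Q 1 D ∧ H = Cfsg.Geo.decompositionStabilizer D ⊓ Cfsg.Geo.omegaGL Q) ∨
    (7 ≤ Fintype.card F ∧ ∃ D : Fin 6 → Submodule F (Fin 12 → F), Cfsg.Geo.IsOrthogonalMDecomposition Q 2 D ∧ (∀ i, Cfsg.Geo.IsPlusTypeOn Q (D i)) ∧ H = Cfsg.Geo.decompositionStabilizer D ⊓ Cfsg.Geo.omegaGL Q) ∨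
    (Fintype.card F ≠ 3 ∧ ∃ D : Fin 6 → Submodule F (Fin 12 → F), Cfsg.Geo.IsOrthogonalMDecomposition Q 2 D ∧ (∀ i, ¬ Cfsg.Geo.IsPlusTypeOn Q (D i)) ∧ H = Cfsg.Geo.decompositionStabilizer D ⊓ Cfsg.Geo.omegaGL Q) ∨
    (Odd (Fintype.card F) ∧ 5 ≤ Fintype.card F ∧ ∃ D : Fin 4 → Submodule F (Fin 12 → F), Cfsg.Geo.IsOrthogonalMDecomposition Q 3 D ∧ H = Cfsg.Geo.decompositionStabilizer D ⊓ Cfsg.Geo.omegaGL Q) ∨
    (3 ≤ Fintype.card F ∧ ∃ D : Fin 3 → Submodule F (Fin 12 → F), Cfsg.Geo.IsOrthogonalMDecomposition Q 4 D ∧ H = Cfsg.Geo.decompositionStabilizer D ⊓ Cfsg.Geo.omegaGL Q) ∨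
    (∃ D : Fin 2 → Submodule F (Fin 12 → F), Cfsg.Geo.IsOrthogonalMDecomposition Q 6 D ∧ H = Cfsg.Geo.decompositionStabilizer D ⊓ Cfsg.Geo.omegaGL Q) ∨
    (∃ D : Fin 2 → Submodule F (Fin 12 → F), Cfsg.Geo.IsMDecomposition 6 D ∧ (∀ i, Cfsg.Geo.IsTotallySingularQuad Q (D i)) ∧ H = Cfsg.Geo.decompositionStabilizer D ⊓ Cfsg.Geo.omegaGL Q) ∨
    (∃ K : Subalgebra F (Matrix (Fin 12) (Fin 12) F), Cfsg.Geo.IsFieldSubalgebra 2 K ∧ H = Cfsg.Geo.subalgebraNormalizer K ⊓ Cfsg.Geo.omegaGL Q) ∨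
    (∃ K : Subalgebra F (Matrix (Fin 12) (Fin 12) F), Cfsg.Geo.IsFieldSubalgebra 3 K ∧ H = Cfsg.Geo.subalgebraNormalizer K ⊓ Cfsg.Geo.omegaGL Q) ∨
    (∃ K : Subalgebra F (Matrix (Fin 12) (Fin 12) F), Cfsg.Geo.IsFieldSubalgebra 2 K ∧ Cfsg.Geo.IsAdjointClosedFor (QuadraticMap.polar Q) K ∧ ¬ Cfsg.Geo.IsSelfAdjointFor (QuadraticMap.polar Q) K ∧ (∀ k ∈ K, ∃ c : F, ∀ v : (Fin 12 → F), Q (Matrix.mulVec k v) = c * Q v) ∧ H = Cfsg.Geo.subalgebraNormalizer K ⊓ Cfsg.Geo.omegaGL Q) ∨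
    (3 ≤ Fintype.card F ∧ ∃ (e : Fin 12 ≃ Fin 2 × Fin 6) (P : Matrix.GeneralLinearGroup (Fin 12) F) (f₁ : (Fin 2 → F) → (Fin 2 → F) → F) (f₂ : (Fin 6 → F) → (Fin 6 → F) → F), Cfsg.Geo.IsSymplecticForm f₁ ∧ Cfsg.Geo.IsSymplecticForm f₂ ∧ Cfsg.Geo.IsTensorFormStructure id (QuadraticMap.polar Q) f₁ f₂ e P ∧ (∀ (x₁ : Fin 2 → F) (x₂ : Fin 6 → F), Q (Matrix.mulVec (P : Matrix (Fin 12) (Fin 12) F) ((fun a : Fin 2 × Fin 6 => x₁ a.1 * x₂ a.2) ∘ e)) = 0) ∧ H = Cfsg.Geo.tensorProductSubgroup 2 6 e P ⊓ Cfsg.Geo.omegaGL Q) ∨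
    (∃ (F₀ : Subfield F) (r : ℕ) (P : Matrix.GeneralLinearGroup (Fin 12) F) (ζ : F), r.Prime ∧ Fintype.card F = Nat.card F₀ ^ r ∧ ζ ≠ 0 ∧ Cfsg.Geo.IsQuadFormRationalStructure (fun v : Fin 12 → F => ζ * Q v) F₀ P ∧ H = Cfsg.Geo.subfieldSubgroup F₀ P ⊓ Cfsg.Geo.omegaGL Q) ∨
    Cfsg.Geo.InOrthogonalResidualClass H := by
  have hn := Fintype.card_fin 12
  have hQ' := geoQuad_nondegenerate hQ
  have h7 := Fintype.one_lt_card (α := F)
  rcases maxCase hQ (by omega) hH with ⟨W, h0, h1, h2, h⟩ | ⟨W, W', hW, -, h0, h1, h2, h3⟩ | h |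
    ⟨t, k, D, h0, h1, h2, hD, h3, h⟩ | ⟨k, D, -, h0, -, h⟩ | ⟨r, K, h0, h1, -, -, -, hK, -, h⟩ |
    ⟨K, -, -, h⟩ | ⟨d, k, e, P, f₁, f₂, h0, hq, h1, h2, -, h3, h4, h5, h⟩ |
    ⟨d, k, e, P, f₁, f₂, h0, h4, -, h1, h2, h3, h5, h6, h8, h⟩ |
    ⟨k, r, P, ζ, hr, h0, -, h2, h3, h⟩ | ⟨k, h0, -⟩ | ⟨k, t, e, P, f, h0, -, h1, h3, -⟩ |
    ⟨k, t, e, P, f, h0, h1, h2, -⟩ | h
  · exact .inl ⟨W, h0, h1, by have := h2 hplus; omega, h⟩
  · obtain ⟨a, b, c, d, e, f⟩ := hW
    obtain h | h | h | h : Odd (Module.finrank F W) ∨ Module.finrank F W = 2 ∨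
        Module.finrank F W = 4 ∨ Module.finrank F W = 6 := by
      rw [Nat.odd_iff]; omega
    · exact .inr (.inl ⟨d h, W, a, b, h, by rw [Nat.odd_iff] at h; omega, c, f⟩)
    · by_cases hp : Geo.IsPlusTypeOn Q W
      · exact .inr (.inr (.inr (.inl ⟨e h hp, W, h, c, hp, f⟩)))
      · exact .inr (.inr (.inl ⟨W, h, c, hp, f⟩))
    · exact .inr (.inr (.inr (.inr (.inl ⟨W, h, c, f⟩))))
    obtain ⟨D, hD, h4⟩ := h3 (by omega)
    rw [h] at hD
    iterate 11 right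
    exact .inl ⟨D, isOrthogonal_of_isometric hD (isometric_of_plus hQ hD (by decide) hplus), h4⟩
  · iterate 5 right
    exact .inl h
  · iterate 6 right
    obtain ⟨rfl, rfl⟩ | ⟨rfl, rfl⟩ | ⟨rfl, rfl⟩ | ⟨rfl, rfl⟩ | ⟨rfl, rfl⟩ :
        (t = 12 ∧ k = 1) ∨ (t = 6 ∧ k = 2) ∨ (t = 4 ∧ k = 3) ∨ (t = 3 ∧ k = 4) ∨
          (t = 2 ∧ k = 6) := by
      have : t ≤ 12 := Nat.le_of_dvd (by omega) (Dvd.intro _ (h1.symm.trans hn))
      interval_cases t <;> omega
    · exact .inl ⟨⟨_, h2 rfl, (dec_odd hQ hD (by decide) (m := 6) hn).1, rfl⟩, D, hD, h⟩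
    · have h6 := fun h => h3 (by omega) (.inl ⟨rfl, h⟩)
      obtain ⟨h4, -⟩ | ⟨h4, -⟩ := dec_even hQ hD (by decide)
      · refine .inr (.inl ⟨?_, D, hD, h4, h⟩)
        have h8 := (Fintype.isPrimePow_card_of_field (α := F))
        have h9 : Fintype.card F ≠ 6 := fun h => by
          rw [h] at h8
          exact absurd h8 (by decide)
        simp only [h4, implies_true, true_and, imp_false] at h6
        omega
      · exact .inr (.inr (.inl ⟨fun h => h6 (.inl h), D, hD, h4, h⟩))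
    · have h4 := (dec_odd hQ hD (by decide) (m := 6) hn).1
      have h5 : Fintype.card F ≠ 3 := fun h => h3 (by omega) (.inr (.inl ⟨rfl, h⟩))
      exact .inr (.inr (.inr (.inl ⟨h4, by rw [Nat.odd_iff] at h4; omega, D, hD, h⟩)))
    · obtain ⟨h4, -⟩ | ⟨-, h4⟩ := dec_even hQ hD (by decide)
      · have h5 : Fintype.card F ≠ 2 := fun h => h3 (by omega) (.inr (.inr ⟨rfl, h, h4⟩))
        exact .inr (.inr (.inr (.inr (.inl ⟨by omega, D, hD, h⟩))))
      · exact absurd (h4.1 hplus) (by decide)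
    · exact .inr (.inr (.inr (.inr (.inr (.inl ⟨D, hD, h⟩)))))
  · obtain rfl : k = 6 := by omega
    iterate 12 right
    exact .inl ⟨D, h⟩
  · iterate 13 right
    rcases (Nat.Prime.dvd_mul h0).1 (show r ∣ 2 ^ 2 * 3 by simpa using h1) with h1 | h1
    · obtain rfl := (Nat.prime_dvd_prime_iff_eq h0 Nat.prime_two).1 (h0.dvd_of_dvd_pow h1)
      exact .inl ⟨K, hK, h⟩
    · obtain rfl := (Nat.prime_dvd_prime_iff_eq h0 Nat.prime_three).1 h1
      exact .inr (.inl ⟨K, hK, h⟩)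
  · iterate 15 right
    exact .inl ⟨K, h⟩
  · obtain rfl : d = 3 := by nlinarith
    obtain rfl : k = 4 := by omega
    exact (false_of_lt hH (h.trans_le inf_le_left) (exists_lt_tensor_four hQ' hq le_rfl (by decide)
      h3 h4 h5 ((isPlus_tensor_iff hQ' hq (by decide) h3 h4 h5).1 hplus))).elim
  · obtain rfl : d = 2 := by
      have : d ≤ 3 := by nlinarith
      rw [Nat.even_iff] at h4
      omega
    obtain rfl : k = 6 := by omega
    have h9 : Fintype.card F ≠ 2 := fun h9 => false_of_lt hH (h.trans_le inf_le_left)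
      (exists_lt_tensor_two hQ' h9 (by omega) h3 h5 h6 h8)
    iterate 16 right
    exact .inl ⟨by omega, e, P, f₁, f₂, h3, h5, h6, h8, h⟩
  · iterate 17 right
    exact .inl ⟨k, r, P, ζ, hr, h0, h2, h3, h⟩
  · have : 3 ∣ 2 ^ k := h0 ▸ by decide
    exact absurd (Nat.prime_three.dvd_of_dvd_pow this) (by decide)
  · obtain ⟨rfl, rfl⟩ | ⟨rfl, rfl⟩ := pow_cases h0 h3 (by omega) (by omega) <;> omega
  · obtain ⟨rfl, rfl⟩ | ⟨rfl, rfl⟩ := pow_cases h0 h2 (by omega) (by omega) <;> omega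
  · iterate 18 right
    exact h

end Cfsg.Agent.S5871
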