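import Cfsg.Statements.S5873
import Cfsg.Agent.Class.ODecMax
import Cfsg.Agent.Class.OField
import Cfsg.Agent.Class.OMaxSubfield
import Cfsg.Agent.Class.Tens3.Max

set_option autoImplicit false
open Cfsg

namespace Cfsg.Agent.S5873

open Cfsg.Lib Cfsg.Lib.Class Cfsg.Lib.Class.OMax

/-- Maximal subgroups of Ω_12^-(q) of geometric type (any q). Let F be a finite field with q elements (characteristic p), Q a non-degenerate quadratic form on F^12 (non-degenerate polar form) of minus type (Witt index 5: no totally singular 6-space), and Ω = Ω_12^-(q) the commutator subgroup of the isometry group of Q, inside GL_12(F). Each of the following, intersected with Ω, is a maximal subgroup of Ω: (1) the stabiliser of any non-zero subspace on which Q vanishes identically (totally singular subspaces, dimensions 1 to 5); (2) for q odd, the stabiliser of any subspace of odd dimension on which the polar form of Q is non-degenerate; (3) the stabiliser of any non-degenerate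 2-space of minus type (containing no non-zero singular vector); (4) for q ≥ 4, the stabiliser of any non-degenerate 2-space of plus type (containing a non-zero singular vector); (5) the stabiliser of any non-degenerate 4-space (either type); (6) the stabiliser of any non-degenerate 6-space (either type); (7) for q even, the stabiliser of the 1-space spanned by any non-singular vector v (Q(v) ≠ 0); (8) the stabiliser of any decomposition of F^12 into 3 pairwise orthogonal, pairwise Q-isometric non-degenerate 4-spaces of minus type; (9) for q odd, the normaliser of any degree-2 subfield K of the matrix algebra whose elements are self-adjoint for the polar form of Q (Q is then the trace of a quadratic form over K); (10) for q odd, the normaliser of any degree-3 subfield K of the matrix algebra whose elements are self-adjoint for the polar form of Q (Q is then the trace of a quadratic form over K); (11) for q odd with q ≥ 5, the stabiliser of any tensor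 decomposition F^12 = F^3 ⊗ F^4 in which the polar form of Q is the product of non-degenerate symmetric bilinear forms, the second of minus type, up to a scalar; (12) every subfield group for a subfield F₀ with |F| = |F₀|^r, r an odd prime, whose F₀-structure carries a non-zero scalar multiple of Q. -/
theorem result {F : Type*} [Field F] [Fintype F] (Q : (Fin 12 → F) → F) (hQ : Cfsg.Geo.IsNondegenerateQuadraticForm Q) (hminus : ¬ Cfsg.Geo.IsPlusTypeOn Q ⊤) :
    (∀ W : Submodule F (Fin 12 → F), W ≠ ⊥ → Cfsg.Geo.IsTotallySingularQuad Q W → Cfsg.Geo.IsMaximalIn (Cfsg.Geo.omegaGL Q) (Cfsg.Geo.subspaceStabilizer W ⊓ Cfsg.Geo.omegaGL Q)) ∧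
    (Odd (Fintype.card F) → ∀ W : Submodule F (Fin 12 → F), W ≠ ⊥ → W ≠ ⊤ → Odd (Module.finrank F W) → 2 * Module.finrank F W ≠ 12 → Cfsg.Geo.IsNondegenerateOn (QuadraticMap.polar Q) W → Cfsg.Geo.IsMaximalIn (Cfsg.Geo.omegaGL Q) (Cfsg.Geo.subspaceStabilizer W ⊓ Cfsg.Geo.omegaGL Q)) ∧
    (∀ W : Submodule F (Fin 12 → F), Module.finrank F W = 2 → Cfsg.Geo.IsNondegenerateOn (QuadraticMap.polar Q) W → ¬ Cfsg.Geo.IsPlusTypeOn Q W → Cfsg.Geo.IsMaximalIn (Cfsg.Geo.omegaGL Q) (Cfsg.Geo.subspaceStabilizer W ⊓ Cfsg.Geo.omegaGL Q)) ∧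
    (4 ≤ Fintype.card F → ∀ W : Submodule F (Fin 12 → F), Module.finrank F W = 2 → Cfsg.Geo.IsNondegenerateOn (QuadraticMap.polar Q) W → Cfsg.Geo.IsPlusTypeOn Q W → Cfsg.Geo.IsMaximalIn (Cfsg.Geo.omegaGL Q) (Cfsg.Geo.subspaceStabilizer W ⊓ Cfsg.Geo.omegaGL Q)) ∧
    (∀ W : Submodule F (Fin 12 → F), Module.finrank F W = 4 → Cfsg.Geo.IsNondegenerateOn (QuadraticMap.polar Q) W → Cfsg.Geo.IsMaximalIn (Cfsg.Geo.omegaGL Q) (Cfsg.Geo.subspaceStabilizer W ⊓ Cfsg.Geo.omegaGL Q)) ∧
    (∀ W : Submodule F (Fin 12 → F), Module.finrank F W = 6 → Cfsg.Geo.IsNondegenerateOn (QuadraticMap.polar Q) W → Cfsg.Geo.IsMaximalIn (Cfsg.Geo.omegaGL Q) (Cfsg.Geo.subspaceStabilizer W ⊓ Cfsg.Geo.omegaGL Q)) ∧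
    (¬ Odd (Fintype.card F) → ∀ v : (Fin 12 → F), Q v ≠ 0 → Cfsg.Geo.IsMaximalIn (Cfsg.Geo.omegaGL Q) (Cfsg.Geo.subspaceStabilizer (Submodule.span F {v}) ⊓ Cfsg.Geo.omegaGL Q)) ∧
    (∀ D : Fin 3 → Submodule F (Fin 12 → F), Cfsg.Geo.IsOrthogonalMDecomposition Q 4 D → (∀ i, ¬ Cfsg.Geo.IsPlusTypeOn Q (D i)) → Cfsg.Geo.IsMaximalIn (Cfsg.Geo.omegaGL Q) (Cfsg.Geo.decompositionStabilizer D ⊓ Cfsg.Geo.omegaGL Q)) ∧
    (Odd (Fintype.card F) → ∀ K : Subalgebra F (Matrix (Fin 12) (Fin 12) F), Cfsg.Geo.IsFieldSubalgebra 2 K → Cfsg.Geo.IsSelfAdjointFor (QuadraticMap.polar Q) K → Cfsg.Geo.IsMaximalIn (Cfsg.Geo.omegaGL Q) (Cfsg.Geo.subalgebraNormalizer K ⊓ Cfsg.Geo.omegaGL Q)) ∧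
    (Odd (Fintype.card F) → ∀ K : Subalgebra F (Matrix (Fin 12) (Fin 12) F), Cfsg.Geo.IsFieldSubalgebra 3 K → Cfsg.Geo.IsSelfAdjointFor (QuadraticMap.polar Q) K → Cfsg.Geo.IsMaximalIn (Cfsg.Geo.omegaGL Q) (Cfsg.Geo.subalgebraNormalizer K ⊓ Cfsg.Geo.omegaGL Q)) ∧
    (Odd (Fintype.card F) ∧ 5 ≤ Fintype.card F → ∀ (e : Fin 12 ≃ Fin 3 × Fin 4) (P : Matrix.GeneralLinearGroup (Fin 12) F) (f₁ : (Fin 3 → F) → (Fin 3 → F) → F) (f₂ : (Fin 4 → F) → (Fin 4 → F) → F), Cfsg.Geo.IsSymmetricForm f₁ → Cfsg.Geo.IsSymmetricForm f₂ → ¬ Cfsg.Geo.IsPlusTypeOn (fun v : Fin 4 → F => f₂ v v) ⊤ → Cfsg.Geo.IsTensorFormStructure id (QuadraticMap.polar Q) f₁ f₂ e P → Cfsg.Geo.IsMaximalIn (Cfsg.Geo.omegaGL Q) (Cfsg.Geo.tensorProductSubgroup 3 4 e P ⊓ Cfsg.Geo.omegaGL Q)) ∧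
    (∀ (F₀ : Subfield F) (r : ℕ) (P : Matrix.GeneralLinearGroup (Fin 12) F) (ζ : F), r.Prime → Odd r → Fintype.card F = Nat.card F₀ ^ r → ζ ≠ 0 → Cfsg.Geo.IsQuadFormRationalStructure (fun v : Fin 12 → F => ζ * Q v) F₀ P → Cfsg.Geo.IsMaximalIn (Cfsg.Geo.omegaGL Q) (Cfsg.Geo.subfieldSubgroup F₀ P ⊓ Cfsg.Geo.omegaGL Q)) := by
  have hq := geoQuad_nondegenerate hQ
  refine ⟨fun W h0 h1 => isMaximalIn_singular (Q := geoQuad hQ) hq (by simp) h0 h1 fun _ => hminus,
    fun _ W h0 h1 ⟨k, hk⟩ _ hW => isMaximalIn_nondeg (Q := geoQuad hQ) hq h0 h1 hW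
      (by simp; omega) ?_ fun h => by simp at h; omega,
    fun W h2 hW hp => isMaximalIn_nondeg (Q := geoQuad hQ) hq (by rintro rfl; simp at h2)
      (by rintro rfl; simp at h2) hW (by simp; omega) ?_ fun h => by simp at h; omega,
    fun h4 W h2 hW hp => isMaximalIn_nondeg (Q := geoQuad hQ) hq (by rintro rfl; simp at h2)
      (by rintro rfl; simp at h2) hW (by simp; omega) (fun h => by omega)
      fun h => by simp at h; omega,
    fun W h2 hW => isMaximalIn_nondeg (Q := geoQuad hQ) hq (by rintro rfl; simp at h2)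
      (by rintro rfl; simp at h2) hW (by simp; omega) ?_ fun h => by simp at h; omega,
    fun W h2 hW => isMaximalIn_nondeg (Q := geoQuad hQ) hq (by rintro rfl; simp at h2)
      (by rintro rfl; simp at h2) hW (by omega) ?_ fun _ ⟨e, he⟩ => hminus
        ((isPlusTypeOn_top_iff (Q := geoQuad hQ)).2 (isPlus_of_equiv_orth hq
          (disjoint_orth_of_isNondegenerateOn hW) (by rw [h2]; decide) e he)),
    fun h v hv => isMaximalIn_nonsingular (Q := geoQuad hQ) hq (by simp) h hv,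
    fun D hD hp => (maxOm_dec (odec_of_geo (Q := geoQuad hQ) hD) hq (by omega) (by simp)
      (by omega) fun _ _ i h => hp i (AO.isPlusTypeOn_iff.2 h)).isMaximalIn
        (mem_decompositionStabilizer_iff_glLin D),
    fun h K hK hs => isMaximalIn_selfAdjoint (Q := geoQuad hQ) hq (two_ne_zero_of_odd_card h)
      Nat.prime_two (by simp) (Or.inl (by simp)) hK hs,
    fun h K hK hs => isMaximalIn_selfAdjoint (Q := geoQuad hQ) hq (two_ne_zero_of_odd_card h)
      Nat.prime_three (by simp) (Or.inl (by simp)) hK hs,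
    fun h e P f₁ f₂ h₁ h₂ hp hP => Tn.isMaximalIn_tensor_three_four (Q := geoQuad hQ) h.1 h.2 h₁ h₂
      hp hP,
    fun k r P ζ hr _ hc hζ hP => isMaximalIn_subfield_smul hQ (by simp) hr hc hζ hP⟩
  · rintro ⟨-, U, h2, -, -, rfl | ⟨-, h3⟩⟩
    · omega
    · simp at h3; omega
  · rintro ⟨-, U, h3, -, h4, rfl | ⟨-, h5⟩⟩
    · exact hp h4
    · simp at h5; omega
  · rintro ⟨-, U, h3, -, h4, rfl | ⟨-, h5⟩⟩
    · omega
    · simp at h5; omega
  · rintro ⟨-, U, h3, -, h4, rfl | ⟨-, h5⟩⟩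
    · omega
    · simp at h5; omega

end Cfsg.Agent.S5873
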