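import Cfsg.Statements.S5874
import Cfsg.Agent.Class.AO.Cases

set_option autoImplicit false
open Cfsg

namespace Cfsg.Agent.S5874

open Cfsg.Lib Cfsg.Lib.Class Cfsg.Lib.Class.AO

/-- Every maximal subgroup of Ω_12^-(q) is of one of the listed geometric types or lies in the residual class. Let F be a finite field with q elements (characteristic p), Q a non-degenerate quadratic form on F^12 of minus type (Witt index 5: no totally singular 6-space), Ω the commutator subgroup of its isometry group, and H a maximal subgroup of Ω (inside GL_12(F)). Then H is the intersection with Ω of one of: the stabiliser of a non-zero totally singular subspace; for q odd, the stabiliser of a non-degenerate subspace of odd dimension; the stabiliser of a non-degenerate 2-space of minus type; for q ≥ 4, the stabiliser of a non-degenerate 2-space of plus type; the stabiliser of a non-degenerate 4-space; the stabiliser of a non-degenerate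 6-space; for q even, the stabiliser of the span of a non-singular vector; the stabiliser of a decomposition into 3 pairwise orthogonal, pairwise isometric non-degenerate 4-spaces of minus type; the normaliser of a degree-2 subfield of the matrix algebra; the normaliser of a degree-3 subfield of the matrix algebra; for q odd with q ≥ 5, the stabiliser of a tensor decomposition of the polar form into symmetric forms on F^3 and F^4 (minus type); a subfield group (|F| = |F₀|^r, r odd prime) whose F₀-structure carries a non-zero multiple of Q — or else H lies in the residual class of the orthogonal case (modulo scalars H is almost simple, with absolutely irreducible perfect socle preimage realisable over no proper subfield and fixing no non-degenerate unitary form). -/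
theorem result {F : Type*} [Field F] [Fintype F] (Q : (Fin 12 → F) → F) (hQ : Cfsg.Geo.IsNondegenerateQuadraticForm Q) (hminus : ¬ Cfsg.Geo.IsPlusTypeOn Q ⊤) (H : Subgroup (Matrix.GeneralLinearGroup (Fin 12) F)) (hH : Cfsg.Geo.IsMaximalIn (Cfsg.Geo.omegaGL Q) H) :
    (∃ W : Submodule F (Fin 12 → F), W ≠ ⊥ ∧ Cfsg.Geo.IsTotallySingularQuad Q W ∧ H = Cfsg.Geo.subspaceStabilizer W ⊓ Cfsg.Geo.omegaGL Q) ∨
    (Odd (Fintype.card F) ∧ ∃ W : Submodule F (Fin 12 → F), W ≠ ⊥ ∧ W ≠ ⊤ ∧ Odd (Module.finrank F W) ∧ 2 * Module.finrank F W ≠ 12 ∧ Cfsg.Geo.IsNondegenerateOn (QuadraticMap.polar Q) W ∧ H = Cfsg.Geo.subspaceStabilizer W ⊓ Cfsg.Geo.omegaGL Q) ∨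
    (∃ W : Submodule F (Fin 12 → F), Module.finrank F W = 2 ∧ Cfsg.Geo.IsNondegenerateOn (QuadraticMap.polar Q) W ∧ ¬ Cfsg.Geo.IsPlusTypeOn Q W ∧ H = Cfsg.Geo.subspaceStabilizer W ⊓ Cfsg.Geo.omegaGL Q) ∨
    (4 ≤ Fintype.card F ∧ ∃ W : Submodule F (Fin 12 → F), Module.finrank F W = 2 ∧ Cfsg.Geo.IsNondegenerateOn (QuadraticMap.polar Q) W ∧ Cfsg.Geo.IsPlusTypeOn Q W ∧ H = Cfsg.Geo.subspaceStabilizer W ⊓ Cfsg.Geo.omegaGL Q) ∨
    (∃ W : Submodule F (Fin 12 → F), Module.finrank F W = 4 ∧ Cfsg.Geo.IsNondegenerateOn (QuadraticMap.polar Q) W ∧ H = Cfsg.Geo.subspaceStabilizer W ⊓ Cfsg.Geo.omegaGL Q) ∨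
    (∃ W : Submodule F (Fin 12 → F), Module.finrank F W = 6 ∧ Cfsg.Geo.IsNondegenerateOn (QuadraticMap.polar Q) W ∧ H = Cfsg.Geo.subspaceStabilizer W ⊓ Cfsg.Geo.omegaGL Q) ∨
    (¬ Odd (Fintype.card F) ∧ ∃ v : (Fin 12 → F), Q v ≠ 0 ∧ H = Cfsg.Geo.subspaceStabilizer (Submodule.span F {v}) ⊓ Cfsg.Geo.omegaGL Q) ∨
    (∃ D : Fin 3 → Submodule F (Fin 12 → F), Cfsg.Geo.IsOrthogonalMDecomposition Q 4 D ∧ (∀ i, ¬ Cfsg.Geo.IsPlusTypeOn Q (D i)) ∧ H = Cfsg.Geo.decompositionStabilizer D ⊓ Cfsg.Geo.omegaGL Q) ∨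
    (∃ K : Subalgebra F (Matrix (Fin 12) (Fin 12) F), Cfsg.Geo.IsFieldSubalgebra 2 K ∧ H = Cfsg.Geo.subalgebraNormalizer K ⊓ Cfsg.Geo.omegaGL Q) ∨
    (∃ K : Subalgebra F (Matrix (Fin 12) (Fin 12) F), Cfsg.Geo.IsFieldSubalgebra 3 K ∧ H = Cfsg.Geo.subalgebraNormalizer K ⊓ Cfsg.Geo.omegaGL Q) ∨
    (Odd (Fintype.card F) ∧ 5 ≤ Fintype.card F ∧ ∃ (e : Fin 12 ≃ Fin 3 × Fin 4) (P : Matrix.GeneralLinearGroup (Fin 12) F) (f₁ : (Fin 3 → F) → (Fin 3 → F) → F) (f₂ : (Fin 4 → F) → (Fin 4 → F) → F), Cfsg.Geo.IsSymmetricForm f₁ ∧ Cfsg.Geo.IsSymmetricForm f₂ ∧ ¬ Cfsg.Geo.IsPlusTypeOn (fun v : Fin 4 → F => f₂ v v) ⊤ ∧ Cfsg.Geo.IsTensorFormStructure id (QuadraticMap.polar Q) f₁ f₂ e P ∧ H = Cfsg.Geo.tensorProductSubgroup 3 4 e P ⊓ Cfsg.Geo.omegaGL Q) ∨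
    (∃ (F₀ : Subfield F) (r : ℕ) (P : Matrix.GeneralLinearGroup (Fin 12) F) (ζ : F), r.Prime ∧ Odd r ∧ Fintype.card F = Nat.card F₀ ^ r ∧ ζ ≠ 0 ∧ Cfsg.Geo.IsQuadFormRationalStructure (fun v : Fin 12 → F => ζ * Q v) F₀ P ∧ H = Cfsg.Geo.subfieldSubgroup F₀ P ⊓ Cfsg.Geo.omegaGL Q) ∨
    Cfsg.Geo.InOrthogonalResidualClass H := by
  have hn := Fintype.card_fin 12
  have hQ' := geoQuad_nondegenerate hQ
  rcases maxCase hQ (by omega) hH with ⟨W, h0, h1, -, h⟩ | ⟨W, W', hW, -, h0, h1, h2, -⟩ | h |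
    ⟨t, k, D, h0, h1, -, hD, -, h⟩ | ⟨k, D, -, -, h0, -⟩ | ⟨r, K, h0, h1, -, -, -, hK, -, h⟩ |
    ⟨K, -, -, hK, -, -, -, h⟩ | ⟨d, k, e, P, f₁, f₂, h0, hq, h1, h2, -, h3, h4, h5, h⟩ |
    ⟨d, k, e, P, f₁, f₂, h0, h4, -, h1, h2, -, -, -, h3, -⟩ |
    ⟨k, r, P, ζ, hr, h0, h1, h2, h3, h⟩ | ⟨k, -, h0⟩ | ⟨k, t, e, P, f, h0, -, h1, h3, -⟩ |
    ⟨k, t, e, P, f, h0, h1, h2, -⟩ | h
  · exact .inl ⟨W, h0, h1, h⟩
  · obtain ⟨a, b, c, d, e, f⟩ := hW
    obtain h | h | h | h : Odd (Module.finrank F W) ∨ Module.finrank F W = 2 ∨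
        Module.finrank F W = 4 ∨ Module.finrank F W = 6 := by
      rw [Nat.odd_iff]; omega
    · exact .inr (.inl ⟨d h, W, a, b, h, by rw [Nat.odd_iff] at h; omega, c, f⟩)
    · by_cases hp : Geo.IsPlusTypeOn Q W
      · exact .inr (.inr (.inr (.inl ⟨e h hp, W, h, c, hp, f⟩)))
      · exact .inr (.inr (.inl ⟨W, h, c, hp, f⟩))
    · exact .inr (.inr (.inr (.inr (.inl ⟨W, h, c, f⟩))))
    · exact .inr (.inr (.inr (.inr (.inr (.inl ⟨W, h, c, f⟩)))))
  · iterate 6 right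
    exact .inl h
  · have h2 : t ≤ 12 := Nat.le_of_dvd (by omega) (Dvd.intro _ (h1.symm.trans hn))
    rcases Nat.even_or_odd k with hk | hk
    · obtain ⟨-, h3⟩ | ⟨h3, h4⟩ := dec_even hQ hD hk
      · exact absurd h3 hminus
      obtain ⟨rfl, rfl⟩ : t = 3 ∧ k = 4 := by
        rw [iff_false_intro hminus, false_iff, Nat.even_iff] at h4
        interval_cases t <;> omega
      iterate 7 right
      exact .inl ⟨D, hD, h3, h⟩
    · obtain ⟨h3, h4⟩ := dec_odd hQ hD hk (m := 6) hn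
      exact absurd (h4.2 ((Known.pow_mod_four_eq_one_iff h3 6).2 (by
        rw [Nat.odd_iff] at h3; rw [Nat.even_iff]; omega))) hminus
  · exact absurd h0 hminus
  · iterate 8 right
    rcases (Nat.Prime.dvd_mul h0).1 (show r ∣ 2 ^ 2 * 3 by simpa using h1) with h1 | h1
    · obtain rfl := (Nat.prime_dvd_prime_iff_eq h0 Nat.prime_two).1 (h0.dvd_of_dvd_pow h1)
      exact .inl ⟨K, hK, h⟩
    · obtain rfl := (Nat.prime_dvd_prime_iff_eq h0 Nat.prime_three).1 h1
      exact .inr (.inl ⟨K, hK, h⟩)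
  · iterate 8 right
    exact .inl ⟨K, hK, h⟩
  · obtain rfl : d = 3 := by nlinarith
    obtain rfl : k = 4 := by omega
    iterate 10 right
    refine .inl ⟨hq, ?_, e, P, f₁, f₂, h3, h4, fun hp =>
      hminus ((isPlus_tensor_iff hQ' hq (by decide) h3 h4 h5).2 hp), h5, h⟩
    have h6 : Fintype.card F ≠ 3 := fun h6 =>
      false_of_lt hH (h.trans_le inf_le_left) (exists_lt_tensor_three hQ' h6 (by omega) h3 h4 h5)
    have := Fintype.one_lt_card (α := F)
    rw [Nat.odd_iff] at hq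
    omega
  · obtain rfl : d = 2 := by
      have : d ≤ 3 := by nlinarith
      rw [Nat.even_iff] at h4
      omega
    exact absurd ((isPlusTypeOn_top hQ).2 (isPlus_of_pure h3)) hminus
  · iterate 11 right
    exact .inl ⟨k, r, P, ζ, hr, h1 (by decide) hminus, h0, h2, h3, h⟩
  · exact absurd h0 hminus
  · obtain ⟨rfl, rfl⟩ | ⟨rfl, rfl⟩ := pow_cases h0 h3 (by omega) (by omega) <;> omega
  · obtain ⟨rfl, rfl⟩ | ⟨rfl, rfl⟩ := pow_cases h0 h2 (by omega) (by omega) <;> omega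
  · iterate 12 right
    exact h

end Cfsg.Agent.S5874
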