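import Cfsg.Statements.S5896
import Cfsg.Agent.S3378
import Cfsg.Agent.S4014
import Mathlib.GroupTheory.RegularWreathProduct
import Mathlib.GroupTheory.SpecificGroups.Alternating.Simple

set_option autoImplicit false
open Cfsg

namespace Cfsg.Agent.S5896

open RegularWreathProduct in
theorem aux (S Q : Type) [Group S] [Group Q] [Finite S] [Finite Q] [Nontrivial Q]
    (hS : IsPGroup 2 S) (hQ : commutator Q = ⊤) (M : Subgroup Q) (hM : IsCoatom M)
    [Group.IsSolvable M] (d : ℕ) (hd : derivedSeries S d ≠ ⊥) :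
    ∃ (G : Type) (_ : Group G) (_ : Finite G) (H : Subgroup G), commutator G = ⊤ ∧ IsCoatom H ∧
      Group.IsSolvable H ∧ derivedSeries H d ≠ ⊥ := by
  classical
  obtain ⟨k, hk⟩ : ∃ k, derivedSeries (S ≀ᵣ Q) (k + 1) = derivedSeries (S ≀ᵣ Q) k := by
    obtain ⟨_, ⟨k, rfl⟩, h⟩ := (wellFounded_lt (α := Subgroup (S ≀ᵣ Q))).has_min
      (Set.range (derivedSeries (S ≀ᵣ Q))) ⟨_, 0, rfl⟩
    exact ⟨k, (derivedSeries_antitone _ (Nat.le_succ k)).eq_of_not_lt (h _ ⟨_, rfl⟩)⟩
  set G := derivedSeries (S ≀ᵣ Q) k
  have hGn : G.Normal := derivedSeries_normal _ _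
  have hsurj : Function.Surjective (rightHom : S ≀ᵣ Q →* Q) := fun q => ⟨inl q, rfl⟩
  have hQ' : ∀ n, derivedSeries Q n = ⊤ := fun n => by
    induction n with
    | zero => rfl
    | succ n ih => rw [derivedSeries_succ, ih]; exact hQ
  have hπ : Function.Surjective ((rightHom : S ≀ᵣ Q →* Q).comp G.subtype) := fun q => by
    obtain ⟨g, hg, e⟩ : q ∈ G.map rightHom := by
      rw [map_derivedSeries_eq hsurj, hQ']; trivial
    exact ⟨⟨g, hg⟩, e⟩
  set π := (rightHom : S ≀ᵣ Q →* Q).comp G.subtype
  let ev : Q → π.ker →* S := fun x =>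
    { toFun := fun g => g.1.1.left x
      map_one' := rfl
      map_mul' := fun a b => by
        have : a.1.1.right = 1 := a.2
        simp [this] }
  have hle : π.ker ≤ M.comap π := fun g hg => by
    rw [Subgroup.mem_comap, hg]; exact one_mem _
  refine ⟨G, inferInstance, inferInstance, M.comap π, ?_,
    Subgroup.isCoatom_comap_of_surjective hπ hM, ?_, fun h => hd ?_⟩
  · apply Subgroup.map_injective G.subtype_injective
    rw [commutator_def, Subgroup.map_commutator, ← MonoidHom.range_eq_map, Subgroup.range_subtype]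
    exact hk
  · have hp : IsPGroup 2 π.ker := fun g => by
      obtain ⟨n, hn⟩ := IsPGroup.iff_card.1 hS
      refine ⟨n, Subtype.ext (Subtype.ext (RegularWreathProduct.ext (funext fun x => ?_)
        ?_))⟩
      swap
      · generalize g ^ 2 ^ n = y
        exact y.2
      show ev x (g ^ 2 ^ n) = 1
      rw [map_pow, ← hn, pow_card_eq_one']
    have := hp.isNilpotent
    refine Group.isSolvable_of_ker_le_range (Subgroup.inclusion hle) (π.subgroupComap M)
      fun g hg => ⟨⟨g.1, congrArg Subtype.val hg⟩, rfl⟩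
  · have hev : Function.Surjective (ev 1) := fun s => by
      obtain ⟨q, hq⟩ := exists_ne (1 : Q)
      obtain ⟨g, hg⟩ := hπ q
      have hg' : g.1.right = q := hg
      let b : S ≀ᵣ Q := ⟨Pi.mulSingle 1 s, 1⟩
      refine ⟨⟨⟨b * g.1 * b⁻¹ * g.1⁻¹, mul_mem (hGn.conj_mem _ g.2 b) (inv_mem g.2)⟩, ?_⟩, ?_⟩
      · show (b * g.1 * b⁻¹ * g.1⁻¹).right = 1
        simp [b]
      · show (b * g.1 * b⁻¹ * g.1⁻¹).left 1 = s
        simp [b, hg', Pi.mulSingle_eq_of_ne (inv_ne_one.2 hq)]
    rw [← map_derivedSeries_eq hev]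
    have h1 := map_derivedSeries_le_derivedSeries (Subgroup.inclusion hle) d
    rw [h, le_bot_iff, Subgroup.map_eq_bot_iff_of_injective _ (Subgroup.inclusion_injective hle)] at h1
    rw [h1, Subgroup.map_bot]

/-- Finite perfect groups have solvable maximal subgroups of unbounded derived length: for every d there is a finite perfect group G (equal to its commutator subgroup) with a solvable maximal subgroup H whose derived length exceeds d, i.e. the d-th term of the derived series of H is non-trivial. (Take the derived subgroup of a wreath product S ≀ A₅ with S solvable of large derived length, and H the preimage of a maximal subgroup of A₅.) -/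
theorem result (d : ℕ) :
    ∃ (G : Type) (_ : Group G) (_ : Finite G) (H : Subgroup G), commutator G = ⊤ ∧ IsCoatom H ∧ Group.IsSolvable H ∧
      derivedSeries H d ≠ ⊥ := by
  have : IsSimpleGroup (alternatingGroup (Fin 5)) := alternatingGroup.isSimpleGroup (by simp)
  obtain ⟨M, hM⟩ := IsCoatomic.exists_coatom (Subgroup (alternatingGroup (Fin 5)))
  have hc : Nat.card (alternatingGroup (Fin 5)) = 60 := by
    have := two_mul_nat_card_alternatingGroup (α := Fin 5)
    rw [Nat.card_perm] at this
    simp only [Nat.card_eq_fintype_card, Fintype.card_fin, Nat.factorial] at this ⊢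
    omega
  have h1 : Nat.card M ∣ 60 := hc ▸ M.card_subgroup_dvd_card
  have : Group.IsSolvable M := S3378.isSolvable_of_lt (h1.trans (by norm_num))
    (lt_of_le_of_ne (Nat.le_of_dvd (by norm_num) h1) fun h =>
      hM.1 (Subgroup.eq_top_of_card_eq _ (h.trans hc.symm)))
  let P : Sylow 2 (Equiv.Perm (Fin (2 ^ (d + 1)))) := default
  have h2 := (S4014.result 2 _ (Nat.one_le_two_pow) P).2
  rw [Nat.log_pow (by norm_num)] at h2
  exact aux P (alternatingGroup (Fin 5)) P.isPGroup' (commutator_alternatingGroup_eq_top (by simp))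
    M hM d (h2 (by omega))

end Cfsg.Agent.S5896
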