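import Cfsg.Statements.S5911
import Cfsg.Agent.Known.SymAut

set_option autoImplicit false
open Cfsg

namespace Cfsg.Agent.S5911

/-- Let Ω be a finite set whose size n is not 6. Then every subgroup of the symmetric group on Ω of index n is the stabilizer of a point. -/
theorem result {Ω : Type*} [Fintype Ω] [DecidableEq Ω] (h6 : Fintype.card Ω ≠ 6)
    (H : Subgroup (Equiv.Perm Ω)) (hH : H.index = Fintype.card Ω) :
    ∃ x : Ω, H = MulAction.stabilizer (Equiv.Perm Ω) x := by
  open Cfsg.Lib.Known Equiv MulAction in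
  rw [← Nat.card_eq_fintype_card] at h6 hH
  have h0 := Subgroup.index_ne_zero_of_finite (H := H)
  suffices h : ∃ x : Ω, ∀ g ∈ H, g x = x by
    obtain ⟨x, hx⟩ := h
    refine ⟨x, ?_⟩
    have h1 : H ≤ stabilizer (Perm Ω) x := hx
    have h2 := Subgroup.relIndex_mul_index h1
    rw [index_stabilizer_of_transitive, hH] at h2
    exact le_antisymm h1 (Subgroup.relIndex_eq_one.1 (by
      rw [hH] at h0
      exact Nat.eq_of_mul_eq_mul_right (Nat.pos_of_ne_zero h0) (by rw [h2, one_mul])))
  obtain ⟨m, hm⟩ : ∃ m, Nat.card Ω = m + 1 := ⟨Nat.card Ω - 1, by omega⟩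
  have hc : Nat.card H = m.factorial := by
    have := H.card_mul_index
    rw [Nat.card_perm, hH, hm, Nat.factorial_succ, mul_comm] at this
    exact Nat.eq_of_mul_eq_mul_left (Nat.succ_pos m) this
  have hne : Nonempty Ω := (Nat.card_pos_iff.1 (by omega)).1
  by_cases h3 : m ≤ 1
  · obtain ⟨x⟩ := hne
    have : Nat.card H = 1 := by rw [hc]; exact Nat.factorial_eq_one.2 h3
    rw [Subgroup.card_eq_one] at this
    exact ⟨x, fun g hg => by rw [this, Subgroup.mem_bot] at hg; rw [hg]; rfl⟩
  by_cases h3' : m = 2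
  · have hp : IsPGroup 2 H := IsPGroup.of_card (n := 1) (by rw [hc, h3']; rfl)
    obtain ⟨x, hx⟩ := hp.nonempty_fixed_point_of_prime_not_dvd_card Ω (by rw [hm, h3']; decide)
    exact ⟨x, fun g hg => hx ⟨g, hg⟩⟩
  have hinj : Function.Injective (toPermHom (Perm Ω) (Perm Ω ⧸ H)) := by
    rw [← MonoidHom.ker_eq_bot_iff, ← Subgroup.normalCore_eq_ker]
    by_contra hne'
    have : Nontrivial Ω := Finite.one_lt_card_iff_nontrivial.1 (by omega)
    by_cases h4 : m = 3
    · have hq : IsQuasiPreprimitive (Perm Ω) Ω := inferInstance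
      have htr : IsPretransitive H.normalCore Ω := hq.isPretransitive_of_normal (fun h => hne' (by
        rw [eq_bot_iff]
        intro g hg
        rw [Subgroup.mem_bot]
        ext x
        have hx : x ∈ fixedPoints H.normalCore Ω := h ▸ Set.mem_univ x
        exact hx ⟨g, hg⟩))
      obtain ⟨x⟩ := hne
      have h7 := Subgroup.index_dvd_card (stabilizer H.normalCore x)
      rw [index_stabilizer_of_transitive] at h7
      have h8 := h7.trans (Subgroup.card_dvd_of_le H.normalCore_le)
      rw [hc, hm, h4] at h8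
      exact absurd h8 (by decide)
    · have h7 := (Perm.alternatingGroup_le_of_normal (by omega)
        ((Subgroup.nontrivial_iff_ne_bot _).2 hne')).trans H.normalCore_le
      have h8 := Subgroup.index_dvd_of_le h7
      rw [alternatingGroup.index_eq_two] at h8
      have := Nat.le_of_dvd (by omega) h8
      omega
  have hQ : Nat.card (Perm Ω ⧸ H) = Nat.card Ω := by rw [← hH, Subgroup.index_eq_card]
  have hbij : Function.Bijective (toPermHom (Perm Ω) (Perm Ω ⧸ H)) :=
    hinj.bijective_of_nat_card_le (by rw [Nat.card_perm, Nat.card_perm, hQ])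
  let e := MulEquiv.ofBijective _ hbij
  classical
  let := Fintype.ofFinite (Perm Ω ⧸ H)
  let s : Finset (Perm Ω ⧸ H) := ({((1 : Perm Ω) : Perm Ω ⧸ H)} : Finset _)ᶜ
  obtain ⟨ω, hω⟩ := exists_fixed_of_hom_perm (β := {x // x ∈ s})
    (e.symm.toMonoidHom.comp Perm.ofSubtype) (e.symm.injective.comp Perm.ofSubtype_injective)
    (by
      have : Nat.card {x // x ∈ s} = s.card := by simp
      rw [this, Finset.card_compl, ← Nat.card_eq_fintype_card, hQ, Finset.card_singleton]
      omega) (by omega) h6
  refine ⟨ω, fun g hg => ?_⟩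
  obtain ⟨k, hk⟩ := mem_range_ofSubtype (s := s) (g := e g) (fun x hx => by
    simp only [s, Finset.mem_compl, not_not, Finset.mem_singleton] at hx
    rw [hx]
    change ((g * 1 : Perm Ω) : Perm Ω ⧸ H) = _
    rw [eq_comm, QuotientGroup.eq]
    simpa using hg)
  have := hω k
  simpa [hk] using this

end Cfsg.Agent.S5911
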